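/-
Character degrees and normal abelian Sylow subgroups (Ito; Isaacs (12.29)).
-/
import Cfsg.Agent.H21.CD2
import Cfsg.Agent.H8.Cls
import Cfsg.Agent.H2.D1x
import Cfsg.Agent.H2.D2

set_option autoImplicit false
set_option linter.unusedSectionVars false
open H17 Cfsg H15 CF
open scoped ComplexConjugate

namespace H21

universe u
variable {G : Type u} [Group G] [Finite G] {K N H T A P : Subgroup G} {θ χ φ ψ : G → ℂ} {p : ℕ}

theorem normal_of_top (h : ⊤ ≤ 𝒩(N)) : N.Normal :=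
  Subgroup.normalizer_eq_top_iff.1 (top_le_iff.1 h)

theorem deg_clifford (hHK : H ≤ K) (hn : K ≤ 𝒩(H)) (hθ : θ ∈ Irr H) (hχ : χ ∈ IrrO K H θ) :
    ∃ e : ℕ, 0 < e ∧ dot H χ θ = e ∧ charDegree χ = e * (stab θ).relIndex K * charDegree θ := by
  obtain ⟨e, h1, h2⟩ := over_pos hHK (irr_char hθ) hχ
  refine ⟨e, h1, h2, charDegree_eq_of_one ?_⟩
  rw [clifford_degree hHK hn (mem_over.1 hχ).1 hθ (mem_over.1 hχ).2, h2, ← deg_cast hθ]
  norm_cast

theorem deg_dvd_card (h : χ ∈ Irr K) : charDegree χ ∣ Nat.card K :=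
  (irr_res h).degree_dvd_card (deg_cast h).symm

theorem one_of_deg (h : χ ∈ Irr K) (h1 : charDegree χ = 1) : χ 1 = 1 := by
  rw [← deg_cast h, h1, Nat.cast_one]

theorem lin_of_deg (h : χ ∈ Irr K) (h1 : charDegree χ = 1) : IsLin K χ :=
  isLin_of_irr h (one_of_deg h h1)

theorem deg_lin (h : IsLin K χ) : charDegree χ = 1 :=
  charDegree_eq_of_one (by rw [h.one_apply, Nat.cast_one])

theorem der_le_of_deg (hNK : N ≤ K) (hn : K ≤ 𝒩(N)) (h : ∀ θ ∈ IrrQ K N, charDegree θ = 1) :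
    ⁅K, K⁆ ≤ N := by
  by_contra h1
  obtain ⟨χ, hχ, h2⟩ := exists_IrrQ_not_le hNK hn h1
  exact h2 (lin_of_deg (mem_IrrQ.1 hχ).1 (h χ hχ)).commutator_le

theorem comm_of_deg (h : ∀ θ ∈ Irr K, charDegree θ = 1) : IsMulCommutative K :=
  H16.der_eq_bot.1 (le_bot_iff.1 (der_le_of_deg bot_le (by rw [norm_bot]; exact le_top)
    (by rwa [IrrQ_bot])))

theorem cent_of_stab (hA : A ≤ 𝒩(N)) (hc : (Nat.card A).Coprime (Nat.card N))
    (hs : Group.IsSolvable A ∨ Group.IsSolvable N) (h : ∀ θ ∈ Irr N, A ≤ stab θ) : A ≤ 𝒞(N) := by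
  letI : MulAction G G := MulAction.compHom G (MulAut.conj : G →* MulAut G)
  have h1 : 𝒞(A).subgroupOf N = ⊤ := H8.eq_top_of_forall_conj_mem fun x => by
    obtain ⟨k, hk, h2⟩ := H1.glauberman_exists hA hc hs (x : G) fun a ha => by
      obtain ⟨k, hk, e⟩ := conj_of_irr_eq x.2 (h := a * x * a⁻¹) fun χ hχ =>
        (mem_stab_iff.1 (h χ hχ ha) x).symm
      exact ⟨k, hk, e.symm⟩
    refine ⟨⟨k⁻¹, inv_mem hk⟩, fun a ha => ?_⟩
    have h3 : a * (k * x * k⁻¹) * a⁻¹ = k * x * k⁻¹ := h2 a ha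
    simpa [mul_inv_eq_iff_eq_mul] using h3
  exact cent_comm (Subgroup.subgroupOf_eq_top.1 h1)

/-- all irreducible degrees satisfy `Q` -/
def DegP (Q : ℕ → Prop) (G : Type*) [Group G] : Prop :=
  ∀ χ : G → ℂ, IsIrrCharacter G χ → Q (charDegree χ)

variable {Q : ℕ → Prop}

theorem DegP.top (h : DegP Q G) (hχ : χ ∈ Irr ⊤) : Q (charDegree χ) := h _ (mem_Irr_top.1 hχ)

theorem DegP.quot (h : DegP Q G) (N : Subgroup G) [N.Normal] : DegP Q (G ⧸ N) :=
  fun _ hχ => h _ hχ.inflate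

theorem degP_sub : DegP Q H ↔ ∀ θ ∈ Irr H, Q (charDegree θ) :=
  ⟨fun h θ hθ => h _ (irr_res hθ), fun h θ hθ => by
    have := h _ (ext0_mem_Irr.2 hθ)
    rwa [deg_congr (φ := extendByZero H θ) (congrFun (res_ext0 H θ) 1)] at this⟩

theorem DegP.of_le (h : DegP Q G) (hQ : ∀ a b, a ≤ b → Q b → Q a) (H : Subgroup G) : DegP Q H :=
  degP_sub.2 fun θ hθ => by
    obtain ⟨χ, hχ⟩ := over_nonempty le_top hθ
    exact hQ _ _ (deg_le_over le_top hθ hχ) (h.top (mem_over.1 hχ).1)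

theorem DegP.of_dvd (h : DegP Q G) (hQ : ∀ a b, a ∣ b → Q b → Q a) (N : Subgroup G) [N.Normal] :
    DegP Q N :=
  degP_sub.2 fun θ hθ => by
    obtain ⟨χ, hχ⟩ := over_nonempty le_top hθ
    obtain ⟨m, -, e⟩ := deg_over le_top (top_le_norm N) hθ hχ
    exact hQ _ _ (e ▸ dvd_mul_left _ _) (h.top (mem_over.1 hχ).1)

theorem comm_of_not_dvd [hp : Fact p.Prime] (hP : IsPGroup p P)
    (h : ∀ θ ∈ Irr P, ¬ p ∣ charDegree θ) : IsMulCommutative P :=
  comm_of_deg fun θ hθ => by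
    obtain ⟨k, hk⟩ := hP.exists_card_eq
    exact Nat.eq_one_of_dvd_coprimes (((Nat.Prime.coprime_iff_not_dvd hp.out).2
      (h θ hθ)).pow_left k) (hk ▸ deg_dvd_card hθ) dvd_rfl

/-- normal Sylow subgroup -/
def PC (p : ℕ) (G : Type*) [Group G] : Prop :=
  ∃ R : Subgroup G, R.Normal ∧ IsPGroup p R ∧ ¬ p ∣ R.index

theorem pc_of_syl [Fact p.Prime] (h : Syl(p, P, ⊤)) (hn : ⊤ ≤ 𝒩(P)) : PC p G :=
  ⟨P, normal_of_top hn, h.isPGroup, Subgroup.relIndex_top_right P ▸ (syl_iff.1 h).2.2⟩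

theorem PC.sub [Fact p.Prime] (h : PC p H) : ∃ R, Syl(p, R, H) ∧ 𝒩(H) ≤ 𝒩(R) := by
  obtain ⟨R, h1, h2, h3⟩ := h
  have h4 : Syl(p, R.map H.subtype, H) := isPiHallOf_map_subtype.2 (isPiHallOf_top.1
    (syl_iff.2 ⟨le_top, h2, by rwa [Subgroup.relIndex_top_right]⟩))
  exact ⟨_, h4, h4.le_norm_of_normal (H1.le_normalizer_map_subtype_iff.2 h1) le_rfl⟩

theorem PC.quot [Fact p.Prime] [N.Normal] (h : PC p (G ⧸ N)) (hP : Syl(p, P, ⊤)) :
    ⊤ ≤ 𝒩(P ⊔ N) := by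
  obtain ⟨R, h1, h2, h3⟩ := h
  have h4 : Syl(p, R, ⊤) := syl_iff.2 ⟨le_top, h2, by rwa [Subgroup.relIndex_top_right]⟩
  have h5 := hP.map (QuotientGroup.mk' N)
  rw [← MonoidHom.range_eq_map, QuotientGroup.range_mk'] at h5
  have h6 := Subgroup.comap_map_eq (QuotientGroup.mk' N) P
  rw [QuotientGroup.ker_mk', h4.eq_of_normal (top_le_norm R) h5] at h6
  rw [← h6]
  exact top_le_norm _

theorem pc_step [hp : Fact p.Prime] (hd : DegP (¬ p ∣ ·) G)
    (hs : ∀ M : Subgroup G, M.Normal → M ≠ ⊤ → PC p M)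
    (hq : ∀ (M : Subgroup G) [M.Normal], M ≠ ⊥ → PC p (G ⧸ M)) (N : Subgroup G) [hN : N.Normal]
    (h1 : N ≠ ⊥) (h2 : N ≠ ⊤) : PC p G := by
  obtain ⟨P, hP⟩ := exists_syl p (⊤ : Subgroup G)
  refine pc_of_syl hP ?_
  obtain ⟨R, hR, h3⟩ := (hs N hN h2).sub
  by_cases h4 : R = ⊥
  swap
  · haveI := normal_of_top ((top_le_norm N).trans h3)
    have := (hq R h4).quot hP
    rwa [sup_eq_left.2 (hP.le_of_norm' hR.isPi le_top (le_top.trans (top_le_norm R)))] at this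
  have h5 := (hq N h1).quot hP
  by_cases h6 : P ⊔ N = ⊤
  swap
  · obtain ⟨S, hS, h7⟩ := (hs _ (normal_of_top h5) h6).sub
    rw [hS.eq_of_normal ((le_norm_self _).trans h7) (hP.of_le le_sup_left le_top)]
    exact h5.trans h7
  subst h4
  obtain ⟨k, hk⟩ := hP.isPGroup.exists_card_eq
  have hPN : P ≤ 𝒩(N) := le_top.trans (top_le_norm N)
  refine h6.ge.trans (sup_le (le_norm_self P) (le_norm_of_le_cent (cent_comm (cent_of_stab hPN
    (H1.IsPiNat.coprime hP.isPi hR.isPi_compl_of_eq_bot) (.inl (H16.sol_of_nil hP.nilpotent))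
    fun θ hθ => le_top.trans (Subgroup.relIndex_eq_one.1 ?_)))))
  obtain ⟨χ, hχ⟩ := over_nonempty le_top hθ
  obtain ⟨e, -, -, h7⟩ := deg_clifford le_top (top_le_norm N) hθ hχ
  refine Nat.eq_one_of_dvd_coprimes (((Nat.Prime.coprime_iff_not_dvd hp.out).2
    (hd.top (mem_over.1 hχ).1)).pow_left k) ?_ (h7 ▸ (dvd_mul_left _ _).mul_right _)
  rw [← hk, ← h6]
  exact (Subgroup.relIndex_dvd_of_le_left _ (le_stab (irr_cf hθ))).trans (relIndex_sup_dvd' hPN)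

theorem pc_of_comm [Fact p.Prime] (h : IsMulCommutative G) : PC p G := by
  obtain ⟨P, hP⟩ := exists_syl p (⊤ : Subgroup G)
  exact pc_of_syl hP (top_le_norm P)

theorem pc_ind [hp : Fact p.Prime] (R : ∀ (G : Type u) [Group G], Prop)
    (h1 : ∀ (G : Type u) [Group G] [Finite G], R G → DegP (¬ p ∣ ·) G)
    (h2 : ∀ (G : Type u) [Group G] [Finite G], R G → ∀ M : Subgroup G, M.Normal → R M)
    (h3 : ∀ (G : Type u) [Group G] [Finite G], R G → ∀ (M : Subgroup G) [M.Normal], R (G ⧸ M))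
    (h4 : ∀ (G : Type u) [Group G] [Finite G] [IsSimpleGroup G], R G → ¬ IsMulCommutative G →
      (∀ M : Subgroup G, M ≠ ⊤ → R M → PC p M) → PC p G) (n : ℕ) :
    ∀ (G : Type u) [Group G] [Finite G], Nat.card G = n → R G → PC p G := by
  induction n using Nat.strong_induction_on with
  | _ n ih =>
  intro G _ _ hn hR
  subst hn
  by_cases hc : IsMulCommutative G
  · exact pc_of_comm hc
  by_cases h : ∀ N : Subgroup G, N.Normal → N = ⊥ ∨ N = ⊤
  · haveI : Nontrivial G := not_subsingleton_iff_nontrivial.1 fun h => hc ⟨⟨fun _ _ =>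
      Subsingleton.elim _ _⟩⟩
    haveI : IsSimpleGroup G := ⟨h⟩
    exact h4 G hR hc fun M hM => ih _ (H1.card_lt_card_of_ne_top hM) M rfl
  push Not at h
  obtain ⟨N, hN, h5, h6⟩ := h
  exact pc_step (h1 G hR) (fun M hM h => ih _ (H1.card_lt_card_of_ne_top h) M rfl (h2 G hR M hM))
    (fun M _ h => ih _ (H1.card_quotient_lt h) _ rfl (h3 G hR M)) N h5 h6

/-- Ito -/
theorem pc_of_solvable [hp : Fact p.Prime] (hs : Group.IsSolvable G) (h : DegP (¬ p ∣ ·) G) :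
    PC p G :=
  pc_ind (fun G _ => Group.IsSolvable G ∧ DegP (¬ p ∣ ·) G) (fun _ _ _ h => h.2)
    (fun _ _ _ h M _ => ⟨haveI := h.1; inferInstance, h.2.of_dvd (fun _ _ a b c => b (c.trans a)) M⟩)
    (fun _ _ _ h M _ => ⟨haveI := h.1; inferInstance, h.2.quot M⟩)
    (fun _ _ _ _ h h1 _ => (h1 ⟨⟨IsSimpleGroup.comm_iff_isSolvable.2 h.1⟩⟩).elim) _ G rfl ⟨hs, h⟩

theorem PC.comm [Fact p.Prime] (h : PC p G) (hd : DegP (¬ p ∣ ·) G) : ∃ P : Subgroup G, P.Normal ∧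
    (∀ x ∈ P, ∀ y ∈ P, x * y = y * x) ∧ IsPGroup p P ∧ ¬ p ∣ P.index := by
  obtain ⟨P, h1, h2, h3⟩ := h
  exact ⟨P, h1, H1.isMulCommutative_iff'.1 (comm_of_not_dvd h2
    (degP_sub.1 (hd.of_dvd (fun _ _ a b c => b (c.trans a)) P))), h2, h3⟩

theorem exists_small_class [Nontrivial G] {b : ℕ} (hb : DegP (· ≤ b) G) :
    ∃ y : G, y ≠ 1 ∧ 𝒞₁(y).index ≤ b ^ 2 := by
  classical
  by_contra! h
  haveI := Fintype.ofFinite G
  have h1 := sum_card_cent (G := G)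
  have h2 := sum_deg_sq (G := G)
  rw [← Finset.add_sum_erase _ _ (Finset.mem_univ (trivIrr G)), trivIrr_coe,
    charDegree_const_one] at h2
  rw [← Finset.add_sum_erase _ _ (Finset.mem_univ (1 : G)), H16.cent1_one, Subgroup.card_top] at h1
  have h3 := Finset.sum_le_card_nsmul (Finset.univ.erase (trivIrr G))
    (fun χ : IrrCharacter G => charDegree (χ : G → ℂ) ^ 2) (b ^ 2)
    fun χ _ => Nat.pow_le_pow_left (hb _ χ.2) 2
  have h4 := Finset.sum_le_card_nsmul (Finset.univ.erase (1 : G))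
    (fun g => (b ^ 2 + 1) * Nat.card 𝒞₁(g)) (Nat.card G) fun g hg =>
      (Nat.mul_le_mul_right _ (h g (Finset.ne_of_mem_erase hg))).trans_eq 𝒞₁(g).index_mul_card
  rw [← Finset.mul_sum] at h4
  rw [Finset.card_erase_of_mem (Finset.mem_univ _), Finset.card_univ, ← Nat.card_eq_fintype_card,
    smul_eq_mul] at h3 h4
  obtain ⟨k, hk⟩ : ∃ k, Nat.card (IrrCharacter G) = k + 1 :=
    Nat.exists_eq_add_one.2 (Nat.card_pos_iff.2 ⟨⟨trivIrr G⟩, inferInstance⟩)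
  obtain ⟨n, hn⟩ := Nat.exists_eq_add_of_lt (Finite.one_lt_card (α := G))
  rw [hk] at h1 h3
  rw [hn] at h1 h2 h4
  rw [Nat.add_sub_cancel] at h3 h4
  have h5 : (b ^ 2 + 1) * k ≤ 1 + n := Nat.le_of_mul_le_mul_right (c := 1 + n + 1) (by
    rwa [mul_assoc, show k * (1 + n + 1) = ∑ g ∈ Finset.univ.erase (1 : G), Nat.card 𝒞₁(g) by
      linarith]) (by omega)
  rcases k with _ | k <;> nlinarith

theorem not_small_of_d1 [hp : Fact p.Prime] [IsSimpleGroup G] (hG : ¬ IsMulCommutative G)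
    (hb : DegP (· < p) G) (P : Sylow p G) (hP : Nat.card (P : Subgroup G) = p) : False := by
  classical
  have hc := H2.sm_commutator_eq_top hG
  have h1 : ∀ χ : IrrCharacter G, χ ≠ H19.triv G → H2.dg χ ≠ 1 := fun χ h h1 =>
    h (Subtype.ext (χ.2.eq_one_of_charKer_eq_top (top_le_iff.1 (hc ▸ χ.2.one_eq_one_iff.1
      ((charDegree_eq_one_iff χ.2.isCharacter).1 h1)))))
  have hlt : ∀ χ : IrrCharacter G, H2.dg χ < p := fun χ => hb _ χ.2
  have h2 : p ≠ 2 := fun h2 => hG ⟨⟨fun a b => by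
    have := comm_of_deg (K := (⊤ : Subgroup G)) fun θ hθ => by
      have := hb.top hθ
      have := deg_pos hθ
      omega
    exact H1.isMulCommutative_iff'.1 this a trivial b trivial⟩⟩
  obtain ⟨O, _, hO⟩ := H2.exists_ovp p
  obtain ⟨X, Y, s, ε, h⟩ := H2.d1_exists hO h2 P hP
  obtain ⟨θ, hθ⟩ := h.Y_nonempty
  have hC := h.cent_le_of_small hc (h.Y_mem hθ) (by have := hlt θ; omega)
    (θ.2.charKer_eq_bot_of_simple fun e => h.Y_ne hθ (Subtype.ext e))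
  have h3 : Finset.univ.filter (· ∉ H19.irr (H19.B0 O G)) = ∅ :=
    Finset.filter_eq_empty_iff.2 fun χ _ hχ => by
      obtain ⟨k, hk⟩ := ((irr_char (mem_Irr_top.2 χ.2)).Res (H := P) le_top).dot_nat isChar_one
      rw [dot_Res_left, dot_one_right, Finset.sum_eq_single_of_mem 1 (mem_fs.2 (one_mem _))
        (fun x hx h1 => h.zero_of_not_mem hC hχ (h.sing (mem_fs.1 hx) h1)), hP,
        inv_mul_eq_iff_eq_mul₀ (Nat.cast_ne_zero.2 hp.out.ne_zero), ← irr_charDegree_cast] at hk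
      exact (hlt χ).not_ge (Nat.le_of_dvd (H2.dg_pos χ) ⟨k, by exact_mod_cast hk⟩)
  have h4 : ∀ χ ∈ X, s χ = -1 ∧ H2.dg χ + 1 = p := fun χ hχ => by
    obtain ⟨m, hm⟩ := h.degX hχ
    have := hlt χ
    have := H2.dg_pos χ
    have := h1 χ (h.X_ne hχ)
    rcases h.sgn χ hχ with h4 | h4 <;> rw [h4] at hm <;> rcases m with _ | _ | m <;>
      push_cast at hm <;> first | omega | (exfalso; nlinarith)
  have h5 := h.sum_all fun χ => H2.dg χ ^ 2
  have h6 := h.eqn_deg hθ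
  rw [h3, sum_deg_sq, Finset.sum_congr (s₁ := X) rfl (g := fun _ => (p - 1) ^ 2) fun χ hχ => by
    rw [← (h4 χ hχ).2, Nat.add_sub_cancel], Finset.sum_congr (s₁ := Y) rfl (g := fun _ => H2.dg θ ^ 2)
    fun χ hχ => by rw [h.degY_eq hχ hθ], show H2.dg (H19.triv G) = 1 from charDegree_const_one] at h5
  rw [Finset.sum_congr rfl (g := fun _ => 1 - (p : ℤ)) fun χ hχ => by
    rw [(h4 χ hχ).1, ← (h4 χ hχ).2]; push_cast; ring] at h6
  simp only [Finset.sum_const, smul_eq_mul, nsmul_eq_mul, Finset.sum_empty] at h5 h6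
  have h7 := hlt θ
  have h8 := h1 θ (h.Y_ne hθ)
  have h9 := H2.dg_pos θ
  have h10 := h.three_le
  have h11 : X.card = 1 ∧ H2.dg θ + 2 = p := by
    generalize X.card = x at h6
    rcases h.eps with e | e <;> rw [e] at h6 <;> rcases x with _ | _ | x <;> push_cast at h6 <;>
      first | omega | (exfalso; nlinarith)
  obtain ⟨χ, hχ⟩ := Finset.card_pos.1 (h11.1 ▸ one_pos)
  have h12 := Nat.le_of_dvd (Nat.pos_of_ne_zero Subgroup.FiniteIndex.index_ne_zero)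
    (Nat.Coprime.mul_dvd_of_dvd_of_dvd (by
      rw [show H2.dg χ = H2.dg θ + 1 by have := (h4 χ hχ).2; omega]; simp) (h.dvdX hχ) (h.dvdY hθ))
  have h13 := h.cardY
  have h14 := (H20.cent (P : Subgroup G)).index_mul_card
  rw [← h.cardX, h11.1] at h13
  rw [le_antisymm hC h.af.comm, hP] at h14
  rw [le_antisymm hC h.af.comm, show H2.dg χ = H2.dg θ + 1 by have := (h4 χ hχ).2; omega] at h12
  rw [h11.1, ← h14] at h5
  generalize H2.dg θ = d at *
  generalize Y.card = t at *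
  obtain ⟨u, rfl⟩ : ∃ u, t = u + 2 := ⟨t - 2, by omega⟩
  obtain rfl : d = 2 * u + 3 := by omega
  obtain rfl : p = 2 * u + 5 := by omega
  rw [show 2 * u + 5 - 1 = 2 * u + 4 from rfl] at h5
  nlinarith [Nat.mul_le_mul_right (2 * u + 5) h12, Nat.zero_le (u ^ 3), Nat.zero_le (u ^ 2)]

theorem pc_of_small [hp : Fact p.Prime] (h : DegP (· < p) G) : PC p G := by
  have h0 : ∀ (G : Type u) [Group G] [Finite G], DegP (· < p) G → DegP (¬ p ∣ ·) G :=
    fun G _ _ h χ hχ h1 => (h χ hχ).not_ge (Nat.le_of_dvd (charDegree_pos hχ) h1)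
  have hQ : ∀ a b, a ≤ b → b < p → a < p := fun _ _ => lt_of_le_of_lt
  refine pc_ind (fun G _ => DegP (· < p) G) h0 (fun _ _ _ h M _ => h.of_le hQ M)
    (fun _ _ _ h M _ => h.quot M) (fun G _ _ _ h hG hs => ?_) _ G rfl h
  have hab : ∀ {P : Subgroup G}, IsPGroup p P → IsMulCommutative P := fun hP =>
    comm_of_not_dvd hP (degP_sub.1 (h0 _ (h.of_le hQ _)))
  have h1 : ∀ {D P : Subgroup G}, Syl(p, P, ⊤) → D ≠ ⊥ → D ≤ P → 𝒩(D) ≤ 𝒩(P) := fun hP h1 h2 => by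
    have h3 := H2.sm_normalizer_ne_top h1 (H2.sm_pgroup_ne_top hG (hP.isPGroup.to_le h2))
    obtain ⟨R, hR, h4⟩ := (hs _ h3 (h.of_le hQ _)).sub
    rw [hR.eq_of_normal ((le_norm_self _).trans h4)
      (hP.of_le (H16.comm_norm (hab hP.isPGroup) le_rfl h2) le_top)]
    exact (le_norm_self _).trans h4
  by_cases h2 : p ∣ Nat.card G
  swap
  · exact ⟨⊥, inferInstance, IsPGroup.of_bot, by rwa [Subgroup.index_bot]⟩
  by_cases h3 : p ^ 2 ∣ Nat.card G
  swap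
  · obtain ⟨P⟩ : Nonempty (Sylow p G) := inferInstance
    obtain ⟨m, hm⟩ := h2
    exact (not_small_of_d1 hG h P ((H2.sm_card_sylow_eq P (k := 1) (by rw [hm, pow_one]) fun h4 =>
      h3 (hm ▸ sq p ▸ Nat.mul_dvd_mul_left p h4)).trans (pow_one p))).elim
  obtain ⟨y, hy, h4⟩ := exists_small_class (b := p - 1) fun χ hχ => Nat.le_sub_one_of_lt (h χ hχ)
  have h5 : 𝒞₁(y).index < p ^ 2 :=
    h4.trans_lt (Nat.pow_lt_pow_left (Nat.sub_one_lt hp.out.ne_zero) two_ne_zero)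
  have h6 := Nat.pos_of_ne_zero (Subgroup.FiniteIndex.index_ne_zero (H := 𝒞₁(y)))
  have h7 : p ∣ Nat.card 𝒞₁(y) := by_contra fun h7 => h5.not_ge (Nat.le_of_dvd h6
    ((((Nat.Prime.coprime_iff_not_dvd hp.out).2 h7).pow_left 2).dvd_of_dvd_mul_right
      (𝒞₁(y).index_mul_card ▸ h3)))
  have h8 : 𝒞₁(y) ≠ ⊤ := fun e => H2.sm_normalizer_ne_top (H16.zpowers_ne_bot' hy)
    (fun e' => hG ⟨⟨fun a b => H1.isMulCommutative_iff'.1 (H16.comm_of_cyclic
      (H16.cyclic_zpowers y)) a (e'.ge trivial) b (e'.ge trivial)⟩⟩)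
    (top_le_iff.1 (e.ge.trans ((cent_zpowers y).ge.trans (cent_le_norm _))))
  obtain ⟨R, hR, h9⟩ := (hs _ h8 (h.of_le hQ _)).sub
  obtain ⟨P, hP, hRP⟩ := exists_syl_ge hR.isPi le_top
  have h10 := Subgroup.index_dvd_of_le (((le_norm_self _).trans h9).trans
    (h1 hP (hR.ne_bot hp.out rfl h7) hRP))
  obtain ⟨P, rfl⟩ := hP.exists_sylow_top
  have h11 := (H2.sm_card_sylow_modEq P (Nat.card (P : Subgroup G)) fun S hS => by
    have h11 : (S : Subgroup G) ⊓ P = ⊥ := by_contra fun h11 => hS (Sylow.ext (hP.eq_of_le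
      (syl_top_sylow S).isPi le_top ((syl_top_sylow S).le_of_norm hP.isPi le_top
      ((H16.comm_norm (hab P.2) le_rfl inf_le_right).trans (h1 (syl_top_sylow S) h11 inf_le_left)))))
    rw [← Subgroup.inf_relIndex_right, h11, Subgroup.relIndex_bot_left]).of_dvd
    (P.pow_dvd_card_of_pow_dvd_card h3)
  rw [← H2.sm_card_sylow] at h10
  have h12 := (Nat.le_of_dvd h6 h10).trans_lt h5
  exact (H2.sm_card_sylow_ne_one hG h2 (h11.eq_of_lt_of_lt h12
    (Nat.one_lt_pow two_ne_zero hp.out.one_lt))).elim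

end H21
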