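/-
Taketa's theorem and just non-abelian quotients (Isaacs (12.3), (12.4)).
-/
import Cfsg.Agent.H21.CD3
import Cfsg.Agent.H9.Basic
import Cfsg.Agent.H5.Radical
import Cfsg.Agent.H17.Fpf

set_option autoImplicit false
set_option linter.unusedSectionVars false
open H17 Cfsg H15 CF
open scoped ComplexConjugate commutatorElement
open H9 (centMod mem_centMod le_centMod)

namespace H21

universe u
variable {G : Type u} [Group G] [Finite G] {K N H T A P Z C : Subgroup G} {θ χ φ ψ l : G → ℂ}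
  {p : ℕ}

theorem deg_mul (h : χ ∈ Irr K) (h' : ψ ∈ Irr H) :
    charDegree (χ * ψ) = charDegree χ * charDegree ψ :=
  charDegree_eq_of_one (by rw [Pi.mul_apply, Nat.cast_mul, deg_cast h, deg_cast h'])

theorem deg_Ind (hHK : H ≤ K) (h : θ ∈ Irr H) :
    charDegree (Ind K H θ) = H.relIndex K * charDegree θ :=
  charDegree_eq_of_one (by rw [Ind_one hHK, Nat.cast_mul, deg_cast h])

theorem deg_le_mul (hHK : H ≤ K) (hθ : θ ∈ Irr H) (hχ : χ ∈ IrrO K H θ) :
    charDegree χ ≤ H.relIndex K * charDegree θ := by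
  obtain ⟨h1, h2⟩ := (mem_over' hHK).1 hχ
  have := (Ind_irr_char hHK hθ).irr_degree_le h1 h2
  rw [Ind_one hHK, ← deg_cast hθ, ← deg_cast h1] at this
  exact_mod_cast this

theorem mono_of_pow [hp : Fact p.Prime] {k : ℕ} (hN : IsMulCommutative N) (K : Subgroup G) :
    N ≤ K → K ≤ 𝒩(N) → N.relIndex K ∣ p ^ k → ∀ χ ∈ Irr K,
      ∃ H ≤ K, ∃ l, IsLin H l ∧ Ind K H l = χ := by
  induction K using WellFoundedLT.induction with
  | ind K ih =>
  intro h1 h2 h3 χ hχ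
  obtain ⟨A, ⟨hAK, hA, h4⟩, hNA, hmax⟩ := H1.exists_maximal_ge
    (fun A => A ≤ K ∧ K ≤ 𝒩(A) ∧ ⁅A, A⁆ ≤ cfker χ) (N := N)
    ⟨h1, h2, (H16.der_eq_bot.2 hN).le.trans bot_le⟩
  rcases homogeneous_or_induced hAK hA hχ with ⟨θ, hθ, h5, e, he, h6⟩ | ⟨T, hAT, hTK, ψ, hψ, rfl⟩
  swap
  · obtain ⟨H, hH, l, hl, rfl⟩ := ih T hTK (hNA.trans hAT) (hTK.le.trans h2)
      ((relIndex_dvd_of_le_of_le (hNA.trans hAT) hTK.le).trans h3) ψ hψ
    exact ⟨H, hH.trans hTK.le, l, hl, (Ind_Ind hH hTK.le l).symm⟩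
  by_cases h7 : A = K
  · exact ⟨K, le_rfl, χ, isLin_of_le_cfker hχ (h7 ▸ h4), Ind_self (irr_cf hχ)⟩
  have h8 : cfker θ = A ⊓ cfker χ := by
    rw [← (irr_char hχ).cfker_Res (irr_ne_zero hχ), h6, cfker_smul (Nat.cast_ne_zero.2 he.ne')]
  have h9 := ((isLin_of_le_cfker hθ (h8 ▸ le_inf (H16.der_le A) h4)).le_stab_iff hA).1 h5
  obtain ⟨Q, _, _, f, hf, hs⟩ := H18.exists_quot hAK hA
  have h10 : Nat.card Q = A.relIndex K := by
    rw [← hf, ← H18.card_img f le_rfl, H18.img_self f hs, Subgroup.card_top]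
  haveI : Nontrivial Q := Finite.one_lt_card_iff_nontrivial.1 (h10 ▸ (Nat.one_lt_iff_ne_zero_and_ne_one.2
    ⟨(CF.relIndex_pos A K).ne', fun e => h7 (hAK.antisymm (Subgroup.relIndex_eq_one.1 e))⟩))
  obtain ⟨j, -, hj⟩ := (Nat.dvd_prime_pow hp.out).1
    ((Subgroup.relIndex_dvd_of_le_left K hNA).trans h3)
  haveI := (IsPGroup.of_card (h10.trans hj)).center_nontrivial
  obtain ⟨⟨z, hz⟩, hz1⟩ := exists_ne (1 : Subgroup.center Q)
  obtain ⟨x, rfl⟩ := hs z
  have hx : Subgroup.zpowers (x : G) ≤ K := Subgroup.zpowers_le.2 x.2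
  have h11 := hmax (A ⊔ Subgroup.zpowers (x : G)) ⟨sup_le hAK hx, le_norm_of_comm_le le_rfl
    (comm_sup_left_le ((comm_le_left hA).trans le_sup_left) ?_ (le_norm_of_le le_sup_left)
      (le_norm_of_le le_sup_right)), ?_⟩ le_sup_left
  · exact (hz1 (Subtype.ext ((mem_kerf f).1 (hf ▸ h11 ▸ Subgroup.mem_sup_right
      (Subgroup.mem_zpowers _))))).elim
  · refine le_trans ?_ le_sup_left
    rw [← hf, ← H18.img_eq_bot f (commutator_le_of_le hx le_rfl), H18.img_comm f hx le_rfl,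
      ← le_cent_iff_comm, H18.img_self f hs, cent_top]
    rintro _ ⟨y, ⟨i, hi⟩, rfl⟩
    rw [show y = x ^ i from Subtype.ext hi.symm, map_zpow]
    exact zpow_mem hz i
  · have h12 := le_norm_cfker (irr_cf hχ)
    have h13 := h9.trans (h8.le.trans inf_le_right)
    refine comm_sup_left_le ?_ (H16.comm_sup_le ((Subgroup.commutator_mono hx le_rfl).trans h13)
      ((H16.der_eq_bot.2 inferInstance).le.trans bot_le) (hAK.trans h12) (hx.trans h12))
      (hAK.trans h12) (hx.trans h12)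
    rw [Subgroup.commutator_comm]
    exact (Subgroup.commutator_mono (sup_le hAK hx) le_rfl).trans h13

theorem taketa (h : ∀ χ ∈ Irr (⊤ : Subgroup G), ∃ H ≤ ⊤, ∃ l, IsLin H l ∧ Ind ⊤ H l = χ)
    (S : Finset ℕ) (hS : DegP (· ∈ S) G) : derivedSeries G S.card = ⊥ := by
  have key : ∀ d, ∀ χ ∈ Irr (⊤ : Subgroup G), charDegree χ = d →
      derivedSeries G (S.filter (· ≤ d)).card ≤ cfker χ := by
    intro d
    induction d using Nat.strong_induction_on with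
    | _ d ih =>
    intro χ hχ hd
    obtain ⟨H, -, l, hl, rfl⟩ := h χ hχ
    have h1 : S.filter (· ≤ d) = insert d (S.filter (· < d)) := by
      ext n
      simp only [Finset.mem_filter, Finset.mem_insert]
      exact ⟨fun h => h.2.eq_or_lt.imp_right fun h1 => ⟨h.1, h1⟩,
        fun h => h.elim (fun e => ⟨e ▸ hd ▸ hS.top hχ, e.le⟩) fun h => ⟨h.1, h.2.le⟩⟩
    have hπ := (isChar_one (H := H)).Ind le_top
    have h2 : derivedSeries G (S.filter (· < d)).card ≤ H := by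
      refine le_trans ?_ (core_le ⊤ H)
      rw [core, cf_eq_sum hπ.cf]
      refine le_cfker_sum _ _ fun ψ hψ => ?_
      by_cases h2 : dot ⊤ (Ind ⊤ H (one H)) ψ = 0
      · rw [h2, zero_smul]; exact fun _ _ _ => rfl
      refine le_cfker_smul ?_ _
      by_cases h3 : ψ = one ⊤
      · rw [h3, cfker_one]; exact le_top
      have h4 := (hπ.sub_irr (one_mem_Irr ⊤) (by
        rw [dot_Ind_one le_top, dot_one_one]; exact one_ne_zero)).irr_degree_le hψ (by
        rwa [dot_sub_left, dot_irr_ne (one_mem_Irr ⊤) hψ (Ne.symm h3), sub_zero])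
      rw [deg_Ind le_top hl.mem_Irr, deg_lin hl, mul_one] at hd
      rw [Pi.sub_apply, Ind_one le_top, one_one, one_one, hd, ← deg_cast hψ] at h4
      have h5 : charDegree ψ < d := by
        have : (charDegree ψ : ℝ) < d := by simp at h4; linarith
        exact_mod_cast this
      exact (derivedSeries_antitone G (Finset.card_le_card (Finset.monotone_filter_right _
        fun _ _ h => lt_of_le_of_lt h h5))).trans (ih _ h5 ψ hψ rfl)
    rw [h1, Finset.card_insert_of_notMem (by simp)]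
    exact le_cfker_Ind ((derivedSeries_antitone G (Nat.le_succ _)).trans h2) (top_le_norm _)
      ((Subgroup.commutator_mono h2 h2).trans hl.commutator_le)
  by_contra h1
  obtain ⟨χ, hχ, h2⟩ := exists_Irr_not_le (H := ⊤) h1
  exact h2 ((derivedSeries_antitone G (Finset.card_filter_le _ _)).trans (key _ χ hχ rfl))

theorem centMod_normal [K.Normal] (S : Subgroup G) [hS : S.Normal] :
    (centMod K (S : Set G)).Normal :=
  ⟨fun x hx g s hs => by
    have := Subgroup.Normal.conj_mem inferInstance _ (hx _ (hS.conj_mem' s hs g)) g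
    rwa [conjugate_commutatorElement, show g * (g⁻¹ * s * g) * g⁻¹ = s by group] at this⟩

theorem le_cm [K.Normal] : H ≤ centMod K (T : Set G) ↔ ⁅H, T⁆ ≤ K :=
  H9.commutator_le_iff_le_centMod.symm

theorem le_cm' [K.Normal] : H ≤ centMod K (T : Set G) ↔ ⁅T, H⁆ ≤ K := by
  rw [le_cm, Subgroup.commutator_comm]

theorem normal_of_der (h : ⁅(⊤ : Subgroup G), ⊤⁆ ≤ H) : H.Normal :=
  normal_of_top (H16.norm_of_der_le h le_top)

/-- `G / K` is just non-abelian. -/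
structure JN (K : Subgroup G) : Prop where
  nor : K.Normal
  nab : ¬ ⁅(⊤ : Subgroup G), ⊤⁆ ≤ K
  max : ∀ M : Subgroup G, M.Normal → K ≤ M → ¬ M ≤ K → ⁅(⊤ : Subgroup G), ⊤⁆ ≤ M

theorem exists_JN (h : ¬ IsMulCommutative (⊤ : Subgroup G)) : ∃ K : Subgroup G, JN K := by
  obtain ⟨K, ⟨h1, h2⟩, -, h3⟩ := H1.exists_maximal_ge
    (fun K : Subgroup G => K.Normal ∧ ¬ ⁅(⊤ : Subgroup G), ⊤⁆ ≤ K) (N := ⊥)
    ⟨inferInstance, fun e => h (H16.der_eq_bot.1 (le_bot_iff.1 e))⟩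
  exact ⟨K, h1, h2, fun M h4 h5 h6 => by_contra fun h7 => h6 (h3 M ⟨h4, h7⟩ h5).le⟩

namespace JN

variable (h : JN K)
include h

theorem ker (hχ : χ ∈ IrrQ ⊤ K) (h1 : charDegree χ ≠ 1) : cfker χ = K := by
  obtain ⟨h2, h3⟩ := mem_IrrQ.1 hχ
  exact le_antisymm (by_contra fun h4 => h1 (deg_lin (isLin_of_le_cfker h2
    (h.max _ (normal_of_top (le_norm_cfker (irr_cf h2))) h3 h4)))) h3

theorem exists_nonlin : ∃ χ ∈ IrrQ ⊤ K, charDegree χ ≠ 1 := by
  haveI := h.nor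
  by_contra! h1
  exact h.nab (der_le_of_deg le_top (top_le_norm K) h1)

theorem two_mul_deg_le {b : ℕ} (hb : DegP (· ≤ b) G) (hθ : θ ∈ Irr K) : 2 * charDegree θ ≤ b := by
  haveI := h.nor
  obtain ⟨χ, hχ⟩ := over_nonempty le_top hθ
  obtain ⟨m, -, h1⟩ := deg_over le_top (top_le_norm K) hθ hχ
  have h2 := (mem_over.1 hχ).1
  obtain ⟨β, hβ, h3⟩ := h.exists_nonlin
  have h4 := deg_pos (mem_IrrQ.1 hβ).1
  have h5 := hb.top h2
  have h6 := deg_pos h2
  rcases m with _ | _ | m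
  · omega
  · have h7 := hb.top (gall1_irr le_top (top_le_norm K) (irr_char h2)
      (by rwa [Res_eq_of_deg le_top hθ hχ (by omega)]) hβ)
    rw [deg_mul (mem_IrrQ.1 hβ).1 h2] at h7
    exact (Nat.mul_le_mul (by omega) (by omega)).trans h7
  · nlinarith

theorem pow_of_cent (hA : ⁅⁅(⊤ : Subgroup G), (⊤ : Subgroup G)⁆, (⊤ : Subgroup G)⁆ ≤ K) (hp : p.Prime) (hd : p ∣ K.index) :
    ∃ k, K.index = p ^ k := by
  haveI := h.nor
  haveI := Fact.mk hp
  have hs := QuotientGroup.mk'_surjective K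
  haveI : Group.IsNilpotent (G ⧸ K) := Group.nilpotent_of_mulEquiv (_h :=
    H1.isNilpotent_of_commutator_commutator_eq_bot (M := ⊤) (by
      rw [← Subgroup.map_top_of_surjective _ hs, ← Subgroup.map_commutator,
        ← Subgroup.map_commutator, Subgroup.map_eq_bot_iff, QuotientGroup.ker_mk']
      exact hA)) Subgroup.topEquiv
  have h1 : ∀ M : Subgroup (G ⧸ K), M.Normal → M ≠ ⊥ →
      ⁅(⊤ : Subgroup G), ⊤⁆ ≤ M.comap (QuotientGroup.mk' K) := fun M _ h1 =>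
    h.max _ inferInstance (QuotientGroup.le_comap_mk' K M) fun h2 => h1 (by
      rw [← Subgroup.map_comap_eq_self_of_surjective hs M, Subgroup.map_eq_bot_iff,
        QuotientGroup.ker_mk']
      exact h2)
  have h2 := H1.pCore_sup_pPrimeCore_eq_top (G := G ⧸ K) p
  by_cases h3 : pPrimeCore p (G ⧸ K) = ⊥
  · rw [h3, sup_bot_eq, H1.pCore_eq_top_iff] at h2
    exact h2.exists_card_eq
  by_cases h4 : pCore p (G ⧸ K) = ⊥
  · rw [h4, bot_sup_eq, H1.pPrimeCore_eq_top_iff] at h2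
    exact absurd hd ((Nat.Prime.coprime_iff_not_dvd hp).1 h2.symm)
  have h5 := le_inf (h1 _ inferInstance h4) (h1 _ inferInstance h3)
  rw [← Subgroup.comap_inf, H1.pCore_inf_pPrimeCore, MonoidHom.comap_bot,
    QuotientGroup.ker_mk'] at h5
  exact (h.nab h5).elim

/-- the nilpotent case -/
theorem caseA (hA : ⁅⁅(⊤ : Subgroup G), (⊤ : Subgroup G)⁆, (⊤ : Subgroup G)⁆ ≤ K) (hχ : χ ∈ IrrQ ⊤ K) (h1 : charDegree χ ≠ 1) :
    ∃ Z : Subgroup G, K ≤ Z ∧ ⁅(⊤ : Subgroup G), ⊤⁆ ≤ Z ∧ ⁅Z, ⊤⁆ ≤ K ∧ Subgroup.center G ≤ Z ∧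
      Z.index = charDegree χ ^ 2 ∧ ∀ ψ ∈ Irr ⊤, Res (Z : Set G) ψ ∈ Irr Z → χ * ψ ∈ Irr ⊤ := by
  have h2 := (mem_IrrQ.1 hχ).1
  have h3 := mem_Irr_top.1 h2
  have hK : charKer χ = K := h.ker hχ h1
  have h4 : ∀ {H : Subgroup G}, H ≤ charCenter χ ↔ ⁅H, ⊤⁆ ≤ K := by
    intro H
    rw [Subgroup.commutator_le, ← hK]
    exact ⟨fun h g hg x _ => h3.mem_charCenter_iff.1 (h hg) x,
      fun h g hg => h3.mem_charCenter_iff.2 fun x => h g hg x trivial⟩
  set Z := charCenter χ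
  obtain ⟨l, hl⟩ := exists_linear_charCenter h3.one_ne_zero
  have h5 : Res (Z : Set G) χ = χ 1 • ofHom Z l :=
    eq_of_res_eq (Res_mem_supp _ _) (Submodule.smul_mem _ _ (cf_le_supp Z (isLin_ofHom l).cf))
      (funext fun z => by simpa [res, Res_of_mem, ofHom_coe, mul_comm] using hl z 1)
  have hl1 := (isLin_ofHom l).mem_Irr
  have h6 : dot Z χ (ofHom Z l) = χ 1 := by
    rw [← dot_Res_left, h5, dot_smul_left, dot_irr_self hl1, mul_one]
  have hD := h4.2 hA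
  haveI := normal_of_der hD
  refine ⟨Z, hK ▸ charKer_le_charCenter χ, hD, h4.1 le_rfl, h3.center_le_charCenter, ?_,
    fun ψ hψ h7 => gall_irr le_top (top_le_norm Z) hl1 ?_ (irr_char hψ) ?_
      (mem_over.2 ⟨h2, h6 ▸ h3.one_ne_zero⟩)⟩
  · have h7 := dot_of_supp_le (H := Z) le_top (φ := χ) (fun g hg => by
      by_contra h7
      refine hg (h3.mem_charCenter_iff.2 fun x => ?_)
      have h8 := hl ⟨⁅x, g⁆, hD (Subgroup.commutator_mem_commutator (Subgroup.mem_top _)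
        (Subgroup.mem_top _))⟩ g
      rw [show (⁅x, g⁆ * g : G) = x * g * x⁻¹ by group, h3.isClassFunction g x,
        eq_comm, mul_eq_right₀ h7] at h8
      rw [← commutatorElement_def, ← commutatorElement_inv]
      exact inv_mem fun y => by rw [← one_mul (χ y), ← h8]; exact hl ⟨_, _⟩ y) χ
    rw [dot_irr_self h2, mul_one, ← dot_Res_right, h5, dot_smul_right, h6,
      (irr_char h2).conj_one, ← deg_cast h2, Subgroup.relIndex_top_right] at h7
    exact_mod_cast h7.trans (sq _).symm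
  · have h8 := le_stab_Res (top_le_norm Z) (irr_cf h2)
    intro g hg
    have h9 := mem_stab.1 (h8 hg)
    rw [h5, map_smul] at h9
    exact smul_right_injective _ h3.one_ne_zero h9
  · rw [← Res_cf (isLin_ofHom l).cf, ← Res_mul_left, Res_mul, Res_cf (isLin_ofHom l).cf]
    exact lin_mul_mem_Irr (isLin_ofHom l) h7

theorem cm_top [K.Normal] (hA : ¬ ⁅⁅(⊤ : Subgroup G), (⊤ : Subgroup G)⁆, (⊤ : Subgroup G)⁆ ≤ K) (hH : ⁅H, ⊤⁆ ≤ K) : H ≤ K :=
  (le_cm.2 hH).trans (by_contra fun h1 =>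
    hA (le_cm.1 (h.max _ (centMod_normal ⊤) (le_centMod K _) h1)))

end JN

/-- `G / K` is a Frobenius group with abelian kernel `C / K` and abelian complement. -/
structure FQ (K C : Subgroup G) : Prop where
  nor : K.Normal
  lt : K < C
  ne : C ≠ ⊤
  der : ⁅(⊤ : Subgroup G), ⊤⁆ ≤ C
  ab : ⁅C, C⁆ ≤ K
  fpf : ∀ k ∈ C, k ∉ K → ∀ x, x * k * x⁻¹ * k⁻¹ ∈ K → x ∈ C

theorem JN.caseB (h : JN K) (hA : ¬ ⁅⁅(⊤ : Subgroup G), (⊤ : Subgroup G)⁆, (⊤ : Subgroup G)⁆ ≤ K)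
    (hB : ⁅⁅(⊤ : Subgroup G), (⊤ : Subgroup G)⁆, ⁅(⊤ : Subgroup G), (⊤ : Subgroup G)⁆⁆ ≤ K) : ∃ C, FQ K C := by
  haveI := h.nor
  set D := ⁅(⊤ : Subgroup G), (⊤ : Subgroup G)⁆
  have h1 := le_cm.2 hB
  have h2 : ⁅D, centMod K (D : Set G)⁆ ≤ K := le_cm'.1 le_rfl
  have h3 : ∀ {H : Subgroup G}, H ≤ 𝒩(K) := fun {_} => le_top.trans (top_le_norm K)
  have h4 : ⁅centMod K (D : Set G), centMod K (D : Set G)⁆ ≤ K := h.cm_top hA
    (H5.three_subgroups_mod h3 h3 h3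
      ((Subgroup.commutator_mono (Subgroup.commutator_mono le_top le_rfl) le_rfl).trans h2)
      ((Subgroup.commutator_mono (Subgroup.commutator_mono le_rfl le_top) le_rfl).trans h2))
  refine ⟨centMod K (D : Set G), h.nor, (le_centMod K _).lt_of_ne fun e => h.nab (e ▸ h1),
    fun e => hA (le_cm'.1 e.ge), h1, h4, fun k hk h5 x hx => ?_⟩
  haveI := normal_of_der (h1.trans (le_sup_left (b := Subgroup.zpowers x)))
  have h6 := h.max _ (centMod_normal (centMod K (D : Set G) ⊔ Subgroup.zpowers x))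
    (le_centMod K _) fun h6 => h5 (h6 ((le_cm' (H := Subgroup.zpowers k)).2
      (H9.commutator_sup_le ((Subgroup.commutator_mono le_rfl (Subgroup.zpowers_le.2 hk)).trans h4)
        (by
          rw [Subgroup.zpowers_eq_closure, Subgroup.zpowers_eq_closure]
          exact H9.commutator_closure_le (by rintro _ rfl _ rfl; exact hx)))
      (Subgroup.mem_zpowers k)))
  exact le_cm'.2 (le_cm.1 h6) (Subgroup.mem_sup_right (Subgroup.mem_zpowers x))

namespace FQ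

variable (h : FQ K C)
include h

theorem norC : ⊤ ≤ 𝒩(C) := H16.norm_of_der_le h.der le_top

theorem norK : H ≤ 𝒩(K) := haveI := h.nor; le_top.trans (top_le_norm K)

theorem index_dvd : C.index ∣ K.relIndex C - 1 := by
  rw [← Subgroup.relIndex_top_right]
  exact H18.relIndex_dvd_sub_one le_top h.lt.le le_top h.norK h.norC
    fun k hk h1 x _ => h.fpf k hk h1 x

theorem one_lt : 1 < K.relIndex C := Nat.one_lt_iff_ne_zero_and_ne_one.2
  ⟨(CF.relIndex_pos K C).ne', fun e => h.lt.not_ge (Subgroup.relIndex_eq_one.1 e)⟩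

theorem index_lt : C.index < K.relIndex C := by
  have := h.one_lt
  have := Nat.le_of_dvd (by omega) h.index_dvd
  omega

theorem coprime : C.index.Coprime (K.relIndex C) :=
  Nat.Coprime.of_dvd_left h.index_dvd (by
    rw [← Nat.sub_add_cancel h.one_lt.le, Nat.add_sub_cancel]; simp)

theorem stab_le (hl : l ∈ IrrQ C K) (h1 : l ≠ one C) : stab l ≤ C := fun g hg => by
  haveI := h.nor
  haveI := normal_of_top h.norC
  by_contra h2
  have h3 := isLin_of_IrrQ h.ab hl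
  refine h1 (irr_eq_one_of_le_cfker h3.mem_Irr fun y hy => ?_)
  obtain ⟨_, ⟨k, hk, rfl⟩, e⟩ := exists_conj_of_fpf (H := C.map (QuotientGroup.mk' K))
    (g := (g : G ⧸ K)) (top_le_norm _ trivial) (by
      rintro _ ⟨k, hk, rfl⟩ e
      refine (QuotientGroup.eq_one_iff k).2 (by_contra fun h4 => h2 (h.fpf k hk h4 g ?_))
      rw [← QuotientGroup.eq_one_iff]
      simp only [QuotientGroup.mk'_apply] at e
      simp [← e]) ⟨y, hy, rfl⟩
  have h4 : (k * g * k⁻¹)⁻¹ * (y * g) ∈ K := QuotientGroup.eq.1 e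
  have h5 := inv_mem ((h3.mem_stab_iff (h.norC trivial)).1 hg k hk)
  have h6 := mul_mem h5 ((mem_IrrQ.1 hl).2 (h.nor.conj_mem _ h4 g))
  rwa [show (g * k * g⁻¹ * k⁻¹)⁻¹ * (g * ((k * g * k⁻¹)⁻¹ * (y * g)) * g⁻¹) =
    (k * g * k⁻¹ * g⁻¹) * (g * k * g⁻¹ * k⁻¹) * y by group, show (k * g * k⁻¹ * g⁻¹) *
      (g * k * g⁻¹ * k⁻¹) * y = y by group] at h6

theorem exists_deg : ∃ χ ∈ IrrQ ⊤ K, charDegree χ = C.index := by
  obtain ⟨l, h1, h2, h3⟩ := exists_lin_not_le h.ab h.lt.le h.lt.not_ge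
  refine ⟨Ind ⊤ C l, mem_IrrQ.2 ⟨Ind_mem_Irr_of_stab le_top h.norC h1.mem_Irr (inf_le_right.trans
    (h.stab_le (mem_IrrQ.2 ⟨h1.mem_Irr, h2⟩) fun e => h3 (by rw [e, cfker_one]))),
    le_cfker_Ind h.lt.le h.norK h2⟩, ?_⟩
  rw [deg_Ind le_top h1.mem_Irr, deg_lin h1, mul_one, Subgroup.relIndex_top_right]

theorem exists_deg_mul (hψ : ψ ∈ Irr C) (h1 : Res (K : Set G) ψ ∈ Irr K) :
    ∃ χ ∈ Irr (⊤ : Subgroup G), charDegree χ = C.index * charDegree ψ := by
  classical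
  by_contra! h0
  have h2 : ∀ l ∈ IrrQ C K, ∃ g ∈ stab (l * ψ), g ∉ C := fun l hl => by
    by_contra! h2
    have h3 := isLin_of_IrrQ h.ab hl
    have h4 := lin_mul_mem_Irr h3 hψ
    refine h0 _ (Ind_mem_Irr_of_stab le_top h.norC h4 fun g hg => h2 g hg.2) ?_
    rw [deg_Ind le_top h4, deg_mul h3.mem_Irr hψ, deg_lin h3, one_mul, Subgroup.relIndex_top_right]
  choose! g h3 h4 using h2
  haveI := Fintype.ofFinite (G ⧸ C)
  obtain ⟨a, ha, b, hb, h5, h6⟩ := Finset.exists_ne_map_eq_of_card_lt_of_maps_to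
    (s := IrrQ C K) (t := Finset.univ) (f := fun l => (g l : G ⧸ C)) (by
      rw [card_IrrQ_of_comm h.ab h.lt.le, Finset.card_univ, ← Nat.card_eq_fintype_card]
      exact h.index_lt) (fun _ _ => Finset.mem_univ _)
  have la := isLin_of_IrrQ h.ab ha
  have lb := isLin_of_IrrQ h.ab hb
  have h7 := h3 b hb
  rw [← mul_inv_cancel_left (g a) (g b)] at h7
  have h8 := mem_stab.1 ((mul_mem_cancel_right (le_stab (irr_cf (lin_mul_mem_Irr lb hψ))
    (QuotientGroup.eq.1 h6))).1 h7)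
  have h9 := mem_stab.1 (h3 a ha)
  have hn := h.norC (Subgroup.mem_top (g a))
  have h10 : ∀ {a b : G → ℂ}, a ∈ IrrQ C K → b ∈ IrrQ C K → a * b ∈ IrrQ C K := fun ha hb =>
    mem_IrrQ.2 ⟨lin_mul_mem_Irr (isLin_of_IrrQ h.ab ha) (mem_IrrQ.1 hb).1,
      le_cfker_mul (mem_IrrQ.1 ha).2 (mem_IrrQ.1 hb).2⟩
  have h11 : a * star b ∈ IrrQ C K := h10 ha (mem_IrrQ.2 ⟨star_mem_Irr (mem_IrrQ.1 hb).1, by
    rw [cfker_star]; exact (mem_IrrQ.1 hb).2⟩)
  refine h4 a ha (h.stab_le h11 (fun e => h5 ?_) (mem_stab.2 (gall1_inj h.lt.le h.norK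
    ((irr_char lb.mem_Irr).mul (irr_char hψ)) ?_ (mem_IrrQ.2 ⟨cfj_mem_Irr_norm hn
      (mem_IrrQ.1 h11).1, (le_cfker_cfj (h.norK (Subgroup.mem_top _))).2 (mem_IrrQ.1 h11).2⟩)
      h11 ?_)))
  · rw [← mul_one_cf la.cf, ← lb.star_mul, ← mul_assoc, e, one_mul_cf lb.cf]
  · rw [Res_mul_right]; rw [mul_comm]; exact mul_lin_mem_Irr_of_le h.lt.le h1 lb
  · have : a * star b * (b * ψ) = a * ψ := by
      rw [mul_assoc, ← mul_assoc (star b), lb.star_mul, one_mul_cf (irr_cf hψ)]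
    rw [this, ← h8, ← cfj_mul', this, h9]

end FQ

end H21
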