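/-
Groups with at most three character degrees (Isaacs (12.6), (12.15)).
-/
import Cfsg.Agent.H21.CD4

set_option autoImplicit false
set_option linter.unusedSectionVars false
open H17 Cfsg H15 CF
open scoped ComplexConjugate commutatorElement

namespace H21

universe u
variable {G : Type u} [Group G] [Finite G] {K N H T A P Z C : Subgroup G} {θ χ φ ψ η l : G → ℂ}
  {p m n : ℕ} {Q : ℕ → Prop}

/-- the derived series of a subgroup, in the ambient group -/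
def ds (N : Subgroup G) (k : ℕ) : Subgroup G := (derivedSeries N k).map N.subtype

theorem ds_zero (N : Subgroup G) : ds N 0 = N := by
  rw [ds, derivedSeries_zero, ← MonoidHom.range_eq_map, Subgroup.range_subtype]

theorem ds_succ (N : Subgroup G) (k : ℕ) : ds N (k + 1) = ⁅ds N k, ds N k⁆ :=
  Subgroup.map_commutator _ _ _

theorem ds_one (N : Subgroup G) : ds N 1 = ⁅N, N⁆ := by rw [ds_succ, ds_zero]

theorem eq_bot_of_ds {i j : ℕ} (k : ℕ) (h : derivedSeries G i ≤ ds N j)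
    (h' : derivedSeries N (j + k) = ⊥) : derivedSeries G (i + k) = ⊥ := by
  have : ∀ k, derivedSeries G (i + k) ≤ ds N (j + k) := fun k => by
    induction k with
    | zero => exact h
    | succ k ih => rw [← add_assoc, ← add_assoc, ds_succ]; exact Subgroup.commutator_mono ih ih
  have := this k
  rwa [ds, h', Subgroup.map_bot, le_bot_iff] at this

theorem le_of_ds_quot [N.Normal] {k : ℕ} (h : derivedSeries (G ⧸ N) k = ⊥) :
    derivedSeries G k ≤ N := by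
  rw [← map_derivedSeries_eq (QuotientGroup.mk'_surjective N), Subgroup.map_eq_bot_iff,
    QuotientGroup.ker_mk'] at h
  exact h

theorem degP_quot [N.Normal] (h : ∀ χ ∈ IrrQ ⊤ N, Q (charDegree χ)) : DegP Q (G ⧸ N) :=
  fun χ hχ => h _ (mem_IrrQ.2 ⟨mem_Irr_top.2 hχ.inflate, fun g hg x => by
    simp [(QuotientGroup.eq_one_iff g).2 hg]⟩)

theorem ds_of_lin (h : DegP (· = 1) G) (k : ℕ) : derivedSeries G (k + 1) = ⊥ :=
  le_bot_iff.1 ((derivedSeries_antitone G (Nat.le_add_left 1 k)).trans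
    (H16.der_eq_bot.2 (comm_of_deg fun _ hθ => h.top hθ)).le)

theorem taketa' (hp : p.Prime) [N.Normal] (hN : IsMulCommutative N) (hk : ∃ k, N.index = p ^ k)
    (S : Finset ℕ) (hS : DegP (· ∈ S) G) {k : ℕ} (h : S.card ≤ k) : derivedSeries G k = ⊥ := by
  haveI := Fact.mk hp
  obtain ⟨k, hk⟩ := hk
  exact le_bot_iff.1 ((derivedSeries_antitone G h).trans (taketa (mono_of_pow hN ⊤ le_top
    (top_le_norm N) (by rw [Subgroup.relIndex_top_right, hk])) S hS).le)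

theorem resid (hp : p.Prime) (h : DegP Q G) (hQ : ∀ d, Q d → d ≠ 1 → p ∣ d) :
    DegP (· = 1) G ∨ ∃ N : Subgroup G, N.Normal ∧ N ≠ ⊤ ∧ (∃ k, N.index = p ^ k) ∧
      ¬ p ∣ Nat.card N ∧ DegP (fun t => ∃ d, Q d ∧ ordCompl[p] d = t) N ∧
      ∀ χ ∈ IrrQ ⊤ ⁅N, N⁆, ordCompl[p] (charDegree χ) = 1 := by
  haveI := Fact.mk hp
  have h1 := not_dvd_card_pResidual hp fun χ hχ => hQ _ (h χ hχ)
  obtain ⟨k, hk⟩ := H3.index_pResidual (G := G) (p := p)
  set N := pResidual p G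
  by_cases h2 : N = ⊤
  · refine .inl fun χ hχ => by_contra fun h3 => h1 ((hQ _ (h χ hχ) h3).trans ?_)
    rw [h2]; exact deg_dvd_card (mem_Irr_top.2 hχ)
  have h3 : ∀ θ ∈ Irr N, ∀ χ ∈ IrrO ⊤ N θ, ordCompl[p] (charDegree χ) = charDegree θ :=
    fun θ hθ χ hχ => by
      obtain ⟨e, he, h3⟩ := deg_over le_top (top_le_norm N) hθ hχ
      rw [Subgroup.relIndex_top_right, hk] at he
      obtain ⟨i, -, rfl⟩ := (Nat.dvd_prime_pow hp).1 he
      rw [h3, Nat.ordCompl_pow_mul_of_not_dvd _ hp fun h4 => h1 (h4.trans (deg_dvd_card hθ))]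
  refine .inr ⟨N, inferInstance, h2, ⟨k, hk⟩, h1, degP_sub.2 fun θ hθ => ?_, fun χ hχ => ?_⟩
  · obtain ⟨χ, hχ⟩ := over_nonempty le_top hθ
    exact ⟨_, h.top (mem_over.1 hχ).1, h3 θ hθ χ hχ⟩
  · obtain ⟨h4, h5⟩ := mem_IrrQ.1 hχ
    obtain ⟨θ, hθ, h6⟩ := exists_under (H := N) le_top h4
    rw [h3 θ hθ χ (mem_over.2 ⟨h4, h6⟩), deg_lin (isLin_of_le_cfker hθ
      (le_cfker_of_under le_top (H16.der_le N) (irr_char h4) hθ h6 h5))]

theorem DegP.mono {Q' : ℕ → Prop} (h : DegP Q G) (h' : ∀ d, Q d → Q' d) : DegP Q' G :=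
  fun χ hχ => h' _ (h χ hχ)

theorem card_lt_of_ne_top (h : N ≠ ⊤) : Nat.card N < Nat.card G :=
  lt_of_le_of_ne N.card_le_card_group fun e => h (N.eq_top_of_card_eq e)

theorem dl2_aux (c : ℕ) : ∀ (G : Type u) [Group G] [Finite G], Nat.card G = c → ∀ m,
    DegP (fun d => d = 1 ∨ d = m) G → derivedSeries G 2 = ⊥ := by
  induction c using Nat.strong_induction_on with
  | _ c ih =>
  intro G _ _ hc m h
  by_cases hm : m = 1
  · exact ds_of_lin (h.mono fun d h => by omega) 1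
  have hp := Nat.minFac_prime hm
  rcases resid hp h (fun d h1 h2 => h1.resolve_left h2 ▸ m.minFac_dvd) with
    h1 | ⟨N, _, h1, h2, -, h3, h4⟩
  · exact ds_of_lin h1 1
  replace h3 : DegP (fun d => d = 1 ∨ d = ordCompl[m.minFac] m) N := h3.mono (by
    rintro _ ⟨d, rfl | rfl, rfl⟩ <;> simp)
  by_cases h5 : ordCompl[m.minFac] m = 1
  · exact taketa' hp (comm_of_deg fun θ hθ => by have := degP_sub.1 h3 θ hθ; omega) h2 {1, m}
      (h.mono fun d h => by simpa using h) Finset.card_le_two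
  refine eq_bot_of_ds (i := 1) (j := 1) 1 ?_ (ih _ (hc ▸ card_lt_of_ne_top h1) N rfl _ h3)
  rw [ds_one]
  exact der_le_of_deg le_top (top_le_norm _) fun χ hχ =>
    (h.top (mem_IrrQ.1 hχ).1).resolve_right fun e => h5 (e ▸ h4 χ hχ)

theorem dl2 (h : DegP (fun d => d = 1 ∨ d = m) G) : derivedSeries G 2 = ⊥ :=
  dl2_aux _ G rfl m h

theorem dl2q [N.Normal] (h : ∀ χ ∈ IrrQ ⊤ N, charDegree χ = 1 ∨ charDegree χ = m) :
    derivedSeries G 2 ≤ N := le_of_ds_quot (dl2 (degP_quot h))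

theorem two_deg {t : ℕ} (hmn : m < n) (hc : m.Coprime n) (hφ : IsChar K φ) (h1 : φ 1 = t * m)
    (h2 : ∀ η ∈ Irr K, dot K φ η ≠ 0 → charDegree η = m ∨ charDegree η = n)
    (hη : η ∈ Irr K) (h3 : dot K φ η ≠ 0) (h4 : charDegree η = n) :
    n ≤ t ∧ ∀ ψ ∈ Irr K, dot K φ ψ ≠ 0 → charDegree ψ = m → n < t := by
  classical
  obtain ⟨c, h5, h6⟩ := hφ.exists_coeff
  set a := ∑ η ∈ Irr K with charDegree η = m, c η
  set b := ∑ η ∈ Irr K with ¬ charDegree η = m, c η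
  have h7 : t * m = a * m + b * n := by
    have := congrFun h6 1
    rw [h1, Finset.sum_apply, ← Finset.sum_filter_add_sum_filter_not _ (charDegree · = m)] at this
    rw [← Nat.cast_inj (R := ℂ)]
    push_cast [a, b, this, Finset.sum_mul]
    congr 1 <;> refine Finset.sum_congr rfl fun η hη => ?_ <;>
      obtain ⟨h7, h8⟩ := Finset.mem_filter.1 hη
    · rw [Pi.smul_apply, ← deg_cast h7, h8, smul_eq_mul]
    · by_cases h9 : c η = 0
      · simp [h9]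
      rw [Pi.smul_apply, ← deg_cast h7, (h2 η h7 (by rw [h5 η h7]; exact_mod_cast h9)).resolve_left
        h8, smul_eq_mul]
  have h8 : ∀ {η}, η ∈ Irr K → dot K φ η ≠ 0 → 0 < c η := fun h h' =>
    Nat.pos_of_ne_zero fun e => h' (by rw [h5 _ h, e, Nat.cast_zero])
  have h9 : m ≤ b := Nat.le_of_dvd ((h8 hη h3).trans_le (Finset.single_le_sum
    (fun _ _ => Nat.zero_le _) (Finset.mem_filter.2 ⟨hη, by omega⟩))) (hc.dvd_of_dvd_mul_right
      ((Nat.dvd_add_right (dvd_mul_left _ _)).1 (h7 ▸ dvd_mul_left _ _)))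
  have h10 : a + n ≤ t := by
    rcases m.eq_zero_or_pos with rfl | h0
    · have := deg_pos hη
      have h10 : b = 0 := by simp at h7; omega
      have : c η ≤ b := Finset.single_le_sum (f := c) (fun _ _ => Nat.zero_le _)
        (Finset.mem_filter.2 ⟨hη, (by omega : ¬ charDegree η = 0)⟩)
      have := h8 hη h3
      omega
    exact Nat.le_of_mul_le_mul_right (by nlinarith) h0
  refine ⟨by omega, fun ψ hψ h11 h12 => ?_⟩
  have : 0 < a := (h8 hψ h11).trans_le (Finset.single_le_sum (f := c)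
    (fun _ _ => Nat.zero_le _) (Finset.mem_filter.2 ⟨hψ, h12⟩))
  omega

theorem eq_of_dot_lin (hφ : φ ∈ Irr K) (hψ : ψ ∈ Irr K) (hl : IsLin K l)
    (h : dot K (φ * ψ) l ≠ 0) : φ = l * star ψ :=
  irr_eq_of_dot_ne hφ (lin_mul_mem_Irr hl (star_mem_Irr hψ)) (by rwa [← dot_mul_left])

theorem deg_star (h : χ ∈ Irr K) : charDegree (star χ) = charDegree χ :=
  deg_congr (irr_char h).conj_one

theorem mem_IrrQ_of_dot (hφ : φ ∈ IrrQ K N) (hψ : ψ ∈ IrrQ K N) (hη : η ∈ Irr K)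
    (h : dot K (φ * ψ) η ≠ 0) : η ∈ IrrQ K N :=
  mem_IrrQ.2 ⟨hη, (le_cfker_mul (mem_IrrQ.1 hφ).2 (mem_IrrQ.1 hψ).2).trans (cf_cfker_le_of_dot
    (mul_mem_cf (irr_cf (mem_IrrQ.1 hφ).1) (irr_cf (mem_IrrQ.1 hψ).1)) hη h)⟩

/-- A set of irreducible characters closed under products with `ψ`, `star ψ` contains every
irreducible character of `K / ker ψ`. -/
theorem mem_of_closed {X : Finset (G → ℂ)} (hX : X ⊆ Irr K) (h1 : one K ∈ X) (hψ : ψ ∈ Irr K)
    (h2 : ∀ χ ∈ X, ∀ η ∈ Irr K, dot K (χ * ψ) η ≠ 0 ∨ dot K (χ * star ψ) η ≠ 0 → η ∈ X)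
    (hη : η ∈ IrrQ K (cfker ψ)) : η ∈ X := by
  set ρ := ∑ χ ∈ X, χ 1 • χ with hρ
  have h3 : ρ ∈ cf K := Submodule.sum_mem _ fun χ h => Submodule.smul_mem _ _ (irr_cf (hX h))
  have h4 : ρ * ψ = ψ 1 • ρ := cf_ext_dot (mul_mem_cf h3 (irr_cf hψ)) (Submodule.smul_mem _ _ h3)
    fun η hη => by
      rw [dot_smul_left]
      by_cases h4 : η ∈ X
      · have h5 := (irr_char hη).mul (irr_char hψ).star
        have h6 := cf_apply_eq_sum h5.cf 1
        rw [Pi.mul_apply, Pi.star_apply, RCLike.star_def, (irr_char hψ).conj_one,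
          ← Finset.sum_subset hX fun χ h6 h7 => by
            rw [show dot K _ χ = 0 from by_contra fun e => h7 (h2 η h4 χ h6 (.inr e)),
              zero_mul]] at h6
        rw [dot_sum_irr hX _ h4, mul_comm (ψ 1), h6, dot_mul_left, hρ, dot_sum_left]
        exact Finset.sum_congr rfl fun χ h => by
          rw [dot_smul_left, mul_comm, (irr_char (hX h)).dot_comm h5]
      · rw [dot_sum_irr_of_not_mem hX _ hη h4, mul_zero, hρ, Finset.sum_mul, dot_sum_left]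
        exact Finset.sum_eq_zero fun χ h => by
          rw [smul_mul_assoc, dot_smul_left, show dot K _ η = 0 from
            by_contra fun e => h4 (h2 χ h η hη (.inl e)), mul_zero]
  have h5 : ρ ∈ supp (cfker ψ : Set G) := fun x hx => by_contra fun h5 => hx
    ((irr_mem_cfker hψ).2 (mul_left_cancel₀ h5 ((congrFun h4 x).trans (mul_comm _ _))))
  obtain ⟨h6, h7⟩ := mem_IrrQ.1 hη
  by_contra h8
  have h9 := dot_sum_irr_of_not_mem hX (fun χ => χ 1) h6 h8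
  rw [dot_congr_supp h5 (ψ' := η 1 • one K) (fun x hx => by
    rw [cfker_apply (h7 hx), Pi.smul_apply, one_of_mem (irr_cfker_le hψ hx), smul_eq_mul,
      mul_one]), dot_smul_right, dot_sum_irr hX _ h1, one_one, mul_one,
    (irr_char h6).conj_one] at h9
  exact irr_one_ne h6 h9

theorem JN.closed (h : JN K) (hmn : m < n) (hc : m.Coprime n) (hm : m ≠ 1)
    (hd : ∀ χ ∈ IrrQ ⊤ K, charDegree χ = 1 ∨ charDegree χ = m ∨ charDegree χ = n)
    (hφ : φ ∈ IrrQ ⊤ K) (hψ : ψ ∈ IrrQ ⊤ K) (h1 : charDegree φ ≠ n) (h2 : charDegree ψ = m)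
    (hη : η ∈ Irr ⊤) (h3 : dot ⊤ (φ * ψ) η ≠ 0) : charDegree η ≠ n := fun h4 => by
  have hψ1 := (mem_IrrQ.1 hψ).1
  have hφ1 := (mem_IrrQ.1 hφ).1
  have hη' := mem_IrrQ_of_dot hφ hψ hη h3
  rcases (hd φ hφ).imp_right (·.resolve_right h1) with h5 | h5
  · have h6 := lin_mul_mem_Irr (lin_of_deg hφ1 h5) hψ1
    rw [← irr_eq_of_dot_ne h6 hη h3, deg_mul hφ1 hψ1] at h4
    rw [h5] at h4; omega
  have h6 : ∀ φ ∈ IrrQ ⊤ K, charDegree φ = m → dot ⊤ (φ * ψ) η ≠ 0 →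
      ∃ l, IsLin ⊤ l ∧ φ = l * star ψ := fun φ hφ h5 h3 => by
    have hφ1 := (mem_IrrQ.1 hφ).1
    by_contra! h6
    exact (two_deg (t := m) hmn hc ((irr_char hφ1).mul (irr_char hψ1))
      (by rw [Pi.mul_apply, ← deg_cast hφ1, ← deg_cast hψ1, h5, h2]) (fun ξ hξ h7 =>
        (hd ξ (mem_IrrQ_of_dot hφ hψ hξ h7)).resolve_left fun h8 => h6 ξ (lin_of_deg hξ h8)
          (eq_of_dot_lin hφ1 hψ1 (lin_of_deg hξ h8) h7)) hη h3 h4).1.not_gt hmn
  have hs := star_mem_Irr hψ1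
  have h7 := (irr_char hη).mul (irr_char hs)
  have h8 : ∀ ξ ∈ Irr ⊤, dot ⊤ (η * star ψ) ξ = dot ⊤ (ξ * ψ) η := fun ξ hξ => by
    rw [dot_mul_left ξ, h7.dot_comm (irr_char hξ)]
  have h9 : ∀ ξ ∈ Irr ⊤, dot ⊤ (η * star ψ) ξ ≠ 0 → charDegree ξ = m ∨ charDegree ξ = n :=
    fun ξ hξ h9 => (hd ξ (mem_IrrQ_of_dot hη' (star_mem_IrrQ hψ) hξ h9)).resolve_left fun h10 => by
      have := eq_of_dot_lin hη hs (lin_of_deg hξ h10) h9
      rw [this, deg_mul hξ (star_mem_Irr hs), star_star, h10] at h4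
      omega
  set D := ⁅(⊤ : Subgroup G), (⊤ : Subgroup G)⁆
  have h10 : ∀ x ∈ D, η x * star ψ x =
      (∑ ξ ∈ Irr ⊤, dot ⊤ (η * star ψ) ξ) * star ψ x := fun x hx => by
    rw [← Pi.mul_apply, cf_apply_eq_sum h7.cf, Finset.sum_mul]
    refine Finset.sum_congr rfl fun ξ hξ => ?_
    by_cases h10 : dot ⊤ (η * star ψ) ξ = 0
    · rw [h10, zero_mul, zero_mul]
    obtain ⟨l, hl, rfl⟩ := h6 ξ (mem_IrrQ_of_dot hη' (star_mem_IrrQ hψ) hξ h10)
      ((h9 ξ hξ h10).resolve_right fun h11 => lt_irrefl n ((two_deg hmn hc h7 (by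
        rw [Pi.mul_apply, ← deg_cast hη, ← deg_cast hs, h4, deg_star hψ1, h2]) h9 hξ h10 h11).2
          φ hφ1 (h8 φ hφ1 ▸ h3) h5)) (h8 ξ hξ ▸ h10)
    rw [Pi.mul_apply, hl.mem_cfker.1 (hl.commutator_le hx), one_mul]
  have h11 := mul_right_cancel₀ (irr_one_ne hs) (h10 1 (one_mem _))
  have h12 : Res (D : Set G) (star ψ) ∈ supp (D ⊓ K : Subgroup G) := fun x hx => by
    by_cases h12 : x ∈ D
    · rw [Res_of_mem _ h12]
      by_contra h13
      refine hx ⟨h12, ?_⟩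
      rw [← h.ker hη' (by have := deg_pos hψ1; omega)]
      exact (irr_mem_cfker hη).2 (h11 ▸ mul_right_cancel₀ h13 (h10 x h12))
    · exact Res_of_not_mem _ h12
  have h13 := dot_of_supp_le (K := D) inf_le_left h12 (one D)
  rw [dot_Res_left, dot_one_eq_zero_of_not_le le_top (top_le_norm D) hs (fun e => hm (by
    rw [← h2, ← deg_star hψ1, deg_lin (isLin_of_le_cfker hs e)])), mul_zero,
    dot_Res_left_of_le inf_le_left, ← dot_Res_left, Res_of_le_cfker (inf_le_right.trans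
      (mem_IrrQ.1 (star_mem_IrrQ hψ)).2), ← dot_Res_right, Res_one_of_le inf_le_left,
    dot_smul_left, dot_one_one, mul_one] at h13
  exact irr_one_ne hs h13.symm

theorem JN.ds_two (h : JN K) (hmn : m < n) (hc : m.Coprime n) (hm : m ≠ 1)
    (hd : ∀ χ ∈ IrrQ ⊤ K, charDegree χ = 1 ∨ charDegree χ = m ∨ charDegree χ = n) :
    derivedSeries G 2 ≤ K := by
  classical
  haveI := h.nor
  by_cases h1 : ∃ ψ ∈ IrrQ ⊤ K, charDegree ψ = m
  · obtain ⟨ψ, hψ, h1⟩ := h1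
    have hψ1 := (mem_IrrQ.1 hψ).1
    refine dl2q (m := m) fun η hη => (hd η hη).imp_right (·.resolve_right (Finset.mem_filter.1
      (mem_of_closed (X := (IrrQ ⊤ K).filter (charDegree · ≠ n))
        ((Finset.filter_subset _ _).trans (IrrQ_subset _ _)) (Finset.mem_filter.2
          ⟨one_mem_IrrQ le_top, by have := deg_pos hψ1; rw [deg_one]; omega⟩) hψ1
        (fun χ hχ η hη h2 => ?_) (by rwa [h.ker hψ (h1 ▸ hm)]))).2)
    obtain ⟨h3, h4⟩ := Finset.mem_filter.1 hχ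
    rcases h2 with h2 | h2
    · exact Finset.mem_filter.2 ⟨mem_IrrQ_of_dot h3 hψ hη h2,
        h.closed hmn hc hm hd h3 hψ h4 h1 hη h2⟩
    · exact Finset.mem_filter.2 ⟨mem_IrrQ_of_dot h3 (star_mem_IrrQ hψ) hη h2,
        h.closed hmn hc hm hd h3 (star_mem_IrrQ hψ) h4 (deg_star hψ1 ▸ h1) hη h2⟩
  · exact dl2q (m := n) fun η hη => (hd η hη).imp_right (·.resolve_left fun e => h1 ⟨η, hη, e⟩)

theorem FQ.deg_eq_one (h : FQ K C) (hψ : ψ ∈ Irr C) (h1 : charDegree ψ ∣ C.index)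
    (h2 : ∀ χ ∈ Irr (⊤ : Subgroup G), C.index ∣ charDegree χ → charDegree χ = C.index) :
    charDegree ψ = 1 := by
  obtain ⟨χ, hχ, h3⟩ := h.exists_deg_mul hψ (Res_irr_of_coprime h.lt.le h.norK hψ
    (h.coprime.of_dvd_left h1))
  rw [h2 χ hχ (h3 ▸ dvd_mul_right _ _)] at h3
  exact (left_eq_mul₀ Subgroup.FiniteIndex.index_ne_zero).1 h3

theorem dl3_cop (hmn : m < n) (hc : m.Coprime n) (hm : m ≠ 1) (hn : n ≠ 1)
    (h : DegP (fun d => d = 1 ∨ d = m ∨ d = n) G) : derivedSeries G 3 = ⊥ := by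
  by_cases h0 : IsMulCommutative (⊤ : Subgroup G)
  · exact ds_of_lin (fun χ hχ => deg_lin (isLin_of_comm h0 (mem_Irr_top.2 hχ))) 2
  obtain ⟨K, hK⟩ := exists_JN h0
  have h1 : ∀ f, f ≠ 1 → (f = 1 ∨ f = m ∨ f = n) → ∃ g, g.Coprime f ∧ g ≠ 1 ∧
      DegP (fun d => d = 1 ∨ d = f ∨ d = g) G := by
    rintro f h1 (rfl | rfl | rfl)
    exacts [(h1 rfl).elim, ⟨n, hc.symm, hn, h⟩,
      ⟨m, hc, hm, h.mono fun _ => Or.imp_right Or.symm⟩]
  by_cases hA : ⁅⁅(⊤ : Subgroup G), (⊤ : Subgroup G)⁆, (⊤ : Subgroup G)⁆ ≤ K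
  · obtain ⟨χ, hχ, h2⟩ := hK.exists_nonlin
    have hχ1 := (mem_IrrQ.1 hχ).1
    obtain ⟨g, h3, h4, h5⟩ := h1 _ h2 (h.top hχ1)
    obtain ⟨Z, -, h6, -, -, h7, h8⟩ := hK.caseA hA hχ h2
    refine le_bot_iff.1 ((derivedSeries_antitone G (by norm_num)).trans (dl2 (m := charDegree χ)
      fun ψ hψ => (h5 ψ hψ).imp_right (·.resolve_right fun e => ?_)).le)
    replace hψ := mem_Irr_top.2 hψ
    have h9 := h5.top (h8 ψ hψ (Res_irr_of_coprime le_top (H16.norm_of_der_le h6 le_top) hψ (by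
      rw [Subgroup.relIndex_top_right, h7, e]; exact h3.pow_right 2)))
    have := deg_pos hψ
    have := deg_pos hχ1
    rw [deg_mul hχ1 hψ, e] at h9
    rcases h9 with h9 | h9 | h9
    · exact h2 (Nat.eq_one_of_mul_eq_one_right h9)
    · exact h4 ((mul_eq_left₀ (by omega)).1 h9)
    · exact h2 ((mul_eq_right₀ (by omega)).1 h9)
  obtain ⟨C, hC⟩ := hK.caseB hA (hK.ds_two hmn hc hm fun χ hχ => h.top (mem_IrrQ.1 hχ).1)
  obtain ⟨χ, hχ, h2⟩ := hC.exists_deg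
  have h3 : C.index ≠ 1 := fun e => hC.ne (Subgroup.index_eq_one.1 e)
  obtain ⟨g, h4, h5, h6⟩ := h1 _ h3 (h2 ▸ h.top (mem_IrrQ.1 hχ).1)
  refine eq_bot_of_ds (N := C) (i := 1) (j := 0) 2 (hC.der.trans (ds_zero C).ge)
    (dl2 (m := g) (degP_sub.2 fun ψ hψ => ?_))
  obtain ⟨χ, hχ⟩ := over_nonempty le_top hψ
  obtain ⟨e, he, h7⟩ := deg_over le_top hC.norC hψ hχ
  rw [Subgroup.relIndex_top_right] at he
  rcases h6.top (mem_over.1 hχ).1 with h8 | h8 | h8 <;> rw [h8] at h7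
  · exact .inl (Nat.eq_one_of_mul_eq_one_left h7.symm)
  · refine .inl (hC.deg_eq_one hψ (h7 ▸ dvd_mul_left _ _) fun χ hχ h9 => ?_)
    rcases h6.top hχ with h10 | h10 | h10
    exacts [(h3 (Nat.dvd_one.1 (h10 ▸ h9))).elim, h10,
      (h3 ((Nat.coprime_self _).1 (h4.of_dvd_left (h10 ▸ h9)))).elim]
  · rw [Nat.Coprime.eq_one_of_dvd (h4.of_dvd_left (h7 ▸ dvd_mul_right _ _)) he, one_mul] at h7
    exact .inr h7.symm

theorem dl3_aux (c : ℕ) : ∀ (G : Type u) [Group G] [Finite G], Nat.card G = c → ∀ m n,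
    DegP (fun d => d = 1 ∨ d = m ∨ d = n) G → derivedSeries G 3 = ⊥ := by
  induction c using Nat.strong_induction_on with
  | _ c ih =>
  intro G _ _ hc m n h
  wlog hmn : m ≤ n generalizing m n
  · exact this n m (h.mono (by omega)) (by omega)
  have h0 : ∀ k, DegP (fun d => d = 1 ∨ d = k) G → derivedSeries G 3 = ⊥ := fun k h =>
    le_bot_iff.1 ((derivedSeries_antitone G (by norm_num)).trans (dl2 h).le)
  by_cases hm : m = 1 ∨ m = n
  · exact h0 n (h.mono (by omega))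
  by_cases hn : n = 1
  · exact h0 m (h.mono (by omega))
  by_cases hco : m.Coprime n
  · exact dl3_cop (by omega) hco (by omega) hn h
  obtain ⟨p, hp, hpm, hpn⟩ := Nat.Prime.not_coprime_iff_dvd.1 hco
  rcases resid hp h (by rintro d (rfl | rfl | rfl) h2; exacts [(h2 rfl).elim, hpm, hpn]) with
    h1 | ⟨N, _, h1, h2, -, h3, h4⟩
  · exact ds_of_lin h1 2
  replace h3 : DegP (fun d => d = 1 ∨ d = ordCompl[p] m ∨ d = ordCompl[p] n) N := h3.mono (by
    rintro _ ⟨d, rfl | rfl | rfl, rfl⟩ <;> simp)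
  have h5 : ∀ a b, (∀ χ ∈ IrrQ ⊤ ⁅N, N⁆, charDegree χ = 1 ∨ charDegree χ = a) →
      DegP (fun d => d = 1 ∨ d = b) N → derivedSeries G 3 = ⊥ := fun a b h5 h6 =>
    eq_bot_of_ds (i := 2) (j := 1) 1 ((dl2q h5).trans (ds_one N).ge) (dl2 h6)
  have h6 : ∀ χ ∈ IrrQ ⊤ ⁅N, N⁆, charDegree χ = 1 ∨ charDegree χ = m ∧ ordCompl[p] m = 1 ∨
      charDegree χ = n ∧ ordCompl[p] n = 1 := fun χ hχ =>
    (h.top (mem_IrrQ.1 hχ).1).imp_right (Or.imp (fun e => ⟨e, e ▸ h4 χ hχ⟩) fun e => ⟨e, e ▸ h4 χ hχ⟩)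
  by_cases h7 : ordCompl[p] m = 1 <;> by_cases h8 : ordCompl[p] n = 1
  · exact taketa' hp (comm_of_deg fun θ hθ => by have := degP_sub.1 h3 θ hθ; omega) h2 {1, m, n}
      (h.mono fun d h => by simpa using h) Finset.card_le_three
  · exact h5 m _ (fun χ hχ => by have := h6 χ hχ; tauto) (h3.mono (Q' := fun d => d = 1 ∨
      d = ordCompl[p] n) (by omega))
  · exact h5 n _ (fun χ hχ => by have := h6 χ hχ; tauto) (h3.mono (Q' := fun d => d = 1 ∨
      d = ordCompl[p] m) (by omega))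
  refine eq_bot_of_ds (i := 1) (j := 1) 2 ?_ (ih _ (hc ▸ card_lt_of_ne_top h1) N rfl _ _ h3)
  rw [ds_one]
  exact der_le_of_deg le_top (top_le_norm _) fun χ hχ => by have := h6 χ hχ; tauto

theorem dl3 (h : (cdq (⊤ : Subgroup G) ⊥).card = 3) : derivedSeries G 3 = ⊥ := by
  have h1 := one_mem_cdq (K := (⊤ : Subgroup G)) bot_le
  obtain ⟨m, n, -, h2⟩ := Finset.card_eq_two.1 ((Finset.card_erase_of_mem h1).trans (by rw [h]))
  refine dl3_aux _ G rfl m n fun χ hχ => or_iff_not_imp_left.2 fun h3 => ?_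
  have := Finset.mem_erase.2 ⟨h3, mem_cdq_top.2 ⟨⟨χ, hχ⟩, rfl⟩⟩
  rw [h2] at this
  simpa using this

end H21
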