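/-
Groups with two character degrees (Isaacs (12.5), (12.11)).
-/
import Cfsg.Agent.H21.CD5

set_option autoImplicit false
set_option linter.unusedSectionVars false
open H17 Cfsg H15 CF
open scoped ComplexConjugate commutatorElement

namespace H21

universe u
variable {G : Type u} [Group G] [Finite G] {K N H T A P Z C : Subgroup G} {θ χ φ ψ η l : G → ℂ}
  {p m n : ℕ} {Q : ℕ → Prop}

theorem deg_dvd_index [N.Normal] (h : χ ∈ IrrQ ⊤ N) : charDegree χ ∣ N.index := by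
  obtain ⟨e, he, h1⟩ := deg_over le_top (top_le_norm N) (one_mem_Irr N)
    (over_one le_top (top_le_norm N) ▸ h)
  rwa [h1, deg_one, mul_one, ← Subgroup.relIndex_top_right]

theorem deg_le_index (h : χ ∈ Irr ⊤) (hT : ⁅T, T⁆ ≤ cfker χ) : charDegree χ ≤ T.index := by
  obtain ⟨θ, hθ, h1⟩ := exists_under (H := T) le_top h
  have := deg_le_mul le_top hθ (mem_over.2 ⟨h, h1⟩)
  rwa [deg_lin (isLin_of_le_cfker hθ (le_cfker_of_under le_top (H16.der_le T) (irr_char h) hθ h1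
    hT)), mul_one, Subgroup.relIndex_top_right] at this

theorem stab_two [N.Normal] (h : DegP (fun d => d = 1 ∨ d = m) G)
    (hc : (Nat.card N).Coprime N.index) (hl : IsLin N l) (h1 : stab l ≠ ⊤) :
    (stab l).index = m ∧ ⁅stab l, stab l⁆ ≤ N := by
  have hNT := le_stab hl.cf
  have hn : stab l ≤ 𝒩(N) := le_top.trans (top_le_norm N)
  obtain ⟨χ, hχ, h2⟩ := exists_ext_hall hNT hn hl.mem_Irr le_rfl
    (hc.of_dvd_right (Subgroup.relIndex_dvd_index_of_le hNT))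
  have h3 : ∀ β ∈ IrrQ (stab l) N, (stab l).index * charDegree β = m := fun β hβ => by
    have h3 := (gall1_mem hNT hn (irr_char hχ) (h2 ▸ hl.mem_Irr)).2 ⟨β, hβ, rfl⟩
    rw [h2] at h3
    have h4 := h.top (mem_over.1 (Ind_mem_over le_top (top_le_norm N) hl.mem_Irr
      (top_inf_eq _).symm h3)).1
    rw [deg_Ind le_top (mem_over.1 h3).1, deg_mul (mem_IrrQ.1 hβ).1 hχ,
      deg_congr (φ := χ) (ψ := l) (by rw [← h2, Res_one]), deg_lin hl, mul_one,
      Subgroup.relIndex_top_right] at h4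
    exact h4.resolve_left fun e => h1 (Subgroup.index_eq_one.1 (Nat.eq_one_of_mul_eq_one_right e))
  have h4 := h3 _ (one_mem_IrrQ hNT)
  rw [deg_one, mul_one] at h4
  exact ⟨h4, der_le_of_deg hNT hn fun β hβ =>
    (mul_eq_left₀ Subgroup.FiniteIndex.index_ne_zero).1 ((h3 β hβ).trans h4.symm)⟩

theorem stab_comm [N.Normal] (h : DegP (fun d => d = 1 ∨ d = m) G) (hN : IsMulCommutative N)
    (h1 : N ⊔ P = ⊤) (hc : (Nat.card P).Coprime (Nat.card N)) (hl : IsLin N l) (h2 : stab l ≠ ⊤)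
    [(stab l).Normal] : IsMulCommutative (stab l) := by
  have hc' : (Nat.card N).Coprime N.index := hc.symm.of_dvd_right (by
    rw [← Subgroup.relIndex_top_right, ← h1, sup_comm]
    exact relIndex_sup_dvd' (le_top.trans (top_le_norm N)))
  have hn : ∀ (X Y : Subgroup G) [Y.Normal], X ≤ 𝒩(Y) := fun X Y _ => le_top.trans (top_le_norm Y)
  obtain ⟨h3, h4⟩ := stab_two h hc' hl h2
  set T := stab l
  have h5 : T = N ⊔ (T ⊓ P) := by
    rw [← H16.modl' (le_stab hl.cf) (.inr (hn _ _)), h1, inf_top_eq]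
  have h6 := H16.cop_comm_sup_cent (hn (T ⊓ P) N)
    (hc.of_dvd_left (Subgroup.card_dvd_of_le inf_le_right)) (.inr (H16.sol_of_comm hN))
  have h7 : ⁅N, T⁆ ⊔ (N ⊓ 𝒞(T)) = N := le_antisymm (sup_le (comm_le_left (hn _ _)) inf_le_left)
    (h6.ge.trans (sup_le_sup (Subgroup.commutator_mono le_rfl inf_le_left) (le_inf inf_le_left (by
      conv_rhs => rw [h5]
      exact H16.le_cent_sup (inf_le_left.trans (H16.comm_iff.1 hN)) inf_le_right))))
  have h8 : ⁅T, N⁆ ≤ cfker l := (hl.le_stab_iff (hn _ _)).1 le_rfl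
  have h9 : ⁅N, T⁆ ≤ N ⊓ 𝒞(T) := by
    by_contra h9
    obtain ⟨l', hl', h10, h11⟩ := exists_lin_not_le (H := N) (N := N ⊓ 𝒞(T))
      ((H16.der_eq_bot.2 hN).le.trans bot_le) inf_le_left h9
    have h12 := hl.mul hl'
    have h13 : stab (l * l') ≤ T := by
      have h13 := (h12.le_stab_iff (hn _ _)).1 le_rfl
      refine (hl.le_stab_iff (hn _ _)).2 ?_
      conv_lhs => rw [← h7]
      refine H16.comm_sup_le ((H16.comm_le_right (hn _ _)).trans (Subgroup.commutator_comm N T ▸ h8))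
        (fun x hx => hl.mem_cfker.2 ?_) ((comm_le_left (hn _ _)).trans (le_norm_cfker hl.cf))
        (inf_le_left.trans (le_norm_cfker hl.cf))
      have := h12.mem_cfker.1 (h13 (Subgroup.commutator_mono le_rfl inf_le_left hx))
      rwa [Pi.mul_apply, hl'.mem_cfker.1 (h10 (H16.comm_le_right (hn _ _) hx)), mul_one] at this
    have h14 := (stab_two h hc' h12 fun e => h2 (top_le_iff.1 (e ▸ h13))).1
    have h15 : T ≤ stab (l * l') := by
      rw [← Subgroup.relIndex_eq_one]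
      have := Subgroup.relIndex_mul_index h13
      rw [h14, h3] at this
      exact (mul_eq_right₀ (h3 ▸ Subgroup.FiniteIndex.index_ne_zero)).1 this
    refine h11 fun x hx => hl'.mem_cfker.2 ?_
    rw [Subgroup.commutator_comm] at hx
    have := h12.mem_cfker.1 ((h12.le_stab_iff (hn _ _)).1 h15 hx)
    rwa [Pi.mul_apply, hl.mem_cfker.1 (h8 hx), one_mul] at this
  rw [sup_eq_right.2 h9, inf_eq_left] at h7
  rw [h5]
  refine H16.comm_sup hN (H16.der_eq_bot.1 (le_bot_iff.1 ?_))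
    (h7.trans (H16.cent_anti inf_le_left))
  rw [← H16.inf_bot_of_coprime hc]
  exact le_inf (H16.comm_le inf_le_right inf_le_right) ((H16.der_mono inf_le_left).trans h4)

theorem two_struct (hm : m ≠ 1) (h : DegP (fun d => d = 1 ∨ d = m) G)
    (h0 : ¬ IsMulCommutative (⊤ : Subgroup G)) :
    (∃ A : Subgroup G, A.Normal ∧ IsMulCommutative A ∧ A.index = m) ∨
    ∃ p e : ℕ, p.Prime ∧ m = p ^ e ∧ (∃ P A : Subgroup G, P.Normal ∧ A.Normal ∧ IsPGroup p P ∧
      IsMulCommutative A ∧ P ⊓ A = ⊥ ∧ P ⊔ A = ⊤) ∧ ∃ Z : Subgroup G, ⁅(⊤ : Subgroup G), ⊤⁆ ≤ Z ∧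
        Subgroup.center G ≤ Z ∧ Z.index = m ^ 2 ∧
          ∀ ψ ∈ Irr ⊤, Res (Z : Set G) ψ ∈ Irr Z → charDegree ψ = 1 := by
  obtain ⟨K, hK⟩ := exists_JN h0
  by_cases hA : ⁅⁅(⊤ : Subgroup G), (⊤ : Subgroup G)⁆, (⊤ : Subgroup G)⁆ ≤ K
  swap
  · obtain ⟨C, hC⟩ := hK.caseB hA ((dl2 h).le.trans bot_le)
    obtain ⟨χ, hχ, h1⟩ := hC.exists_deg
    have h2 : C.index = m := h1 ▸ (h.top (mem_IrrQ.1 hχ).1).resolve_left fun e =>
      hC.ne (Subgroup.index_eq_one.1 (h1 ▸ e))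
    refine .inl ⟨C, normal_of_top hC.norC, comm_of_deg fun ψ hψ => hC.deg_eq_one hψ ?_
      fun χ hχ h3 => h2 ▸ (h.top hχ).resolve_left fun e => hm (Nat.dvd_one.1 (h2 ▸ e ▸ h3)), h2⟩
    obtain ⟨χ, hχ⟩ := over_nonempty le_top hψ
    obtain ⟨e, -, h3⟩ := deg_over le_top hC.norC hψ hχ
    refine (h3 ▸ dvd_mul_left _ _ : _ ∣ charDegree χ).trans ?_
    rcases h.top (mem_over.1 hχ).1 with h4 | h4 <;> simp [h2, h4]
  haveI := hK.nor
  obtain ⟨χ, hχ, h1⟩ := hK.exists_nonlin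
  have hχ1 := (mem_IrrQ.1 hχ).1
  have h2 := (h.top hχ1).resolve_left h1
  have h3 := h2 ▸ deg_dvd_index hχ
  have hp := Nat.minFac_prime hm
  set p := m.minFac
  obtain ⟨k, hk⟩ := hK.pow_of_cent hA hp (m.minFac_dvd.trans h3)
  obtain ⟨e, -, he⟩ := (Nat.dvd_prime_pow hp).1 (hk ▸ h3)
  obtain ⟨Z, h4, h5, h6, h7, h8, h9⟩ := hK.caseA hA hχ h1
  rcases resid hp h (fun d h1 h2 => h1.resolve_left h2 ▸ m.minFac_dvd) with
    h10 | ⟨N, _, -, ⟨j, hj⟩, h10, h11, -⟩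
  · exact (h1 (h10.top hχ1)).elim
  have hN : IsMulCommutative N := comm_of_deg fun θ hθ => by
    obtain ⟨d, rfl | rfl, h12⟩ := degP_sub.1 h11 θ hθ
    · simpa using h12.symm
    · rw [← h12, he, Nat.ordCompl_self_pow hp]
  haveI := Fact.mk hp
  obtain ⟨P⟩ := (inferInstance : Nonempty (Sylow p G))
  obtain ⟨i, hi⟩ := P.isPGroup'.exists_card_eq
  have hc : ∀ i, (p ^ i).Coprime (Nat.card N) := fun i =>
    (hp.coprime_iff_not_dvd.2 h10).pow_left i
  have h12 : N ⊔ P = ⊤ := Subgroup.index_eq_one.1 (Nat.eq_one_of_dvd_coprimes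
    ((hp.coprime_iff_not_dvd.2 P.not_dvd_index).pow_left j)
    (hj ▸ Subgroup.index_dvd_of_le le_sup_left) (Subgroup.index_dvd_of_le le_sup_right))
  by_cases h13 : ∀ l ∈ Irr N, stab l = ⊤
  · have h14 := cent_of_stab (A := P) (le_top.trans (top_le_norm N)) (hi ▸ hc i)
      (.inr (H16.sol_of_comm hN)) fun l hl => (h13 l hl).ge.trans' le_top
    refine .inr ⟨p, e, hp, he, ⟨P, N, normal_of_top (h12 ▸ sup_le (H16.norm_of_cent' h14)
      (H16.le_norm _)), inferInstance, P.isPGroup', hN, H16.inf_bot_of_coprime (hi ▸ hc i),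
      sup_comm N P ▸ h12⟩, Z, h5, h7, h2 ▸ h8, fun ψ hψ h15 => ?_⟩
    have h16 := h.top (h9 ψ hψ h15)
    rw [deg_mul hχ1 hψ, h2] at h16
    exact h16.elim Nat.eq_one_of_mul_eq_one_left (mul_eq_left₀ (h2 ▸ (deg_pos hχ1).ne')).1
  push Not at h13
  obtain ⟨l, hl, h13⟩ := h13
  replace hl := isLin_of_comm hN hl
  obtain ⟨h14, h15⟩ := stab_two h (hj ▸ (hc j).symm) hl h13
  have h16 : N ≤ K := H1.le_of_coprime_index (hk ▸ (hc k).symm)
  have h17 := deg_le_index (T := stab l ⊔ Z) hχ1 (le_trans (H9.commutator_sup_le (by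
    rw [Subgroup.commutator_comm]
    exact H9.commutator_sup_le (h15.trans h16) ((Subgroup.commutator_mono le_rfl le_top).trans h6))
      ((Subgroup.commutator_mono le_rfl le_top).trans h6)) (mem_IrrQ.1 hχ).2)
  have h18 := Subgroup.relIndex_mul_index (le_sup_left : stab l ≤ stab l ⊔ Z)
  have h19 : (stab l).relIndex (stab l ⊔ Z) = 1 := by
    have := CF.relIndex_pos (stab l) (stab l ⊔ Z)
    have := deg_pos hχ1
    nlinarith
  haveI := normal_of_der (h5.trans (le_sup_right.trans (Subgroup.relIndex_eq_one.1 h19)))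
  exact .inl ⟨stab l, inferInstance, stab_comm h hN h12 (hi ▸ hc i) hl h13, h14⟩

theorem relIndex_cent1_dvd (hZ : IsMulCommutative Z) {x : G} (hx : x ∈ 𝒩(Z))
    (h : ∀ z ∈ Z, ⁅z, x⁆ ∈ H) : 𝒞₁(x).relIndex Z ∣ Nat.card H := by
  have h1 : ∀ z ∈ Z, ⁅z, x⁆ ∈ Z := fun z hz => by
    simpa [commutatorElement_def, mul_assoc] using mul_mem hz (H16.conj_mem hx (inv_mem hz))
  have h2 := H1.isMulCommutative_iff'.1 hZ
  let f : Z →* G := MonoidHom.mk' (fun z => ⁅(z : G), x⁆) fun a b => by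
    rw [h2 _ (h1 a a.2) _ (h1 b b.2), Subgroup.coe_mul]
    exact H9.commutator_mul_left_of_commute (h2 _ a.2 _ (h1 b b.2))
  have h3 : 𝒞₁(x).subgroupOf Z = f.ker := Subgroup.ext fun z =>
    H16.mem_cent1.trans commutatorElement_eq_one_iff_mul_comm.symm
  rw [Subgroup.relIndex, h3, Subgroup.index_ker]
  exact Subgroup.card_dvd_of_le (by rintro _ ⟨z, rfl⟩; exact h z z.2)

theorem center_index (hp : p.Prime) (h : DegP (fun d => d = 1 ∨ d = p) G)
    (hZ : IsMulCommutative Z) (h1 : ⁅(⊤ : Subgroup G), ⊤⁆ ≤ Z) (h2 : Subgroup.center G ≤ Z)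
    (h3 : Z.index = p ^ 2) (h4 : IsPGroup p (⁅(⊤ : Subgroup G), Z⁆ : Subgroup G))
    (h5 : ∀ A : Subgroup G, A.Normal → IsMulCommutative A → A.index ≠ p) :
    (Subgroup.center G).index = p ^ 3 := by
  classical
  haveI := Fact.mk hp
  haveI := normal_of_der h1
  have hp2 := hp.two_le
  have hn : ∀ (X Y : Subgroup G) [Y.Normal], X ≤ 𝒩(Y) := fun X Y _ => le_top.trans (top_le_norm Y)
  set M := fs {H : Subgroup G | Z < H ∧ H ≠ ⊤}
  set W := ⁅(⊤ : Subgroup G), Z⁆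
  have hW : W ≤ Z := H16.comm_le_right (hn _ _)
  have hW' := H16.comm_of_le hZ hW
  have a0 : ∀ H ∈ M, H.Normal := fun H hH => normal_of_der (h1.trans (mem_fs.1 hH).1.le)
  have a1 : ∀ H ∈ M, Z.relIndex H = p ∧ H.index = p := fun H hH =>
    (hp.mul_eq_prime_sq_iff (fun e => (mem_fs.1 hH).1.not_ge (Subgroup.relIndex_eq_one.1 e))
      fun e => (mem_fs.1 hH).2 (Subgroup.index_eq_one.1 e)).1
        ((Subgroup.relIndex_mul_index (mem_fs.1 hH).1.le).trans h3)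
  have a2 : ∀ H ∈ M, ⁅H, Z⁆ ≠ ⊥ := fun H hH e => h5 H (a0 H hH)
    (H1.isMulCommutative_of_relIndex_prime (le_cent_iff_comm.2 e) ((a1 H hH).1 ▸ hp)) (a1 H hH).2
  have a3 : ∀ H ∈ M, ∀ H' ∈ M, H ≠ H' → H ⊔ H' = ⊤ := fun H hH H' hH' e =>
    ((H9.isCoatom_of_index_eq_prime (a1 H hH).2).codisjoint_of_ne
      (H9.isCoatom_of_index_eq_prime (a1 H' hH').2) e).eq_top
  have a4 : M.card ≤ p + 1 := by
    have h6 := Finset.card_le_card (s := M.biUnion fun H => fs (H : Set G) \ fs (Z : Set G))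
      (t := fs ((⊤ : Subgroup G) : Set G) \ fs (Z : Set G)) (Finset.biUnion_subset.2 fun H _ =>
        Finset.sdiff_subset_sdiff (fs_mono (SetLike.coe_subset_coe.2 le_top)) le_rfl)
    rw [Finset.card_biUnion fun H hH H' hH' e => Finset.disjoint_left.2 fun x h7 h8 => by
      simp only [Finset.mem_sdiff, mem_fs, SetLike.mem_coe] at h7 h8
      rcases H1.eq_or_eq_of_relIndex_prime ((a1 H hH).1 ▸ hp)
        (le_inf (mem_fs.1 hH).1.le (mem_fs.1 hH').1.le) inf_le_left with h9 | h9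
      · exact h7.2 (h9 ▸ ⟨h7.1, h8.1⟩)
      · exact (mem_fs.1 hH').2 (sup_eq_right.2 (inf_eq_left.1 h9) ▸ a3 H hH H' hH' e),
      Finset.sum_congr rfl (g := fun _ => Nat.card Z * (p - 1)) fun H hH => by
        rw [Finset.card_sdiff_of_subset (fs_mono (SetLike.coe_subset_coe.2 (mem_fs.1 hH).1.le)),
          card_fs_sub, card_fs_sub, ← CF.card_mul_relIndex (mem_fs.1 hH).1.le, (a1 H hH).1,
          Nat.mul_sub_one],
      Finset.card_sdiff_of_subset (fs_mono (SetLike.coe_subset_coe.2 le_top)), card_fs_sub,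
      card_fs_sub, ← CF.card_mul_relIndex (le_top (a := Z)), Subgroup.relIndex_top_right, h3,
      ← Nat.mul_sub_one, Finset.sum_const, smul_eq_mul, mul_left_comm, ← one_pow 2,
      Nat.sq_sub_sq] at h6
    exact Nat.le_of_mul_le_mul_right (Nat.le_of_mul_le_mul_left h6 Nat.card_pos) (by omega)
  have a5 : M.Nonempty := by
    obtain ⟨x, hx⟩ := exists_prime_orderOf_dvd_card' (G := G ⧸ Z) p
      (h3 ▸ dvd_pow_self p two_ne_zero : p ∣ Z.index)
    obtain ⟨x, rfl⟩ := QuotientGroup.mk_surjective x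
    have h6 := H9.relIndex_sup_zpowers hp (hn ⊤ Z trivial) (x := x) (fun e => by
      rw [(QuotientGroup.eq_one_iff x).2 e, orderOf_one] at hx; omega)
      (by rw [← QuotientGroup.eq_one_iff, QuotientGroup.mk_pow, ← hx, pow_orderOf_eq_one])
    refine ⟨Z ⊔ Subgroup.zpowers x, mem_fs.2 ⟨le_sup_left.lt_of_ne fun e => ?_, fun e => ?_⟩⟩
    · rw [← e, Subgroup.relIndex_self] at h6; omega
    · rw [e, Subgroup.relIndex_top_right, h3] at h6; nlinarith
  have a6 : ∀ H : Subgroup G, ⁅H, Z⁆ ≤ W := fun H => Subgroup.commutator_mono le_top le_rfl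
  have a7 : ∀ H : Subgroup G, (IrrQ W ⁅H, Z⁆).card = ⁅H, Z⁆.relIndex W := fun H =>
    card_IrrQ_of_comm ((H16.der_eq_bot.2 hW').le.trans bot_le) (a6 H)
  obtain ⟨H, hH, a8⟩ := M.exists_max_image (fun H => ⁅H, Z⁆.relIndex W) a5
  have a9 : Nat.card W ≤ ⁅H, Z⁆.relIndex W + ∑ T ∈ M.erase H, (⁅T, Z⁆.relIndex W - 1) := by
    rw [← card_Irr_of_comm hW', ← a7, Finset.sum_congr rfl fun T _ =>
      (a7 T ▸ Finset.card_erase_of_mem (one_mem_IrrQ (a6 T))).symm]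
    refine (Finset.card_le_card fun μ hμ => ?_).trans ((Finset.card_union_le _ _).trans
      (Nat.add_le_add_left Finset.card_biUnion_le _))
    obtain ⟨l, hl⟩ := over_nonempty hW hμ
    obtain ⟨h6, h7⟩ := mem_over.1 hl
    have h8 := isLin_of_comm hZ h6
    obtain ⟨T, hT, h9⟩ : ∃ T ∈ M, T ≤ stab l := by
      by_cases h9 : stab l = ⊤
      · exact ⟨H, hH, h9 ▸ le_top⟩
      refine ⟨_, mem_fs.2 ⟨(le_stab h8.cf).lt_of_ne fun e => ?_, h9⟩, le_rfl⟩
      have := h.top (Ind_mem_Irr_of_stab le_top (hn _ _) h6 (inf_le_right.trans e.ge))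
      rw [deg_Ind le_top h6, deg_lin h8, mul_one, Subgroup.relIndex_top_right, h3] at this
      rcases this with h10 | h10 <;> nlinarith
    have h10 := mem_IrrQ.2 ⟨hμ, le_cfker_of_under hW (a6 T) h8.char hμ h7
      ((h8.le_stab_iff (hn _ _)).1 h9)⟩
    rw [Finset.mem_union, Finset.mem_biUnion]
    by_cases h11 : T = H
    · exact .inl (h11 ▸ h10)
    by_cases h12 : μ = one W
    · exact .inl (h12 ▸ one_mem_IrrQ (a6 H))
    exact .inr ⟨T, Finset.mem_erase.2 ⟨h11, hT⟩, Finset.mem_erase.2 ⟨h12, h10⟩⟩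
  have b1 : (M.erase H).card ≤ p := by rw [Finset.card_erase_of_mem hH]; omega
  have b2 := a9.trans (Nat.add_le_add_left ((Finset.sum_le_card_nsmul _ _ _ fun T hT =>
    Nat.sub_le_sub_right (a8 T (Finset.mem_of_mem_erase hT)) 1).trans (Nat.mul_le_mul_right _ b1)) _)
  have b3 := fun T => CF.card_mul_relIndex (a6 T)
  obtain ⟨s, hs⟩ := Nat.exists_eq_add_one.2 (CF.relIndex_pos ⁅H, Z⁆ W)
  have b4 : Nat.card (⁅H, Z⁆ : Subgroup G) = p := by
    obtain ⟨_ | _ | a, ha⟩ := (h4.to_le (a6 H)).exists_card_eq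
    · exact (a2 H hH (Subgroup.card_eq_one.1 ha)).elim
    · simpa using ha
    rw [← b3 H, ha, hs, Nat.add_sub_cancel, pow_succ, pow_succ] at b2
    have := Nat.mul_le_mul (Nat.mul_le_mul (Nat.pow_pos hp.pos (n := a)) hp2) (le_refl p)
    nlinarith
  have b5 : ∀ T ∈ M, ∀ T' ∈ M, T ≠ T' → ⁅T, Z⁆ ⊔ ⁅T', Z⁆ = W := fun T hT T' hT' e =>
    haveI := a0 T hT; haveI := a0 T' hT'
    le_antisymm (sup_le (a6 _) (a6 _)) (a3 T hT T' hT' e ▸ H9.commutator_sup_le le_sup_left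
      le_sup_right : ⁅(⊤ : Subgroup G), Z⁆ ≤ _)
  set M' := (M.erase H).filter fun T => ⁅T, Z⁆.relIndex W = p
  have b6 : ∑ T ∈ M.erase H, (⁅T, Z⁆.relIndex W - 1) = M'.card * (p - 1) := by
    rw [← smul_eq_mul, ← Finset.sum_const, Finset.sum_filter]
    refine Finset.sum_congr rfl fun T hT => ?_
    obtain ⟨h6, h7⟩ := Finset.mem_erase.1 hT
    haveI := a0 T h7
    have h8 := relIndex_sup_dvd' (hn ⁅H, Z⁆ ⁅T, Z⁆)
    rw [b5 H hH T h7 h6.symm, b4] at h8
    rcases (Nat.dvd_prime hp).1 h8 with h9 | h9 <;> simp [h9, hp.ne_one.symm]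
  have b7 : M'.card ≤ p := (Finset.card_filter_le _ _).trans b1
  rw [b6, ← b3 H, b4, hs] at a9
  rw [← b3 H, b4, hs, Nat.add_sub_cancel] at b2
  obtain ⟨q, rfl⟩ := Nat.exists_eq_add_one.2 hp.pos
  have b8 : s + 1 ≤ M'.card := Nat.le_of_mul_le_mul_left (c := q) (by simp at a9; nlinarith) (by omega)
  have b9 : s = q := by
    have : q ≤ s := by nlinarith
    omega
  have b10 : Nat.card W = (q + 1) * (q + 1) := by rw [← b3 H, b4, hs, b9]
  obtain ⟨T, hT, T', hT', c1⟩ := Finset.one_lt_card.1 (by omega : 1 < M'.card)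
  have c2 : ∀ T ∈ M', T ∈ M ∧ T ≠ H ∧ Nat.card (⁅T, Z⁆ : Subgroup G) = q + 1 := fun T hT => by
    obtain ⟨h6, h7⟩ := Finset.mem_filter.1 hT
    have := b3 T
    rw [h7, b10] at this
    exact ⟨(Finset.mem_erase.1 h6).2, (Finset.mem_erase.1 h6).1, by simpa using this⟩
  haveI := a0 T' (c2 T' hT').1
  have c3 := H16.card_sup_mul_inf (.inl (hn ⁅T, Z⁆ ⁅T', Z⁆))
  rw [b5 T (c2 T hT).1 T' (c2 T' hT').1 c1, b10, (c2 T hT).2.2, (c2 T' hT').2.2,
    mul_eq_left₀ (by positivity), Subgroup.card_eq_one] at c3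
  obtain ⟨x, c4, c5⟩ := SetLike.exists_of_lt (mem_fs.1 hH).1
  have c6 : Z ⊔ Subgroup.zpowers x = H := (H1.eq_or_eq_of_relIndex_prime ((a1 H hH).1 ▸ hp)
    le_sup_left (sup_le (mem_fs.1 hH).1.le (Subgroup.zpowers_le.2 c4))).resolve_left fun e =>
      c5 (e ▸ Subgroup.mem_sup_right (Subgroup.mem_zpowers x))
  have c7 : H ≤ 𝒞(𝒞₁(x) ⊓ Z) := c6 ▸ sup_le (H16.comm_cent hZ le_rfl inf_le_right)
    (Subgroup.zpowers_le.2 (H16.le_cent1.1 inf_le_left))
  have c8 : ∀ T ∈ M', ⁅(⊤ : Subgroup G), 𝒞₁(x) ⊓ Z⁆ ≤ ⁅T, Z⁆ := fun T hT =>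
    haveI := a0 T (c2 T hT).1
    a3 T (c2 T hT).1 H hH (c2 T hT).2.1 ▸ H9.commutator_sup_le
      (Subgroup.commutator_mono le_rfl inf_le_right) ((le_cent_iff_comm.1 c7).le.trans bot_le)
  have c9 : Subgroup.center G = 𝒞₁(x) ⊓ Z := le_antisymm (le_inf
    (Subgroup.center_le_centralizer _) h2) (cent_top (G := G) ▸ H16.cent_symm (le_cent_iff_comm.2
      (le_bot_iff.1 (c3 ▸ le_inf (c8 T hT) (c8 T' hT')))))
  have c10 := relIndex_cent1_dvd (H := ⁅H, Z⁆) hZ (hn ⊤ Z (Subgroup.mem_top x)) fun z hz => by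
    rw [Subgroup.commutator_comm]; exact Subgroup.commutator_mem_commutator hz c4
  rw [b4] at c10
  rw [← Subgroup.relIndex_mul_index h2, h3, c9, Subgroup.inf_relIndex_right,
    ((Nat.dvd_prime hp).1 c10).resolve_left fun e => a2 H hH ?_, ← pow_succ']
  rwa [inf_eq_right.2 (Subgroup.relIndex_eq_one.1 e), le_cent_iff_comm] at c7

theorem cd_prime_iff (h0 : ¬ IsMulCommutative (⊤ : Subgroup G)) (hp : p.Prime) :
    DegP (fun d => d = 1 ∨ d = p) G ↔ (∃ A : Subgroup G, A.Normal ∧ IsMulCommutative A ∧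
      A.index = p) ∨ (Subgroup.center G).index = p ^ 3 := by
  refine ⟨fun h => or_iff_not_imp_left.2 fun h1 => ?_, ?_⟩
  · obtain ⟨q, e, hq, he, ⟨P, A, _, _, h2, h3, h4, h5⟩, Z, h6, h7, h8, h9⟩ :=
      (two_struct hp.ne_one h h0).resolve_left h1
    obtain rfl : p = q := ((Nat.Prime.pow_eq_iff hp).1 he.symm).1.symm
    refine center_index hp h (comm_of_deg fun ψ hψ => ?_) h6 h7 h8 (h2.to_le ?_)
      fun A a b c => h1 ⟨A, a, b, c⟩
    · obtain ⟨χ, hχ⟩ := over_nonempty le_top hψ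
      have hχ1 := (mem_over.1 hχ).1
      obtain ⟨e, -, h10⟩ := deg_over le_top (H16.norm_of_der_le h6 le_top) hψ hχ
      rcases h.top hχ1 with h11 | h11
      · exact Nat.eq_one_of_mul_eq_one_left (h10 ▸ h11)
      refine ((Nat.dvd_prime hp).1 (h11 ▸ h10 ▸ dvd_mul_left _ _)).elim id fun h12 => ?_
      rw [h12, ← h11]
      exact h9 χ hχ1 (Res_eq_of_deg le_top hψ hχ (h11.trans h12.symm) ▸ hψ)
    · refine (Subgroup.commutator_mono le_rfl le_top).trans ?_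
      rw [← h5, H16.der_sup_cent (H16.cent_of_inf_bot (le_top.trans (top_le_norm _))
        (le_top.trans (top_le_norm _)) h4), H16.der_eq_bot.2 h3, sup_bot_eq]
      exact H16.der_le P
  rintro (⟨A, _, h1, h2⟩ | h1) χ hχ <;> have h3 := (deg_cast (mem_Irr_top.2 hχ)).symm
  · exact (Nat.dvd_prime hp).1 (h2 ▸ hχ.degree_dvd_index_of_comm h3 A h1)
  obtain ⟨_ | _ | i, -, h4⟩ := (Nat.dvd_prime_pow hp).1
    (h1 ▸ hχ.degree_dvd_index_of_le h3 hχ.center_le_charCenter)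
  · exact .inl h4
  · exact .inr (h4.trans (pow_one p))
  have := hχ.sq_le_index_center h3
  rw [h1, h4, ← pow_mul, Nat.pow_le_pow_iff_right hp.one_lt] at this
  omega

end H21
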