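/-
Prime character degrees; abelian subgroups of bounded index (Isaacs (12.23)).
-/
import Cfsg.Agent.H21.CD6

set_option autoImplicit false
set_option linter.unusedSectionVars false
open H17 Cfsg H15 CF
open scoped ComplexConjugate commutatorElement

namespace H21

universe u
variable {G : Type u} [Group G] [Finite G] {K N H T A P Z C : Subgroup G} {θ χ φ ψ η l : G → ℂ}
  {p b : ℕ} {Q : ℕ → Prop}

theorem sol_of_degP (hQ : ∀ a b, a ∣ b → Q b → Q a)
    (hs : ∀ (G : Type u) [Group G] [Finite G] [IsSimpleGroup G], ¬ IsMulCommutative G →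
      DegP Q G → Group.IsSolvable G) (n : ℕ) :
    ∀ (G : Type u) [Group G] [Finite G], Nat.card G = n → DegP Q G → Group.IsSolvable G := by
  induction n using Nat.strong_induction_on with
  | _ n ih =>
  intro G _ _ hn hR
  subst hn
  by_cases hc : IsMulCommutative G
  · exact Group.isSolvable_of_comm fun a b => hc.1.1 a b
  by_cases h : ∀ N : Subgroup G, N.Normal → N = ⊥ ∨ N = ⊤
  · haveI : Nontrivial G := not_subsingleton_iff_nontrivial.1 fun h => hc ⟨⟨fun _ _ =>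
      Subsingleton.elim _ _⟩⟩
    haveI : IsSimpleGroup G := ⟨h⟩
    exact hs G hc hR
  push Not at h
  obtain ⟨N, hN, h5, h6⟩ := h
  haveI := ih _ (H1.card_lt_card_of_ne_top h6) N rfl (hR.of_dvd hQ N)
  haveI := ih _ (H1.card_quotient_lt h5) _ rfl (hR.quot N)
  exact Group.isSolvable_of_ker_le_range N.subtype (QuotientGroup.mk' N) (by simp)

theorem prime_le_of_simple [IsSimpleGroup G] (hG : ¬ IsMulCommutative G) (h : DegP (· ≤ b) G)
    (hp : p.Prime) (hd : p ∣ Nat.card G) : p ≤ b := by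
  haveI := Fact.mk hp
  by_contra! h1
  obtain ⟨P, h2, h3, h4⟩ := pc_of_small (h.mono fun d h => lt_of_le_of_lt h h1)
  rcases h2.eq_bot_or_eq_top with rfl | h5
  · exact h4 (by rwa [Subgroup.index_bot])
  · exact H2.sm_pgroup_ne_top hG h3 h5

theorem sol_of_le_four (h : DegP (· ≤ 4) G) : Group.IsSolvable G :=
  sol_of_degP (Q := fun d => 0 < d ∧ d ≤ 4)
    (fun a b h1 h2 => ⟨Nat.pos_of_dvd_of_pos h1 h2.1, (Nat.le_of_dvd h2.1 h1).trans h2.2⟩)
    (fun G _ _ _ hG h => isSolvable_of_two_primes Nat.prime_two Nat.prime_three fun r hr h1 => by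
      have := prime_le_of_simple hG (h.mono fun _ h => h.2) hr h1
      have := hr.two_le
      interval_cases r <;> simp_all (config := {decide := true})) _ G rfl
    fun χ hχ => ⟨charDegree_pos hχ, h χ hχ⟩

theorem sol_of_prime_deg (h : DegP (fun d => d ≠ 1 → d.Prime) G) : Group.IsSolvable G := by
  refine sol_of_degP (fun a b h1 h2 h3 => ?_) (fun G _ _ _ hG h => ?_) _ G rfl h
  · by_cases hb : b = 1
    · exact (h3 (Nat.dvd_one.1 (hb ▸ h1))).elim
    · exact ((Nat.dvd_prime (h2 hb)).1 h1).resolve_left h3 ▸ h2 hb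
  classical
  obtain ⟨χ, hχ, h1⟩ := (Irr (⊤ : Subgroup G)).exists_max_image charDegree ⟨_, one_mem_Irr ⊤⟩
  by_cases h2 : charDegree χ ≤ 4
  · exact sol_of_le_four fun ψ hψ => (h1 ψ (mem_Irr_top.2 hψ)).trans h2
  by_cases h3 : DegP (fun d => d = 1 ∨ d = charDegree χ) G
  · exact ⟨2, dl2 h3⟩
  simp only [DegP, not_forall, not_or] at h3
  obtain ⟨ψ, hψ, h3, h4⟩ := h3
  have hp := h.top hχ (by omega)
  set p := charDegree χ with hpχ
  haveI := Fact.mk hp
  obtain ⟨P⟩ : Nonempty (Sylow p G) := inferInstance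
  have hf : ∀ {ψ : G → ℂ}, IsIrrCharacter G ψ → charDegree ψ ≠ 1 → charKer ψ = ⊥ := fun h h1 =>
    h.charKer_eq_bot_of_simple fun e => h1 (e ▸ charDegree_const_one)
  have h5 : IsMulCommutative P := ⟨⟨(hψ.isCharacter.comp (P : Subgroup G).subtype).comm_of_small
    (n := charDegree ψ) (eq_bot_iff.2 fun x hx => Subtype.ext ((hf hψ h3).le
      (hψ.isCharacter.mem_charKer.2 (by simpa using hx 1)))) (deg_cast (mem_Irr_top.2 hψ)).symm
    fun r hr h5 => by
      obtain ⟨k, hk⟩ := P.isPGroup'.exists_card_eq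
      rw [(Nat.prime_dvd_prime_iff_eq hr hp).1 (hr.dvd_of_dvd_pow (hk ▸ h5))]
      exact (h1 ψ (mem_Irr_top.2 hψ)).lt_of_ne h4⟩⟩
  have hχ' := mem_Irr_top.1 hχ
  have h6 : Nat.card (P : Subgroup G) ∣ p := by
    obtain ⟨k, hk⟩ := ((irr_char hχ).Res (H := P) le_top).dot_nat isChar_one
    rw [dot_Res_left, dot_one_right, Finset.sum_eq_single_of_mem 1 (mem_fs.2 (one_mem _))
      (fun x hx h6 => ?_), inv_mul_eq_iff_eq_mul₀ (card_ne _), ← deg_cast hχ] at hk
    · exact ⟨k, by exact_mod_cast hk⟩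
    refine (hχ'.eq_zero_or_norm_eq (deg_cast hχ).symm x (hp.coprime_iff_not_dvd.2 fun e =>
      P.not_dvd_index (e.trans (Subgroup.index_dvd_of_le (H16.le_cent1.2
        (H16.comm_iff.1 h5 (mem_fs.1 hx))))))).resolve_right fun e => h6 ?_
    have := (hχ'.isCharacter.mem_charCenter' (deg_cast hχ).symm).2 e
    rwa [hχ'.charCenter_eq_center (hf hχ' hp.ne_one),
      (Subgroup.Normal.eq_bot_or_eq_top inferInstance).resolve_right fun e =>
        hG (Subgroup.center_eq_top_iff.1 e)] at this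
  have h7 : Nat.card (P : Subgroup G) = p := ((Nat.dvd_prime hp).1 h6).resolve_left fun e =>
    P.not_dvd_index (by
      rw [Subgroup.card_eq_one.1 e, Subgroup.index_bot, ← Subgroup.card_top]
      exact deg_dvd_card hχ)
  obtain ⟨O, _, hO⟩ := H2.exists_ovp p
  obtain ⟨X, Y, s, ε, hD⟩ := H2.d1_exists hO (by omega) P h7
  have h8 : ∀ χ : IrrCharacter G, χ ≠ H19.triv G → H2.dg χ ≠ 1 := fun χ h h1 =>
    h (Subtype.ext (χ.2.eq_one_of_charKer_eq_top (top_le_iff.1 (H2.sm_commutator_eq_top hG ▸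
      χ.2.one_eq_one_iff.1 ((charDegree_eq_one_iff χ.2.isCharacter).1 h1)))))
  obtain ⟨θ, hθ⟩ := hD.Y_nonempty
  have h9 := hD.eqn_deg hθ
  rw [Finset.eq_empty_of_forall_notMem (s := X) fun ξ hξ => by
    obtain ⟨m, hm⟩ := hD.degX hξ
    have h9 : H2.dg ξ ≤ p := h1 ξ (mem_Irr_top.2 ξ.2)
    have h10 := h8 ξ (hD.X_ne hξ)
    have := H2.dg_pos ξ
    have h11 : H2.dg ξ + 1 = p := by
      rcases hD.sgn ξ hξ with h4 | h4 <;> rw [h4] at hm <;> rcases m with _ | _ | m <;>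
        push_cast at hm <;> first | omega | (exfalso; nlinarith)
    have h12 := (h _ ξ.2 h10).eq_two_or_odd
    have := hp.eq_two_or_odd
    simp only [H2.dg] at h11
    omega, Finset.sum_empty] at h9
  have := h8 θ (hD.Y_ne hθ)
  rcases hD.eps with e | e <;> rw [e] at h9 <;> omega

theorem relIndex_le_of_supp (hKC : K ≤ C) (hθ : θ ∈ Irr C) (h : θ ∈ supp (K : Set G)) :
    K.relIndex C ≤ charDegree θ ^ 2 := by
  have h1 := dot_of_supp_le hKC h θ
  rw [dot_irr_self hθ, mul_one, dot_self, nrm_eq] at h1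
  have h2 : ∑ x ∈ fs (K : Set G), ‖θ x‖ ^ 2 ≤ Nat.card K * (charDegree θ : ℝ) ^ 2 := by
    rw [← sum_sub_const]
    refine Finset.sum_le_sum fun x _ => pow_le_pow_left₀ (norm_nonneg _) ?_ 2
    simpa [← deg_cast hθ] using (irr_char hθ).norm_le x
  rw [← inv_mul_le_iff₀ (card_pos' K), ← Complex.ofReal_inj.1 ((Complex.ofReal_natCast _).trans h1)]
    at h2
  exact_mod_cast h2

theorem Res_eq_of_max (hb : DegP (· ≤ b) G) (hθ : θ ∈ Irr H) (h : b ≤ charDegree θ)
    (hχ : χ ∈ IrrO ⊤ H θ) : Res (H : Set G) χ = θ :=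
  Res_eq_of_deg le_top hθ hχ (le_antisymm ((hb.top (mem_over.1 hχ).1).trans h)
    (deg_le_over le_top hθ hχ))

theorem FQ.supp_of_max (h : FQ K C) (hb : DegP (· ≤ b) G) (hθ : θ ∈ Irr C)
    (h1 : b ≤ charDegree θ) : θ ∈ supp (K : Set G) := fun x hx => by_contra fun h2 => by
  have hxC : x ∈ C := by_contra fun e => h2 (cf_zero (irr_cf hθ) e)
  obtain ⟨g, -, hg⟩ := SetLike.exists_of_lt (lt_top_iff_ne_top.2 h.ne)
  have h3 : ∀ θ ∈ Irr C, b ≤ charDegree θ → θ (g * x * g⁻¹) = θ x := fun θ hθ h1 => by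
    obtain ⟨χ, hχ⟩ := over_nonempty le_top hθ
    exact mem_stab_iff.1 (Res_eq_of_max hb hθ h1 hχ ▸ le_stab_Res h.norC
      (irr_cf (mem_over.1 hχ).1) (Subgroup.mem_top g)) x
  refine hg (h.fpf x hxC hx g (mem_of_forall_IrrQ h.lt.le h.norK fun l hl => ?_))
  have h4 := isLin_of_IrrQ h.ab hl
  have h5 := h3 _ (lin_mul_mem_Irr h4 hθ) (by rwa [deg_mul h4.mem_Irr hθ, deg_lin h4, one_mul])
  rw [Pi.mul_apply, Pi.mul_apply, h3 θ hθ h1, mul_left_inj' h2] at h5
  rw [h4.map_mul (H16.conj_mem (h.norC trivial) hxC) (inv_mem hxC), h5, ← h4.map_mul hxC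
    (inv_mem hxC), mul_inv_cancel]

theorem fac_half (hb : 5 ≤ b) : b ^ 4 * (b / 2).factorial ^ 2 ≤ b.factorial ^ 2 := by
  obtain ⟨c, rfl⟩ := Nat.exists_eq_add_of_le' (by omega : 3 ≤ b)
  have h1 := Nat.factorial_le (by omega : (c + 3) / 2 ≤ c)
  rw [show 4 = 2 * 2 from rfl, pow_mul, ← mul_pow]
  refine Nat.pow_le_pow_left ?_ 2
  rw [Nat.factorial_succ, Nat.factorial_succ, Nat.factorial_succ, sq, mul_assoc, ← mul_assoc (c + 2)]
  exact Nat.mul_le_mul_left _ (Nat.mul_le_mul (by nlinarith) h1)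

theorem exists_step (hb : DegP (· ≤ b) G) (h0 : ¬ IsMulCommutative (⊤ : Subgroup G)) :
    ∃ (H : Subgroup G) (c : ℕ), c < b ∧ DegP (· ≤ c) H ∧
      H.index * c.factorial ^ 2 ≤ b.factorial ^ 2 := by
  obtain ⟨K, hK⟩ := exists_JN h0
  haveI := hK.nor
  obtain ⟨χ, hχ, h1⟩ := hK.exists_nonlin
  have hχ1 := (mem_IrrQ.1 hχ).1
  have h2 := deg_pos hχ1
  have h3 := hb.top hχ1
  by_contra! h4
  have h5 : ∀ H : Subgroup G, H.index ≤ b ^ 2 → ∃ θ ∈ Irr H, b ≤ charDegree θ := fun H h5 => by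
    by_contra! h6
    refine (h4 H (b - 1) (by omega) (degP_sub.2 fun θ hθ => Nat.le_sub_one_of_lt (h6 θ hθ))).not_ge ?_
    rw [← Nat.mul_factorial_pred (n := b) (by omega), mul_pow]
    exact Nat.mul_le_mul_right _ h5
  have h6 := h4 K (b / 2) (by omega) (degP_sub.2 fun θ hθ => by
    have := hK.two_mul_deg_le hb hθ; omega)
  have h7 : ∀ C : Subgroup G, K ≤ C → ∀ θ ∈ Irr C, θ ∈ supp (K : Set G) →
      K.index ≤ b ^ 2 * C.index := fun C h7 θ hθ h8 => by
    rw [← Subgroup.relIndex_mul_index h7]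
    exact Nat.mul_le_mul_right _ ((relIndex_le_of_supp h7 hθ h8).trans (Nat.pow_le_pow_left
      (degP_sub.1 (hb.of_le (fun _ _ => le_trans) C) θ hθ) 2))
  by_cases hA : ⁅⁅(⊤ : Subgroup G), (⊤ : Subgroup G)⁆, (⊤ : Subgroup G)⁆ ≤ K
  · obtain ⟨Z, -, -, -, -, h7, h8⟩ := hK.caseA hA hχ h1
    obtain ⟨θ, hθ, h9⟩ := h5 Z (h7 ▸ Nat.pow_le_pow_left h3 2)
    obtain ⟨ψ, hψ⟩ := over_nonempty le_top hθ
    have h10 := hb.top (h8 ψ (mem_over.1 hψ).1 (Res_eq_of_max hb hθ h9 hψ ▸ hθ))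
    have := deg_le_over le_top hθ hψ
    rw [deg_mul hχ1 (mem_over.1 hψ).1] at h10
    have := Nat.mul_le_mul (by omega : 2 ≤ charDegree χ) (h9.trans this)
    omega
  by_cases hB : ⁅⁅(⊤ : Subgroup G), (⊤ : Subgroup G)⁆, ⁅(⊤ : Subgroup G), (⊤ : Subgroup G)⁆⁆ ≤ K
  · obtain ⟨C, hC⟩ := hK.caseB hA hB
    obtain ⟨ψ, hψ, h8⟩ := hC.exists_deg
    have h9 := h8 ▸ hb.top (mem_IrrQ.1 hψ).1
    obtain ⟨θ, hθ, h10⟩ := h5 C (h9.trans (Nat.le_self_pow two_ne_zero b))
    have h11 := h6.trans_le (Nat.mul_le_mul_right _ ((h7 C hC.lt.le θ hθ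
      (hC.supp_of_max hb hθ h10)).trans (Nat.mul_le_mul_left _ h9)))
    by_cases h12 : 5 ≤ b
    · refine h11.not_ge (le_trans (Nat.mul_le_mul_right _ ?_) (fac_half h12))
      rw [← pow_succ]; exact Nat.pow_le_pow_right (by omega) (by omega)
    have h13 : C.index ≠ 1 := fun e => hC.ne (Subgroup.index_eq_one.1 e)
    have h14 := deg_pos (mem_IrrQ.1 hψ).1
    have h15 := degP_sub.1 (hb.of_le (fun _ _ => le_trans) C) θ hθ
    obtain rfl | rfl | rfl : b = 2 ∨ b = 3 ∨ b = 4 := by omega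
    · have := hK.two_mul_deg_le hb (Res_irr_of_coprime hC.lt.le hC.norK hθ
        ((by omega : C.index = charDegree θ) ▸ hC.coprime))
      rw [deg_congr (Res_one K θ)] at this
      omega
    all_goals exact absurd h11 (by decide)
  have h8 : 5 ≤ b := by_contra fun h8 => by
    haveI := sol_of_le_four (hb.mono fun d h => by omega)
    refine H18.sol_not_le_der_sup (K := ⁅(⊤ : Subgroup G), (⊤ : Subgroup G)⁆ ⊔ K) inferInstance
      (le_top.trans (top_le_norm K)) (right_lt_sup.2 hK.nab) (sup_le ((hK.max _ inferInstance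
        le_sup_right fun e => hB (le_sup_left.trans e)).trans
        (sup_le_sup_right (H16.der_mono le_sup_left) K)) le_sup_right)
  haveI : Nontrivial (G ⧸ K) := QuotientGroup.nontrivial_iff.2 fun e => hK.nab (le_top.trans e.ge)
  obtain ⟨y, hy, h9⟩ := exists_small_class (hb.quot K)
  obtain ⟨y, rfl⟩ := QuotientGroup.mk_surjective y
  rw [← Subgroup.index_comap_of_surjective _ (QuotientGroup.mk'_surjective K)] at h9
  set C := 𝒞₁((y : G ⧸ K)).comap (QuotientGroup.mk' K)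
  obtain ⟨θ, hθ, h10⟩ := h5 C h9
  have h11 : core ⊤ C ≤ K := by_contra fun h11 => by
    have h12 := (hK.max _ (normal_of_top (le_norm_core le_top)) (le_core
      (QuotientGroup.le_comap_mk' K _) (top_le_norm K)) h11).trans (core_le ⊤ C)
    refine hB (le_cm.1 (hK.max _ (centMod_normal _) (H9.le_centMod K _) fun e =>
      hy ((QuotientGroup.eq_one_iff y).2 (e fun s hs => ?_))))
    rw [← QuotientGroup.eq_one_iff, ← QuotientGroup.mk'_apply, map_commutatorElement,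
      commutatorElement_eq_one_iff_mul_comm]
    exact (H16.mem_cent1.1 (h12 hs)).symm
  have h12 := (h7 C (QuotientGroup.le_comap_mk' K _) θ hθ fun x hx => by_contra fun e => hx (h11
    (mem_core_of_ext le_top hθ (fun ψ hψ => Res_eq_of_max hb hθ h10 hψ) e))).trans
      (Nat.mul_le_mul_left _ h9)
  rw [← pow_add] at h12
  exact h6.not_ge ((Nat.mul_le_mul_right _ h12).trans (fac_half h8))

theorem exists_abelian_index (b : ℕ) : ∀ (G : Type u) [Group G] [Finite G], DegP (· ≤ b) G →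
    ∃ A : Subgroup G, IsMulCommutative A ∧ A.index ≤ b.factorial ^ 2 := by
  induction b using Nat.strong_induction_on with
  | _ b ih =>
  intro G _ _ hb
  by_cases h0 : IsMulCommutative (⊤ : Subgroup G)
  · exact ⟨⊤, h0, (Subgroup.index_top (G := G)).trans_le (Nat.pow_pos b.factorial_pos)⟩
  obtain ⟨H, c, h1, h2, h3⟩ := exists_step hb h0
  obtain ⟨A, h4, h5⟩ := ih c h1 H h2
  refine ⟨A.map H.subtype, inferInstance, le_trans ?_ h3⟩
  rw [Subgroup.index_map_subtype, mul_comm]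
  exact Nat.mul_le_mul_left _ h5

end H21
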