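/-
Ito's theorem for `p`-solvable groups, Manz's theorem on the degree graph, miscellany.
-/
import Cfsg.Agent.H21.CD7
import Cfsg.Agent.H1.PSolv
import Cfsg.Prelude.Def_DegreeGraph

set_option autoImplicit false
set_option linter.unusedSectionVars false
open H17 Cfsg H15 CF
open scoped ComplexConjugate commutatorElement

namespace H21

universe u
variable {G : Type u} [Group G] [Finite G] {K N H T A P Z C : Subgroup G} {θ χ φ ψ η l : G → ℂ}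
  {p b : ℕ} {Q : ℕ → Prop}

theorem pc_of_psolvable [hp : Fact p.Prime] (hs : IsPSolvable p G) (h : DegP (¬ p ∣ ·) G) :
    PC p G :=
  pc_ind (fun G _ => IsPSolvable p G ∧ DegP (¬ p ∣ ·) G) (fun _ _ _ h => h.2)
    (fun _ _ _ h M _ => ⟨H1.IsPSolvable.subgroup h.1 M, h.2.of_dvd (fun _ _ a b c => b (c.trans a)) M⟩)
    (fun _ _ _ h M _ => ⟨H1.IsPSolvable.quotient h.1 M, h.2.quot M⟩)
    (fun G _ _ _ h h1 _ => by
      rcases H1.IsPSolvable.core_ne_bot h.1 with h2 | h2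
      · exact (H2.sm_pgroup_ne_top h1 (H1.isPGroup_pCore p)
          ((Subgroup.Normal.eq_bot_or_eq_top inferInstance).resolve_left h2)).elim
      · refine ⟨⊥, inferInstance, IsPGroup.of_bot, ?_⟩
        rw [Subgroup.index_bot, ← Subgroup.card_top,
          ← (Subgroup.Normal.eq_bot_or_eq_top inferInstance).resolve_left h2]
        exact H1.not_dvd_card_pPrimeCore hp.out) _ G rfl ⟨hs, h⟩

theorem JN.der_le_of_sol (h : JN K) (hs : Group.IsSolvable G) :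
    ⁅⁅(⊤ : Subgroup G), (⊤ : Subgroup G)⁆, ⁅(⊤ : Subgroup G), (⊤ : Subgroup G)⁆⁆ ≤ K :=
  haveI := h.nor
  by_contra fun hB => H18.sol_not_le_der_sup (K := ⁅(⊤ : Subgroup G), (⊤ : Subgroup G)⁆ ⊔ K)
    inferInstance (le_top.trans (top_le_norm K)) (right_lt_sup.2 h.nab) (sup_le ((h.max _
      inferInstance le_sup_right fun e => hB (le_sup_left.trans e)).trans
        (sup_le_sup_right (H16.der_mono le_sup_left) K)) le_sup_right)

theorem JN.prime_unique (h : JN K) (hC : FQ K C) {q r : ℕ} (hq : q.Prime) (hr : r.Prime)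
    (h1 : q ∣ K.relIndex C) (h2 : r ∣ K.relIndex C) : q = r := by
  haveI := h.nor
  haveI := normal_of_top hC.norC
  have h3 : ∀ q : ℕ, q.Prime → q ∣ K.relIndex C →
      ∀ x ∈ ⁅(⊤ : Subgroup G), (⊤ : Subgroup G)⁆, x ^ q ∈ K := fun q hq h1 x hx => by
    let M : Subgroup G :=
      { carrier := {x | x ∈ C ∧ (x : G ⧸ K) ^ q = 1}
        one_mem' := ⟨one_mem _, one_pow q⟩
        mul_mem' := fun {a b} ha hb => ⟨mul_mem ha.1 hb.1, by
          rw [QuotientGroup.mk_mul, Commute.mul_pow (commutatorElement_eq_one_iff_commute.1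
            ((QuotientGroup.eq_one_iff ⁅a, b⁆).2
              (hC.ab (Subgroup.commutator_mem_commutator ha.1 hb.1)))), ha.2, hb.2, one_mul]⟩
        inv_mem' := fun ha => ⟨inv_mem ha.1, by rw [QuotientGroup.mk_inv, inv_pow, ha.2, inv_one]⟩ }
    haveI := Fact.mk hq
    rw [← QuotientGroup.ker_mk' K, Subgroup.relIndex_ker] at h1
    obtain ⟨⟨_, y, hy, rfl⟩, h3⟩ := exists_prime_orderOf_dvd_card' q h1
    rw [← Subgroup.orderOf_coe] at h3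
    exact (QuotientGroup.eq_one_iff (x ^ q)).1 (h.max M ⟨fun a ha g =>
      ⟨Subgroup.Normal.conj_mem inferInstance a ha.1 g, by
        simp only [QuotientGroup.mk_mul, QuotientGroup.mk_inv, conj_pow, ha.2, mul_one,
          mul_inv_cancel]⟩⟩
      (fun a ha => ⟨hC.lt.le ha, by rw [(QuotientGroup.eq_one_iff a).2 ha, one_pow]⟩)
      (fun e => hq.ne_one (h3 ▸ orderOf_eq_one_iff.2 ((QuotientGroup.eq_one_iff y).2
        (e ⟨hy, h3 ▸ pow_orderOf_eq_one _⟩)))) hx).2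
  exact by_contra fun e => h.nab fun x hx => H9.mem_of_pow_mem_of_coprime (h3 q hq h1 x hx)
    (h3 r hr h2 x hx) ((Nat.coprime_primes hq hr).2 e)

theorem two_anchor (hs : Group.IsSolvable G) : ∃ s r : ℕ, ∀ ψ ∈ Irr (⊤ : Subgroup G), ∀ v : ℕ,
    v.Prime → v ∣ charDegree ψ → ∃ χ ∈ Irr (⊤ : Subgroup G), v ∣ charDegree χ ∧
      (s.Prime ∧ s ∣ charDegree χ ∨ r.Prime ∧ r ∣ charDegree χ) := by
  by_cases h0 : IsMulCommutative (⊤ : Subgroup G)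
  · exact ⟨0, 0, fun ψ hψ v hv h => (hv.not_dvd_one (deg_lin (isLin_of_comm h0 hψ) ▸ h)).elim⟩
  obtain ⟨K, hK⟩ := exists_JN h0
  haveI := hK.nor
  by_cases hA : ⁅⁅(⊤ : Subgroup G), (⊤ : Subgroup G)⁆, (⊤ : Subgroup G)⁆ ≤ K
  · obtain ⟨χ, hχ, h1⟩ := hK.exists_nonlin
    have hp := Nat.minFac_prime h1
    obtain ⟨k, hk⟩ := hK.pow_of_cent hA hp ((Nat.minFac_dvd _).trans (deg_dvd_index hχ))
    obtain ⟨Z, h2, h3, -, -, -, h4⟩ := hK.caseA hA hχ h1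
    refine ⟨(charDegree χ).minFac, 0, fun ψ hψ v hv h5 => ?_⟩
    by_cases h6 : (charDegree χ).minFac ∣ charDegree ψ
    · exact ⟨ψ, hψ, h5, .inl ⟨hp, h6⟩⟩
    refine ⟨_, h4 ψ hψ (Res_irr_of_coprime le_top (H16.norm_of_der_le h3 le_top) hψ
      ((hk ▸ ((hp.coprime_iff_not_dvd.2 h6).pow_left k).symm).of_dvd_right
        (Subgroup.relIndex_top_right Z ▸ Subgroup.index_dvd_of_le h2))), ?_⟩
    rw [deg_mul (mem_IrrQ.1 hχ).1 hψ]
    exact ⟨h5.mul_left _, .inl ⟨hp, (Nat.minFac_dvd _).mul_right _⟩⟩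
  obtain ⟨C, hC⟩ := hK.caseB hA (hK.der_le_of_sol hs)
  obtain ⟨χ, hχ, h1⟩ := hC.exists_deg
  have hp := Nat.minFac_prime fun e => hC.ne (Subgroup.index_eq_one.1 e)
  have hr := Nat.minFac_prime hC.one_lt.ne'
  refine ⟨C.index.minFac, (K.relIndex C).minFac, fun ψ hψ v hv h2 => ?_⟩
  obtain ⟨θ, hθ, h3⟩ := exists_under (H := C) le_top hψ
  obtain ⟨e, he, h4⟩ := deg_over le_top hC.norC hθ (mem_over.2 ⟨hψ, h3⟩)
  rcases (Nat.Prime.dvd_mul hv).1 (h4 ▸ h2) with h5 | h5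
  · exact ⟨χ, (mem_IrrQ.1 hχ).1, h1 ▸ Subgroup.relIndex_top_right C ▸ h5.trans he,
      .inl ⟨hp, h1 ▸ Nat.minFac_dvd _⟩⟩
  by_cases h6 : (charDegree θ).Coprime (K.relIndex C)
  · obtain ⟨ξ, hξ, h7⟩ := hC.exists_deg_mul hθ (Res_irr_of_coprime hC.lt.le hC.norK hθ h6)
    exact ⟨ξ, hξ, h7 ▸ h5.mul_left _, .inl ⟨hp, h7 ▸ (Nat.minFac_dvd _).mul_right _⟩⟩
  obtain ⟨q, hq, h7, h8⟩ := Nat.Prime.not_coprime_iff_dvd.1 h6
  exact ⟨ψ, hψ, h2, .inr ⟨hr, h4 ▸ (hK.prime_unique hC hq hr h8 (Nat.minFac_dvd _) ▸ h7).mul_left _⟩⟩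

theorem mem_cd {d : ℕ} : d ∈ charDegrees G ↔ ∃ χ ∈ Irr (⊤ : Subgroup G), charDegree χ = d :=
  ⟨fun ⟨χ, h⟩ => ⟨χ, mem_Irr_top.2 χ.2, h⟩, fun ⟨χ, h, h'⟩ => ⟨⟨χ, mem_Irr_top.1 h⟩, h'⟩⟩

theorem card_comp_le (hs : Group.IsSolvable G) :
    Nat.card ((degreeGraph G).induce (degreePrimes G)).ConnectedComponent ≤ 2 := by
  classical
  obtain ⟨s, r, h⟩ := two_anchor hs
  set Γ := (degreeGraph G).induce (degreePrimes G)
  have h1 : ∀ (v : degreePrimes G) (s : ℕ), s.Prime → ∀ χ ∈ Irr (⊤ : Subgroup G),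
      v.1 ∣ charDegree χ → s ∣ charDegree χ → ∃ w : degreePrimes G, w.1 = s ∧ Γ.Reachable v w :=
    fun v s hs χ hχ h1 h2 => ⟨⟨s, hs, _, mem_cd.2 ⟨χ, hχ, rfl⟩, h2⟩, rfl, by
      by_cases e : v.1 = s
      · subst e; rfl
      · exact SimpleGraph.Adj.reachable ⟨e, v.2.1, hs, _, mem_cd.2 ⟨χ, hχ, rfl⟩,
          ((Nat.coprime_primes v.2.1 hs).2 e).mul_dvd_of_dvd_of_dvd h1 h2⟩⟩
  have h2 : ∀ v : degreePrimes G, (∃ w : degreePrimes G, w.1 = s ∧ Γ.Reachable v w) ∨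
      ∃ w : degreePrimes G, w.1 = r ∧ Γ.Reachable v w := fun v => by
    obtain ⟨hv, _, hd, h2⟩ := v.2
    obtain ⟨ψ, hψ, rfl⟩ := mem_cd.1 hd
    obtain ⟨χ, hχ, h3, h4⟩ := h ψ hψ v hv h2
    exact h4.imp (fun h => h1 v s h.1 χ hχ h3 h.2) fun h => h1 v r h.1 χ hχ h3 h.2
  refine (Nat.card_le_card_of_injective (β := Prop) (fun c => ∃ w : degreePrimes G, w.1 = s ∧
    Γ.connectedComponentMk w = c) ?_).trans (by simp)
  refine SimpleGraph.ConnectedComponent.ind₂ fun v w e => ?_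
  simp only [eq_iff_iff, SimpleGraph.ConnectedComponent.eq] at e ⊢
  rcases h2 v with ⟨a, h3, h4⟩ | ⟨a, h3, h4⟩
  · obtain ⟨b, h5, h6⟩ := e.1 ⟨a, h3, h4.symm⟩
    exact h4.trans (Subtype.ext (h5.trans h3.symm) ▸ h6)
  rcases h2 w with ⟨b, h5, h6⟩ | ⟨b, h5, h6⟩
  · obtain ⟨c, h7, h8⟩ := e.2 ⟨b, h5, h6.symm⟩
    exact h8.symm.trans (Subtype.ext (h5.trans h7.symm) ▸ h6.symm)
  · exact h4.trans (Subtype.ext (h5.trans h3.symm) ▸ h6.symm)

theorem card_cd_le_three (h : DegP (fun d => d ≠ 1 → d.Prime) G) :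
    Nat.card (charDegrees G) ≤ 3 := by
  obtain ⟨s, r, h1⟩ := two_anchor (sol_of_prime_deg h)
  refine (Set.ncard_le_ncard (t := {1, s, r}) fun d hd => ?_).trans
    ((Set.ncard_insert_le _ _).trans (Nat.succ_le_succ ((Set.ncard_insert_le _ _).trans (by simp))))
  obtain ⟨ψ, hψ, rfl⟩ := mem_cd.1 hd
  refine or_iff_not_imp_left.2 fun h2 => ?_
  obtain ⟨χ, hχ, h3, h4⟩ := h1 ψ hψ _ (h.top hψ h2) dvd_rfl
  have h5 := h.top hχ fun e => h2 (Nat.dvd_one.1 (e ▸ h3))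
  rw [(Nat.prime_dvd_prime_iff_eq (h.top hψ h2) h5).1 h3]
  exact h4.imp (fun h => ((Nat.prime_dvd_prime_iff_eq h.1 h5).1 h.2).symm)
    fun h => ((Nat.prime_dvd_prime_iff_eq h.1 h5).1 h.2).symm

end H21
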