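import Cfsg.Agent.H3.S8h
import Cfsg.Prelude.Def_Local
import Cfsg.Agent.S3331
import Cfsg.Agent.H22.Linear

/-! The centralizer of an involution of one factor in the `Alt(5) × Alt(5)` configuration. -/

set_option autoImplicit false

namespace H21.Cr
open Subgroup Equiv H3S

theorem tr {Y : Type*} [Group Y] [Finite Y] (W : Subgroup Y) (hp : IsPGroup 2 W) (hi : ¬ 2 ∣ W.index)
    (hc : ∀ a ∈ W, ∀ b ∈ W, a * b = b * a) (h2 : ∀ a ∈ W, a * a = 1) :
    ∃ V : Y →* Y, (∀ g, V g * V g = 1) ∧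
      ∀ u ∈ W, (∀ n, (∀ w ∈ W, n * w * n⁻¹ ∈ W) → n * u = u * n) → V u = u := by
  have hcomm : IsMulCommutative W := ⟨⟨fun x y => Subtype.ext (hc _ x.2 _ y.2)⟩⟩
  let P : Sylow 2 Y := hp.toSylow hi
  have hP : IsMulCommutative P := hcomm
  letI : CommGroup W := { (inferInstance : Group W) with mul_comm := hcomm.1.1 }
  let V : Y →* W := MonoidHom.transfer (MonoidHom.id W)
  refine ⟨W.subtype.comp V, fun g => h2 _ (V g).2, fun u hu hn => ?_⟩
  have Vc : (V u : Y) = u ^ W.index := by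
    refine congrArg Subtype.val (MonoidHom.transfer_eq_pow (MonoidHom.id W) u fun k g hg => ?_)
    obtain ⟨n, hn', e⟩ := P.conj_eq_normalizer_conj_of_mem (u ^ k) g (W.pow_mem hu k) hg
    have : Commute n u := hn n fun y hy => (mem_normalizer_iff.1 hn' y).1 hy
    rw [e, mul_assoc, ← (this.pow_right k).eq, inv_mul_cancel_left]
  obtain ⟨m, hm⟩ := Nat.not_even_iff_odd.1 fun h => hi (even_iff_two_dvd.1 h)
  refine Vc.trans ?_
  rw [hm, pow_succ, pow_mul, sq, h2 u hu, one_pow, one_mul]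

theorem F1 : ∀ a : Perm (Fin 5), Perm.sign a = 1 → a * e5.1 = e5.1 * a →
    a = 1 ∨ a = e5.1 ∨ a = f5.1 ∨ a = e5.1 * f5.1 := by decide +kernel
theorem F2 : ∀ a : Perm (Fin 5), Perm.sign a = 1 → a * c5.1 = c5.1 * a → a = 1 ∨ a = c5.1 ∨ a = c5.1⁻¹ := by
  decide +kernel
theorem F3 : ∀ a : Perm (Fin 5), a * a * a = 1 → a = 1 ∨ ∃ k : Perm (Fin 5), Perm.sign k = 1 ∧ k * a * k⁻¹ = c5.1 := by
  decide +kernel
theorem F4 : ∀ a : Perm (Fin 5), Perm.sign a = 1 → a * e5.1 = e5.1 * a → a * a = 1 ∧ ∀ b : Perm (Fin 5),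
    Perm.sign b = 1 → b * e5.1 = e5.1 * b → a * b = b * a := by decide +kernel

theorem eV : e5 ∈ V4 := subset_closure (Or.inl rfl)
theorem fV : f5 ∈ V4 := subset_closure (Or.inr rfl)
theorem memV {a : A5} : a ∈ V4 ↔ a * e5 = e5 * a := by
  refine ⟨fun h => mem_centralizer_singleton_iff.1 ((closure_le (centralizer {e5})).2 ?_ h), fun h => ?_⟩
  · rintro _ (rfl | rfl) <;> exact mem_centralizer_singleton_iff.2 (by decide)
  · rcases F1 a.1 a.2 (congrArg Subtype.val h) with e | e | e | e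
    · rw [show a = 1 from Subtype.ext e]; exact one_mem _
    · rw [show a = e5 from Subtype.ext e]; exact eV
    · rw [show a = f5 from Subtype.ext e]; exact fV
    · rw [show a = e5 * f5 from Subtype.ext e]; exact mul_mem eV fV
theorem sqV {a : A5} (h : a ∈ V4) : a * a = 1 := Subtype.ext (F4 a.1 a.2 (congrArg Subtype.val (memV.1 h))).1
theorem cmV {a b : A5} (h : a ∈ V4) (h' : b ∈ V4) : a * b = b * a :=
  Subtype.ext ((F4 a.1 a.2 (congrArg Subtype.val (memV.1 h))).2 b.1 b.2 (congrArg Subtype.val (memV.1 h')))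
theorem cardV : Nat.card V4 = 4 := by
  rw [Nat.card_congr (Equiv.subtypeEquivRight (q := fun a : A5 => a * e5 = e5 * a) fun a => memV),
    Nat.card_eq_fintype_card]
  decide +kernel
theorem cardA : Nat.card A5 = 60 := by
  have := two_mul_nat_card_alternatingGroup (α := Fin 5)
  rw [Nat.card_perm, Nat.card_fin] at this
  change 2 * Nat.card A5 = 120 at this
  omega
theorem triv {X : Type*} [Group X] (f : A5 →* X) (h : ¬ Function.Injective f) (a : A5) : f a = 1 :=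
  MonoidHom.mem_ker.1 ((f.normal_ker.eq_bot_or_eq_top.resolve_left fun e =>
    h ((MonoidHom.ker_eq_bot_iff f).1 e)) ▸ mem_top a)

theorem sixty {X : Type*} [Group X] [Finite X] (f : A5 →* X) (hf : Function.Injective f) (h8 : ¬ 8 ∣ Nat.card X)
    (hc : ∀ g, g * f c5 = f c5 * g → g ∈ zpowers (f c5)) : Function.Surjective f := by
  have c3 : c5 ^ 3 = 1 := by decide
  have o3 : orderOf (f c5) = 3 := by
    rw [orderOf_injective f hf]
    exact orderOf_eq_prime (hp := ⟨Nat.prime_three⟩) c3 (by decide)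
  rcases Cfsg.Agent.S3331.result (zpowers (f c5)) ((Nat.card_zpowers _).trans o3)
    (le_antisymm (fun x hx => hc x (hx _ (mem_zpowers _)).symm) (le_centralizer _)) with
    ⟨N, hN, -, h3, h⟩ | ⟨N, hN, -, h2, ⟨e⟩⟩ | ⟨⟨e⟩⟩
  · have h6 : Nat.card (X ⧸ N) ≤ 6 := by
      rcases h with h | ⟨⟨e⟩⟩
      · omega
      · rw [Nat.card_congr e.toEquiv, Nat.card_perm, Nat.card_fin]; decide
    have := triv ((QuotientGroup.mk' N).comp f) (fun hi => by
      have := Nat.card_le_card_of_injective _ hi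
      rw [cardA] at this
      omega) c5
    have := N.orderOf_dvd_natCard ((QuotientGroup.eq_one_iff _).1 this)
    rw [o3] at this
    exact absurd (Nat.eq_one_of_dvd_coprimes h3 this dvd_rfl) (by norm_num)
  · have hc := N.card_eq_card_quotient_mul_card_subgroup
    rw [Nat.card_congr e.toEquiv, cardA] at hc
    have : N = ⊥ := eq_bot_iff.2 fun n hn => by
      by_contra h1
      have := N.orderOf_dvd_natCard hn
      rw [orderOf_eq_prime (h2 n hn) h1] at this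
      obtain ⟨k, hk⟩ := this
      exact h8 ⟨15 * k, by rw [hc, hk]; ring⟩
    rw [this, card_bot, mul_one] at hc
    exact (hf.bijective_of_nat_card_le (by rw [hc, cardA])).2
  · haveI : Fact (Nat.Prime 7) := ⟨by norm_num⟩
    have := H22.gcd_mul_card_PSL (F := ZMod 7) 2 one_le_two
    rw [H22.card_SL_two, ZMod.card, ← Nat.card_congr e.toEquiv] at this
    norm_num at this
    omega

variable {G : Type*} [Group G] [Finite G] {σ t : G} {θ : A5 × A5 →* G}

theorem cr (h : H2 θ t σ) (N : Subgroup G) (hM : θ.range ≤ N) (h32 : ¬ 32 ∣ Nat.card N) (hn : NU θ N) :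
    ∀ g ∈ N, g * θ (1, e5) = θ (1, e5) * g → g ∈ θ.range := by
  have mU : ∀ {a b : A5}, a ∈ V4 → b ∈ V4 → θ (a, b) ∈ U θ := fun ha hb => ⟨_, ⟨ha, hb⟩, rfl⟩
  have ti : t⁻¹ = t := inv_eq_of_mul_eq_one_right h.tt
  have tN : t ∉ N := fun ht => by
    have τV : ∀ a ∈ V4, τ a ∈ V4 := fun a ha => memV.2 (by
      have := congrArg τ (memV.1 ha)
      rwa [map_mul, map_mul, show τ e5 = e5 by decide] at this)
    obtain ⟨a, -, b, -, e⟩ := hn t ht (mem_normalizer_fintype (by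
      rintro _ ⟨⟨x, y⟩, ⟨hx, hy⟩, rfl⟩
      rw [ti, h.ta]
      exact mU (τV x hx) (τV y hy)))
    have e1 := e _ (mU eV (one_mem _))
    have e2 := e _ (mU fV (one_mem _))
    rw [ti, h.ta, ← map_inv, ← map_mul, ← map_mul] at e1 e2
    have e3 : τ e5 = a * e5 * a⁻¹ := congrArg Prod.fst (h.inj e1)
    have e4 : τ f5 = a * f5 * a⁻¹ := congrArg Prod.fst (h.inj e2)
    rw [show τ e5 = e5 by decide, eq_mul_inv_iff_mul_eq] at e3
    rw [cmV (memV.2 e3.symm) fV, mul_inv_cancel_right] at e4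
    exact absurd e4 (by decide)
  have nz : ∀ g ∈ N, g * θ (c5, 1) * g⁻¹ ∈ zpowers (θ (c5, 1)) → g ∈ θ.range := fun g hg e => by
    obtain ⟨m, rfl | rfl⟩ := h.nz g e
    · exact ⟨m, rfl⟩
    · exact absurd ((N.mul_mem_cancel_left (hM ⟨m, rfl⟩)).1 hg) tN
  let Y : Subgroup G := N ⊓ centralizer {θ (1, e5)}
  have mY : ∀ a : A5, ∀ b ∈ V4, θ (a, b) ∈ Y := fun a b hb => ⟨hM ⟨_, rfl⟩, mem_centralizer_singleton_iff.2 (by
    rw [← map_mul, ← map_mul, Prod.mk_mul_mk, Prod.mk_mul_mk, mul_one, one_mul, memV.1 hb])⟩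
  have UY : U θ ≤ Y := by
    rintro _ ⟨⟨a, b⟩, ⟨-, hb⟩, rfl⟩
    exact mY a b hb
  have cY : ¬ 32 ∣ Nat.card Y := fun e => h32 (e.trans (card_dvd_of_le inf_le_left))
  have cU : Nat.card ((U θ).subgroupOf Y) = 2 ^ 4 := by
    rw [Nat.card_congr (subgroupOfEquivOfLe UY).toEquiv, U, card_map_of_injective h.inj,
      Nat.card_congr (prodEquiv V4 V4).toEquiv, Nat.card_prod, cardV]
    norm_num
  obtain ⟨V, V2, Vu⟩ := tr ((U θ).subgroupOf Y) (IsPGroup.of_card cU) (fun ⟨k, hk⟩ => cY ⟨k, by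
      rw [← ((U θ).subgroupOf Y).card_mul_index, cU, hk]; ring⟩)
    (by
      rintro ⟨_, _⟩ ⟨⟨a, b⟩, ⟨ha, hb⟩, rfl⟩ ⟨_, _⟩ ⟨⟨c, d⟩, ⟨hc, hd⟩, rfl⟩
      refine Subtype.ext ?_
      change θ (a, b) * θ (c, d) = θ (c, d) * θ (a, b)
      rw [← map_mul, ← map_mul, Prod.mk_mul_mk, Prod.mk_mul_mk, cmV ha hc, cmV hb hd])
    (by
      rintro ⟨_, _⟩ ⟨⟨a, b⟩, ⟨ha, hb⟩, rfl⟩
      refine Subtype.ext ?_
      change θ (a, b) * θ (a, b) = 1
      rw [← map_mul, Prod.mk_mul_mk, sqV ha, sqV hb]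
      exact map_one θ)
  let j : V4 →* Y := ((θ.comp (MonoidHom.inr A5 A5)).comp V4.subtype).codRestrict Y fun b => mY 1 b b.2
  have ji : Function.Injective j := fun a b e =>
    Subtype.ext (congrArg Prod.snd (h.inj (congrArg Subtype.val e : θ (1, a.1) = θ (1, b.1))))
  have Vj : ∀ b, V (j b) = j b := fun b => Vu _ (mU (one_mem _) b.2) fun n hn' => by
    obtain ⟨a, -, c, -, e⟩ := hn n n.2.1 (mem_normalizer_fintype fun u hu => hn' ⟨u, UY hu⟩ hu)
    have e1 := e _ (mU (one_mem _) eV)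
    have e2 := e _ (mU (one_mem _) b.2)
    rw [mem_centralizer_singleton_iff.1 n.2.2, mul_inv_cancel_right, ← map_inv, ← map_mul, ← map_mul] at e1
    have e3 : e5 = c * e5 * c⁻¹ := congrArg Prod.snd (h.inj e1)
    rw [eq_mul_inv_iff_mul_eq] at e3
    rw [← map_inv, ← map_mul, ← map_mul, Prod.inv_mk, Prod.mk_mul_mk, Prod.mk_mul_mk, mul_one, mul_inv_cancel,
      cmV (memV.2 e3.symm) b.2, mul_inv_cancel_right, mul_inv_eq_iff_eq_mul] at e2
    exact Subtype.ext e2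
  let i : A5 →* Y := (θ.comp (MonoidHom.inl A5 A5)).codRestrict Y fun a => mY a 1 (one_mem _)
  have Vi : ∀ a, V (i a) = 1 := triv (V.comp i) fun hi => by
    have := V2 (i c5)
    rw [← map_mul, ← map_mul] at this
    exact absurd (hi (this.trans (map_one (V.comp i)).symm)) (by decide)
  let f : A5 →* V.ker := i.codRestrict V.ker Vi
  have fi : Function.Injective f := fun a b e =>
    congrArg Prod.fst (h.inj (congrArg (fun x : V.ker => (x.1 : G)) e : θ (a, 1) = θ (b, 1)))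
  have fs := sixty f fi (fun ⟨k, hk⟩ => cY (by
      have h4 : 4 ∣ Nat.card V.range := by
        rw [← cardV, Nat.card_congr (MonoidHom.ofInjective ji).toEquiv]
        exact card_dvd_of_le (by rintro _ ⟨b, rfl⟩; exact ⟨_, Vj b⟩)
      obtain ⟨l, hl⟩ := h4
      exact ⟨k * l, by rw [← V.ker.card_mul_index, index_ker, hk, hl]; ring⟩))
    fun g hg => by
      have e : (g.1 : G) * θ (c5, 1) = θ (c5, 1) * g.1 := congrArg (fun x : V.ker => (x.1 : G)) hg
      obtain ⟨⟨a, b⟩, e1⟩ := nz g.1 g.1.2.1 (by rw [e, mul_inv_cancel_right]; exact mem_zpowers _)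
      have e2 := mem_centralizer_singleton_iff.1 g.1.2.2
      rw [← e1, ← map_mul, ← map_mul] at e e2
      have hb : b ∈ V4 := memV.2 (congrArg Prod.snd (h.inj e2))
      have e3 : g.1 = i a * j ⟨b, hb⟩ := Subtype.ext (by
        change _ = θ (a, 1) * θ (1, b)
        rw [← map_mul, Prod.mk_mul_mk, mul_one, one_mul, e1])
      have e4 : V g.1 = 1 := g.2
      rw [e3, map_mul, Vi, Vj, one_mul] at e4
      rw [e4, mul_one] at e3
      rw [show g = f a from Subtype.ext e3]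
      rcases F2 a.1 a.2 (congrArg (fun x : A5 × A5 => x.1.1) (h.inj e)) with e | e | e
      · rw [show a = 1 from Subtype.ext e, map_one]; exact one_mem _
      · rw [show a = c5 from Subtype.ext e]; exact mem_zpowers _
      · rw [show a = c5⁻¹ from Subtype.ext e, map_inv]; exact inv_mem (mem_zpowers _)
  intro g hg e
  obtain ⟨a, ha⟩ := fs ⟨_, V.normal_ker.conj_mem _ (Vi c5) ⟨g, hg, mem_centralizer_singleton_iff.2 e⟩⟩
  have e1 : θ (a, 1) = g * θ (c5, 1) * g⁻¹ := congrArg (fun x : V.ker => (x.1 : G)) ha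
  have e2 : a ^ 3 = 1 := congrArg Prod.fst (h.inj (show θ ((a, 1) ^ 3) = θ 1 by
    rw [map_pow, e1, conj_pow, ← map_pow, show ((c5, 1) : A5 × A5) ^ 3 = 1 by decide, map_one, mul_one, mul_inv_cancel]))
  rcases F3 a.1 (by rw [← pow_three']; exact congrArg Subtype.val e2) with e3 | ⟨k, hk, e3⟩
  · refine nz g hg ?_
    rw [← e1, show a = 1 from Subtype.ext e3]
    exact (map_one θ).symm ▸ one_mem _
  · refine (θ.range.mul_mem_cancel_left ⟨(⟨k, hk⟩, 1), rfl⟩).1 (nz _ (mul_mem (hM ⟨_, rfl⟩) hg) ?_)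
    have e4 : (⟨k, hk⟩ : A5) * a * (⟨k, hk⟩ : A5)⁻¹ = c5 := Subtype.ext e3
    rw [mul_inv_rev, ← mul_assoc, mul_assoc _ g, mul_assoc _ (g * _), ← e1, ← map_inv, ← map_mul, ← map_mul, Prod.inv_mk,
      Prod.mk_mul_mk, Prod.mk_mul_mk, e4, inv_one, mul_one, mul_one]
    exact mem_zpowers _

end H21.Cr
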