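/-
Schur's bound for `p`-groups with a rational valued character.
-/
import Cfsg.Agent.H21.Glau1
import Cfsg.Agent.H21.CD3

set_option autoImplicit false
set_option linter.unusedSectionVars false
open H17 Cfsg H15 CF
open scoped ComplexConjugate commutatorElement

namespace H21

variable {G : Type*} [Group G] [Finite G] {P H K : Subgroup G} {ψ : G → ℂ} {p n : ℕ}

theorem fact_bound (hp : p.Prime) (n : ℕ) :
    (p ^ (n / (p - 1)) * (n / (p - 1)).factorial).factorization p =
      ∑ i ∈ Finset.range (n + 1), n / ((p - 1) * p ^ i) := by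
  set m := n / (p - 1) with hm
  have h1 : Nat.log p m < n + 1 :=
    Nat.lt_succ_of_le ((Nat.log_le_self _ _).trans (Nat.div_le_self _ _))
  rw [Nat.factorization_mul (pow_ne_zero _ hp.ne_zero) (Nat.factorial_ne_zero _), Finsupp.add_apply,
    Nat.factorization_pow, Finsupp.smul_apply, hp.factorization_self, smul_eq_mul, mul_one,
    Nat.factorization_factorial hp h1, Finset.range_eq_Ico,
    Finset.sum_eq_sum_Ico_succ_bot (Nat.succ_pos n)]
  simp only [pow_zero, mul_one, ← Nat.div_div_eq_div_mul, zero_add]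
  rfl

theorem lower_bound (hp : p.Prime) (hP : IsPGroup p P) (hψ : IsChar P ψ)
    (h : ∀ x ∈ P, ∀ k : ℕ, k.Coprime p → ψ (x ^ k) = ψ x) {x : G} (hx : x ∈ P) :
    0 ≤ (ψ 1).re + (p - 1) * (ψ x).re := by
  have hp1 : (1 : ℝ) ≤ p := by exact_mod_cast hp.one_le
  by_cases h1 : x = 1
  · subst h1
    have := hψ.one_re_nonneg
    nlinarith
  have := Fact.mk hp
  obtain ⟨k, hk⟩ := IsPGroup.iff_orderOf.1 hP ⟨x, hx⟩
  rw [← Subgroup.orderOf_coe] at hk
  simp only at hk
  have hd : p ∣ orderOf x := by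
    rcases k with _ | k
    · exact absurd (orderOf_eq_one_iff.1 (by simpa using hk)) h1
    · exact hk ▸ dvd_pow_self p k.succ_ne_zero
  set X := Subgroup.zpowers x
  set Y := Subgroup.zpowers (x ^ p)
  have hYX : Y ≤ X := Subgroup.zpowers_le.2 (Subgroup.npow_mem_zpowers x p)
  have hXP : X ≤ P := Subgroup.zpowers_le.2 hx
  have hc : Nat.card X = p * Nat.card Y := by
    rw [H16.card_zpowers, H16.card_zpowers, orderOf_pow_of_dvd hp.ne_zero hd,
      Nat.mul_div_cancel' hd]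
  obtain ⟨c, hc'⟩ := hψ.dot_nat_of_le hXP isChar_one
  rw [dot_one_right, sum_fs_diff (A := (Y : Set G)) hYX, inv_mul_eq_iff_eq_mul₀ (card_ne X)] at hc'
  have e1 : ∑ y ∈ fs ((X : Set G) \ Y), ψ y = ((Nat.card X : ℂ) - Nat.card Y) * ψ x := by
    rw [sum_fs_congr (g := fun _ => ψ x), sum_fs_const, Set.ncard_sdiff hYX,
      Nat.cast_sub (Set.ncard_le_ncard hYX)]
    · rfl
    · rintro y ⟨hy, hy'⟩
      obtain ⟨j, rfl⟩ := (mem_powers_iff_mem_zpowers.2 hy : y ∈ Submonoid.powers x)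
      refine h x hx j ((Nat.coprime_comm.1 (hp.coprime_iff_not_dvd.2 ?_)))
      rintro ⟨i, rfl⟩
      exact hy' (by simp only [pow_mul]; exact Subgroup.npow_mem_zpowers _ i)
  have e2 : (∑ y ∈ fs (Y : Set G), ψ y).re ≤ Nat.card Y * (ψ 1).re := by
    rw [Complex.re_sum, ← sum_sub_const]
    exact Finset.sum_le_sum fun y _ => hψ.re_le y
  have e3 := congrArg Complex.re hc'
  rw [e1, hc] at e3
  simp only [Complex.add_re, Complex.mul_re, Complex.sub_re, Complex.natCast_re, Complex.sub_im,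
    Complex.natCast_im, sub_self, zero_mul, sub_zero, mul_zero, Nat.cast_mul, Complex.mul_im,
    add_zero] at e3
  have hY : (0 : ℝ) < Nat.card Y := card_pos' Y
  have : (0 : ℝ) ≤ Nat.card Y * ((ψ 1).re + (p - 1) * (ψ x).re) := by
    have : (0 : ℝ) ≤ p * Nat.card Y * c := by positivity
    nlinarith
  by_contra hh
  nlinarith

/-- the values of a rational character of a `p`-group -/
theorem exists_value (hp : p.Prime) (hP : IsPGroup p P) (hψ : IsChar P ψ) (hn : ψ 1 = n)
    (h : ∀ x ∈ P, ∀ k : ℕ, k.Coprime p → ψ (x ^ k) = ψ x) {x : G} (hx : x ∈ P) :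
    ∃ j : ℕ, j ≤ n / (p - 1) ∧ ψ x = n - p * j := by
  have := Fact.mk hp
  obtain ⟨a, ha⟩ := IsPGroup.iff_card.1 hP
  obtain ⟨v, hv⟩ : ∃ v : ℤ, ψ x = v := by
    rcases Nat.eq_zero_or_pos a with rfl | ha0
    · have : x = 1 := H16.eq_one_of_mem_bot (Subgroup.eq_bot_of_card_eq _ (by simpa using ha)) hx
      exact ⟨n, by rw [this, hn]; simp⟩
    · exact vchar_int_of_pow hψ.vchar hx fun k hk =>
        h x hx k (hk.coprime_dvd_right (ha ▸ dvd_pow_self p ha0.ne'))
  obtain ⟨j, hj⟩ := vchar_mod_pelt hψ.vchar hp (k := a) hx (one_mem P)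
    (orderOf_dvd_iff_pow_eq_one.1 (ha ▸ H16.orderOf_dvd_card hx)) (by simp) (n := v) (d := n)
    (by simpa using hv) (by simpa using hn)
  have h1 := hψ.re_le x
  have h2 := lower_bound hp hP hψ h hx
  rw [hv, hn] at h1 h2
  simp only [Complex.intCast_re, Complex.natCast_re] at h1 h2
  have h1' : v ≤ n := by exact_mod_cast h1
  have h2' : (0 : ℤ) ≤ n + (p - 1) * v := by exact_mod_cast h2
  have hp2 : (2 : ℤ) ≤ p := by exact_mod_cast hp.two_le
  have h3 : 0 ≤ -j := by nlinarith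
  obtain ⟨i, hi⟩ := Int.eq_ofNat_of_zero_le h3
  have hv' : v = n - p * i := by rw [← hi]; linarith
  refine ⟨i, (Nat.le_div_iff_mul_le (by have := hp.two_le; omega)).2 ?_, by rw [hv, hv']; simp⟩
  have h4 : (i : ℤ) * (p - 1) ≤ n := by
    rw [hv'] at h2'
    nlinarith
  zify [hp.one_le]
  exact h4

theorem relIndex_dvd_schur (hp : p.Prime) (hP : IsPGroup p P) (hψ : IsChar P ψ) (hn : ψ 1 = n)
    (h : ∀ x ∈ P, ∀ k : ℕ, k.Coprime p → ψ (x ^ k) = ψ x) :
    (cfker ψ).relIndex P ∣ p ^ (n / (p - 1)) * (n / (p - 1)).factorial := by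
  set m := n / (p - 1)
  have key : ∀ k : ℕ, one P * ∏ j ∈ Finset.range k,
      (ψ - (((n : ℤ) - p * (j + 1) : ℤ) : ℂ) • one P) ∈ vchar P := by
    intro k
    induction k with
    | zero => simpa using one_mem_vchar P
    | succ k ih =>
      rw [Finset.prod_range_succ, ← mul_assoc]
      exact mul_mem_vchar ih (sub_mem hψ.vchar (intCast_smul_mem (one_mem_vchar P) _))
  obtain ⟨c, hc⟩ := vchar_dot_int (key m) (one_mem_vchar P)
  rw [dot_one_right, ← sum_fs_subset (A := ((cfker ψ ⊓ P : Subgroup G) : Set G)) (B := (P : Set G))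
      (fun _ h => h.2),
    sum_fs_congr (g := fun _ => ((p ^ m * m.factorial : ℕ) : ℂ)), sum_sub_const,
    ← H16.card_inf_mul_relIndex (cfker ψ) P] at hc
  · refine Int.natCast_dvd_natCast.1 ⟨c, ?_⟩
    have h0 := card_ne (cfker ψ ⊓ P)
    have h1 := relIndex_ne (cfker ψ) P
    apply Int.cast_injective (α := ℂ)
    rw [Int.cast_mul, ← hc]
    push_cast
    field_simp
  · rintro x ⟨hx, hx'⟩
    have hx' : x ∈ P := hx'
    simp only [Pi.mul_apply, Finset.prod_apply, Pi.sub_apply, Pi.smul_apply, one_of_mem hx',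
      cfker_apply hx, hn, smul_eq_mul, mul_one, one_mul]
    rw [← Finset.prod_range_add_one_eq_factorial, Nat.cast_mul, Nat.cast_prod, Nat.cast_pow,
      ← Finset.card_range m, ← Finset.prod_const, Finset.card_range, ← Finset.prod_mul_distrib]
    refine Finset.prod_congr rfl fun j _ => ?_
    push_cast
    ring
  · intro x hx hx'
    have hx : x ∈ P := hx
    obtain ⟨j, hj, e⟩ := exists_value hp hP hψ hn h hx
    rcases j with _ | j
    · exact absurd ⟨hψ.mem_cfker.2 (by rw [e, hn]; simp), hx⟩ hx'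
    · simp only [Pi.mul_apply, Finset.prod_apply, Pi.sub_apply, Pi.smul_apply, one_of_mem hx,
        smul_eq_mul, mul_one, one_mul]
      exact Finset.prod_eq_zero (i := j) (Finset.mem_range.2 hj) (by rw [e]; push_cast; ring)

/-- Schur's bound -/
theorem blich (hp : p.Prime) (hP : IsPGroup p P) (hψ : IsChar P ψ) (hn : ψ 1 = n)
    (h : ∀ x ∈ P, ∀ k : ℕ, k.Coprime p → ψ (x ^ k) = ψ x) :
    ((cfker ψ).relIndex P).factorization p ≤
      ∑ i ∈ Finset.range (n + 1), n / ((p - 1) * p ^ i) := by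
  rw [← fact_bound hp n]
  exact (Nat.factorization_le_iff_dvd (CF.relIndex_pos _ _).ne'
    (mul_ne_zero (pow_ne_zero _ hp.ne_zero) (Nat.factorial_ne_zero _))).2
    (relIndex_dvd_schur hp hP hψ hn h) p

/-- replacing an exponent prime to `p` by one that is also `1` modulo a `p'`-number -/
theorem exists_exp (hp : p.Prime) {r k : ℕ} (a : ℕ) (hr : r.Coprime p) (hk : k.Coprime p) :
    ∃ j : ℕ, j.Coprime (p ^ a * r) ∧ j ≡ k [MOD p ^ a] ∧ j ≡ 1 [MOD r] := by
  obtain ⟨j, h1, h2⟩ := Nat.chineseRemainder (hr.symm.pow_left (a + 1)) k 1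
  refine ⟨j, Nat.Coprime.mul_right (Nat.Coprime.pow_right _ ?_) ?_,
    h1.of_dvd (pow_dvd_pow p a.le_succ), h2⟩
  · rw [Nat.Coprime, (h1.of_dvd (dvd_pow_self p a.succ_ne_zero)).gcd_eq]; exact hk
  · rw [Nat.Coprime, h2.gcd_eq]; simp

end H21
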