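/-
Schur's bound for the index of `O_p` in a `p`-solvable linear group.
-/
import Cfsg.Agent.H21.MS1
import Cfsg.Agent.H1.PSolv

set_option autoImplicit false
set_option linter.unusedSectionVars false
open H17 Cfsg H15 CF
open scoped ComplexConjugate commutatorElement

namespace H21

variable {G : Type*} [Group G] [Finite G] {P H K L : Subgroup G} {χ ψ : G → ℂ} {p n : ℕ}

theorem exists_rat_char (hHL : H ≤ L) (hn : L ≤ 𝒩(H)) (hc : (Nat.card H).Coprime (H.relIndex L))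
    (hχ : IsChar L χ) : ∃ ψ, IsChar L ψ ∧ Res (H : Set G) ψ = Res (H : Set G) χ ∧
      ∀ k : ℕ, k.Coprime (Nat.card L) → k ≡ 1 [MOD Nat.card H] → ∀ x ∈ L, ψ (x ^ k) = ψ x := by
  refine hχ.induction_on (P := fun χ => ∃ ψ, IsChar L ψ ∧ Res (H : Set G) ψ = Res (H : Set G) χ ∧
      ∀ k : ℕ, k.Coprime (Nat.card L) → k ≡ 1 [MOD Nat.card H] → ∀ x ∈ L, ψ (x ^ k) = ψ x)
    ⟨0, isChar_zero, rfl, fun _ _ _ _ _ => rfl⟩ ?_ ?_
  · intro φ hφ
    obtain ⟨θ, hθ, hd⟩ := exists_under hHL hφ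
    have hHT : H ≤ L ⊓ stab θ := le_inf hHL (le_stab (irr_cf hθ))
    have hnT : L ⊓ stab θ ≤ 𝒩(H) := inf_le_left.trans hn
    have hcT : (Nat.card H).Coprime (H.relIndex (L ⊓ stab θ)) :=
      hc.coprime_dvd_right (H16.relIndex_dvd_of_le_right hHT inf_le_left)
    obtain ⟨ξ, hξ, e⟩ := exists_canon hHT hnT hcT hθ inf_le_right
    have h1 : dot H ξ θ = 1 := by rw [← dot_Res_left, e, dot_irr_self hθ]
    have h2 := cliffCorr_Ind_mem_Irr hHL hn hθ rfl hξ.1 (h1 ▸ one_ne_zero)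
    have h3 := cliffCorr_dot_Ind hHL hn hθ rfl hξ.1 (h1 ▸ one_ne_zero)
    obtain ⟨m, hm⟩ := (irr_char hφ).dot_nat_of_le hHL (irr_char hθ)
    refine ⟨(m : ℂ) • Ind L (L ⊓ stab θ) ξ, (irr_char h2).natCast_smul m, ?_, fun k hk hk1 x hx => ?_⟩
    · rw [map_smul, clifford hHL hn h2 hθ (by rw [h3, h1]; exact one_ne_zero), h3, h1, one_smul,
        clifford hHL hn hφ hθ hd, hm]
    · obtain ⟨u, hu⟩ := exists_ringEquiv_pow (H16.card_ne_zero L) hk
      have e1 : CF.aut (u : ℂ →+* ℂ) ξ = ξ := by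
        refine cf_ext (aut_mem_cf _ (irr_cf hξ.1)) (irr_cf hξ.1) fun y hy => ?_
        rw [aut_apply, vchar_aut_apply _ (irr_vchar hξ.1) hu hy
          (orderOf_dvd_iff_pow_eq_one.1 (H16.orderOf_dvd_card hy.1)),
          hξ.pow hHT hnT hcT (hk.coprime_dvd_right (H16.card_dvd inf_le_left)) hk1 hy]
      simp only [Pi.smul_apply]
      rw [← vchar_aut_apply (u : ℂ →+* ℂ) (irr_vchar h2) hu hx
        (orderOf_dvd_iff_pow_eq_one.1 (H16.orderOf_dvd_card hx)), ← aut_apply, aut_Ind, e1]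
  · rintro φ ψ - - ⟨a, a1, a2, a3⟩ ⟨b, b1, b2, b3⟩
    exact ⟨a + b, a1.add b1, by rw [map_add, map_add, a2, b2], fun k hk hk1 x hx => by
      rw [Pi.add_apply, Pi.add_apply, a3 k hk hk1 x hx, b3 k hk hk1 x hx]⟩

/-- a `p`-group acting on a `p'`-group with a faithful character of degree `n` -/
theorem blich_action (hp : p.Prime) (hP : IsPGroup p P) (hH : (Nat.card H).Coprime p)
    (hn : P ≤ 𝒩(H)) (hχ : IsChar (H ⊔ P) χ) (h1 : χ 1 = n) (hf : ∀ x ∈ H, χ x = χ 1 → x = 1) :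
    (𝒞(H).relIndex P).factorization p ≤ ∑ i ∈ Finset.range (n + 1), n / ((p - 1) * p ^ i) := by
  have := Fact.mk hp
  obtain ⟨a, ha⟩ := IsPGroup.iff_card.1 hP
  have hc : (Nat.card H).Coprime (Nat.card P) := ha ▸ hH.pow_right a
  obtain ⟨ψ, h2, h3, h4⟩ := exists_rat_char le_sup_left (sup_le_norm hn)
    (coprime_relIndex_sup hn hc) hχ
  have e1 : ψ 1 = χ 1 := by simpa using congrFun h3 1
  refine le_trans ?_ (blich hp hP (h2.Res le_sup_right) (n := n) (by rw [Res_one, e1, h1]) ?_)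
  · refine (Nat.factorization_le_iff_dvd (CF.relIndex_pos _ _).ne' (CF.relIndex_pos _ _).ne').2 ?_ p
    rw [← Subgroup.inf_relIndex_right (cfker _) P]
    refine Subgroup.relIndex_dvd_of_le_left _ fun x ⟨hx, hxP⟩ => ?_
    have hxP : x ∈ P := hxP
    have hx' : x ∈ cfker ψ := h2.mem_cfker.2 (by
      have := cfker_apply hx
      rwa [Res_of_mem _ hxP, Res_one] at this)
    refine H16.mem_cent.2 fun y hy => ?_
    have m1 : y * x * y⁻¹ * x⁻¹ ∈ H := by
      have := mul_mem hy (H16.conj_mem (hn hxP) (inv_mem hy))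
      simpa only [mul_assoc] using this
    have m2 : y * x * y⁻¹ * x⁻¹ ∈ cfker ψ :=
      mul_mem (H16.conj_mem (le_norm_cfker h2.cf (Subgroup.mem_sup_left hy)) hx') (inv_mem hx')
    have := hf _ m1 (by
      have := congrFun h3 (y * x * y⁻¹ * x⁻¹)
      rw [Res_of_mem _ m1, Res_of_mem _ m1] at this
      rw [← this, cfker_apply m2, e1])
    rw [mul_inv_eq_one, mul_inv_eq_iff_eq_mul] at this
    exact this
  · intro x hx k hk
    obtain ⟨j, j1, j2, j3⟩ := exists_exp hp a hH hk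
    rw [Res_of_mem _ (pow_mem hx k), Res_of_mem _ hx,
      ← pow_eq_pow_iff_modEq.2 (j2.of_dvd (ha ▸ H16.orderOf_dvd_card hx))]
    refine h4 j (j1.coprime_dvd_right ?_) j3 x (Subgroup.mem_sup_right hx)
    rw [← ha, mul_comm]
    exact H16.card_sup_dvd (Or.inr hn)

theorem blich_psolv (hp : p.Prime) (hs : IsPSolvable p G) (hχ : IsChar ⊤ χ) (h1 : χ 1 = n)
    (hf : ∀ x, χ x = χ 1 → x = 1) :
    (pCore p G).index.factorization p ≤ ∑ i ∈ Finset.range (n + 1), n / ((p - 1) * p ^ i) := by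
  have := Fact.mk hp
  set O := pCore p G
  have hO : IsPGroup p O := H1.isPGroup_pCore p
  set f := QuotientGroup.mk' O
  set K := (pPrimeCore p (G ⧸ O)).comap f
  have hOK : O ≤ K := fun x hx => by
    have : f x = 1 := (QuotientGroup.eq_one_iff x).2 hx
    change f x ∈ pPrimeCore p (G ⧸ O)
    rw [this]; exact one_mem _
  have hok : H1.HallOK {p}ᶜ K := H1.hallOK_compl_of_isPSolvable (H1.IsPSolvable.subgroup hs K)
  obtain ⟨H, hH⟩ := hok.exists
  have hHp : (Nat.card H).Coprime p := (H1.isPiNat_compl_singleton_iff hp).1 hH.isPi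
  have hK : H ⊔ O = K := by
    refine hH.sup_eq_of_idx hOK ((H1.isPiNat_compl_singleton_iff hp).2 ?_)
    have e : O.relIndex K = Nat.card (pPrimeCore p (G ⧸ O)) := by
      conv_lhs => rw [← QuotientGroup.ker_mk' O]
      rw [Subgroup.relIndex_ker, Subgroup.map_comap_eq_self_of_surjective (QuotientGroup.mk'_surjective O)]
    exact e ▸ H1.coprime_card_pPrimeCore p
  have hG : O ⊔ 𝒩(H) = ⊤ := by
    have := hok.frattini_sup hH le_top (top_le_norm K)
    rw [top_inf_eq, ← hK] at this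
    refine top_le_iff.1 (this.ge.trans (sup_le (sup_le ?_ le_sup_left) le_sup_right))
    exact (H16.le_norm H).trans le_sup_right
  obtain ⟨P, hP⟩ := exists_syl p 𝒩(H)
  have hOP : O ⊓ 𝒩(H) ≤ P := hP.le_of_norm'
    (H1.isPiNat_card_singleton_iff.2 (hO.to_le inf_le_left)) inf_le_right
    (H16.norm_inf (le_top.trans (top_le_norm O)) (H16.norm_of_le hP.le))
  have e1 : O.index = O.relIndex P * P.relIndex 𝒩(H) := by
    rw [← Subgroup.relIndex_top_right, ← hG, H16.relIndex_sup_l (le_top.trans (top_le_norm O)),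
      ← Subgroup.inf_relIndex_right, ← Subgroup.relIndex_mul_relIndex _ _ _ hOP hP.le,
      ← Subgroup.inf_relIndex_right _ P, inf_assoc, inf_eq_right.2 hP.le, Subgroup.inf_relIndex_right]
  rw [e1, Nat.factorization_mul (CF.relIndex_pos _ _).ne' (CF.relIndex_pos _ _).ne', Finsupp.add_apply,
    Nat.factorization_eq_zero_of_not_dvd (syl_iff.1 hP).2.2, add_zero]
  refine le_trans ?_ (blich_action hp hP.isPGroup hHp hP.le (hχ.Res le_top) (n := n)
    (by rw [Res_one, h1]) fun x hx e => hf x ?_)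
  · refine (Nat.factorization_le_iff_dvd (CF.relIndex_pos _ _).ne' (CF.relIndex_pos _ _).ne').2 ?_ p
    rw [← Subgroup.inf_relIndex_right 𝒞(H) P]
    refine Subgroup.relIndex_dvd_of_le_left _ fun x ⟨hx, hxP⟩ => ?_
    have h2 : f x ∈ pPrimeCore p (G ⧸ O) := by
      refine H1.IsPSolvable.centralizer_pPrimeCore_le (H1.IsPSolvable.quotient hs O)
        (H1.pCore_quotient_pCore p) (H16.mem_cent.2 fun y hy => ?_)
      obtain ⟨y, rfl⟩ := QuotientGroup.mk'_surjective O y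
      have hy : y ∈ H ⊔ O := hK ▸ hy
      obtain ⟨a, ha, b, hb, rfl⟩ := (H16.mem_sup_r (le_top.trans (top_le_norm O))).1 hy
      have : f b = 1 := (QuotientGroup.eq_one_iff b).2 hb
      change f (a * b) * f x = f x * f (a * b)
      rw [map_mul, this, mul_one, ← map_mul, ← map_mul, H16.mem_cent.1 hx a ha]
    have h3 : f x ∈ P.map f ⊓ pPrimeCore p (G ⧸ O) := ⟨⟨x, hxP, rfl⟩, h2⟩
    rw [H1.inf_eq_bot_of_isPGroup_of_coprime (hP.isPGroup.map f) (H1.coprime_card_pPrimeCore p)] at h3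
    exact (QuotientGroup.eq_one_iff x).1 h3
  · rwa [Res_of_mem _ (Subgroup.mem_sup_left hx), Res_one] at e

end H21
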