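/-
The going down theorem for abelian chief factors, and non-normal Sylow subgroups of linear groups.
-/
import Cfsg.Agent.H21.MS2
import Cfsg.Agent.H21.CD4
import Cfsg.Agent.H9.Ch1
import Cfsg.Agent.H3.Transfer2
import Cfsg.Agent.H1.HallTop

set_option autoImplicit false
set_option linter.unusedSectionVars false
open H17 Cfsg H15 CF
open scoped ComplexConjugate commutatorElement
open H9 (centMod)

namespace H21

universe u
variable {G : Type u} [Group G] [Finite G] {P H K L M : Subgroup G} {χ ψ θ : G → ℂ} {p n : ℕ}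

/-- Isaacs (6.18) -/
theorem going_down (hLK : L ≤ K) (hd : ⁅K, K⁆ ≤ L) (hL : M ≤ 𝒩(L)) (hK : M ≤ 𝒩(K)) (hKM : K ≤ M)
    (hch : ∀ U, L ≤ U → U ≤ K → M ≤ 𝒩(U) → U = L ∨ U = K) (hθ : θ ∈ Irr K) (hs : M ≤ stab θ) :
    Res (L : Set G) θ ∈ Irr L ∨ (∃ e, e ^ 2 = L.relIndex K ∧ e ∣ charDegree θ) ∨
      L.relIndex K ∣ charDegree θ := by
  classical
  have hn : K ≤ 𝒩(L) := hKM.trans hL
  obtain ⟨φ, hφ, h0⟩ := exists_under hLK hθ
  have hLT : L ≤ K ⊓ stab φ := le_inf hLK (le_stab (irr_cf hφ))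
  have hT : M ≤ 𝒩(K ⊓ stab φ) := by
    intro g hg
    have h1 : dot L θ (cfj g φ) ≠ 0 := by
      rwa [← mem_stab.1 (hs hg), dot_cfj_norm (hL hg)]
    obtain ⟨k, hk, e⟩ := mem_orb.1 (clifford_mem_orb hLK hn hθ hφ (cfj_mem_Irr_norm (hL hg) hφ) h0 h1)
    rw [mem_norm_iff_cj, cj_inf, ← stab_cfj, ← e, stab_cfj, cj_of_mem_norm (hK hg)]
    conv_lhs => rw [← cj_of_mem hk]
    rw [← cj_inf]
    exact cj_of_mem_norm (H16.norm_of_der_le (hd.trans hLT) inf_le_left hk)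
  obtain ⟨e, he, e1, e2⟩ := deg_clifford hLK hn hφ (mem_over.2 ⟨hθ, h0⟩)
  rcases hch _ hLT inf_le_left hT with h | h
  · refine Or.inr (Or.inr ?_)
    rw [e2, ← Subgroup.inf_relIndex_right (stab φ), inf_comm, h]
    exact (dvd_mul_left _ _).mul_right _
  have hs' : K ≤ stab φ := inf_eq_left.1 h
  have hR : Res (L : Set G) θ = (e : ℂ) • φ := e1 ▸ Res_eq_smul_of_le_stab hLK hn hθ hφ hs' h0
  have hV : M ≤ 𝒩(L ⊔ Subgroup.closure {x | θ x ≠ 0}) := by
    refine H16.norm_sup hL (H16.le_norm_iff_cj.2 fun g hg => ?_)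
    rw [H16.cj_le_iff]
    refine (Subgroup.closure_le _).2 fun x hx => ?_
    refine H16.mem_cj.2 (Subgroup.subset_closure ?_)
    change θ _ ≠ 0
    rwa [inv_inv, mem_stab_iff.1 (hs hg)]
  rcases hch _ le_sup_left (sup_le hLK ((Subgroup.closure_le _).2 fun x hx => by
    by_contra hh; exact hx (cf_zero (irr_cf hθ) hh))) hV with h1 | h1
  · refine Or.inr (Or.inl ⟨e, (H9.sq_eq_iff_vanish hLK hθ hφ hR).2 fun g hg => ?_,
      e2 ▸ (dvd_mul_right _ _).mul_right _⟩)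
    by_contra hh
    exact hg (h1 ▸ Subgroup.mem_sup_right (Subgroup.subset_closure hh))
  left
  obtain ⟨e', -, a1, a2, -, a3⟩ := central_inertia hLK hn hφ h.symm hd
  have e3 : e' = e := by exact_mod_cast (a3 θ (mem_over.2 ⟨hθ, h0⟩)).1.symm.trans e1
  subst e3
  have hc : (IrrQ K L).card ≤ (IrrO K L φ).card := by
    refine Finset.card_le_card_of_injOn (fun l => l * θ) (fun l hl => ?_) fun l hl m hm e => ?_
    · have hl := Finset.mem_coe.1 hl
      refine Finset.mem_coe.2 (mem_over.2 ⟨lin_mul_mem_Irr (isLin_of_IrrQ hd hl) hθ, ?_⟩)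
      rwa [dot_congr (φ' := θ) (ψ' := φ) (fun x hx => by
        change l x * θ x = θ x
        rw [cfker_apply ((mem_IrrQ.1 hl).2 hx), (isLin_of_IrrQ hd hl).one_apply,
          one_mul]) fun _ _ => rfl]
    · have hl' := isLin_of_IrrQ hd (Finset.mem_coe.1 hl)
      have hm' := isLin_of_IrrQ hd (Finset.mem_coe.1 hm)
      have h2 : K ≤ cfker (l * star m) := by
        rw [← h1]
        refine sup_le (le_cfker_mul (mem_IrrQ.1 hl).2 (cfker_star m ▸ (mem_IrrQ.1 hm).2))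
          ((Subgroup.closure_le _).2 fun x hx => ?_)
        have hxK : x ∈ K := by by_contra hh; exact hx (cf_zero (irr_cf hθ) hh)
        refine (hl'.mul hm'.star).mem_cfker.2 ?_
        rw [Pi.mul_apply, mul_right_cancel₀ hx (congrFun e x)]
        exact hm'.mul_conj hxK
      have h3 := irr_eq_one_of_le_cfker (hl'.mul hm'.star).mem_Irr h2
      rw [← hm'.mul_star, mul_comm l, mul_comm m] at h3
      exact hm'.star.mul_left_cancel (cf_le_supp _ hl'.cf) (cf_le_supp _ hm'.cf) h3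
  rw [card_IrrQ_of_comm hd hLK, ← a2] at hc
  have h4 : 0 < (IrrO K L φ).card := (over_nonempty hLK hφ).card_pos
  have h5 : e' = 1 := by nlinarith [Nat.le_of_mul_le_mul_right (a := e' ^ 2) (b := 1) (by simpa using hc) h4]
  rw [hR, h5]
  simpa using hφ

/-- a `p`-group acting non-trivially on a `p'`-group needs degree at least `p - 1` -/
theorem comm_le_cfker_of_small (hp : p.Prime) (hP : IsPGroup p P) (hH : (Nat.card H).Coprime p)
    (hn : P ≤ 𝒩(H)) (hχ : IsChar (H ⊔ P) χ) (h1 : χ 1 = n) (hs : n + 1 < p) :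
    ⁅H, P⁆ ≤ cfker χ := by
  have := Fact.mk hp
  obtain ⟨a, ha⟩ := IsPGroup.iff_card.1 hP
  have hc : (Nat.card H).Coprime (Nat.card P) := ha ▸ hH.pow_right a
  obtain ⟨ψ, h2, h3, h4⟩ := exists_rat_char le_sup_left (sup_le_norm hn)
    (coprime_relIndex_sup hn hc) hχ
  have e1 : ψ 1 = χ 1 := by simpa using congrFun h3 1
  have h5 : P ≤ cfker ψ := fun x hx => by
    obtain ⟨j, hj, e⟩ := exists_value hp hP (h2.Res le_sup_right) (n := n) (by rw [Res_one, e1, h1])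
      (by
        intro x hx k hk
        obtain ⟨j, j1, j2, j3⟩ := exists_exp hp a hH hk
        rw [Res_of_mem _ (pow_mem hx k), Res_of_mem _ hx,
          ← pow_eq_pow_iff_modEq.2 (j2.of_dvd (ha ▸ H16.orderOf_dvd_card hx))]
        refine h4 j (j1.coprime_dvd_right ?_) j3 x (Subgroup.mem_sup_right hx)
        rw [← ha, mul_comm]
        exact H16.card_sup_dvd (Or.inr hn)) hx
    rw [Nat.div_eq_of_lt (by omega), Nat.le_zero] at hj
    rw [Res_of_mem _ hx, hj] at e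
    exact h2.mem_cfker.2 (by rw [e, e1, h1]; simp)
  intro y hy
  have m1 : y ∈ H := H16.comm_le_left hn hy
  have m2 : y ∈ cfker ψ := (Subgroup.commutator_mono le_rfl h5).trans
    (H16.comm_le_right (le_sup_left.trans (le_norm_cfker h2.cf))) hy
  have := congrFun h3 y
  rw [Res_of_mem _ m1, Res_of_mem _ m1] at this
  exact hχ.mem_cfker.2 (by rw [← this, cfker_apply m2, e1])

theorem exists_action (hp : p.Prime) (hs : IsPSolvable p G) (h : ¬ PC p G) :
    ∃ (q : ℕ) (Q P : Subgroup G), q.Prime ∧ q ≠ p ∧ IsPGroup q Q ∧ IsPGroup p P ∧ P ≤ 𝒩(Q) ∧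
      ⁅Q, P⁆ ≠ ⊥ := by
  have := Fact.mk hp
  set O := pCore p G
  have hO : IsPGroup p O := H1.isPGroup_pCore p
  set f := QuotientGroup.mk' O
  set K := (pPrimeCore p (G ⧸ O)).comap f
  have hOK : O ≤ K := fun x hx => by
    have : f x = 1 := (QuotientGroup.eq_one_iff x).2 hx
    change f x ∈ pPrimeCore p (G ⧸ O)
    rw [this]; exact one_mem _
  have hok : H1.HallOK {p}ᶜ K := H1.hallOK_compl_of_isPSolvable (H1.IsPSolvable.subgroup hs K)
  obtain ⟨H, hH⟩ := hok.exists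
  have hHp : (Nat.card H).Coprime p := (H1.isPiNat_compl_singleton_iff hp).1 hH.isPi
  have hK : H ⊔ O = K := by
    refine hH.sup_eq_of_idx hOK ((H1.isPiNat_compl_singleton_iff hp).2 ?_)
    have e : O.relIndex K = Nat.card (pPrimeCore p (G ⧸ O)) := by
      conv_lhs => rw [← QuotientGroup.ker_mk' O]
      rw [Subgroup.relIndex_ker, Subgroup.map_comap_eq_self_of_surjective (QuotientGroup.mk'_surjective O)]
    exact e ▸ H1.coprime_card_pPrimeCore p
  have hG : O ⊔ 𝒩(H) = ⊤ := by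
    have := hok.frattini_sup hH le_top (top_le_norm K)
    rw [top_inf_eq, ← hK] at this
    refine top_le_iff.1 (this.ge.trans (sup_le (sup_le ?_ le_sup_left) le_sup_right))
    exact (H16.le_norm H).trans le_sup_right
  obtain ⟨P, hP⟩ := exists_syl p 𝒩(H)
  by_contra hh
  push Not at hh
  have h1 : H ≤ 𝒞(P) := le_of_forall_syl fun q hq hd => by
    have := Fact.mk hq
    obtain ⟨Q, a1, a2⟩ := H1.exists_invariant_sylowOf q hP.le
      (H1.IsPGroup.coprime_card hP.isPGroup hHp) (Or.inl (H16.sol_of_nil hP.nilpotent))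
    refine ⟨Q, a1, H16.comm_eq_bot.1 (hh q Q P hq ?_ a1.isPGroup hP.isPGroup a2)⟩
    rintro rfl
    exact hq.one_lt.ne' (Nat.eq_one_of_dvd_coprimes hHp hd dvd_rfl)
  have h2 : P ≤ O := fun x hxP => by
    have h2 : f x ∈ pPrimeCore p (G ⧸ O) := by
      refine H1.IsPSolvable.centralizer_pPrimeCore_le (H1.IsPSolvable.quotient hs O)
        (H1.pCore_quotient_pCore p) (H16.mem_cent.2 fun y hy => ?_)
      obtain ⟨y, rfl⟩ := QuotientGroup.mk'_surjective O y
      have hy : y ∈ H ⊔ O := hK ▸ hy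
      obtain ⟨a, ha, b, hb, rfl⟩ := (H16.mem_sup_r (le_top.trans (top_le_norm O))).1 hy
      have : f b = 1 := (QuotientGroup.eq_one_iff b).2 hb
      change f (a * b) * f x = f x * f (a * b)
      rw [map_mul, this, mul_one, ← map_mul, ← map_mul, H16.mem_cent.1 (h1 ha) x hxP]
    have h3 : f x ∈ P.map f ⊓ pPrimeCore p (G ⧸ O) := ⟨⟨x, hxP, rfl⟩, h2⟩
    rw [H1.inf_eq_bot_of_isPGroup_of_coprime (hP.isPGroup.map f) (H1.coprime_card_pPrimeCore p)] at h3
    exact (QuotientGroup.eq_one_iff x).1 h3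
  refine h ⟨O, inferInstance, hO, fun h3 => (syl_iff.1 hP).2.2 (h3.trans ?_)⟩
  rw [← Subgroup.relIndex_top_right, ← hG, H16.relIndex_sup_l (le_top.trans (top_le_norm O))]
  exact Subgroup.relIndex_dvd_of_le_left _ h2

theorem PC.normal [Fact p.Prime] (h : PC p G) (P : Sylow p G) : (P : Subgroup G).Normal := by
  obtain ⟨R, h1, h2, h3⟩ := h
  have h4 : Syl(p, R, ⊤) := syl_iff.2 ⟨le_top, h2, by rwa [Subgroup.relIndex_top_right]⟩
  rwa [h4.eq_of_normal (top_le_norm R) (syl_top_sylow P)]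

theorem ito_fermat (hp : p.Prime) (hs : IsPSolvable p G) (h : ¬ PC p G) (hχ : IsChar ⊤ χ)
    (h1 : χ 1 = n) (hf : ∀ x, χ x = χ 1 → x = 1) (hn : n + 1 ≤ p) :
    n + 1 = p ∧ (∃ k, n = 2 ^ k) ∧ χ ∈ Irr (⊤ : Subgroup G) := by
  have := Fact.mk hp
  obtain ⟨q, Q, P, hq, hqp, hQ, hP, hN, hc⟩ := exists_action hp hs h
  have := Fact.mk hq
  have hR := hχ.Res (H := Q ⊔ P) le_top
  obtain ⟨φ, hφ, h2, h3⟩ : ∃ φ ∈ Irr (Q ⊔ P), dot (Q ⊔ P) χ φ ≠ 0 ∧ ¬ ⁅Q, P⁆ ≤ cfker φ := by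
    by_contra hh
    push Not at hh
    refine hc (eq_bot_iff.2 fun x hx => hf x ?_)
    have hx' : x ∈ Q ⊔ P := H16.comm_le le_sup_left le_sup_right hx
    rw [← Res_of_mem χ hx', ← Res_one (Q ⊔ P) χ, cf_apply_eq_sum hR.cf, cf_apply_eq_sum hR.cf 1]
    refine Finset.sum_congr rfl fun φ hφ => ?_
    by_cases h0 : dot (Q ⊔ P) χ φ = 0
    · rw [dot_Res_left, h0, zero_mul, zero_mul]
    · rw [cfker_apply (hh φ hφ h0 hx)]
  have hQp : (Nat.card Q).Coprime p :=
    H1.IsPGroup.coprime_card hQ ((Nat.coprime_primes hp hq).2 hqp.symm)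
  have h4 : p ≤ charDegree φ + 1 := by
    by_contra hh
    exact h3 (comm_le_cfker_of_small hp hP hQp hN (irr_char hφ) (deg_cast hφ).symm (by omega))
  have h5 := hR.irr_degree_le hφ (by rwa [dot_Res_left])
  rw [← deg_cast hφ, Res_one, h1] at h5
  simp only [Complex.natCast_re, Nat.cast_le] at h5
  have h6 : charDegree φ = n := by omega
  have h7 := hR.eq_irr_of_degree hφ (by rwa [dot_Res_left]) (by rw [Res_one, h1, ← deg_cast hφ, h6])
  refine ⟨by omega, ?_, hχ.mem_Irr_of_Res le_top (h7 ▸ hφ)⟩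
  have h8 := (deg_dvd_card hφ).trans (H16.card_sup_dvd (Or.inr hN))
  obtain ⟨a, ha⟩ := IsPGroup.iff_card.1 hP
  obtain ⟨b, hb⟩ := IsPGroup.iff_card.1 hQ
  have h9 : n.Coprime p := by
    rw [show p = n + 1 by omega]; simp
  rw [h6, ha, hb] at h8
  obtain ⟨k, -, hk⟩ := (Nat.dvd_prime_pow hq).1 ((h9.pow_right a).dvd_of_dvd_mul_right h8)
  rcases hp.eq_two_or_odd' with rfl | ho
  · have := deg_pos hφ
    exact ⟨0, by omega⟩
  rcases k with _ | k
  · exact ⟨0, hk⟩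
  have h2q : 2 ∣ q ^ (k + 1) := by
    rw [← hk]
    obtain ⟨m, hm⟩ := ho
    exact ⟨m, by omega⟩
  exact ⟨k + 1, by rw [hk, (Nat.prime_dvd_prime_iff_eq Nat.prime_two hq).1
    (Nat.prime_two.dvd_of_dvd_pow h2q)]⟩

end H21
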