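/-
A `p`-local form of Brauer's induction theorem and Dade's detection theorem by
`p`-elementary subgroups.
-/
import Cfsg.Agent.H21.Glau2
import Cfsg.Agent.H19.BrChar

set_option autoImplicit false
set_option linter.unusedSectionVars false
open H17 Cfsg H15 CF
open scoped ComplexConjugate commutatorElement

namespace H21

universe u
variable {G : Type u} [Group G] [Finite G] {P Q M N : Subgroup G} {χ ψ θ φ η : G → ℂ}
  {p : ℕ} {y : G}

theorem sum_mem_of_orb {S : Type*} [SetLike S ℂ] [AddSubmonoidClass S ℂ] (I : S)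
    (hp : p.Prime) (hP : IsPGroup p P) (X : Finset (G → ℂ))
    (hX : ∀ φ ∈ X, ∀ g ∈ P, cfj g φ ∈ X) (f : (G → ℂ) → ℂ)
    (hf : ∀ φ ∈ X, ∀ g ∈ P, f (cfj g φ) = f φ) (h' : ∀ φ ∈ X, (p : ℂ) * f φ ∈ I)
    (h : ∀ φ ∈ X, P ≤ stab φ → f φ ∈ I) : ∑ φ ∈ X, f φ ∈ I := by
  classical
  haveI := Fact.mk hp
  rw [← Finset.sum_fiberwise_of_maps_to (t := X.image (orb P)) (g := orb P)
    fun x hx => Finset.mem_image_of_mem _ hx]
  refine sum_mem fun o ho => ?_
  obtain ⟨φ, hφ, rfl⟩ := Finset.mem_image.1 ho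
  have e : X.filter (fun y => orb P y = orb P φ) = orb P φ := by
    ext y
    rw [Finset.mem_filter]
    refine ⟨fun h => h.2 ▸ self_mem_orb P y, fun h => ⟨?_, orb_eq_of_mem h⟩⟩
    obtain ⟨g, hg, rfl⟩ := mem_orb.1 h
    exact hX φ hφ g hg
  rw [e, Finset.sum_congr rfl (g := fun _ => f φ) fun y hy => by
    obtain ⟨g, hg, rfl⟩ := mem_orb.1 hy
    exact hf φ hφ g hg, Finset.sum_const, card_orb]
  by_cases hs : P ≤ stab φ
  · exact nsmul_mem (h φ hφ hs) _
  · obtain ⟨k, hk⟩ := hP.index ((stab φ).subgroupOf P)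
    rcases k with _ | k
    · rw [pow_zero, Subgroup.index_eq_one, Subgroup.subgroupOf_eq_top] at hk
      exact absurd hk hs
    · rw [Subgroup.relIndex, hk, pow_succ, mul_nsmul', nsmul_eq_mul p]
      exact nsmul_mem (h' φ hφ) _

theorem brauer_local [Fintype G] {O : ValuationSubring ℂ} [hp : Fact p.Prime]
    [CharP (H19.kk O) p] (L : (G → ℂ) →+ ℂ) (h1 : L (fun _ => 1) = 1) :
    ∃ (y : G) (P : Subgroup G) (η : G → ℂ), ¬ p ∣ orderOf y ∧ IsPGroup p P ∧ P ≤ 𝒞₁(y) ∧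
      η ∈ H19.GC O.toSubring G ∧ L (H19.cosInd y P * η) ∉ O.nonunits := by
  classical
  by_contra hcon
  push Not at hcon
  let R : Submodule ℤ (G → ℂ) :=
    { carrier := {f | f ∈ H19.GC O.toSubring G ∧
        ∀ η ∈ H19.GC O.toSubring G, L (f * η) ∈ O.nonunits}
      add_mem' := fun ha hb => ⟨add_mem ha.1 hb.1, fun η hη => by
        rw [add_mul, map_add]; exact add_mem (ha.2 η hη) (hb.2 η hη)⟩
      zero_mem' := ⟨zero_mem _, fun η _ => by rw [zero_mul, map_zero]; exact zero_mem _⟩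
      smul_mem' := fun c f hf => ⟨zsmul_mem hf.1 c, fun η hη => by
        rw [smul_mul_assoc, map_zsmul]; exact zsmul_mem (hf.2 η hη) c⟩ }
  obtain ⟨m, hm, hR⟩ : ∃ m : ℤ, ¬ (p : ℤ) ∣ m ∧ (fun _ => (m : ℂ)) ∈ R := by
    refine H18.banaschewski_local R (fun f hf g hg => ⟨H19.GC_mul hf.1 hg.1, fun η hη => ?_⟩)
      hp.out fun x => ?_
    · rw [mul_assoc]; exact hf.2 _ (H19.GC_mul hg.1 hη)
    obtain ⟨u, hu⟩ := H19.exists_isPPart p x
    have hy := H19.isPPart_preg hu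
    have huy : Commute u (u⁻¹ * x) :=
      ((Commute.refl u).inv_right).mul_right (H19.isPPart_commute hu)
    obtain ⟨P, hP, huP⟩ := H10.exists_isSylowIn_ge (H19.isPPart_isPElt hu).isPGroup_zpowers
      (Subgroup.zpowers_le.2 (Subgroup.mem_centralizer_singleton_iff.2 huy.eq))
    obtain ⟨n, h1, h2⟩ := H19.cosInd_apply hy hP (Subgroup.zpowers_le.1 huP)
    refine ⟨H19.cosInd (u⁻¹ * x) P, ⟨?_, fun η hη => hcon _ _ _ hy hP.isPGroup hP.le hη⟩, n,
      by rwa [← huy.eq, mul_inv_cancel_left] at h1, h2⟩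
    refine H19.mem_GC_of_inner (H19.cosInd_class _ _) fun χ => ?_
    rw [classInner_def, H19.sum_cosInd_mul _ _ χ.2.conj.isClassFunction]
    exact H19.GC_sum_div (H19.GC_shift (H19.ZB_le O) (H19.char_mem_GC χ.2.conj.isCharacter) hP.le)
  have h2 := hR.2 (fun _ => 1) (H19.const_mem_GC (one_mem _))
  have e : (fun _ : G => (m : ℂ)) * (fun _ => 1) = m • fun _ : G => (1 : ℂ) := by
    funext; simp
  rw [e, map_zsmul, h1, zsmul_eq_mul, mul_one, H19.intCast_mem_nonunits_iff p] at h2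
  exact hm h2

theorem shift_mem_GC {A : Subring ℂ} (hA : H19.ZB ≤ A) (hφ : φ ∈ vchar M) (hy : y ∈ M)
    (hQ : Q ≤ M) (hc : Q ≤ 𝒞₁(y)) : (fun u : Q => φ (y * u)) ∈ H19.GC A Q := by
  have h1 := H19.GC_shift (y := (⟨y, hy⟩ : M)) (Q := Q.subgroupOf M) hA
    (H19.gen_mem_GC (mem_vchar_iff_res.1 hφ).2) fun u hu => by
      rw [Subgroup.mem_centralizer_singleton_iff]
      exact Subtype.ext (Subgroup.mem_centralizer_singleton_iff.1 (hc hu))
  exact H19.GC_comp h1 (Subgroup.subgroupOfEquivOfLe hQ).symm.toMonoidHom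

theorem mem_of_coprime_index [N.Normal] (h : (N.index).Coprime (orderOf y)) : y ∈ N :=
  Subgroup.zpowers_le.2 (N.pow_index_mem y) (mem_zpowers_pow_iff.2 h)

theorem dade_elem [hp : Fact p.Prime] [hN : N.Normal] {k : ℕ} (hind : N.index = p ^ k)
    (hθ : θ ∈ Irr N) (hs : ⊤ ≤ stab θ) :
    ∃ (y : G) (P : Subgroup G) (φ : G → ℂ), ¬ p ∣ orderOf y ∧ IsPGroup p P ∧ P ≤ 𝒞₁(y) ∧ y ∈ N ∧
      P ⊔ N = ⊤ ∧ φ ∈ Irr ((Subgroup.zpowers y ⊔ P) ⊓ N) ∧ P ≤ stab φ ∧
      ∃ m : ℕ, ¬ p ∣ m ∧ dot ((Subgroup.zpowers y ⊔ P) ⊓ N) θ φ = m := by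
  classical
  have := Fintype.ofFinite G
  obtain ⟨O, hO⟩ := H19.exists_val p
  obtain ⟨y, P, η, hy, hP, hc, hη, hL⟩ := brauer_local (O := O) (p := p)
    (AddMonoidHom.mk' (fun f => dot N (f * θ) θ) fun a b => by rw [add_mul, dot_add_left])
    (by
      have : (fun _ : G => (1 : ℂ)) * θ = θ := by funext; simp
      rw [AddMonoidHom.mk'_apply, this, dot_irr_self hθ])
  rw [AddMonoidHom.mk'_apply] at hL
  have hyN : y ∈ N := mem_of_coprime_index (by
    rw [hind]; exact ((Nat.Prime.coprime_iff_not_dvd hp.out).2 hy).pow_left k)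
  set M := (Subgroup.zpowers y ⊔ P) ⊓ N with hM
  have hyM : y ∈ M := ⟨Subgroup.mem_sup_left (Subgroup.mem_zpowers y), hyN⟩
  have hQM : P ⊓ N ≤ M := inf_le_inf_right _ le_sup_right
  have hθc := irr_cf hθ
  have hcl : ∀ g x, θ (g * x * g⁻¹) = θ x := fun g => mem_stab_iff.1 (hs (Subgroup.mem_top g))
  have hηc := H19.GC_class hη
  have hcy : ∀ g ∈ P, g * y = y * g := fun g hg => Subgroup.mem_centralizer_singleton_iff.1 (hc hg)
  have hPN : P ≤ 𝒩(N) := by rw [Subgroup.normalizer_eq_top]; exact le_top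
  have hPM : P ≤ 𝒩(M) := le_norm_inf (le_norm_of_le le_sup_right) hPN
  have hPQ : P ≤ 𝒩(P ⊓ N) := le_norm_inf (le_norm_self P) hPN
  let T : (G → ℂ) → ℂ := fun φ => (Nat.card ↥(P ⊓ N) : ℂ)⁻¹ *
    ∑ u ∈ fs ((P ⊓ N : Subgroup G) : Set G), η (y * u) * φ (y * u) * conj (θ (y * u))
  have hT : ∀ {K : Subgroup G} {φ : G → ℂ}, φ ∈ vchar K → y ∈ K → P ⊓ N ≤ K → T φ ∈ O := by
    intro K φ h1 h2 h3
    have := H19.GC_sum_div (H19.GC_mul (H19.GC_mul
      (H19.GC_shift (Q := P ⊓ N) (H19.ZB_le O) hη (inf_le_left.trans hc))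
      (shift_mem_GC (H19.ZB_le O) h1 h2 h3 (inf_le_left.trans hc)))
      (shift_mem_GC (H19.ZB_le O) (star_mem_vchar (irr_vchar hθ)) hyN inf_le_right
        (inf_le_left.trans hc)))
    simp only [T]
    rw [sum_sub_eq, mul_comm, ← div_eq_mul_inv]
    exact this
  have e1 : dot N (H19.cosInd y P * η * θ) θ = (P ⊔ N).index * T θ := by
    have h1 := H19.sum_cosInd_mul y P (η := fun x => η x * θ x * conj (θ x))
      (fun g x => by simp only [hηc g x, hcl])
    have h2 : ∑ u : P, η (y * u) * θ (y * u) * conj (θ (y * u)) =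
        ∑ u ∈ fs ((P ⊓ N : Subgroup G) : Set G), η (y * u) * θ (y * u) * conj (θ (y * u)) := by
      rw [← sum_sub_eq P (fun u => η (y * u) * θ (y * u) * conj (θ (y * u)))]
      refine (sum_fs_subset (fun _ h => h.1) fun x hx hx' => ?_).symm
      rw [cf_zero hθc (x := y * x) fun h => hx' ⟨hx, (N.mul_mem_cancel_left hyN).1 h⟩]
      simp
    have h3 : ∑ x ∈ fs (N : Set G), (H19.cosInd y P * η * θ) x * conj (θ x) =
        ∑ g, H19.cosInd y P g * (η g * θ g * conj (θ g)) := by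
      rw [← sum_top_eq, sum_fs_subset (B := ((⊤ : Subgroup G) : Set G)) (fun _ _ => trivial)
        fun x _ hx => by rw [cf_zero hθc hx]; simp]
      simp only [Pi.mul_apply, mul_assoc]
    have h4 := H10.card_inf_mul_relIndex N P
    have h5 : N.relIndex (P ⊔ N) * (P ⊔ N).index = N.index :=
      Subgroup.relIndex_mul_index le_sup_right
    rw [Subgroup.relIndex_sup_right] at h5
    have h6 := N.card_mul_index
    rw [inf_comm] at h4
    rw [h2, inv_mul_eq_iff_eq_mul₀ card_ne_zero_complex] at h1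
    rw [dot_def, h3, h1, ← h6, ← h5, ← h4]
    simp only [T]
    have := card_ne N
    have := card_ne (P ⊓ N)
    have := relIndex_ne N P
    push_cast
    field_simp
  have hTθ := hT (irr_vchar hθ) hyN inf_le_right
  have hj : P ⊔ N = ⊤ := by
    have h1 : (P ⊔ N).index ∣ p ^ k := hind ▸ Subgroup.index_dvd_of_le le_sup_right
    obtain ⟨i, -, hi⟩ := (Nat.dvd_prime_pow hp.out).1 h1
    rcases i with _ | i
    · rwa [pow_zero, Subgroup.index_eq_one] at hi
    · refine absurd ?_ hL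
      rw [e1]
      exact H19.nonunits_mul_right ((H19.natCast_mem_nonunits_iff p _).2
        (hi ▸ dvd_pow_self p i.succ_ne_zero)) hTθ
  rw [e1, hj, Subgroup.index_top, Nat.cast_one, one_mul] at hL
  have e2 : T θ = ∑ φ ∈ Irr M, dot M θ φ * T φ := by
    simp only [T, Finset.mul_sum]
    rw [Finset.sum_comm]
    refine sum_fs_congr fun u hu => ?_
    have h1 := cf_apply_eq_sum (Res_mem_cf (H := M) inf_le_right hθc) (y * u)
    rw [Res_of_mem _ (M.mul_mem hyM (hQM hu))] at h1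
    simp only [dot_Res_left] at h1
    conv_lhs => rw [h1]
    rw [← h1]
    conv_lhs => enter [2, 1, 2]; rw [h1]
    simp only [Finset.mul_sum, Finset.sum_mul]
    exact Finset.sum_congr rfl fun φ _ => by ring
  by_contra hcon
  push Not at hcon
  refine hL (e2 ▸ sum_mem_of_orb O.nonunits hp.out hP _
    (fun φ hφ g hg => cfj_mem_Irr_norm (hPM hg) hφ) _ (fun φ hφ g hg => ?_) (fun φ hφ => ?_)
    fun φ hφ hst => ?_)
  · have h1 : dot M θ (cfj g φ) = dot M θ φ := by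
      conv_lhs => rw [← mem_stab.1 (hs (Subgroup.mem_top g))]
      exact dot_cfj_norm (hPM hg) _ _
    rw [h1]
    simp only [T]
    congr 2
    rw [← sum_conj_norm (hPQ hg)]
    refine sum_fs_congr fun u _ => ?_
    have : y * (g * u * g⁻¹) = g * (y * u) * g⁻¹ := by
      rw [← mul_assoc, ← mul_assoc, ← hcy g hg]; group
    rw [this, cfj_conj, hcl, hηc]
  · obtain ⟨n, hn⟩ := (irr_char hθ).dot_nat_of_le (H := M) inf_le_right (irr_char hφ)
    rw [hn]
    exact H19.nonunits_mul_right ((H19.natCast_mem_nonunits_iff p _).2 dvd_rfl)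
      (mul_mem (natCast_mem O n) (hT (irr_vchar hφ) hyM hQM))
  · obtain ⟨n, hn⟩ := (irr_char hθ).dot_nat_of_le (H := M) inf_le_right (irr_char hφ)
    rw [hn]
    refine H19.nonunits_mul_right ((H19.natCast_mem_nonunits_iff p _).2 ?_)
      (hT (irr_vchar hφ) hyM hQM)
    by_contra h
    exact hcon y P φ hy hP hc hyN hj hφ hst n h hn

theorem exists_lin_ext {E : Subgroup G} (hME : M ≤ E) (hφ : IsLin M φ)
    (h : ⁅E, E⁆ ⊓ M ≤ cfker φ) : ∃ χ, IsLin E χ ∧ Res (M : Set G) χ = φ := by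
  obtain ⟨l, rfl⟩ := hφ.exists_hom
  let f : M →* Abelianization E := Abelianization.of.comp (Subgroup.inclusion hME)
  have hk : f.rangeRestrict.ker ≤ l.ker := fun x hx => by
    rw [MonoidHom.ker_rangeRestrict, MonoidHom.mem_ker] at hx
    have h1 : Subgroup.inclusion hME x ∈ commutator E := (QuotientGroup.eq_one_iff _).1 hx
    have h2 : (x : G) ∈ ⁅E, E⁆ := by
      rw [← Subgroup.map_subtype_commutator]
      exact ⟨_, h1, rfl⟩
    have h3 := hφ.mem_cfker.1 (h ⟨h2, x.2⟩)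
    rw [ofHom_coe] at h3
    exact Units.ext h3
  obtain ⟨μ, hμ⟩ := exists_extend_units f.range.subtype f.range.subtype_injective
    (f.rangeRestrict.liftOfSurjective f.rangeRestrict_surjective ⟨l, hk⟩)
  refine ⟨ofHom E (μ.comp Abelianization.of), isLin_ofHom _, cf_ext
    (Res_mem_cf hME (isLin_ofHom _).cf) hφ.cf fun x hx => ?_⟩
  have h1 := hμ (f.rangeRestrict ⟨x, hx⟩)
  rw [MonoidHom.liftOfSurjective, MonoidHom.liftOfRightInverse_comp_apply] at h1
  rw [Res_of_mem _ hx, ofHom_apply l hx, ofHom_apply _ (hME hx), ← h1]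
  rfl

theorem dade_ext [hp : Fact p.Prime] [hN : N.Normal] {k : ℕ} (hind : N.index = p ^ k)
    (hP : Syl(p, P, ⊤)) (hc : P ⊓ N ≤ 𝒞(P)) (hd : ⁅P, P⁆ ⊓ N = ⊥)
    (hθ : θ ∈ Irr N) (hs : ⊤ ≤ stab θ) : ∃ χ ∈ Irr ⊤, Res (N : Set G) χ = θ := by
  classical
  obtain ⟨y, R, φ, hy, hR, hRy, hyN, hj, hφ, -, m, hm, e⟩ := dade_elem hind hθ hs
  obtain ⟨g, -, hg⟩ := hP.exists_le_cj hR.isPi le_top
  have hcj : ∀ g : G, cj(g, N) = N := fun g =>
    cj_of_mem_norm (by rw [Subgroup.normalizer_eq_top]; trivial)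
  have hc' : R ⊓ N ≤ 𝒞(R) := by
    refine le_trans ?_ (Subgroup.centralizer_le hg)
    rw [← cj_cent, ← hcj g]
    refine (inf_le_inf_right _ hg).trans ?_
    rw [← cj_inf]
    exact Subgroup.map_mono hc
  have hd' : ⁅R, R⁆ ⊓ N = ⊥ := by
    rw [eq_bot_iff, ← hcj g]
    refine (inf_le_inf_right _ (Subgroup.commutator_mono hg hg)).trans ?_
    rw [← Subgroup.map_commutator, ← cj_inf, hd, Subgroup.map_bot]
  set E := Subgroup.zpowers y ⊔ R with hE
  have hyR : Subgroup.zpowers y ≤ 𝒞(R) :=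
    Subgroup.le_centralizer_iff.1 (by rwa [Subgroup.zpowers_eq_closure, Subgroup.centralizer_closure])
  have hyE : Subgroup.zpowers y ≤ 𝒞(E) := Subgroup.le_centralizer_iff.1 (sup_le
    (Subgroup.le_centralizer _) (Subgroup.le_centralizer_iff.1 hyR))
  have hmem : ∀ x ∈ E, ∃ a ∈ Subgroup.zpowers y, ∃ b ∈ R, a * b = x := fun x hx => by
    have : x ∈ (E : Set G) := hx
    rwa [Subgroup.coe_mul_of_right_le_normalizer_left _ _ (le_norm_of_le_cent (cent_comm hyR))]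
      at this
  have hEE : ⁅E, E⁆ ≤ ⁅R, R⁆ := Subgroup.commutator_le.2 fun x hx z hz => by
    obtain ⟨a, ha, b, hb, rfl⟩ := hmem x hx
    obtain ⟨c, hc, d, hd, rfl⟩ := hmem z hz
    have h1 : Commute a c := (hyE ha c (Subgroup.mem_sup_left hc)).symm
    have h2 : Commute a d := (hyR ha d hd).symm
    have h3 : Commute b c := hyR hc b hb
    have h4 : Commute a b := (hyR ha b hb).symm
    have h5 : Commute c d := (hyR hc d hd).symm
    have : ⁅a * b, c * d⁆ = ⁅b, d⁆ := by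
      have h6 : Commute a (c * d) := h1.mul_right h2
      have h7 : Commute c (d * b⁻¹) := h5.mul_right h3.symm.inv_right
      calc ⁅a * b, c * d⁆ = a * (b * (c * d) * b⁻¹) * a⁻¹ * (c * d)⁻¹ := by
            rw [commutatorElement_def]; group
        _ = b * (c * (d * b⁻¹)) * (c * d)⁻¹ := by
            rw [((h4.mul_right h6).mul_right h4.inv_right).eq]; group
        _ = ⁅b, d⁆ := by rw [h7.eq, h5.eq, commutatorElement_def]; group
    rw [this]
    exact Subgroup.commutator_mem_commutator hb hd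
  have hM : IsMulCommutative ↥(E ⊓ N) := by
    refine comm_of_le_cent ?_
    have h1 : E ⊓ N ≤ Subgroup.zpowers y ⊔ R ⊓ N := fun x hx => by
      obtain ⟨a, ha, b, hb, rfl⟩ := hmem x hx.1
      exact Subgroup.mul_mem_sup ha ⟨hb, (N.mul_mem_cancel_left
        (Subgroup.zpowers_le.2 hyN ha)).1 hx.2⟩
    refine h1.trans (le_trans (sup_le hyE (Subgroup.le_centralizer_iff.1 (sup_le
      (hyR.trans (Subgroup.centralizer_le inf_le_left)) (Subgroup.le_centralizer_iff.1 hc'))))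
      (Subgroup.centralizer_le inf_le_left))
  obtain ⟨ψ, hψ, e1⟩ := exists_lin_ext (E := E) inf_le_left (isLin_of_comm hM hφ)
    (le_trans (inf_le_inf hEE inf_le_right) (hd' ▸ bot_le))
  have hn : (⊤ : Subgroup G) ≤ 𝒩(N) := by rw [Subgroup.normalizer_eq_top]
  have e2 : dot N (Ind ⊤ E ψ) θ = m := by
    rw [← dot_Res_left, Res_Ind_of_mul le_top le_top (fun x _ => by
      have : x ∈ N ⊔ E := by
        rw [eq_top_iff.2 (hj.ge.trans (sup_le (le_sup_right.trans le_sup_right) le_sup_left))]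
        trivial
      obtain ⟨a, ha, b, hb, rfl⟩ := Subgroup.mem_sup_of_normal_left.1 this
      exact ⟨a, ha, b, hb, rfl⟩) hψ.cf, dot_Ind_left inf_le_left _ (irr_cf hθ), inf_comm,
      ← dot_Res_left, e1, dot_symm_nat e]
  have hI := hψ.char.Ind (K := ⊤) le_top
  rw [cf_eq_sum hI.cf, dot_sum_left] at e2
  by_contra hcon
  push Not at hcon
  have key : ∀ χ ∈ Irr ⊤, ∃ n : ℕ, p ∣ n ∧ dot N (dot ⊤ (Ind ⊤ E ψ) χ • χ) θ = n := by
    intro χ hχ
    obtain ⟨a, ha⟩ := hI.dot_nat (irr_char hχ)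
    rw [dot_smul_left, ha]
    by_cases h0 : dot N χ θ = 0
    · exact ⟨0, dvd_zero _, by rw [h0]; simp⟩
    obtain ⟨n, h1, h2⟩ := clifford_dot_dvd le_top hn hθ (mem_over.2 ⟨hχ, h0⟩)
    rw [Subgroup.relIndex_top_right, hind] at h2
    obtain ⟨i, -, hi⟩ := (Nat.dvd_prime_pow hp.out).1 h2
    rcases i with _ | i
    · refine absurd ?_ (hcon χ hχ)
      rw [clifford le_top hn hχ hθ h0, orb_of_le_stab hs, h1, hi]; simp
    · exact ⟨a * n, (hi ▸ dvd_pow_self p i.succ_ne_zero : p ∣ n).mul_left _, by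
        rw [h1, Nat.cast_mul]⟩
  choose! n h1 h2 using key
  rw [Finset.sum_congr rfl h2, ← Nat.cast_sum, Nat.cast_inj] at e2
  exact hm (e2 ▸ Finset.dvd_sum h1)

end H21
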