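/-
The Alperin–Feit–Thompson theorem on involutions in 2-groups.
-/
import Cfsg.Agent.H21.FS
import Cfsg.Agent.H2.Frob
import Cfsg.Agent.H1.Fitting

set_option autoImplicit false
set_option linter.unusedSectionVars false
open Cfsg H17 Subgroup
open scoped ComplexConjugate commutatorElement

namespace H21

variable {G : Type*} [Group G]

/-- central elements of order at most two -/
def zInv (G : Type*) [Group G] : Subgroup G where
  carrier := {z | z ∈ center G ∧ z * z = 1}
  one_mem' := ⟨one_mem _, one_mul 1⟩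
  mul_mem' := fun {a b} ha hb => ⟨mul_mem ha.1 hb.1, by
    rw [mul_assoc, ← mul_assoc b, mem_center_iff.1 ha.1 b, mul_assoc, hb.2, mul_one, ha.2]⟩
  inv_mem' := fun {a} ha => ⟨inv_mem ha.1, by rw [← mul_inv_rev, ha.2, inv_one]⟩

instance zInv_normal : (zInv G).Normal :=
  ⟨fun n hn g => by rwa [mem_center_iff.1 hn.1 g, mul_inv_cancel_right]⟩

theorem map_comm_surj {Q : Type*} [Group Q] {f : G →* Q} (hf : Function.Surjective f) :
    (commutator G).map f = commutator Q := by
  rw [map_commutator_eq, MonoidHom.range_eq_top.2 hf]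
  rfl

variable [Finite G]

theorem card_zInv_dvd : Nat.card (zInv G) ∣ Nat.card {s : G // s * s = 1} :=
  H2.card_dvd_of_free (A := zInv G) {s : G | s * s = 1} (fun a x hx => by
    change (a : G) * x * (a * x) = 1
    rw [mul_assoc, ← mul_assoc x, mem_center_iff.1 a.2.1 x, mul_assoc, hx, mul_one, a.2.2])
    fun a x _ h => Subtype.ext (mul_eq_right.1 h)

theorem exists_zInv (hG : IsPGroup 2 G) (N : Subgroup G) [N.Normal] (h : N ≠ ⊥) :
    ∃ z ∈ N, z ∈ zInv G ∧ z ≠ 1 := by
  haveI : Fact (Nat.Prime 2) := ⟨Nat.prime_two⟩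
  haveI := hG.isNilpotent
  have h1 := H1.inf_center_ne_bot N h
  obtain ⟨n, hn0, hn⟩ := (hG.to_subgroup (N ⊓ center G)).nontrivial_iff_card.1
    ((nontrivial_iff_ne_bot _).2 h1)
  obtain ⟨z, hz⟩ := exists_prime_orderOf_dvd_card' (G := ↥(N ⊓ center G)) 2
    (hn ▸ dvd_pow_self 2 hn0.ne')
  rw [← orderOf_coe] at hz
  exact ⟨z, z.2.1, ⟨z.2.2, by rw [← pow_two, ← hz, pow_orderOf_eq_one]⟩, fun h => by simp [h] at hz⟩

theorem two_dvd_card_zInv (hG : IsPGroup 2 G) [Nontrivial G] : 2 ∣ Nat.card (zInv G) := by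
  haveI : Fact (Nat.Prime 2) := ⟨Nat.prime_two⟩
  obtain ⟨z, -, h1, h2⟩ := exists_zInv hG ⊤ top_ne_bot
  obtain ⟨n, hn0, hn⟩ := (hG.to_subgroup (zInv G)).nontrivial_iff_card.1
    ((nontrivial_iff_ne_bot _).2 fun h => h2 (mem_bot.1 (h ▸ h1)))
  exact hn ▸ dvd_pow_self 2 hn0.ne'

theorem deg_two_group (hG : IsPGroup 2 G) {χ : G → ℂ} (h : IsIrrCharacter G χ) :
    charDegree χ = 1 ∨ charDegree χ = 2 ∨ 4 ∣ charDegree χ := by
  haveI : Fact (Nat.Prime 2) := ⟨Nat.prime_two⟩
  obtain ⟨n, hn⟩ := hG.exists_card_eq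
  obtain ⟨k, -, hk⟩ := (Nat.dvd_prime_pow Nat.prime_two).1
    (hn ▸ h.degree_dvd_card (charDegree_cast h.isCharacter).symm)
  rw [hk]
  rcases k with _ | _ | k
  · simp
  · simp
  · exact Or.inr (Or.inr ⟨2 ^ k, by ring⟩)

theorem index_comm_le_cent (g : G) : (commutator G).index ≤ Nat.card (centralizer ({g} : Set G)) := by
  classical
  have h1 := sum_normSq_irr g
  have h2 : ((commutator G).index : ℝ) =
      ∑ χ ∈ Finset.univ.filter (fun χ : IrrCharacter G => (χ : G → ℂ) 1 = 1), ‖(χ : G → ℂ) g‖ ^ 2 := by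
    rw [Finset.sum_congr rfl fun χ hχ => by
      rw [norm_eq_one_of_one_eq_one χ.2.isCharacter (Finset.mem_filter.1 hχ).2], ← card_linear_irr,
      Nat.card_eq_fintype_card, Fintype.card_subtype]
    simp
  rw [← Nat.cast_le (α := ℝ), ← h1, h2]
  exact Finset.sum_le_sum_of_subset_of_nonneg (Finset.subset_univ _) fun _ _ _ => sq_nonneg _

theorem four_dvd_index_comm (hG : IsPGroup 2 G) (h4 : 4 ∣ Nat.card G) :
    4 ∣ (commutator G).index := by
  classical
  have h1 := sum_deg_sq (G := G)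
  rw [← Finset.sum_filter_add_sum_filter_not _ (fun χ : IrrCharacter G => (χ : G → ℂ) 1 = 1),
    Finset.sum_congr rfl fun χ hχ => by
      rw [(charDegree_eq_one_iff χ.2.isCharacter).2 (Finset.mem_filter.1 hχ).2]] at h1
  rw [← card_linear_irr, Nat.card_eq_fintype_card, Fintype.card_subtype]
  simp only [one_pow, Finset.sum_const, smul_eq_mul, mul_one] at h1
  refine (Nat.dvd_add_left (Finset.dvd_sum fun χ hχ => ?_)).1 (h1 ▸ h4)
  rcases deg_two_group hG χ.2 with h | h | h
  · exact absurd ((charDegree_eq_one_iff χ.2.isCharacter).1 h) (Finset.mem_filter.1 hχ).2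
  · simp [h]
  · exact h.trans (dvd_pow_self _ two_ne_zero)

theorem index_comm_le_four (hG : IsPGroup 2 G) (hK : Nat.card (zInv G) = 2) {χ : G → ℂ}
    (h : IsIrrCharacter G χ) (hf : charKer χ = ⊥) (h2 : χ 1 = 2) (hr : ∀ g, (χ g).im = 0) :
    (commutator G).index ≤ 4 := by
  haveI : Fact (Nat.Prime 2) := ⟨Nat.prime_two⟩
  haveI := hG.isNilpotent
  haveI := Fintype.ofFinite G
  have hZ : center G ≤ zInv G := fun c hc => by
    obtain ⟨l, hl⟩ := h.exists_linear_center
    have h1 := hl ⟨c, hc⟩ 1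
    have h3 := hl ⟨c, hc⟩⁻¹ 1
    simp only [mul_one, h2, coe_inv, h.isCharacter.apply_inv, Complex.conj_eq_iff_im.2 (hr c)] at h1 h3
    have h4 : l ⟨c, hc⟩ = l ⟨c, hc⟩⁻¹ := Units.ext (mul_right_cancel₀ two_ne_zero (h1.symm.trans h3))
    refine ⟨hc, mem_bot.1 (hf ▸ h.mem_charKer.2 ?_)⟩
    have h5 := hl (⟨c, hc⟩ * ⟨c, hc⟩) 1
    rw [map_mul, mul_one] at h5
    nth_rewrite 1 [h4] at h5
    rw [← map_mul, inv_mul_cancel, map_one, Units.val_one, one_mul] at h5
    exact h5
  obtain ⟨H, l, e⟩ := h.monomial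
  have hH : H.index = 2 := by
    rw [e, indFun_one, map_one, Units.val_one, mul_one] at h2
    exact_mod_cast h2
  haveI := normal_of_index_eq_two hH
  have hab : ∀ a b : H, (a : G) * b = b * a := fun a b => by
    have h1 : χ (a * b * a⁻¹ * b⁻¹ : H) = χ 1 := by
      rw [e, ← coe_one, indFun_normal_apply, indFun_normal_apply]
      refine congrArg _ (Finset.sum_congr rfl fun x _ => ?_)
      have h3 : ∀ y : H, (⟨x * y * x⁻¹, (inferInstance : H.Normal).conj_mem y y.2 x⟩ : H) =
        MulAut.conjNormal x y := fun y => rfl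
      simp only [h3, map_mul, map_inv, map_one]
      rw [mul_comm (l _), mul_inv_cancel_right, mul_inv_cancel]
    have h3 := mem_bot.1 (hf ▸ h.mem_charKer.2 h1)
    simpa [mul_inv_eq_iff_eq_mul] using h3
  obtain ⟨g, hg⟩ : ∃ g, g ∉ H := by
    by_contra hc
    push Not at hc
    rw [(eq_top_iff' H).2 hc, index_top] at hH
    omega
  refine (index_comm_le_cent g).trans ?_
  have h3 : H ⊓ centralizer ({g} : Set G) ≤ zInv G := fun c hc => hZ (mem_center_iff.2 fun x => by
    by_cases hx : x ∈ H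
    · exact hab ⟨x, hx⟩ ⟨c, hc.1⟩
    · have h4 : g⁻¹ * x ∈ H := (mul_mem_iff_of_index_two hH).2 (by simp [hg, hx])
      have h5 := hab ⟨_, h4⟩ ⟨c, hc.1⟩
      have h6 := mem_centralizer_iff.1 hc.2 g rfl
      simp only at h5
      calc x * c = g * (g⁻¹ * x * c) := by group
        _ = c * x := by rw [h5, ← mul_assoc, h6]; group)
  have h4 := card_le_of_le h3
  have h5 : H.relIndex (centralizer ({g} : Set G)) ≤ 2 :=
    Nat.le_of_dvd two_pos (hH ▸ relIndex_dvd_index_of_normal H _)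
  rw [← H1.card_mul_relIndex (inf_le_right : H ⊓ centralizer ({g} : Set G) ≤ _), inf_relIndex_right]
  exact Nat.mul_le_mul (hK ▸ h4) h5

theorem card_sq_quot (K : Subgroup G) [K.Normal] :
    Nat.card {s : G // s * s ∈ K} = Nat.card K * Nat.card {s : G ⧸ K // s * s = 1} := by
  have := QuotientGroup.card_preimage_mk K {s : G ⧸ K | s * s = 1}
  refine Eq.trans (Nat.card_congr (Equiv.subtypeEquivRight fun s => ?_)) this
  rw [← QuotientGroup.eq_one_iff]
  rfl

theorem aft_aux.{u} (n : ℕ) : ∀ (G : Type u) [Group G] [Finite G], Nat.card G = n →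
    IsPGroup 2 G → Nat.card {s : G // s * s = 1} % 4 = 2 →
    IsCyclic G ∨ (commutator G).index = 4 := by
  induction n using Nat.strong_induction_on with
  | _ n ih =>
  intro G _ _ hn hG ht
  classical
  haveI : Fact (Nat.Prime 2) := ⟨Nat.prime_two⟩
  haveI := Fintype.ofFinite G
  rcases subsingleton_or_nontrivial G with h | h
  · exact Or.inl inferInstance
  have hK : Nat.card (zInv G) = 2 := by
    obtain ⟨k, hk⟩ := (hG.to_subgroup (zInv G)).exists_card_eq
    have h1 := two_dvd_card_zInv hG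
    have h2 := card_zInv_dvd (G := G)
    rw [hk] at h1 h2 ⊢
    rcases k with _ | _ | k
    · simp at h1
    · rfl
    · have := (Dvd.intro (2 ^ k) (by ring) : 4 ∣ 2 ^ (k + 1 + 1)).trans h2
      omega
  obtain ⟨z, -, hz, hz1⟩ := exists_zInv hG ⊤ top_ne_bot
  have hz2 : ∀ w ∈ zInv G, w ≠ 1 → w = z := fun w hw h1 => by
    obtain ⟨y, -, hy⟩ := (Nat.card_eq_two_iff' (1 : zInv G)).1 hK
    exact congrArg Subtype.val ((hy ⟨w, hw⟩ fun h => h1 (congrArg Subtype.val h)).trans
      (hy ⟨z, hz⟩ fun h => hz1 (congrArg Subtype.val h)).symm)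
  have hN : ∀ (N : Subgroup G) [N.Normal], N ≠ ⊥ → z ∈ N := fun N _ h => by
    obtain ⟨w, h1, h2, h3⟩ := exists_zInv hG N h
    exact hz2 w h2 h3 ▸ h1
  have hf : ∀ χ, IsIrrCharacter G χ → χ z ≠ χ 1 → charKer χ = ⊥ := fun χ hχ h1 => by
    haveI := hχ.isCharacter.charKer_normal
    by_contra h2
    exact h1 (hχ.mem_charKer.1 (hN _ h2))
  by_cases hab : commutator G = ⊥
  · obtain ⟨χ, h1, h2⟩ := exists_irr_apply_ne hz1
    have h3 := h1.isCyclic_center (hf χ h1 h2)
    rw [(commutator_eq_bot_iff_center_eq_top G).1 hab] at h3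
    exact Or.inl (isCyclic_of_surjective _ topEquiv.surjective)
  refine Or.inr ?_
  have hKc : zInv G ≤ commutator G := fun w hw => by
    by_cases h1 : w = 1
    · exact h1 ▸ one_mem _
    · exact hz2 w hw h1 ▸ hN _ hab
  have hnc : ¬ IsCyclic (G ⧸ zInv G) := fun hc => hab (by
    letI := commGroupOfCyclicCenterQuotient (QuotientGroup.mk' (zInv G))
      (by rw [QuotientGroup.ker_mk']; exact fun _ h => h.1)
    exact commutator_eq_bot G)
  have hQ := hG.to_quotient (zInv G)
  have hc := (zInv G).card_eq_card_quotient_mul_card_subgroup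
  haveI : Nontrivial (G ⧸ zInv G) := by
    by_contra h1
    rw [not_nontrivial_iff_subsingleton] at h1
    exact hnc inferInstance
  have h2Q := (two_dvd_card_zInv hQ).trans card_zInv_dvd
  by_cases h1 : Nat.card {s : G ⧸ zInv G // s * s = 1} % 4 = 2
  · have h2 := (ih _ (by have := Nat.card_pos (α := G ⧸ zInv G); rw [hK] at hc; omega)
      _ rfl hQ h1).resolve_left hnc
    rwa [← map_comm_surj (QuotientGroup.mk'_surjective _), index_map_eq _
      (QuotientGroup.mk'_surjective _) (by rwa [QuotientGroup.ker_mk'])] at h2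
  have h2 : 8 ∣ Nat.card {s : G // s * s = 1} + Nat.card {s : G // s * s = z} := by
    have h3 := card_sq_quot (zInv G)
    have h4 : Nat.card {s : G // s * s ∈ zInv G} =
        Nat.card {s : G // s * s = 1} + Nat.card {s : G // s * s = z} := by
      simp only [Nat.card_eq_fintype_card, Fintype.card_subtype]
      rw [← Finset.card_union_of_disjoint (Finset.disjoint_filter.2 fun x _ h1 h2 =>
        hz1 (h2.symm.trans h1)), ← Finset.filter_or]
      congr 2
      ext x
      exact ⟨fun h => or_iff_not_imp_left.2 (hz2 _ h),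
        fun h => h.elim (fun h => h ▸ one_mem _) fun h => h ▸ hz⟩
    rw [hK] at h3
    omega
  obtain ⟨ν, -, h3, h4, h5⟩ := exists_nu (G := G)
  by_contra hc4
  have h6 : ∀ χ : IrrCharacter G, ∃ m : ℤ,
      (ν χ : ℂ) * (χ : G → ℂ) 1 - ν χ * (χ : G → ℂ) z = 8 * m := fun χ => by
    by_cases h6 : (χ : G → ℂ) z = (χ : G → ℂ) 1
    · exact ⟨0, by simp [h6]⟩
    by_cases h7 : ν χ = 0
    · exact ⟨0, by simp [h7]⟩
    have h8 : (χ : G → ℂ) z = -(χ : G → ℂ) 1 := by
      obtain ⟨l, hl⟩ := χ.2.exists_linear_center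
      have h8 := hl ⟨z, hz.1⟩ 1
      have h9 : (l ⟨z, hz.1⟩ : ℂ) * l ⟨z, hz.1⟩ = 1 := by
        rw [← Units.val_mul, ← map_mul, show (⟨z, hz.1⟩ * ⟨z, hz.1⟩ : center G) = 1 from
          Subtype.ext hz.2, map_one, Units.val_one]
      rw [mul_one] at h8
      rcases mul_self_eq_one_iff.1 h9 with h | h
      · exact absurd (by rw [h8, h, one_mul]) h6
      · rw [h8, h, neg_one_mul]
    rcases deg_two_group hG χ.2 with h | h | ⟨m, h⟩
    · exact absurd (χ.2.mem_charKer.1 (χ.2.isCharacter.commutator_le_charKer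
        ((charDegree_eq_one_iff χ.2.isCharacter).1 h) (hKc hz))) h6
    · have h9 := index_comm_le_four hG hK χ.2 (hf _ χ.2 h6)
        ((charDegree_eq_iff χ.2.isCharacter).1 h) ((h4 χ).1 h7)
      have h10 := four_dvd_index_comm hG (by
        obtain ⟨k, hk0, hk⟩ := hQ.nontrivial_iff_card.1 inferInstance
        rw [hc, hK, hk]
        exact mul_dvd_mul (dvd_pow_self 2 hk0.ne') dvd_rfl)
      exact absurd (le_antisymm h9 (Nat.le_of_dvd (Nat.pos_of_ne_zero index_ne_zero_of_finite) h10))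
        hc4
    · exact ⟨ν χ * m, by rw [h8, ← irr_charDegree_cast, h]; push_cast; ring⟩
  choose m hm using h6
  have h7 : ((Nat.card {s : G // s * s = 1} - Nat.card {s : G // s * s = z} : ℤ) : ℂ) =
      ((8 * ∑ χ, m χ : ℤ) : ℂ) := by
    push_cast
    rw [h5, h5, ← Finset.sum_sub_distrib, Finset.mul_sum]
    exact Finset.sum_congr rfl fun χ _ => hm χ
  have h8 := Int.cast_injective h7
  omega

end H21
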