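import Cfsg.Agent.H17.Ker
import Cfsg.Agent.H9.Basic
import Cfsg.Agent.H25.Zsig

/-! Finite p-groups with small centralizers outside a normal subgroup, and their automorphisms. -/

set_option autoImplicit false
set_option linter.unusedSectionVars false

namespace H21

open H17 Cfsg Subgroup
open scoped Classical commutatorElement

universe u

theorem card_centralizer_mk_le {G : Type*} [Group G] [Finite G] (N : Subgroup G) [N.Normal]
    (x : G) : Nat.card (centralizer ({(x : G ⧸ N)} : Set (G ⧸ N))) ≤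
      Nat.card (centralizer ({x} : Set G)) := by
  have h1 := sum_normSq_irr (x : G ⧸ N)
  have h2 := sum_normSq_irr x
  have h3 := sum_irr_ker_eq N (fun φ : G → ℂ => ‖φ x‖ ^ 2)
  have h4 : ∑ χ ∈ Finset.univ.filter (fun χ : IrrCharacter G => N ≤ charKer (χ : G → ℂ)),
      ‖(χ : G → ℂ) x‖ ^ 2 ≤ ∑ χ : IrrCharacter G, ‖(χ : G → ℂ) x‖ ^ 2 :=
    Finset.sum_le_sum_of_subset_of_nonneg (Finset.filter_subset _ _) fun _ _ _ => by positivity
  rw [h3, h2] at h4
  have h5 : (Nat.card (centralizer ({(x : G ⧸ N)} : Set (G ⧸ N))) : ℝ) ≤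
      Nat.card (centralizer ({x} : Set G)) := by rw [← h1]; exact h4
  exact_mod_cast h5

theorem semiconj_pow {S T : Type*} [Group S] [Group T] (f : S → T) (φ : MulAut S) (ψ : MulAut T)
    (h : ∀ x, f (φ x) = ψ (f x)) (k : ℕ) (x : S) : f ((φ ^ k) x) = (ψ ^ k) (f x) := by
  induction k with
  | zero => rfl
  | succ k ih => rw [pow_succ', pow_succ', MulAut.mul_apply, MulAut.mul_apply, h, ih]

theorem map_eq_of_maps {S : Type*} [Group S] [Finite S] (φ : MulAut S) {Z : Subgroup S}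
    (h : ∀ z ∈ Z, φ z ∈ Z) : Z.map (φ : S →* S) = Z := by
  apply eq_of_le_of_card_ge
  · rintro _ ⟨z, hz, rfl⟩; exact h z hz
  · exact (card_map_of_injective φ.injective).ge

theorem fix_of_small {p q m e : ℕ} [hp : Fact p.Prime] (hm : m.Coprime p)
    (hgood : ∀ (W : Type u) [Group W] [Finite W], IsPGroup p W → Nat.card W < q →
      ∀ ψ : MulAut W, ψ ^ m = 1 → ψ ^ e = 1) (n : ℕ) :
    ∀ (S : Type u) [Group S] [Finite S], Nat.card S = n → IsPGroup p S →
      ∀ (S0 : Subgroup S) [S0.Normal], S0 ≠ ⊤ →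
      (∀ x, x ∉ S0 → Nat.card (centralizer ({x} : Set S)) ≤ q) →
      ∀ φ : MulAut S, φ ^ m = 1 → (∀ s ∈ S0, φ s ∈ S0) → ∀ s ∈ S0, (φ ^ e) s = s := by
  induction n using Nat.strong_induction_on with
  | _ n ih =>
  intro S _ _ hn hS S0 _ hS0 hC φ hφ hinv s hs
  by_cases hb : S0 = ⊥
  · subst hb; rw [mem_bot.1 hs, map_one]
  haveI : Group.IsNilpotent S := hS.isNilpotent
  set Z := S0 ⊓ center S with hZ
  have hZb : Z ≠ ⊥ := H9.inf_center_ne_bot hb
  haveI : Z.Normal := inferInstance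
  have hZinv : ∀ z ∈ Z, φ z ∈ Z := by
    intro z hz
    refine ⟨hinv z hz.1, mem_center_iff.2 fun g => ?_⟩
    obtain ⟨g, rfl⟩ := φ.surjective g
    rw [← map_mul, ← map_mul, mem_center_iff.1 hz.2]
  have hZm := map_eq_of_maps φ hZinv
  obtain ⟨x0, hx0⟩ : ∃ x0, x0 ∉ S0 := by
    by_contra h; push Not at h; exact hS0 (eq_top_iff.2 fun x _ => h x)
  -- the action on `Z`
  have hZq : Nat.card Z < q := by
    refine lt_of_lt_of_le ?_ (hC x0 hx0)
    have hle : Z ≤ centralizer {x0} := fun z hz => mem_centralizer_singleton_iff.2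
      (mem_center_iff.1 hz.2 x0).symm
    refine lt_of_le_of_ne (card_le_of_le hle) fun h => hx0 ?_
    have h' : Z = centralizer {x0} := eq_of_le_of_card_ge hle h.ge
    have : x0 ∈ Z := by rw [h']; exact mem_centralizer_singleton_iff.2 rfl
    exact this.1
  let ψ : MulAut Z := (φ.subgroupMap Z).trans (MulEquiv.subgroupCongr hZm)
  have hψ : ∀ z : Z, ((ψ z : Z) : S) = φ z := fun z => rfl
  have hψk : ∀ k (z : Z), (((ψ ^ k) z : Z) : S) = (φ ^ k) z := fun k z =>
    semiconj_pow (fun z : Z => (z : S)) ψ φ hψ k z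
  have hψe : ψ ^ e = 1 := hgood Z (hS.to_subgroup Z) hZq ψ (by
    ext z; rw [hψk, hφ]; rfl)
  have hZfix : ∀ z ∈ Z, (φ ^ e) z = z := by
    intro z hz
    have := hψk e ⟨z, hz⟩
    rw [hψe] at this
    exact this.symm
  -- the quotient
  let φ' : MulAut (S ⧸ Z) := QuotientGroup.congr Z Z φ hZm
  have hφ' : ∀ x : S, ((φ x : S) : S ⧸ Z) = φ' (x : S ⧸ Z) := fun x => rfl
  have hφ'k : ∀ k (x : S), (((φ ^ k) x : S) : S ⧸ Z) = (φ' ^ k) (x : S ⧸ Z) := fun k x =>
    semiconj_pow (fun x : S => (x : S ⧸ Z)) φ φ' hφ' k x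
  have hlt : Nat.card (S ⧸ Z) < n := by
    rw [← hn, ← index_eq_card, ← Z.card_mul_index]
    have h1 : 1 < Nat.card Z := (one_lt_card_iff_ne_bot Z).2 hZb
    have h2 : 0 < Z.index := Nat.pos_of_ne_zero index_ne_zero_of_finite
    nlinarith
  have hmem : ∀ x : S, (x : S ⧸ Z) ∈ S0.map (QuotientGroup.mk' Z) ↔ x ∈ S0 := by
    intro x
    constructor
    · rintro ⟨y, hy, hxy⟩
      have : y⁻¹ * x ∈ Z := QuotientGroup.eq.1 hxy
      simpa using S0.mul_mem hy this.1
    · intro h; exact ⟨x, h, rfl⟩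
  haveI : (S0.map (QuotientGroup.mk' Z)).Normal :=
    Normal.map inferInstance _ (QuotientGroup.mk'_surjective Z)
  have key := ih _ hlt (S ⧸ Z) rfl (hS.to_quotient Z) (S0.map (QuotientGroup.mk' Z))
    (fun h => hx0 ((hmem x0).1 (h ▸ mem_top _)))
    (by
      intro x hx
      obtain ⟨x, rfl⟩ := QuotientGroup.mk_surjective x
      exact (card_centralizer_mk_le Z x).trans (hC x fun h => hx ((hmem x).2 h)))
    φ' (by
      ext x
      obtain ⟨x, rfl⟩ := QuotientGroup.mk_surjective x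
      rw [← hφ'k, hφ]; rfl)
    (by
      intro x hx
      obtain ⟨x, rfl⟩ := QuotientGroup.mk_surjective x
      rw [← hφ']
      exact (hmem _).2 (hinv x ((hmem x).1 hx)))
    s ((hmem s).2 hs)
  rw [← hφ'k] at key
  set α := φ ^ e with hα
  have hz : s⁻¹ * α s ∈ Z := QuotientGroup.eq.1 key.symm
  set z := s⁻¹ * α s with hzdef
  have h1 : α s = s * z := by rw [hzdef]; group
  have h2 : ∀ k : ℕ, (α ^ k) s = s * z ^ k := by
    intro k
    induction k with
    | zero => simp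
    | succ k ihk =>
      rw [pow_succ', MulAut.mul_apply, ihk, map_mul, h1, map_pow, hZfix z hz, pow_succ', mul_assoc]
  have h3 : α ^ m = 1 := by rw [hα, ← pow_mul, mul_comm, pow_mul, hφ, one_pow]
  have h4 : z ^ m = 1 := by
    have := h2 m
    rw [h3] at this
    simpa using this.symm
  obtain ⟨k, hk⟩ := hS z
  have h5 : z = 1 := by
    have := pow_gcd_eq_one.2 ⟨h4, hk⟩
    rwa [(hm.pow_right k).gcd_eq_one, pow_one] at this
  rw [h1, h5, mul_one]

theorem good_of_ppd {p n r a : ℕ} [hp : Fact p.Prime] (hr : H25.Ppd p n r) (hn : 0 < n)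
    (W : Type u) [Group W] [Finite W] (hW : IsPGroup p W) (hc : Nat.card W < p ^ n)
    (ψ : MulAut W) (hψ : ψ ^ r ^ a = 1) : ψ ^ 1 = 1 := by
  haveI : Fact r.Prime := ⟨hr.1⟩
  have hP : IsPGroup r (zpowers ψ) := by
    rw [IsPGroup.iff_card, Nat.card_zpowers]
    exact (Nat.dvd_prime_pow hr.1).1 (orderOf_dvd_of_pow_eq_one hψ) |>.imp fun _ h => h.2
  have hmod := hP.card_modEq_card_fixedPoints W
  set F := FixedPoints.subgroup (zpowers ψ) W with hF
  have hFc : Nat.card (MulAction.fixedPoints (zpowers ψ) W) = Nat.card F := rfl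
  obtain ⟨k, hk⟩ := IsPGroup.iff_card.1 hW
  obtain ⟨j, hj⟩ := IsPGroup.iff_card.1 (hW.to_subgroup F)
  have hjk : j ≤ k := by
    have := card_subgroup_dvd_card F
    rw [hj, hk] at this
    exact (Nat.pow_dvd_pow_iff_le_right hp.out.one_lt).1 this
  have hkn : k < n := by rw [hk] at hc; exact (Nat.pow_lt_pow_iff_right hp.out.one_lt).1 hc
  rw [hFc, hk, hj] at hmod
  have hrp : ¬ r ∣ p := by
    intro h
    have h1 : r ∣ p ^ n := dvd_pow h hn.ne'
    have h2 := (Nat.dvd_sub_iff_right (Nat.one_le_pow n p hp.out.pos) h1).1 hr.2.1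
    exact hr.1.one_lt.ne' (Nat.dvd_one.1 h2)
  have hjk' : j = k := by
    by_contra hne
    have h1 : r ∣ p ^ k - p ^ j := (Nat.modEq_iff_dvd' (Nat.pow_le_pow_right hp.out.pos hjk)).1
      hmod.symm
    have h2 : p ^ k - p ^ j = p ^ j * (p ^ (k - j) - 1) := by
      rw [Nat.mul_sub, mul_one, ← pow_add, Nat.add_sub_cancel' hjk]
    rw [h2] at h1
    rcases (Nat.Prime.dvd_mul hr.1).1 h1 with h | h
    · exact hrp (hr.1.dvd_of_dvd_pow h)
    · exact hr.2.2 (k - j) (by omega) (by omega) h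
  have hFt : F = ⊤ := eq_top_of_card_eq F (by rw [hj, hk, hjk'])
  rw [pow_one]
  ext w
  have : w ∈ F := hFt ▸ mem_top w
  exact this ⟨ψ, mem_zpowers ψ⟩

theorem good_of_two {p a : ℕ} [hp : Fact p.Prime] (h4 : ¬ 4 ∣ p - 1)
    (W : Type u) [Group W] [Finite W] (hW : IsPGroup p W) (hc : Nat.card W < p ^ 2)
    (ψ : MulAut W) (hψ : ψ ^ 2 ^ a = 1) : ψ ^ 2 = 1 := by
  obtain ⟨k, hk⟩ := IsPGroup.iff_card.1 hW
  have hkn : k < 2 := by rw [hk] at hc; exact (Nat.pow_lt_pow_iff_right hp.out.one_lt).1 hc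
  interval_cases k
  · haveI : Subsingleton W := (Nat.card_eq_one_iff_unique.1 (by simpa using hk)).1
    ext w; exact Subsingleton.elim _ _
  · rw [pow_one] at hk
    haveI : IsCyclic W := isCyclic_of_prime_card hk
    have h1 : Nat.card (MulAut W) = p - 1 := by
      rw [IsCyclic.card_mulAut, hk, Nat.totient_prime hp.out]
    have h2 : orderOf ψ ∣ p - 1 := h1 ▸ orderOf_dvd_natCard ψ
    obtain ⟨j, -, hj⟩ := (Nat.dvd_prime_pow Nat.prime_two).1 (orderOf_dvd_of_pow_eq_one hψ)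
    have h3 : j ≤ 1 := by
      by_contra h
      apply h4
      refine dvd_trans ?_ h2
      rw [hj, show (4 : ℕ) = 2 ^ 2 by norm_num]
      exact pow_dvd_pow 2 (by omega)
    apply orderOf_dvd_iff_pow_eq_one.1
    rw [hj]
    simpa using pow_dvd_pow 2 h3

/-- An automorphism fixing `S0` pointwise and acting without fixed points on the elementary
abelian quotient produces an element of order `p` outside `S0`. -/
theorem exists_pow_eq_one_of_aut {S : Type*} [Group S] {p : ℕ} (hp : p.Prime) (hp2 : p ≠ 2)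
    (S0 : Subgroup S) [hN : S0.Normal] (hc : ∀ a b : S, ⁅a, b⁆ ∈ S0) (hpw : ∀ a : S, a ^ p ∈ S0)
    (α : MulAut S) (hfix : ∀ s ∈ S0, α s = s) (hfpf : ∀ y, y ∉ S0 → y⁻¹ * α y ∉ S0)
    {y0 : S} (hy0 : y0 ∉ S0) : ∃ x, x ∉ S0 ∧ x ^ p = 1 := by
  have hcent : ∀ y : S, ∀ s ∈ S0, Commute (y⁻¹ * α y) s := by
    intro y s hs
    have h1 := hfix _ (hN.conj_mem s hs y)
    rw [map_mul, map_mul, map_inv, hfix s hs] at h1
    have h2 : y⁻¹ * α y * s = y⁻¹ * (α y * s * (α y)⁻¹) * α y := by group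
    show y⁻¹ * α y * s = s * (y⁻¹ * α y)
    rw [h2, h1]; group
  set y := y0⁻¹ * α y0 with hy
  have hyS : y ∉ S0 := hfpf y0 hy0
  have hyc : ∀ s ∈ S0, Commute y s := hcent y0
  have hαc : ∀ s ∈ S0, Commute (α y) s := by
    intro s hs
    have := (hyc s hs).map α
    rwa [hfix s hs] at this
  refine ⟨y⁻¹ * α y, hfpf y hyS, ?_⟩
  have ha : Commute y⁻¹ ⁅α y, y⁻¹⁆ := (hyc _ (hc _ _)).inv_left
  have hb : Commute (α y) ⁅α y, y⁻¹⁆ := hαc _ (hc _ _)
  rw [H9.mul_pow_class_two ha hb]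
  have h1 : ⁅α y, y⁻¹⁆ ^ p = 1 := by
    rw [← H9.commutator_pow_right ha, commutatorElement_eq_one_iff_commute]
    exact hαc _ (hpw _)
  have h2 : p ∣ p.choose 2 := hp.dvd_choose_self (by norm_num)
    (lt_of_le_of_ne hp.two_le (Ne.symm hp2))
  obtain ⟨c, hc2⟩ := h2
  rw [hc2, pow_mul, h1, one_pow, mul_one, ← map_pow, hfix _ (hpw y), inv_pow, inv_mul_cancel]

end H21
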