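import Mathlib

/-! Unipotent action on an elementary abelian subgroup: powers of products. -/

set_option autoImplicit false

namespace Cfsg.Agent.H21.Ap

open Polynomial

theorem geom_poly (p : ℕ) [Fact p.Prime] (j : ℕ) :
    (∑ i ∈ Finset.range (p ^ j), (X : (ZMod p)[X]) ^ i) = (X - 1) ^ (p ^ j - 1) := by
  have h1 := geom_sum_mul (X : (ZMod p)[X]) (p ^ j)
  have h2 : ((X : (ZMod p)[X]) - 1) ^ p ^ j = X ^ p ^ j - 1 := by
    rw [sub_pow_char_pow, one_pow]
  have hpos : 0 < p ^ j := pow_pos (Fact.out : p.Prime).pos j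
  have h3 : ((X : (ZMod p)[X]) - 1) ^ p ^ j = (X - 1) ^ (p ^ j - 1) * (X - 1) := by
    rw [← pow_succ, Nat.sub_add_cancel hpos]
  have hne : ((X : (ZMod p)[X]) - 1) ≠ 0 := by
    have := X_sub_C_ne_zero (1 : ZMod p)
    simpa using this
  apply mul_right_cancel₀ hne
  rw [h1, ← h2, h3]

theorem lin_nil (p : ℕ) [Fact p.Prime] {M : Type*} [AddCommGroup M] [Module (ZMod p) M]
    [FiniteDimensional (ZMod p) M] (A : Module.End (ZMod p) M) (k : ℕ) (hk : A ^ p ^ k = 1) :
    (A - 1) ^ Module.finrank (ZMod p) M = 0 := by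
  have h2 : ((X : (ZMod p)[X]) - 1) ^ p ^ k = X ^ p ^ k - 1 := by
    rw [sub_pow_char_pow, one_pow]
  have h3 := congrArg (aeval A) h2
  simp only [map_pow, map_sub, aeval_X, map_one, hk, sub_self] at h3
  have h4 : (A - 1) ^ (max (p ^ k) (Module.finrank (ZMod p) M)) = 0 :=
    pow_eq_zero_of_le (le_max_left _ _) h3
  have h5 := Module.End.ker_pow_eq_ker_pow_finrank_of_le (f := A - 1)
    (le_max_right (p ^ k) (Module.finrank (ZMod p) M))
  rw [h4, LinearMap.ker_zero] at h5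
  exact LinearMap.ker_eq_top.mp h5.symm

theorem lin_geom (p : ℕ) [Fact p.Prime] {M : Type*} [AddCommGroup M] [Module (ZMod p) M]
    [FiniteDimensional (ZMod p) M] (A : Module.End (ZMod p) M) (k : ℕ) (hk : A ^ p ^ k = 1)
    (j : ℕ) (hj : Module.finrank (ZMod p) M + 1 ≤ p ^ j) :
    (∑ i ∈ Finset.range (p ^ j), A ^ i) = 0 := by
  have h3 := congrArg (aeval A) (geom_poly p j)
  simp only [map_pow, map_sub, aeval_X, map_one, map_sum] at h3
  rw [h3]
  exact pow_eq_zero_of_le (by omega) (lin_nil p A k hk)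

theorem unip_add (p : ℕ) [Fact p.Prime] {V : Type*} [AddCommGroup V] [Finite V]
    (hexp : ∀ x : V, p • x = 0) (a : ℕ) (hcard : Nat.card V = p ^ a) (φ : V →+ V) (k : ℕ)
    (hk : ∀ x, φ^[p ^ k] x = x) :
    (a = 1 → ∀ v, φ v = v) ∧
      (∀ j, a + 1 ≤ p ^ j → ∀ v, ∑ i ∈ Finset.range (p ^ j), φ^[i] v = 0) := by
  haveI : Module (ZMod p) V := AddCommGroup.zmodModule hexp
  haveI : Module.Finite (ZMod p) V := Module.Finite.of_finite
  have hfr : Module.finrank (ZMod p) V = a := by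
    have h1 := Module.natCard_eq_pow_finrank (K := ZMod p) (V := V)
    rw [Nat.card_zmod, hcard] at h1
    exact (Nat.pow_right_injective (Fact.out : p.Prime).two_le h1).symm
  let A : Module.End (ZMod p) V := φ.toZModLinearMap p
  have hAi : ∀ (i : ℕ) (x : V), (A ^ i) x = φ^[i] x := by
    intro i x
    rw [Module.End.pow_apply]
    rfl
  have hAk : A ^ p ^ k = 1 := by
    ext x
    rw [hAi, hk]; rfl
  refine ⟨fun ha v => ?_, fun j hj v => ?_⟩
  · have h1 := lin_nil p A k hAk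
    rw [hfr, ha, pow_one, sub_eq_zero] at h1
    have h2 : A v = φ v := rfl
    rw [← h2, h1]; rfl
  · have h1 := lin_geom p A k hAk j (by rw [hfr]; exact hj)
    have h2 := congrArg (fun f : Module.End (ZMod p) V => f v) h1
    simp only [LinearMap.sum_apply, hAi, LinearMap.zero_apply] at h2
    exact h2

theorem unip_mul (p : ℕ) [Fact p.Prime] {V : Type*} [CommGroup V] [Finite V]
    (hexp : ∀ x : V, x ^ p = 1) (a : ℕ) (hcard : Nat.card V = p ^ a) (φ : V →* V) (k : ℕ)
    (hk : ∀ x, φ^[p ^ k] x = x) :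
    (a = 1 → ∀ v, φ v = v) ∧
      (∀ j, a + 1 ≤ p ^ j → ∀ v, ∏ i ∈ Finset.range (p ^ j), φ^[i] v = 1) :=
  unip_add p (V := Additive V) hexp a hcard (MonoidHom.toAdditive φ) k hk

theorem unip (p : ℕ) [Fact p.Prime] {G : Type*} [Group G] [Finite G] (V : Subgroup G)
    (hcomm : ∀ x ∈ V, ∀ y ∈ V, x * y = y * x) (hexp : ∀ x ∈ V, x ^ p = 1) (a : ℕ)
    (hcard : Nat.card V = p ^ a) (h : G) (hn : ∀ v ∈ V, h * v * h⁻¹ ∈ V) (k : ℕ)
    (hk : h ^ p ^ k = 1) :
    (a = 1 → ∀ v ∈ V, h * v = v * h) ∧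
      (∀ j, a + 1 ≤ p ^ j → ∀ v ∈ V, (v * h) ^ p ^ j = h ^ p ^ j) := by
  letI : CommGroup V := { (inferInstance : Group V) with
    mul_comm := fun x y => Subtype.ext (hcomm x x.2 y y.2) }
  let φ : V →* V :=
    { toFun := fun v => ⟨h * v * h⁻¹, hn v v.2⟩
      map_one' := by ext; simp
      map_mul' := fun x y => by ext; simp [mul_assoc] }
  have hA : ∀ (x : V), ((φ x : V) : G) = h * x * h⁻¹ := fun x => rfl
  have hAi : ∀ (i : ℕ) (x : V), ((φ^[i] x : V) : G) = h ^ i * x * (h ^ i)⁻¹ := by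
    intro i
    induction i with
    | zero => intro x; simp
    | succ i ih =>
      intro x
      rw [Function.iterate_succ_apply', hA, ih, pow_succ']
      group
  obtain ⟨h1, h2⟩ := unip_mul p (V := V) (fun x => Subtype.ext (hexp x x.2)) a hcard φ k (by
    intro x
    apply Subtype.ext
    rw [hAi, hk]; simp)
  refine ⟨fun ha v hv => ?_, fun j hj v hv => ?_⟩
  · have h3 := hA ⟨v, hv⟩
    rw [h1 ha] at h3
    calc h * v = (h * v * h⁻¹) * h := by group
      _ = v * h := by rw [← h3]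
  · have key : ∀ m : ℕ, (v * h) ^ m =
        ((∏ i ∈ Finset.range m, φ^[i] ⟨v, hv⟩ : V) : G) * h ^ m := by
      intro m
      induction m with
      | zero => simp
      | succ m ih =>
        rw [pow_succ, ih, Finset.prod_range_succ, Subgroup.coe_mul, hAi, pow_succ]
        group
    rw [key, h2 j hj]
    simp

end Cfsg.Agent.H21.Ap
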