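import Cfsg.Agent.H21.Ap1

/-! A solvable permutation group containing a full cycle of odd prime power length. -/

set_option autoImplicit false

namespace Cfsg.Agent.H21.Ap

open Equiv

theorem addRight_pow {N : ℕ} (m : ℕ) :
    (Equiv.addRight (1 : ZMod N) : Perm (ZMod N)) ^ m = Equiv.addRight (m : ZMod N) := by
  induction m with
  | zero => ext x; simp
  | succ m ih => rw [pow_succ', ih]; ext x; simp [add_assoc]

theorem pow_norm {G : Type*} [Group G] (B : Subgroup G) (h : G)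
    (hn : ∀ v ∈ B, h * v * h⁻¹ ∈ B) (m : ℕ) : ∀ v ∈ B, h ^ m * v * (h ^ m)⁻¹ ∈ B := by
  induction m with
  | zero => intro v hv; simpa using hv
  | succ m ih =>
    intro v hv
    have := hn _ (ih v hv)
    rw [pow_succ']
    convert this using 1
    group

theorem trans_of (p : ℕ) [Fact p.Prime] (a : ℕ) (ha : 1 ≤ a) (N : ℕ) [NeZero N] (hN : N = p ^ a)
    (B : Subgroup (Perm (ZMod N))) (hB : B ≠ ⊥) (W : Perm (ZMod N))
    (hU : ∀ v ∈ B, Equiv.addRight (1 : ZMod N) * v * (Equiv.addRight (1 : ZMod N))⁻¹ ∈ B)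
    (hW : ∀ v ∈ B, W⁻¹ * v * W ∈ B)
    (h3 : 2 ≤ a → ∃ y z, IsUnit (y - z) ∧ W y - W z = (p : ZMod N) ^ (a - 1)) :
    ∀ x y : ZMod N, ∃ v ∈ B, v x = y := by
  have hp : p.Prime := Fact.out
  have hT : ∀ d : ZMod N, ∀ v ∈ B, Equiv.addRight d * v * (Equiv.addRight d)⁻¹ ∈ B := by
    intro d v hv
    have := pow_norm B _ hU d.val v hv
    rwa [addRight_pow, ZMod.natCast_zmod_val] at this
  have hinv : ∀ d x : ZMod N, (Equiv.addRight d : Perm (ZMod N))⁻¹ x = x - d := by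
    intro d x
    rw [Perm.inv_eq_iff_eq]; simp
  let D : AddSubgroup (ZMod N) :=
    { carrier := {d | ∃ v ∈ B, v 0 = d}
      zero_mem' := ⟨1, B.one_mem, rfl⟩
      add_mem' := by
        rintro d d' ⟨v, hv, rfl⟩ ⟨v', hv', h'⟩
        refine ⟨_, B.mul_mem (hT d' v hv) hv', ?_⟩
        simp [Perm.mul_apply, h']
      neg_mem' := by
        rintro d ⟨v, hv, h⟩
        refine ⟨_, hT (-d) _ (B.inv_mem hv), ?_⟩
        have : v⁻¹ d = 0 := by rw [← h]; simp
        simp only [Perm.mul_apply, hinv, zero_sub, neg_neg, this]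
        simp }
  have hD1 : ∀ x y : ZMod N, ∀ v ∈ B, v x = y → y - x ∈ D := by
    intro x y v hv h
    refine ⟨_, hT (-x) v hv, ?_⟩
    simp only [Perm.mul_apply, hinv, zero_sub, neg_neg, h]
    simp [sub_eq_add_neg]
  have hD2 : ∀ x y : ZMod N, y - x ∈ D → ∃ v ∈ B, v x = y := by
    rintro x y ⟨v, hv, h⟩
    refine ⟨_, hT x v hv, ?_⟩
    simp only [Perm.mul_apply, hinv, sub_self, h]
    simp
  have hDmul : ∀ c d : ZMod N, d ∈ D → c * d ∈ D := by
    intro c d hd
    have := D.nsmul_mem hd c.val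
    rwa [nsmul_eq_mul, ZMod.natCast_zmod_val] at this
  obtain ⟨v, hv, hv1⟩ : ∃ v ∈ B, v ≠ 1 := by
    by_contra hc
    push Not at hc
    exact hB ((Subgroup.eq_bot_iff_forall B).2 hc)
  obtain ⟨x, hx⟩ : ∃ x, v x ≠ x := by
    by_contra hc
    push Not at hc
    exact hv1 (Equiv.ext hc)
  have hd : v x - x ∈ D := hD1 x _ v hv rfl
  have hd0 : v x - x ≠ 0 := sub_ne_zero.2 hx
  set d := v x - x with hdd
  have hval : d.val ≠ 0 := by rwa [Ne, ZMod.val_eq_zero]
  obtain ⟨j, m, hm, hjm⟩ := Nat.exists_eq_pow_mul_and_not_dvd hval p hp.ne_one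
  have hja : j < a := by
    by_contra hc
    push Not at hc
    have h1 : N ∣ d.val := by
      rw [hjm, hN]; exact Dvd.dvd.mul_right (pow_dvd_pow p hc) m
    have := Nat.le_of_dvd (Nat.pos_of_ne_zero hval) h1
    exact absurd (ZMod.val_lt d) (by omega)
  have hunit : IsUnit (m : ZMod N) := by
    rw [ZMod.isUnit_iff_coprime, hN]
    exact Nat.Coprime.pow_right _ ((Nat.coprime_comm).1 ((hp.coprime_iff_not_dvd).2 hm))
  obtain ⟨m', hm'⟩ := hunit.exists_right_inv
  have hdeq : d = (p : ZMod N) ^ j * (m : ZMod N) := by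
    rw [← ZMod.natCast_zmod_val d, hjm]; push_cast; ring
  have hpD : (p : ZMod N) ^ (a - 1) ∈ D := by
    have := hDmul ((p : ZMod N) ^ (a - 1 - j) * m') d hd
    convert this using 1
    rw [hdeq]
    have e : a - 1 = (a - 1 - j) + j := by omega
    calc (p : ZMod N) ^ (a - 1) = (p : ZMod N) ^ ((a - 1 - j) + j) * ((m : ZMod N) * m') := by
          rw [← e, hm', mul_one]
      _ = _ := by rw [pow_add]; ring
  have h1D : (1 : ZMod N) ∈ D := by
    rcases Nat.lt_or_ge a 2 with h | h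
    · have : a - 1 = 0 := by omega
      rwa [this, pow_zero] at hpD
    · obtain ⟨y, z, hyz, h4⟩ := h3 h
      rw [← h4] at hpD
      obtain ⟨t, ht, htt⟩ := hD2 _ _ hpD
      have := hD1 z y _ (hW t ht) (by simp [Perm.mul_apply, htt])
      obtain ⟨c, hc⟩ := hyz.exists_left_inv
      rw [← hc]
      exact hDmul c _ this
  intro x y
  apply hD2
  simpa using hDmul (y - x) 1 h1D

theorem reg_of {α : Type*} (B : Subgroup (Perm α))
    (hcomm : ∀ x ∈ B, ∀ y ∈ B, x * y = y * x) (htr : ∀ x y : α, ∃ v ∈ B, v x = y)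
    (h : Perm α) (hc : ∀ v ∈ B, h * v = v * h) (x : α) (hx : h x = x) : h = 1 := by
  ext y
  obtain ⟨t, ht, rfl⟩ := htr x y
  have := congrArg (fun f : Perm α => f x) (hc t ht)
  simpa [Perm.mul_apply, hx] using this

theorem card_of {α : Type*} [Nonempty α] (B : Subgroup (Perm α))
    (hcomm : ∀ x ∈ B, ∀ y ∈ B, x * y = y * x) (htr : ∀ x y : α, ∃ v ∈ B, v x = y) :
    Nat.card B = Nat.card α := by
  obtain ⟨x⟩ := ‹Nonempty α›
  refine Nat.card_congr (Equiv.ofBijective (fun v : B => (v : Perm α) x) ⟨?_, ?_⟩)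
  · intro v w h
    have hm : (w : Perm α)⁻¹ * v ∈ B := B.mul_mem (B.inv_mem w.2) v.2
    have := reg_of B hcomm htr _ (fun t ht => hcomm _ hm t ht) x (by
      simp only at h
      simp [Perm.mul_apply, h])
    apply Subtype.ext
    exact (inv_mul_eq_one.1 this).symm
  · intro y
    obtain ⟨v, hv, h⟩ := htr x y
    exact ⟨⟨v, hv⟩, h⟩

theorem exists_abelian_normal {G : Type*} [Group G] (H : Subgroup G) [Group.IsSolvable H]
    (hH : H ≠ ⊥) : ∃ A : Subgroup G, A ≠ ⊥ ∧ (∀ x ∈ A, ∀ y ∈ A, x * y = y * x) ∧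
      ∀ h ∈ H, ∀ v ∈ A, h * v * h⁻¹ ∈ A := by
  classical
  obtain ⟨n, hn⟩ := (‹Group.IsSolvable H›).solvable
  have hex : ∃ n, derivedSeries H n = ⊥ := ⟨n, hn⟩
  have h0 : Nat.find hex ≠ 0 := by
    intro h
    have := Nat.find_spec hex
    rw [h, derivedSeries_zero] at this
    apply hH
    rw [Subgroup.eq_bot_iff_forall]
    intro x hx
    have h2 : (⟨x, hx⟩ : H) ∈ (⊥ : Subgroup H) := this ▸ Subgroup.mem_top _
    simpa using congrArg Subtype.val (Subgroup.mem_bot.1 h2)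
  obtain ⟨m, hm⟩ := Nat.exists_eq_succ_of_ne_zero h0
  have h1 : derivedSeries H m ≠ ⊥ := Nat.find_min hex (by omega)
  have h2 : derivedSeries H (m + 1) = ⊥ := by
    have := Nat.find_spec hex
    rwa [hm] at this
  rw [derivedSeries_succ, Subgroup.commutator_eq_bot_iff_le_centralizer] at h2
  refine ⟨(derivedSeries H m).map H.subtype, ?_, ?_, ?_⟩
  · rwa [Ne, Subgroup.map_eq_bot_iff_of_injective _ H.subtype_injective]
  · rintro _ ⟨x, hx, rfl⟩ _ ⟨y, hy, rfl⟩
    have := (Subgroup.mem_centralizer_iff.1 (h2 hy)) x hx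
    exact congrArg Subtype.val this
  · rintro h hh _ ⟨x, hx, rfl⟩
    exact ⟨⟨h, hh⟩ * x * ⟨h, hh⟩⁻¹, (derivedSeries_normal H m).conj_mem x hx _, rfl⟩

theorem core (p : ℕ) [Fact p.Prime] (hp3 : 3 ≤ p) (a : ℕ) (ha : 1 ≤ a) (N : ℕ) [NeZero N]
    (hN : N = p ^ a) (H : Subgroup (Perm (ZMod N))) [Group.IsSolvable H]
    (hU : (Equiv.addRight (1 : ZMod N) : Perm (ZMod N)) ∈ H) (W : Perm (ZMod N)) (hW : W ∈ H)
    (k : ℕ) (hk : W ^ p ^ k = 1) (x : ZMod N) (r : ℕ) (hr : r.Coprime p)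
    (h1 : ((Equiv.addRight (1 : ZMod N) * W : Perm (ZMod N)) ^ r) x = x)
    (h2 : (Equiv.addRight (1 : ZMod N) * W : Perm (ZMod N)) x ≠ x)
    (h3 : 2 ≤ a → ∃ y z, IsUnit (y - z) ∧ W y - W z = (p : ZMod N) ^ (a - 1)) : False := by
  have hp : p.Prime := Fact.out
  set U : Perm (ZMod N) := Equiv.addRight (1 : ZMod N) with hUdef
  have hN1 : 1 < N := by rw [hN]; exact Nat.one_lt_pow (by omega) hp.one_lt
  haveI : Fact (1 < N) := ⟨hN1⟩
  have hH : H ≠ ⊥ := by
    intro h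
    rw [h, Subgroup.mem_bot] at hU
    have := congrArg (fun f : Perm (ZMod N) => f 0) hU
    simp [hUdef] at this
  obtain ⟨A, hA, hAc, hAn⟩ := exists_abelian_normal H hH
  have hAt := trans_of p a ha N hN A hA W (hAn _ hU)
    (fun v hv => by simpa using hAn _ (H.inv_mem hW) v hv) h3
  have hAcard := card_of A hAc hAt
  rw [Nat.card_zmod] at hAcard
  obtain ⟨g, hg⟩ := exists_prime_orderOf_dvd_card' (G := A) p (by
    rw [hAcard, hN]; exact dvd_pow_self p (by omega))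
  let V : Subgroup (Perm (ZMod N)) :=
    { carrier := {v | v ∈ A ∧ v ^ p = 1}
      one_mem' := ⟨A.one_mem, one_pow p⟩
      mul_mem' := by
        rintro s t ⟨hs, hs'⟩ ⟨ht, ht'⟩
        refine ⟨A.mul_mem hs ht, ?_⟩
        rw [Commute.mul_pow (hAc s hs t ht), hs', ht', one_mul]
      inv_mem' := by
        rintro s ⟨hs, hs'⟩
        exact ⟨A.inv_mem hs, by rw [inv_pow, hs', inv_one]⟩ }
  have hVn : ∀ h ∈ H, ∀ v ∈ V, h * v * h⁻¹ ∈ V := by
    rintro h hh v ⟨hv, hv'⟩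
    exact ⟨hAn h hh v hv, by rw [conj_pow, hv']; simp⟩
  have hVc : ∀ x ∈ V, ∀ y ∈ V, x * y = y * x := fun x hx y hy => hAc x hx.1 y hy.1
  have hV : V ≠ ⊥ := by
    intro h
    have hgV : (g : Perm (ZMod N)) ∈ V := ⟨g.2, by
      have := pow_orderOf_eq_one g
      rw [hg] at this
      exact congrArg Subtype.val this⟩
    rw [h, Subgroup.mem_bot] at hgV
    have : g = 1 := Subtype.ext hgV
    rw [this, orderOf_one] at hg
    exact hp.one_lt.ne hg
  have hVt := trans_of p a ha N hN V hV W (hVn _ hU)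
    (fun v hv => by simpa using hVn _ (H.inv_mem hW) v hv) h3
  have hVcard : Nat.card V = p ^ a := ((card_of V hVc hVt).trans (Nat.card_zmod N)).trans hN
  have hUk : U ^ p ^ a = 1 := by
    rw [hUdef, addRight_pow, ← hN]; ext y; simp
  obtain ⟨hU1, hU2⟩ := unip p V hVc (fun x hx => hx.2) a hVcard U (hVn _ hU) a hUk
  rcases Nat.lt_or_ge a 2 with h | h
  · have ha1 : a = 1 := by omega
    have hW1 := (unip p V hVc (fun x hx => hx.2) a hVcard W (hVn _ hW) k hk).1 ha1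
    have hc : ∀ v ∈ V, (U * W) * v = v * (U * W) := by
      intro v hv
      rw [mul_assoc, hW1 v hv, ← mul_assoc, hU1 ha1 v hv, mul_assoc]
    obtain ⟨v, hv, hvx⟩ := hVt x ((U * W) x)
    have he : v⁻¹ * (U * W) = 1 := by
      refine reg_of V hVc hVt _ ?_ x ?_
      · intro t ht
        rw [mul_assoc, hc t ht, ← mul_assoc, hVc _ (V.inv_mem hv) t ht, mul_assoc]
      · rw [Perm.mul_apply, ← hvx]; simp
    have he' : U * W = v := (inv_mul_eq_one.1 he).symm
    rw [he'] at h1 h2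
    have hvr : v ^ r = 1 :=
      reg_of V hVc hVt _ (fun t ht => hVc _ (V.pow_mem hv r) t ht) x h1
    have : v = 1 := by
      have h5 := orderOf_dvd_of_pow_eq_one hvr
      have h6 := orderOf_dvd_of_pow_eq_one hv.2
      exact orderOf_eq_one_iff.1 (Nat.eq_one_of_dvd_coprimes hr h5 h6)
    exact h2 (by rw [this]; rfl)
  · have hj : a + 1 ≤ p ^ (a - 1) := by
      have : ∀ b : ℕ, b + 3 ≤ 3 ^ (b + 1) := by
        intro b
        induction b with
        | zero => norm_num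
        | succ b ih => rw [pow_succ]; omega
      have h4 := this (a - 2)
      have h5 : 3 ^ (a - 2 + 1) ≤ p ^ (a - 2 + 1) := Nat.pow_le_pow_left hp3 _
      have e : a - 2 + 1 = a - 1 := by omega
      rw [e] at h4 h5
      omega
    obtain ⟨v, hv, hv0⟩ := hVt (U 0) 0
    have h5 := hU2 (a - 1) hj v hv
    have h6 : ((v * U) ^ p ^ (a - 1)) 0 = 0 :=
      Perm.pow_apply_eq_self_of_apply_eq_self (by rw [Perm.mul_apply, hv0]) _
    rw [h5, hUdef, addRight_pow] at h6
    simp only [Equiv.coe_addRight, zero_add] at h6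
    rw [ZMod.natCast_eq_zero_iff, hN] at h6
    have := Nat.le_of_dvd (pow_pos hp.pos _) h6
    have h7 : p ^ (a - 1) < p ^ a := Nat.pow_lt_pow_right hp.one_lt (by omega)
    omega

end Cfsg.Agent.H21.Ap
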