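import Cfsg.Agent.H21.Ap2

/-! Pairs of permutations with non-solvable span and product not a `p`-element: transfer. -/

set_option autoImplicit false

namespace Cfsg.Agent.H21.Ap

open Equiv

/-- The product is not a `p`-element and the span is not solvable. -/
def Good (p : ℕ) {G : Type*} [Group G] (u w : G) : Prop :=
  (∀ k : ℕ, (u * w) ^ p ^ k ≠ 1) ∧ ¬ Group.IsSolvable (Subgroup.closure ({u, w} : Set G))

theorem not_pel {α : Type*} (p : ℕ) (h : Perm α) (x : α) (r : ℕ) (hr : r.Coprime p)
    (h1 : (h ^ r) x = x) (h2 : h x ≠ x) (k : ℕ) : h ^ p ^ k ≠ 1 := by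
  intro hk
  have a1 : Function.IsPeriodicPt h r x := by
    rw [Function.IsPeriodicPt, Function.IsFixedPt, ← Perm.coe_pow]; exact h1
  have a2 : Function.IsPeriodicPt h (p ^ k) x := by
    rw [Function.IsPeriodicPt, Function.IsFixedPt, ← Perm.coe_pow, hk]; rfl
  have a3 := a1.gcd a2
  rw [(Nat.Coprime.pow_right k hr).gcd_eq_one] at a3
  exact h2 a3

theorem good_core (p : ℕ) [Fact p.Prime] (hp3 : 3 ≤ p) (a : ℕ) (ha : 1 ≤ a) (N : ℕ) [NeZero N]
    (hN : N = p ^ a) (W : Perm (ZMod N))
    (k : ℕ) (hk : W ^ p ^ k = 1) (x : ZMod N) (r : ℕ) (hr : r.Coprime p)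
    (h1 : ((Equiv.addRight (1 : ZMod N) * W : Perm (ZMod N)) ^ r) x = x)
    (h2 : (Equiv.addRight (1 : ZMod N) * W : Perm (ZMod N)) x ≠ x)
    (h3 : 2 ≤ a → ∃ y z, IsUnit (y - z) ∧ W y - W z = (p : ZMod N) ^ (a - 1)) :
    Good p (Equiv.addRight (1 : ZMod N) : Perm (ZMod N)) W := by
  refine ⟨not_pel p _ x r hr h1 h2, fun hs => ?_⟩
  exact core p hp3 a ha N hN (Subgroup.closure {Equiv.addRight (1 : ZMod N), W})
    (Subgroup.subset_closure (by simp)) W
    (Subgroup.subset_closure (by simp)) k hk x r hr h1 h2 h3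

theorem good_of_rel (p : ℕ) {G G' : Type*} [Group G] [Group G'] (D : Subgroup (G × G'))
    (hD : ∀ y : G', ((1 : G), y) ∈ D → y = 1) (u w : G) (U W : G') (hu : (u, U) ∈ D)
    (hw : (w, W) ∈ D) (h : Good p U W) : Good p u w := by
  refine ⟨fun k hk => h.1 k (hD _ ?_), fun hs => h.2 ?_⟩
  · have := D.pow_mem (D.mul_mem hu hw) (p ^ k)
    rwa [Prod.mk_mul_mk, Prod.pow_mk, hk] at this
  · let E : Subgroup (G × G') := Subgroup.closure {(u, U), (w, W)}
    have hE : E ≤ D := by
      rw [Subgroup.closure_le]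
      rintro x (rfl | rfl)
      · exact hu
      · exact hw
    have e1 : E.map (MonoidHom.fst G G') = Subgroup.closure {u, w} := by
      rw [MonoidHom.map_closure, Set.image_pair]; rfl
    have e2 : E.map (MonoidHom.snd G G') = Subgroup.closure {U, W} := by
      rw [MonoidHom.map_closure, Set.image_pair]; rfl
    rw [← e1] at hs
    rw [← e2]
    haveI : Group.IsSolvable E := by
      refine Group.isSolvable_of_isSolvable_injective (f := (MonoidHom.fst G G').subgroupMap E) ?_
      rw [injective_iff_map_eq_one]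
      rintro ⟨⟨x, y⟩, hx⟩ h1
      have hx1 : x = 1 := congrArg Subtype.val h1
      subst hx1
      have := hD y (hE hx)
      subst this
      rfl
    exact Group.isSolvable_of_surjective (MonoidHom.subgroupMap_surjective (MonoidHom.snd G G') E)

theorem good_of_emb (p : ℕ) {α ι : Type*} (e : ι → α) (he : Function.Injective e)
    (u w : Perm α) (U W : Perm ι) (hu : ∀ i, u (e i) = e (U i)) (hw : ∀ i, w (e i) = e (W i))
    (h : Good p U W) : Good p u w := by
  let D : Subgroup (Perm α × Perm ι) :=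
    { carrier := {x | ∀ i, x.1 (e i) = e (x.2 i)}
      one_mem' := fun i => rfl
      mul_mem' := by
        intro x y hx hy i
        simp only [Prod.fst_mul, Prod.snd_mul, Perm.mul_apply]
        rw [hy i, hx]
      inv_mem' := by
        intro x hx i
        simp only [Prod.fst_inv, Prod.snd_inv]
        rw [Perm.inv_eq_iff_eq, hx]; simp }
  refine good_of_rel p D ?_ u w U W hu hw h
  intro y hy
  ext i
  exact (he (hy i)).symm

theorem transfer (p : ℕ) {α ι : Type*} [Fintype α] [DecidableEq α] [Fintype ι] [DecidableEq ι]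
    (e f : ι → α) (he : Function.Injective e) (hf : Function.Injective f)
    (u w : Perm α) (U W : Perm ι) (hu : ∀ i, u (e i) = e (U i)) (hw : ∀ i, w (f i) = f (W i))
    (π₁ π₂ : Perm ι) (hs : Perm.sign π₁ ≠ Perm.sign π₂) (h1 : Good p U (π₁ * W * π₁⁻¹))
    (h2 : Good p U (π₂ * W * π₂⁻¹)) :
    ∃ g : Perm α, Perm.sign g = 1 ∧ Good p u (g * w * g⁻¹) := by
  obtain ⟨g, hg⟩ := Perm.exists_extending_pair f e hf he
  have key : ∀ π : Perm ι, Perm.sign π = Perm.sign g → Good p U (π * W * π⁻¹) →
      ∃ g : Perm α, Perm.sign g = 1 ∧ Good p u (g * w * g⁻¹) := by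
    intro π hπ h
    let t : Perm α := π.viaFintypeEmbedding ⟨e, he⟩
    have ht : ∀ i, t (e i) = e (π i) := fun i => Perm.viaFintypeEmbedding_apply_image π ⟨e, he⟩ i
    refine ⟨t * g, ?_, good_of_emb p e he u _ U _ hu ?_ h⟩
    · rw [Perm.sign_mul, Perm.viaFintypeEmbedding_sign, hπ, Int.units_mul_self]
    · intro i
      have h3 : (t * g)⁻¹ (e i) = f (π⁻¹ i) := by
        rw [Perm.inv_eq_iff_eq, Perm.mul_apply, hg, ht]; simp
      rw [Perm.mul_apply, Perm.mul_apply, h3, hw, Perm.mul_apply, hg, ht]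
      rfl
  by_cases h : Perm.sign π₁ = Perm.sign g
  · exact key π₁ h h1
  · refine key π₂ ?_ h2
    rcases Int.units_eq_one_or (Perm.sign π₁) with a | a <;>
      rcases Int.units_eq_one_or (Perm.sign π₂) with b | b <;>
      rcases Int.units_eq_one_or (Perm.sign g) with c | c <;> simp_all

theorem good_symm (p : ℕ) {G : Type*} [Group G] (u w g : G) (h : Good p w (g * u * g⁻¹)) :
    Good p u (g⁻¹ * w * g⁻¹⁻¹) := by
  let D : Subgroup (G × G) :=
    { carrier := {x | x.2 = g * x.1 * g⁻¹}
      one_mem' := by simp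
      mul_mem' := by
        intro x y hx hy
        simp only [Set.mem_ofPred_eq, Prod.fst_mul, Prod.snd_mul] at hx hy ⊢
        rw [hx, hy]; group
      inv_mem' := by
        intro x hx
        simp only [Set.mem_ofPred_eq, Prod.fst_inv, Prod.snd_inv] at hx ⊢
        rw [hx]; group }
  refine good_of_rel p D ?_ u _ (g * u * g⁻¹) w rfl ?_ ⟨fun k hk => h.1 k ?_, ?_⟩
  · intro y hy
    have : y = g * 1 * g⁻¹ := hy
    simpa using this
  · show w = g * (g⁻¹ * w * g⁻¹⁻¹) * g⁻¹
    group
  · have : w * (g * u * g⁻¹) = w * ((g * u * g⁻¹) * w) * w⁻¹ := by group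
    rw [this, conj_pow, hk]; simp
  · rw [Set.pair_comm]; exact h.2

theorem not_solv {G : Type*} [Group G] (H : Subgroup G) (hH : H ≠ ⊥) (h : H ≤ ⁅H, H⁆) :
    ¬ Group.IsSolvable H := by
  intro hs
  haveI : Nontrivial H := (Subgroup.nontrivial_iff_ne_bot H).2 hH
  have h1 := Group.IsSolvable.commutator_lt_top_of_nontrivial H
  apply h1.ne
  apply Subgroup.map_injective H.subtype_injective
  rw [Subgroup.map_subtype_commutator, ← MonoidHom.range_eq_map, H.range_subtype]
  exact le_antisymm (Subgroup.commutator_le.2 fun a ha b hb => by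
    rw [commutatorElement_def]
    exact H.mul_mem (H.mul_mem (H.mul_mem ha hb) (H.inv_mem ha)) (H.inv_mem hb)) h

theorem not_solv_words {G : Type*} [Group G] (U W A B C D : G) (hU : U ≠ 1)
    (hA : A ∈ Subgroup.closure ({U, W} : Set G)) (hB : B ∈ Subgroup.closure ({U, W} : Set G))
    (hC : C ∈ Subgroup.closure ({U, W} : Set G)) (hD : D ∈ Subgroup.closure ({U, W} : Set G))
    (h1 : A * B = U * B * A) (h2 : C * D = W * D * C) :
    ¬ Group.IsSolvable (Subgroup.closure ({U, W} : Set G)) := by
  apply not_solv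
  · intro h
    have : U ∈ Subgroup.closure ({U, W} : Set G) := Subgroup.subset_closure (by simp)
    rw [h] at this
    exact hU this
  · rw [Subgroup.closure_le]
    rintro x (rfl | rfl)
    · have := Subgroup.commutator_mem_commutator hA hB
      rw [commutatorElement_def, h1] at this
      simpa [mul_assoc] using this
    · have := Subgroup.commutator_mem_commutator hC hD
      rw [commutatorElement_def, h2] at this
      simpa [mul_assoc] using this

end Cfsg.Agent.H21.Ap
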