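import Cfsg.Agent.H21.Ap3

/-! Choice of conjugators of both signs on the model sets. -/

set_option autoImplicit false

namespace Cfsg.Agent.H21.Ap

open Equiv

/-- Good conjugators of both signs. -/
def Two (p : ℕ) {ι : Type*} [Fintype ι] [DecidableEq ι] (U W : Perm ι) : Prop :=
  ∃ π₁ π₂ : Perm ι, Perm.sign π₁ ≠ Perm.sign π₂ ∧ Good p U (π₁ * W * π₁⁻¹) ∧
    Good p U (π₂ * W * π₂⁻¹)

theorem two_conj (p : ℕ) {ι : Type*} [Fintype ι] [DecidableEq ι] {σ τ U W : Perm ι}
    (h1 : IsConj σ U) (h2 : IsConj τ W) (h : Two p σ τ) : Two p U W := by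
  obtain ⟨c, rfl⟩ := isConj_iff.1 h1
  obtain ⟨d, rfl⟩ := isConj_iff.1 h2
  obtain ⟨π₁, π₂, hs, g1, g2⟩ := h
  have key : ∀ π : Perm ι, Good p σ (π * τ * π⁻¹) →
      Good p (c * σ * c⁻¹) ((c * π * d⁻¹) * (d * τ * d⁻¹) * (c * π * d⁻¹)⁻¹) := by
    intro π g
    refine good_of_emb p c c.injective _ _ _ _ ?_ ?_ g
    · intro i; simp [Perm.mul_apply]
    · intro i; simp [Perm.mul_apply]
  refine ⟨c * π₁ * d⁻¹, c * π₂ * d⁻¹, ?_, key _ g1, key _ g2⟩
  intro h
  apply hs
  simp only [Perm.sign_mul] at h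
  exact mul_left_cancel (mul_right_cancel h)

theorem two_of_centr (p : ℕ) {ι : Type*} [Fintype ι] [DecidableEq ι] {U W : Perm ι} (π c : Perm ι)
    (hc : Perm.sign c = -1) (hcW : c * W = W * c) (h : Good p U (π * W * π⁻¹)) : Two p U W := by
  refine ⟨π, π * c, ?_, h, ?_⟩
  · rw [Perm.sign_mul, hc]
    rcases Int.units_eq_one_or (Perm.sign π) with a | a <;> simp [a]
  · have : π * c * W * (π * c)⁻¹ = π * W * π⁻¹ := by
      rw [mul_assoc π c W, hcW]; group
    rwa [this]

theorem conj_of_supp (p : ℕ) [Fact p.Prime] {ι : Type*} [Fintype ι] [DecidableEq ι] {σ W : Perm ι}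
    (h1 : σ ^ p = 1) (h2 : W ^ p = 1) (h : σ.support.card = W.support.card) : IsConj σ W := by
  apply Perm.isConj_of_cycleType_eq
  have a1 := Perm.cycleType_of_pow_prime_eq_one h1
  have a2 := Perm.cycleType_of_pow_prime_eq_one h2
  have b1 := Perm.sum_cycleType σ
  have b2 := Perm.sum_cycleType W
  rw [a1, Multiset.sum_replicate, smul_eq_mul] at b1
  rw [a2, Multiset.sum_replicate, smul_eq_mul] at b2
  have : Multiset.card σ.cycleType = Multiset.card W.cycleType :=
    Nat.eq_of_mul_eq_mul_right (Fact.out : p.Prime).pos (by rw [b1, b2, h])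
  rw [a1, a2, this]

theorem supp_dvd (p : ℕ) [Fact p.Prime] {ι : Type*} [Fintype ι] [DecidableEq ι] {W : Perm ι}
    (h2 : W ^ p = 1) (h : W ≠ 1) :
    p ∣ W.support.card ∧ W.support.card ≠ 0 ∧ W.support.card ≤ Fintype.card ι := by
  refine ⟨?_, ?_, Finset.card_le_univ _⟩
  · have a2 := Perm.cycleType_of_pow_prime_eq_one h2
    have b2 := Perm.sum_cycleType W
    rw [a2, Multiset.sum_replicate, smul_eq_mul] at b2
    rw [← b2]
    exact Dvd.intro_left _ rfl
  · rwa [Ne, Perm.card_support_eq_zero]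

theorem good_words5 {α : Type*} (U W : Perm α) (x : α) (h1 : ((U * W) ^ 5) x = x)
    (h2 : (U * W) x ≠ x) (hU : U ≠ 1)
    (e1 : (W * U * U * W) * (W * U * W) = U * (W * U * W) * (W * U * U * W))
    (e2 : (U * W * U * U) * (U * W * U) = W * (U * W * U) * (U * W * U * U)) : Good 3 U W := by
  have a : U ∈ Subgroup.closure ({U, W} : Set (Perm α)) := Subgroup.subset_closure (by simp)
  have b : W ∈ Subgroup.closure ({U, W} : Set (Perm α)) := Subgroup.subset_closure (by simp)
  refine ⟨not_pel 3 _ x 5 (by norm_num) h1 h2, not_solv_words U W _ _ _ _ hU ?_ ?_ ?_ ?_ e1 e2⟩ <;>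
    repeat (first | exact a | exact b | apply Subgroup.mul_mem)

theorem good_words6 {α : Type*} (U W : Perm α) (x : α) (h1 : ((U * W) ^ 5) x = x)
    (h2 : (U * W) x ≠ x) (hU : U ≠ 1)
    (e1 : (W * U * W * U * U * W * U * W * W) * U = U * U * (W * U * W * U * U * W * U * W * W))
    (e2 : (U * U * W * U * W * W * U * W * U) * W = W * W * (U * U * W * U * W * W * U * W * U)) :
    Good 3 U W := by
  have a : U ∈ Subgroup.closure ({U, W} : Set (Perm α)) := Subgroup.subset_closure (by simp)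
  have b : W ∈ Subgroup.closure ({U, W} : Set (Perm α)) := Subgroup.subset_closure (by simp)
  refine ⟨not_pel 3 _ x 5 (by norm_num) h1 h2, not_solv_words U W _ _ _ _ hU ?_ ?_ ?_ ?_ e1 e2⟩ <;>
    repeat (first | exact a | exact b | apply Subgroup.mul_mem)

theorem two_five (U W : Perm (Fin 5)) (hU : U ≠ 1) (hW : W ≠ 1) (hU3 : U ^ 3 = 1)
    (hW3 : W ^ 3 = 1) : Two 3 U W := by
  haveI : Fact (Nat.Prime 3) := ⟨Nat.prime_three⟩
  let σ : Perm (Fin 5) := swap 0 2 * swap 0 1
  have hσ3 : σ ^ 3 = 1 := by decide +kernel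
  have hσs : σ.support.card = 3 := by decide +kernel
  have cl : ∀ X : Perm (Fin 5), X ≠ 1 → X ^ 3 = 1 → IsConj σ X := by
    intro X h1 h2
    obtain ⟨a, b, c⟩ := supp_dvd 3 h2 h1
    rw [Fintype.card_fin] at c
    exact conj_of_supp 3 hσ3 h2 (by omega)
  refine two_conj 3 (cl U hU hU3) (cl W hW hW3) ?_
  refine two_of_centr 3 (swap 1 3 * swap 2 4) (swap 3 4) (by decide +kernel) (by decide +kernel) ?_
  exact good_words5 _ _ 0 (by decide +kernel) (by decide +kernel) (by decide +kernel) (by decide +kernel) (by decide +kernel)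

theorem two_six (U W : Perm (Fin 6)) (hU : U ≠ 1) (hW : W ≠ 1) (hU3 : U ^ 3 = 1)
    (hW3 : W ^ 3 = 1) : Two 3 U W := by
  haveI : Fact (Nat.Prime 3) := ⟨Nat.prime_three⟩
  let σ : Perm (Fin 6) := swap 0 2 * swap 0 1
  let τ : Perm (Fin 6) := swap 0 2 * swap 0 1 * (swap 3 5 * swap 3 4)
  have hσ3 : σ ^ 3 = 1 := by decide +kernel
  have hσs : σ.support.card = 3 := by decide +kernel
  have hτ3 : τ ^ 3 = 1 := by decide +kernel
  have hτs : τ.support.card = 6 := by decide +kernel
  have cl : ∀ X : Perm (Fin 6), X ≠ 1 → X ^ 3 = 1 → IsConj σ X ∨ IsConj τ X := by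
    intro X h1 h2
    obtain ⟨a, b, c⟩ := supp_dvd 3 h2 h1
    rw [Fintype.card_fin] at c
    have : X.support.card = 3 ∨ X.support.card = 6 := by omega
    rcases this with h | h
    · exact Or.inl (conj_of_supp 3 hσ3 h2 (by omega))
    · exact Or.inr (conj_of_supp 3 hτ3 h2 (by omega))
  rcases cl U hU hU3 with h1 | h1 <;> rcases cl W hW hW3 with h2 | h2 <;>
    refine two_conj 3 h1 h2 ?_
  · refine two_of_centr 3 (swap 1 3 * swap 2 4) (swap 3 4) (by decide +kernel) (by decide +kernel) ?_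
    exact good_words5 _ _ 0 (by decide +kernel) (by decide +kernel) (by decide +kernel) (by decide +kernel) (by decide +kernel)
  · refine two_of_centr 3 (swap 1 3 * swap 1 2) (swap 0 3 * swap 1 4 * swap 2 5)
      (by decide +kernel) (by decide +kernel) ?_
    exact good_words6 _ _ 1 (by decide +kernel) (by decide +kernel) (by decide +kernel) (by decide +kernel) (by decide +kernel)
  · refine two_of_centr 3 (swap 1 3 * swap 1 2) (swap 3 4) (by decide +kernel) (by decide +kernel) ?_
    exact good_words6 _ _ 1 (by decide +kernel) (by decide +kernel) (by decide +kernel) (by decide +kernel) (by decide +kernel)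
  · refine two_of_centr 3 (swap 2 3 * swap 4 5) (swap 0 3 * swap 1 4 * swap 2 5)
      (by decide +kernel) (by decide +kernel) ?_
    exact good_words5 _ _ 0 (by decide +kernel) (by decide +kernel) (by decide +kernel) (by decide +kernel) (by decide +kernel)

theorem two_zmod5 (W : Perm (ZMod 5)) (hW : W ≠ 1) (hW5 : W ^ 5 = 1) :
    Two 5 (Equiv.addRight (1 : ZMod 5) : Perm (ZMod 5)) W := by
  have hU5 : (Equiv.addRight (1 : ZMod 5) : Perm (ZMod 5)) ^ 5 = 1 := by decide +kernel
  have hUs : (Perm.support (Equiv.addRight (1 : ZMod 5) : Perm (ZMod 5))).card = 5 := by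
    decide +kernel
  obtain ⟨a, b, c⟩ := @supp_dvd 5 ⟨Nat.prime_five⟩ _ _ _ _ hW5 hW
  rw [ZMod.card] at c
  refine two_conj 5 (IsConj.refl _) (@conj_of_supp 5 ⟨Nat.prime_five⟩ _ _ _ _ _ hU5 hW5 (by omega)) ?_
  refine ⟨swap 3 4, swap 0 1 * swap 2 3, by decide +kernel, ?_, ?_⟩
  · exact @good_core 5 ⟨Nat.prime_five⟩ (by norm_num) 1 le_rfl 5 _ (by norm_num) _ 1
      (by decide +kernel) 0 2 (by norm_num) (by decide +kernel) (by decide +kernel) (by omega)
  · exact @good_core 5 ⟨Nat.prime_five⟩ (by norm_num) 1 le_rfl 5 _ (by norm_num) _ 1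
      (by decide +kernel) 0 3 (by norm_num) (by decide +kernel) (by decide +kernel) (by omega)

theorem labels {N m : ℕ} [NeZero N] (hm : m + 2 ≤ N) (pts : Fin m → ZMod N)
    (hpts : Function.Injective pts) (lab : Fin m → ℕ) (hlab : Function.Injective lab)
    (hlt : ∀ i, lab i < N) :
    ∃ π₁ π₂ : Perm (ZMod N), Perm.sign π₁ ≠ Perm.sign π₂ ∧ (∀ i, π₁ (pts i) = (lab i : ZMod N)) ∧
      ∀ i, π₂ (pts i) = (lab i : ZMod N) := by
  classical
  have hinj : Function.Injective (fun i => (lab i : ZMod N)) := by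
    intro i j h
    apply hlab
    have := congrArg ZMod.val h
    simp only at this
    rwa [ZMod.val_cast_of_lt (hlt i), ZMod.val_cast_of_lt (hlt j)] at this
  obtain ⟨π, hπ⟩ := Perm.exists_extending_pair pts _ hpts hinj
  have hc : 1 < (Finset.univ \ Finset.univ.image pts).card := by
    have h1 : (Finset.univ.image pts).card ≤ m := by
      simpa using Finset.card_image_le (s := Finset.univ) (f := pts)
    rw [Finset.card_sdiff_of_subset (Finset.subset_univ _), Finset.card_univ, ZMod.card]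
    omega
  obtain ⟨x, hx, y, hy, hxy⟩ := Finset.one_lt_card.1 hc
  simp only [Finset.mem_sdiff, Finset.mem_univ, Finset.mem_image, true_and, not_exists] at hx hy
  refine ⟨π, π * swap x y, ?_, hπ, fun i => ?_⟩
  · rw [Perm.sign_mul, Perm.sign_swap hxy]
    rcases Int.units_eq_one_or (Perm.sign π) with a | a <;> simp [a]
  · rw [Perm.mul_apply, swap_apply_of_ne_of_ne (hx i) (hy i), hπ]

theorem inj4 {α : Type*} {a b c d : α} (h1 : a ≠ b) (h2 : a ≠ c) (h3 : a ≠ d) (h4 : b ≠ c)
    (h5 : b ≠ d) (h6 : c ≠ d) : Function.Injective ![a, b, c, d] := by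
  intro i j h
  fin_cases i <;> fin_cases j <;> simp at h ⊢ <;>
    first | exact absurd h ‹_› | exact absurd h.symm ‹_›

theorem inj5 {α : Type*} {a b c d e : α} (h1 : a ≠ b) (h2 : a ≠ c) (h3 : a ≠ d) (h4 : b ≠ c)
    (h5 : b ≠ d) (h6 : c ≠ d) (h7 : a ≠ e) (h8 : b ≠ e) (h9 : c ≠ e) (h10 : d ≠ e) :
    Function.Injective ![a, b, c, d, e] := by
  intro i j h
  fin_cases i <;> fin_cases j <;> simp at h ⊢ <;>
    first | exact absurd h ‹_› | exact absurd h.symm ‹_›

theorem two_big (p : ℕ) [Fact p.Prime] (hp3 : 3 ≤ p) (a : ℕ) (ha : 1 ≤ a) (N : ℕ) [NeZero N]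
    (hN : N = p ^ a) (hN7 : 7 ≤ N) (W : Perm (ZMod N)) (hW : W ≠ 1) (k : ℕ)
    (hk : W ^ p ^ k = 1) : Two p (Equiv.addRight (1 : ZMod N) : Perm (ZMod N)) W := by
  classical
  have hp : p.Prime := Fact.out
  have h2p : Nat.Coprime 2 p := (Nat.coprime_primes Nat.prime_two hp).2 (by omega)
  obtain ⟨q, hq3, hqN, hq⟩ : ∃ q : ℕ, 3 ≤ q ∧ q + 3 ≤ N ∧ (2 ≤ a → q = p ^ (a - 1)) := by
    rcases Nat.lt_or_ge a 2 with h | h
    · exact ⟨3, le_rfl, by omega, by omega⟩
    · refine ⟨p ^ (a - 1), ?_, ?_, fun _ => rfl⟩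
      · exact hp3.trans (Nat.le_self_pow (by omega) p)
      · have e : N = p ^ (a - 1) * p := by rw [hN, ← pow_succ]; congr 1; omega
        have h4 : 3 ≤ p ^ (a - 1) := hp3.trans (Nat.le_self_pow (by omega) p)
        have : p ^ (a - 1) * 3 ≤ p ^ (a - 1) * p := Nat.mul_le_mul_left _ hp3
        omega
  obtain ⟨x, hx⟩ : ∃ x, W x ≠ x := by
    by_contra hc
    push Not at hc
    exact hW (Equiv.ext hc)
  have hx2 : W (W x) ≠ x := fun h => not_pel p W x 2 h2p (by rw [pow_two]; exact h) hx k hk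
  have hx3 : W (W x) ≠ W x := fun h => hx (W.injective h)
  obtain ⟨y, hy⟩ : ∃ y, y ∉ ({x, W x, W (W x), W⁻¹ x} : Finset (ZMod N)) := by
    by_contra hc
    push Not at hc
    have h1 : (Finset.univ : Finset (ZMod N)) ⊆ {x, W x, W (W x), W⁻¹ x} := fun y _ => hc y
    have h2 := (Finset.card_le_card h1).trans Finset.card_le_four
    rw [Finset.card_univ, ZMod.card] at h2
    omega
  simp only [Finset.mem_insert, Finset.mem_singleton, not_or] at hy
  obtain ⟨y1, y2, y3, y4⟩ := hy
  have hconj : ∀ π : Perm (ZMod N), (π * W * π⁻¹) ^ p ^ k = 1 := by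
    intro π; rw [conj_pow, hk]; simp
  have happ : ∀ (π : Perm (ZMod N)) (s t : ZMod N), π s = t → (π * W * π⁻¹) t = π (W s) := by
    intro π s t h
    rw [← h]; simp [Perm.mul_apply]
  have h02 : (2 : ZMod N) ≠ 0 := by
    intro h
    have : ((2 : ℕ) : ZMod N) = 0 := by exact_mod_cast h
    rw [ZMod.natCast_eq_zero_iff] at this
    have := Nat.le_of_dvd (by norm_num) this
    omega
  have h01 : (1 : ZMod N) ≠ 0 := by
    intro h
    apply h02
    rw [← one_add_one_eq_two, h, add_zero]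
  have hu2 : IsUnit (2 : ZMod N) := by
    have : IsUnit ((2 : ℕ) : ZMod N) := by
      rw [ZMod.isUnit_iff_coprime, hN]
      exact h2p.pow_right a
    exact_mod_cast this
  by_cases hy : W y = y
  · obtain ⟨π₁, π₂, hs, l1, l2⟩ := labels (N := N) (m := 4) (by omega) ![x, y, W x, W (W x)]
      (inj4 (Ne.symm y1) hx.symm hx2.symm y2 y3 hx3.symm)
      ![2, 1, 0, q]
      (inj4 (by omega) (by omega) (by omega) (by omega) (by omega) (by omega))
      (by intro i; fin_cases i <;> simp <;> omega)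
    have key : ∀ π : Perm (ZMod N),
        (∀ i, π (![x, y, W x, W (W x)] i) = ((![2, 1, 0, q] i : ℕ) : ZMod N)) →
        Good p (Equiv.addRight (1 : ZMod N) : Perm (ZMod N)) (π * W * π⁻¹) := by
      intro π l
      have a0 : π x = 2 := by simpa using l 0
      have a1 : π y = 1 := by simpa using l 1
      have a2 : π (W x) = 0 := by simpa using l 2
      have a3 : π (W (W x)) = q := by simpa using l 3
      have b0 := (happ π _ _ a0).trans a2
      have b1 : (π * W * π⁻¹) 1 = 1 := by rw [happ π _ _ a1, hy, a1]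
      have b2 := (happ π _ _ a2).trans a3
      have b3 := hconj π
      generalize π * W * π⁻¹ = W' at b0 b1 b2 b3 ⊢
      refine good_core p hp3 a ha N hN W' k b3 1 2 h2p ?_ ?_ ?_
      · simp only [pow_two, Perm.mul_apply, Equiv.coe_addRight, b1, one_add_one_eq_two, b0, zero_add]
      · simp only [Perm.mul_apply, Equiv.coe_addRight, b1]
        intro h
        exact h01 (by simpa using h)
      · intro h
        refine ⟨0, 2, by simpa using hu2, ?_⟩
        rw [b2, b0, hq h]; simp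
    exact ⟨π₁, π₂, hs, key _ l1, key _ l2⟩
  · have y5 : W y ≠ x := fun h => y4 (by rw [← h]; simp)
    have y6 : W y ≠ W x := fun h => y1 (W.injective h)
    have y7 : W y ≠ W (W x) := fun h => y2 (W.injective h)
    obtain ⟨π₁, π₂, hs, l1, l2⟩ := labels (N := N) (m := 5) (by omega) ![x, W x, y, W y, W (W x)]
      (inj5 hx.symm (Ne.symm y1) y5.symm (Ne.symm y2) y6.symm (Ne.symm hy) hx2.symm hx3.symm y3 y7)
      ![0, 1, 2, N - 1, 1 + q]
      (inj5 (by omega) (by omega) (by omega) (by omega) (by omega) (by omega) (by omega)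
        (by omega) (by omega) (by omega))
      (by intro i; fin_cases i <;> simp <;> omega)
    have key : ∀ π : Perm (ZMod N),
        (∀ i, π (![x, W x, y, W y, W (W x)] i) = ((![0, 1, 2, N - 1, 1 + q] i : ℕ) : ZMod N)) →
        Good p (Equiv.addRight (1 : ZMod N) : Perm (ZMod N)) (π * W * π⁻¹) := by
      intro π l
      have a0 : π x = 0 := by simpa using l 0
      have a1 : π (W x) = 1 := by simpa using l 1
      have a2 : π y = 2 := by simpa using l 2
      have a3 : π (W y) = -1 := by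
        have := l 3
        simp only [Matrix.cons_val] at this
        rw [this, Nat.cast_sub (by omega)]; simp
      have a4 : π (W (W x)) = 1 + q := by simpa using l 4
      have b0 := (happ π _ _ a0).trans a1
      have b1 := (happ π _ _ a1).trans a4
      have b2 := (happ π _ _ a2).trans a3
      have b3 := hconj π
      generalize π * W * π⁻¹ = W' at b0 b1 b2 b3 ⊢
      refine good_core p hp3 a ha N hN W' k b3 0 2 h2p ?_ ?_ ?_
      · simp only [pow_two, Perm.mul_apply, Equiv.coe_addRight, b0, one_add_one_eq_two, b2,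
          neg_add_cancel]
      · simp only [Perm.mul_apply, Equiv.coe_addRight, b0, one_add_one_eq_two]
        exact h02
      · intro h
        refine ⟨1, 0, by simp, ?_⟩
        rw [b1, b0, hq h]; simp
    exact ⟨π₁, π₂, hs, key _ l1, key _ l2⟩

end Cfsg.Agent.H21.Ap
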