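import Cfsg.Agent.H21.Ap4

/-! Two non-trivial `p`-elements of a symmetric group: an even conjugator giving a good pair. -/

set_option autoImplicit false

namespace Cfsg.Agent.H21.Ap

open Equiv

theorem orbit_set {α : Type*} [Fintype α] [DecidableEq α] (w : Perm α) (x : α) (n : ℕ) (hn : 0 < n)
    (hx : Function.minimalPeriod w x = n) :
    ∃ O : Finset α, x ∈ O ∧ O.card = n ∧ (∀ y ∈ O, w y ∈ O) ∧
      ∀ T : Finset α, (∀ y ∈ T, w y ∈ T) → x ∈ T → O ⊆ T := by
  refine ⟨(Finset.range n).image (fun i => w^[i] x), ?_, ?_, ?_, ?_⟩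
  · exact Finset.mem_image.2 ⟨0, Finset.mem_range.2 hn, rfl⟩
  · rw [Finset.card_image_of_injOn, Finset.card_range]
    rw [Finset.coe_range, ← hx]
    exact Function.iterate_injOn_Iio_minimalPeriod
  · intro y hy
    obtain ⟨i, hi, rfl⟩ := Finset.mem_image.1 hy
    refine Finset.mem_image.2 ⟨(i + 1) % n, Finset.mem_range.2 (Nat.mod_lt _ hn), ?_⟩
    rw [← hx, Function.iterate_mod_minimalPeriod_eq, Function.iterate_succ_apply']
  · intro T hT hxT y hy
    obtain ⟨i, hi, rfl⟩ := Finset.mem_image.1 hy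
    clear hi hy
    induction i with
    | zero => exact hxT
    | succ i ih => rw [Function.iterate_succ_apply']; exact hT _ ih

theorem sdiff_inv {α : Type*} [DecidableEq α] (w : Perm α) (T O : Finset α)
    (hT : ∀ y ∈ T, w y ∈ T) (hO : ∀ y ∈ O, w y ∈ O) : ∀ y ∈ T \ O, w y ∈ T \ O := by
  intro y hy
  rw [Finset.mem_sdiff] at hy ⊢
  refine ⟨hT y hy.1, fun h => hy.2 ?_⟩
  simpa using Perm.perm_symm_on_of_perm_on_finset hO h

theorem inv_set (p : ℕ) [Fact p.Prime] {α : Type*} [Fintype α] [DecidableEq α] (w : Perm α)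
    (b : ℕ) : ∀ (c : ℕ) (T : Finset α), T.card = c → (∀ y ∈ T, w y ∈ T) →
      (∀ y ∈ T, Function.IsPeriodicPt w (p ^ b) y) → ∀ m, p ^ b ∣ m → m ≤ T.card →
      ∃ S ⊆ T, (∀ y ∈ S, w y ∈ S) ∧ S.card = m := by
  have hp : p.Prime := Fact.out
  induction b with
  | zero =>
    intro c T _ hT hper m _ hm
    obtain ⟨S, hS, hc⟩ := Finset.exists_subset_card_eq hm
    refine ⟨S, hS, fun y hy => ?_, hc⟩
    have : w y = y := by simpa [Function.IsPeriodicPt, Function.IsFixedPt] using hper y (hS hy)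
    rwa [this]
  | succ b ih =>
    intro c
    induction c using Nat.strong_induction_on with
    | _ c ihc =>
      intro T hc hT hper m hd hm
      rcases Nat.eq_zero_or_pos m with rfl | hm0
      · exact ⟨∅, Finset.empty_subset _, by simp, rfl⟩
      by_cases h : ∀ y ∈ T, Function.IsPeriodicPt w (p ^ b) y
      · exact ih c T hc hT h m ((pow_dvd_pow p (Nat.le_succ b)).trans hd) hm
      push Not at h
      obtain ⟨x, hxT, hx⟩ := h
      have hmp := Function.minimalPeriod_eq_prime_pow hx (hper x hxT)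
      have hpos : 0 < p ^ (b + 1) := pow_pos hp.pos _
      obtain ⟨O, hxO, hOc, hO, hOT⟩ := orbit_set w x _ hpos hmp
      have hsub := hOT T hT hxT
      have hle := Nat.le_of_dvd hm0 hd
      have hcard : (T \ O).card = c - p ^ (b + 1) := by
        rw [Finset.card_sdiff_of_subset hsub, hc, hOc]
      obtain ⟨S, hS, hSi, hSc⟩ := ihc _ (by omega) (T \ O) hcard (sdiff_inv w T O hT hO)
        (fun y hy => hper y (Finset.mem_sdiff.1 hy).1) (m - p ^ (b + 1))
        (Nat.dvd_sub hd dvd_rfl) (by omega)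
      refine ⟨S ∪ O, Finset.union_subset (hS.trans Finset.sdiff_subset) hsub, ?_, ?_⟩
      · intro y hy
        rcases Finset.mem_union.1 hy with h | h
        · exact Finset.mem_union_left _ (hSi y h)
        · exact Finset.mem_union_right _ (hO y h)
      · rw [Finset.card_union_of_disjoint (Finset.disjoint_of_subset_left hS Finset.sdiff_disjoint),
          hSc, hOc]
        omega

theorem exists_full {α : Type*} [Fintype α] [DecidableEq α] (p : ℕ) [Fact p.Prime] (w : Perm α)
    (b : ℕ) (h : orderOf w = p ^ (b + 1)) : ∃ x, Function.minimalPeriod w x = p ^ (b + 1) := by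
  have hp : p.Prime := Fact.out
  have h1 : w ^ p ^ b ≠ 1 := by
    intro h2
    have := Nat.le_of_dvd (pow_pos hp.pos _) (orderOf_dvd_of_pow_eq_one h2)
    rw [h] at this
    have h7 : p ^ b < p ^ (b + 1) := Nat.pow_lt_pow_right hp.one_lt (by omega)
    omega
  obtain ⟨x, hx⟩ : ∃ x, (w ^ p ^ b) x ≠ x := by
    by_contra hc
    push Not at hc
    exact h1 (Equiv.ext hc)
  refine ⟨x, Function.minimalPeriod_eq_prime_pow ?_ ?_⟩
  · rw [Function.IsPeriodicPt, Function.IsFixedPt, ← Perm.coe_pow]; exact hx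
  · rw [Function.IsPeriodicPt, Function.IsFixedPt, ← Perm.coe_pow, ← h, pow_orderOf_eq_one]; rfl

theorem equiv_pow {α ι : Type*} (f : ι → α) (w : Perm α) (W : Perm ι)
    (hw : ∀ i, w (f i) = f (W i)) (n : ℕ) (i : ι) : (w ^ n) (f i) = f ((W ^ n) i) := by
  induction n with
  | zero => rfl
  | succ n ih => rw [pow_succ', pow_succ', Perm.mul_apply, ih, hw]; rfl

theorem restrict {α ι : Type*} [Fintype α] [DecidableEq α] [Fintype ι] (p : ℕ) [Fact p.Prime]
    (w : Perm α) (b : ℕ) (h : orderOf w = p ^ (b + 1)) (hd : p ^ (b + 1) ∣ Fintype.card ι)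
    (hpos : 0 < Fintype.card ι) (hle : Fintype.card ι ≤ Fintype.card α) :
    ∃ (f : ι → α) (W : Perm ι), Function.Injective f ∧ (∀ i, w (f i) = f (W i)) ∧ W ≠ 1 ∧
      W ^ p ^ (b + 1) = 1 := by
  have hp : p.Prime := Fact.out
  obtain ⟨x, hx⟩ := exists_full p w b h
  obtain ⟨O, hxO, hOc, hO, -⟩ := orbit_set w x _ (pow_pos hp.pos _) hx
  have hw1 : w ^ p ^ (b + 1) = 1 := by rw [← h, pow_orderOf_eq_one]
  have hle2 := Nat.le_of_dvd hpos hd
  obtain ⟨S, hS, hSi, hSc⟩ := inv_set p w (b + 1) _ (Finset.univ \ O) rfl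
    (sdiff_inv w _ O (by simp) hO)
    (fun y _ => by rw [Function.IsPeriodicPt, Function.IsFixedPt, ← Perm.coe_pow, hw1]; rfl)
    (Fintype.card ι - p ^ (b + 1)) (Nat.dvd_sub hd dvd_rfl)
    (by rw [Finset.card_sdiff_of_subset (Finset.subset_univ _), Finset.card_univ, hOc]; omega)
  have hc : (S ∪ O).card = Fintype.card ι := by
    rw [Finset.card_union_of_disjoint (Finset.disjoint_of_subset_left hS Finset.sdiff_disjoint),
      hSc, hOc]
    omega
  have hinv : ∀ y ∈ S ∪ O, w y ∈ S ∪ O := by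
    intro y hy
    rcases Finset.mem_union.1 hy with h | h
    · exact Finset.mem_union_left _ (hSi y h)
    · exact Finset.mem_union_right _ (hO y h)
  have hxS : x ∈ S ∪ O := Finset.mem_union_right _ hxO
  generalize S ∪ O = R at hc hinv hxS
  let e : ι ≃ R := (Fintype.equivOfCardEq (by rw [Fintype.card_coe, hc]))
  let w' : Perm R := w.subtypePerm (fun y => ⟨fun h => by
    simpa using Perm.perm_symm_on_of_perm_on_finset hinv h, hinv y⟩)
  have hf : Function.Injective (fun i => (e i : α)) := fun i j h => e.injective (Subtype.ext h)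
  have hw : ∀ i, w (e i : α) = (e (e.symm.permCongr w' i) : α) := by
    intro i; simp [w']
  refine ⟨fun i => (e i : α), e.symm.permCongr w', hf, hw, ?_, ?_⟩
  · intro h1
    have h2 := hw (e.symm ⟨x, hxS⟩)
    rw [h1] at h2
    simp only [Equiv.apply_symm_apply, Perm.one_apply] at h2
    have h3 : Function.minimalPeriod w x = 1 := Function.minimalPeriod_eq_one_iff_isFixedPt.2 h2
    rw [hx] at h3
    exact (Nat.one_lt_pow (Nat.succ_ne_zero b) hp.one_lt).ne' h3
  · ext i
    apply hf
    have := equiv_pow (fun i => (e i : α)) w _ hw (p ^ (b + 1)) i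
    rw [hw1] at this
    exact this.symm

theorem cycle_emb {α : Type*} (u : Perm α) (x : α) (N : ℕ) [NeZero N]
    (hx : Function.minimalPeriod u x = N) :
    ∃ e : ZMod N → α, Function.Injective e ∧
      ∀ i, u (e i) = e ((Equiv.addRight (1 : ZMod N) : Perm (ZMod N)) i) := by
  refine ⟨fun i => u^[i.val] x, ?_, ?_⟩
  · intro i j h
    apply ZMod.val_injective
    exact (Function.iterate_eq_iterate_iff_of_lt_minimalPeriod (hx ▸ ZMod.val_lt i)
      (hx ▸ ZMod.val_lt j)).1 h
  · intro i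
    simp only [Equiv.coe_addRight]
    have : i + 1 = ((i.val + 1 : ℕ) : ZMod N) := by simp
    rw [this, ZMod.val_natCast]
    have h2 := Function.iterate_mod_minimalPeriod_eq (f := u) (x := x) (n := i.val + 1)
    rw [hx] at h2
    rw [h2, Function.iterate_succ_apply']

theorem main_le {α : Type*} [Fintype α] [DecidableEq α] (hn : 5 ≤ Fintype.card α) (p : ℕ)
    [Fact p.Prime] (hp3 : 3 ≤ p) (u w : Perm α) (a b : ℕ) (hab : b ≤ a)
    (hu : orderOf u = p ^ (a + 1)) (hw : orderOf w = p ^ (b + 1)) :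
    ∃ g : Perm α, Perm.sign g = 1 ∧ Good p u (g * w * g⁻¹) := by
  have hp : p.Prime := Fact.out
  by_cases h3 : p ^ (a + 1) = 3
  · have hp3' : p = 3 := by
      have : p ∣ 3 := h3 ▸ dvd_pow_self p (Nat.succ_ne_zero a)
      exact (Nat.prime_dvd_prime_iff_eq hp Nat.prime_three).1 this
    subst hp3'
    have ha : a = 0 := by
      have : 3 ^ (a + 1) = 3 ^ 1 := by rw [h3, pow_one]
      have := Nat.pow_right_injective (by norm_num) this
      omega
    have hb : b = 0 := by omega
    subst ha hb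
    rcases Nat.lt_or_ge (Fintype.card α) 6 with h | h
    · let e : Fin 5 ≃ α := Fintype.equivOfCardEq (by rw [Fintype.card_fin]; omega)
      have key : ∀ v : Perm α, orderOf v = 3 ^ (0 + 1) →
          (∀ i, v (e i) = e (e.symm.permCongr v i)) ∧ e.symm.permCongr v ≠ 1 ∧
            e.symm.permCongr v ^ 3 = 1 := by
        intro v hv
        have h1 : ∀ i, v (e i) = e (e.symm.permCongr v i) := by intro i; simp
        refine ⟨h1, fun h2 => ?_, ?_⟩
        · have : v = 1 := by
            ext y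
            obtain ⟨i, rfl⟩ := e.surjective y
            rw [h1, h2]; rfl
          rw [this, orderOf_one] at hv
          norm_num at hv
        · ext i
          have := equiv_pow e v _ h1 3 i
          have h4 : v ^ 3 = 1 := by
            have := pow_orderOf_eq_one v
            rwa [hv] at this
          rw [h4] at this
          rw [← e.injective this]; rfl
      obtain ⟨u1, u2, u3⟩ := key u hu
      obtain ⟨w1, w2, w3⟩ := key w hw
      obtain ⟨π₁, π₂, hs, g1, g2⟩ := two_five _ _ u2 w2 u3 w3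
      exact transfer 3 e e e.injective e.injective u w _ _ u1 w1 π₁ π₂ hs g1 g2
    · obtain ⟨e, U, he, u1, u2, u3⟩ := restrict (ι := Fin 6) 3 u 0 hu (by simp) (by simp)
        (by simpa using h)
      obtain ⟨f, W, hf, w1, w2, w3⟩ := restrict (ι := Fin 6) 3 w 0 hw (by simp) (by simp)
        (by simpa using h)
      obtain ⟨π₁, π₂, hs, g1, g2⟩ := two_six _ _ u2 w2 u3 w3
      exact transfer 3 e f he hf u w _ _ u1 w1 π₁ π₂ hs g1 g2
  · obtain ⟨x, hx⟩ := exists_full p u a hu
    have hpos : 0 < p ^ (a + 1) := pow_pos hp.pos _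
    obtain ⟨N, hN⟩ : ∃ N, N = p ^ (a + 1) := ⟨_, rfl⟩
    rw [← hN] at hx h3 hpos
    haveI : NeZero N := ⟨hpos.ne'⟩
    obtain ⟨e, he, u1⟩ := cycle_emb u x N hx
    have hNle : N ≤ Fintype.card α := by
      simpa using Fintype.card_le_of_injective e he
    obtain ⟨f, W, hf, w1, w2, w3⟩ := restrict (ι := ZMod N) p w b hw
      (by rw [ZMod.card, hN]; exact pow_dvd_pow p (by omega)) (by rwa [ZMod.card])
      (by rwa [ZMod.card])
    have hT : Two p (Equiv.addRight (1 : ZMod N) : Perm (ZMod N)) W := by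
      rcases Nat.lt_or_ge N 7 with h | h
      · have hpN : p ∣ N := hN ▸ dvd_pow_self p (Nat.succ_ne_zero a)
        have hodd : Odd N := hN ▸ (hp.odd_of_ne_two (by omega)).pow
        have hpN' := Nat.le_of_dvd hpos hpN
        have hN5 : N = 5 := by
          obtain ⟨t, ht⟩ := hodd
          omega
        have hp5 : p = 5 := (Nat.prime_dvd_prime_iff_eq hp Nat.prime_five).1 (hN5 ▸ hpN)
        subst hN5 hp5
        have ha : a = 0 := by
          have : 5 ^ (a + 1) = 5 ^ 1 := by rw [← hN, pow_one]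
          have := Nat.pow_right_injective (by norm_num) this
          omega
        have hb : b = 0 := by omega
        subst hb
        exact two_zmod5 W w2 w3
      · exact two_big p hp3 (a + 1) (by omega) N hN h W w2 _ w3
    obtain ⟨π₁, π₂, hs, g1, g2⟩ := hT
    exact transfer p e f he hf u w _ _ u1 w1 π₁ π₂ hs g1 g2

theorem main_perm {α : Type*} [Fintype α] [DecidableEq α] (hn : 5 ≤ Fintype.card α) (p : ℕ)
    [Fact p.Prime] (hp3 : 3 ≤ p) (u w : Perm α) (hu1 : u ≠ 1) (hw1 : w ≠ 1) (a b : ℕ)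
    (hu : orderOf u = p ^ a) (hw : orderOf w = p ^ b) :
    ∃ g : Perm α, Perm.sign g = 1 ∧ Good p u (g * w * g⁻¹) := by
  obtain ⟨a, rfl⟩ : ∃ c, a = c + 1 := Nat.exists_eq_succ_of_ne_zero (by
    rintro rfl; exact hu1 (orderOf_eq_one_iff.1 hu))
  obtain ⟨b, rfl⟩ : ∃ c, b = c + 1 := Nat.exists_eq_succ_of_ne_zero (by
    rintro rfl; exact hw1 (orderOf_eq_one_iff.1 hw))
  rcases le_total b a with h | h
  · exact main_le hn p hp3 u w a b h hu hw
  · obtain ⟨g, hg, h1⟩ := main_le hn p hp3 w u b a h hw hu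
    exact ⟨g⁻¹, by rw [Perm.sign_inv, hg], good_symm p u w g h1⟩

theorem main (n : ℕ) (hn : 5 ≤ n) (p : ℕ) (hp : p.Prime) (hp3 : 3 ≤ p)
    (u w : alternatingGroup (Fin n)) (hu : u ≠ 1) (hw : w ≠ 1)
    (hu' : ∃ k : ℕ, orderOf u = p ^ k) (hw' : ∃ k : ℕ, orderOf w = p ^ k) :
    ∃ g : alternatingGroup (Fin n), Good p u (g * w * g⁻¹) := by
  haveI : Fact p.Prime := ⟨hp⟩
  obtain ⟨a, ha⟩ := hu'
  obtain ⟨b, hb⟩ := hw'
  obtain ⟨g, hg, h⟩ := main_perm (α := Fin n) (by simpa using hn) p hp3 u w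
    (fun h => hu (Subtype.ext h)) (fun h => hw (Subtype.ext h)) a b
    (by rw [← ha]; exact Subgroup.orderOf_coe u) (by rw [← hb]; exact Subgroup.orderOf_coe w)
  refine ⟨⟨g, Perm.mem_alternatingGroup.2 hg⟩, ?_⟩
  let D : Subgroup (alternatingGroup (Fin n) × Perm (Fin n)) :=
    { carrier := {x | x.2 = x.1}
      one_mem' := rfl
      mul_mem' := by
        intro x y hx hy
        simp only [Set.mem_ofPred_eq, Prod.fst_mul, Prod.snd_mul] at hx hy ⊢
        rw [hx, hy]; rfl
      inv_mem' := by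
        intro x hx
        simp only [Set.mem_ofPred_eq, Prod.fst_inv, Prod.snd_inv] at hx ⊢
        rw [hx]; rfl }
  exact good_of_rel p D (fun y hy => hy) _ _ (u : Perm (Fin n)) (g * w * g⁻¹) rfl rfl h

end Cfsg.Agent.H21.Ap
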