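/-
Extending `p`-rational characters inside principal blocks.
-/
import Cfsg.Agent.H20.Res2
import Cfsg.Agent.H20.Rk
import Cfsg.Agent.H21.Glau1
import Cfsg.Agent.H21.Gall
import Cfsg.Agent.H21.MS1
import Cfsg.Agent.S4551
import Cfsg.Agent.S4923

set_option autoImplicit false
set_option linter.unusedSectionVars false
open H17 Cfsg H15 CF Subgroup
open scoped Classical

namespace H21

variable {O : ValuationSubring ℂ} {G : Type*} [Group G] [Finite G] {p d : ℕ} [hp : Fact p.Prime]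
  {N Q : Subgroup G} {χ ψ : G → ℂ}

theorem mem_B0_iff {χ : IrrCharacter G} : χ ∈ H19.irr (H19.B0 O G) ↔
    ∀ g, centralChar (χ : G → ℂ) g - 𝒞₁(g).index ∈ O.nonunits := by
  rw [H19.mem_irr, H19.B0, H19.lam_eq_iff]
  simp [centralChar]

theorem B0_equiv {H : Type*} [Group H] [Finite H] (e : H ≃* G) {χ : IrrCharacter G}
    (h : χ ∈ H19.irr (H19.B0 O G)) : (⟨_, χ.2.comp_equiv e⟩ : IrrCharacter H) ∈ H19.irr (H19.B0 O H) :=
  mem_B0_iff.2 fun g => by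
    have : 𝒞₁(g).index = 𝒞₁(e g).index := by
      rw [← index_comap_of_surjective _ (f := e.toMonoidHom) e.surjective]
      congr 1
      ext x
      simp [mem_cent1, ← map_mul]
    simpa [centralChar, this] using mem_B0_iff.1 h (e g)

theorem exists_dvd_exp {r : ℕ} (hr : ¬ p ∣ r) (hd : ¬ p ∣ d) (a : ℕ) :
    ∃ e, r ∣ e ∧ p ^ a ∣ e * d + 1 := by
  obtain ⟨m, -, h⟩ := Nat.exists_mul_mod_eq_of_coprime (p ^ a - 1) (((hp.1.coprime_iff_not_dvd.2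
    fun h => (hp.1.dvd_mul.1 h).elim hr hd).pow_left a).symm) (pow_pos hp.1.pos a).ne'
  refine ⟨r * m, dvd_mul_right _ _, (Nat.modEq_zero_iff_dvd).1 ?_⟩
  have := (show r * d * m ≡ p ^ a - 1 [MOD p ^ a] from h).add_right 1
  rw [Nat.sub_add_cancel (pow_pos hp.1.pos a), mul_right_comm] at this
  exact this.trans (Nat.modEq_zero_iff_dvd.2 dvd_rfl)

theorem normal_sup_cent [N.Normal] (hQ : Syl(p, Q, N)) : (N ⊔ 𝒞(Q)).Normal :=
  normalizer_eq_top_iff.1 (top_le_iff.1 ((hQ.frattini le_top (top_le_norm N)).ge.trans (sup_le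
    (le_norm_of_le le_sup_left) (le_norm_sup (le_top.trans (top_le_norm N))
      (le_norm_cent inf_le_right)))))

theorem not_dvd_detOrder_of_rat (hp2 : p ≠ 2) (h : IsCharacter G χ) {m : ℕ} (hm : ¬ p ∣ m)
    (hr : ∀ g, χ g ∈ IntermediateField.adjoin ℚ ({Complex.exp (2 * Real.pi * Complex.I / m)} : Set ℂ)) :
    ¬ p ∣ detOrder χ := by
  obtain ⟨a, r, h1, e⟩ := Nat.exists_eq_pow_mul_and_not_dvd (Nat.card_pos (α := G)).ne' p hp.1.ne_one
  have h2 : ¬ p ∣ r * m := fun h => (hp.1.dvd_mul.1 h).elim h1 hm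
  have h0 : m ≠ 0 := fun h => hm (h ▸ dvd_zero p)
  obtain ⟨j, j1, j2, j3⟩ := exists_exp hp.1 (a + 1) (hp.1.coprime_iff_not_dvd.2 h2).symm
    ((Nat.coprime_primes Nat.prime_two hp.1).2 hp2.symm)
  obtain ⟨u, hu⟩ := exists_ringEquiv_pow (mul_ne_zero (pow_ne_zero _ hp.1.ne_zero)
    fun h : r * m = 0 => h2 (h ▸ dvd_zero p)) j1
  have hζ := (Complex.isPrimitiveRoot_exp m h0).pow_eq_one
  have h3 : (fun g => (u : ℂ →+* ℂ) (χ g)) = χ := funext fun g =>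
    Cfsg.Agent.S4923.fix_adjoin u (by
      rintro _ rfl
      rw [hu _ (by rw [← mul_assoc, pow_mul', hζ, one_pow]), pow_eq_pow_mod j hζ,
        j3.of_mul_left r, ← pow_eq_pow_mod 1 hζ, pow_one]) (hr g)
  obtain ⟨δ, hδ⟩ := exists_detChar h
  have h4 : ∀ g, δ g ^ j = δ g ^ 1 := fun g => Units.ext (by
    have := detChar_aut h (u : ℂ →+* ℂ) g
    rw [h3, hδ] at this
    rw [pow_one, Units.val_pow_eq_pow_val, ← hu _ (by
      rw [← Units.val_pow_eq_pow_val, ← map_pow, show p ^ (a + 1) * (r * m) = Nat.card G * (p * m) by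
        rw [e]; ring, pow_mul, pow_card_eq_one', one_pow, map_one, Units.val_one])]
    exact this.symm)
  rw [detOrder, hδ, orderOf_linear]
  intro h5
  obtain _ | j := j
  · simp [hp.1.ne_one] at j1
  have h6 : p ∣ j := h5.trans ((ord_dvd_iff δ).2 fun g => by simpa [pow_succ] using h4 g)
  exact hp.1.not_dvd_one ((Nat.modEq_iff_dvd' one_le_two).1
    ((((Nat.modEq_zero_iff_dvd.2 h6).add_right 1).symm).trans (j2.of_dvd (dvd_pow_self p a.succ_ne_zero))))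

variable [CharP (H19.kk O) p]

theorem mem_B0_of_cent [N.Normal] (hQ : Syl(p, Q, N)) {χ : IrrCharacter G} (e : (χ : G → ℂ) 1 = d)
    (hd : ¬ p ∣ d) (h : ∀ x ∈ 𝒞(Q), H19.res O ((χ : G → ℂ) x) = d) : χ ∈ H19.irr (H19.B0 O G) :=
  mem_B0_iff.2 fun g => by
    have h0 := (H19.natCast_mem_nonunits_iff (O := O) p d).not.2 hd
    have hO := fun x => H19.mem_of_isIntegral O (χ.2.isCharacter.isIntegral x)
    rw [show centralChar (χ : G → ℂ) g - 𝒞₁(g).index = 𝒞₁(g).index * ((χ : G → ℂ) g - d) * (d : ℂ)⁻¹ by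
      have := H19.ne_zero_of_not_nonunits h0
      rw [centralChar, e]; field_simp]
    refine H19.nonunits_mul_right ?_ (H19.inv_natCast_mem p hd)
    by_cases h1 : p ∣ 𝒞₁(g).index
    · exact H19.nonunits_mul_right ((H19.natCast_mem_nonunits_iff p _).2 h1)
        (sub_mem (hO g) (natCast_mem O d))
    obtain ⟨P, hP⟩ := exists_syl p 𝒞₁(g)
    obtain ⟨n, -, hn⟩ := ((hP.trans_idx le_top fun q hq a (b : q = p) => h1
      (by rwa [b, relIndex_top_right] at a)).inf_normal le_top (le_top.trans (top_le_norm N))).exists_cj_eq hQ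
    refine H19.nonunits_mul_left (natCast_mem O _) ((H19.res_eq_res_iff (hO g) (natCast_mem O d)).1 ?_)
    rw [H19.res_natCast, ← χ.2.isCharacter.isClassFunction g n]
    refine h _ ?_
    rw [← hn, ← cj_cent]
    exact conj_mem_cj (le_cent1_iff.1 (inf_le_left.trans hP.le))

theorem res_pow_eq_one {X : Type*} [Group X] (β : X →* ℂˣ) {a r e : ℕ} (h : ∀ x : X, x ^ (p ^ a * r) = 1)
    (he : r ∣ e) (x : X) : H19.res O ((β ^ e) x) = 1 := by
  obtain ⟨k, rfl⟩ := he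
  refine H19.res_eq_one_of_pow_prime_pow p (n := a) ?_
  rw [MonoidHom.pow_apply, ← Units.val_pow_eq_pow_val, ← pow_mul, mul_right_comm, mul_comm r, pow_mul,
    ← map_pow, h, map_one, one_pow, Units.val_one]

theorem units_mem (O : ValuationSubring ℂ) (β : G →* ℂˣ) (x : G) : (β x : ℂ) ∈ O :=
  H19.mem_of_pow_eq_one O (Nat.card_pos (α := G)).ne' (by
    rw [← Units.val_pow_eq_pow_val, ← map_pow, pow_card_eq_one', map_one, Units.val_one])

theorem exists_twist_top [N.Normal] (hQ : ¬ p ∣ Q.relIndex N) (hs : N ⊔ 𝒞(Q) = ⊤) {θ : IrrCharacter N}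
    (hθ : θ ∈ H19.irr (H19.B0 O N)) (hψ : IsCharacter G ψ) (e : ∀ n : N, ψ n = (θ : N → ℂ) n)
    (e1 : ψ 1 = d) (hd : ¬ p ∣ d) : ∃ β : G →* ℂˣ, (∀ n ∈ N, β n = 1) ∧
      ∀ x ∈ 𝒞(Q), H19.res O (β x) * H19.res O (ψ x) = d := by
  have e2 := H20.res_eq_iff.2 e
  obtain ⟨χ, h1, h2, h3⟩ := H20.exists_ext_aug (O := O) hQ hs ((isChar_top.2 hψ).mem_Irr_of_Res le_top
    (e2 ▸ H20.ext_mem_Irr θ)) (e2 ▸ H20.ext_mem_IB.2 hθ)
  have hc := (mem_Irr_top.1 h1).isCharacter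
  obtain ⟨β, b1, b2⟩ := exists_twist θ.2 hψ hc e fun n => (h2 n n.2).trans (e n)
  refine ⟨β, b1, fun x hx => ?_⟩
  have h4 := h3 _ (H20.csum_fixed N x) (H19.setSum_mem_OG _)
  have h5 := (CharP.cast_eq_zero_iff (H19.kk O) p _).not.2 (H20.not_dvd_cls hQ hx)
  rw [H19.om_apply, H20.ev_csum (irr_cf h1) le_top, H19.red_setSum, H20.aug_setSum, h2 1 (one_mem N),
    e1, H19.res_div (mul_mem (natCast_mem O _) (H20.irr_mem O h1 x)) (natCast_mem O d)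
    ((H19.natCast_mem_nonunits_iff p d).not.2 hd), H19.res_mul (natCast_mem O _) (H20.irr_mem O h1 x),
    H19.res_natCast, H19.res_natCast, div_eq_iff ((CharP.cast_eq_zero_iff _ p _).not.2 hd),
    mul_right_inj' h5, b2] at h4
  rw [← H19.res_mul (units_mem O β x) (H19.mem_of_isIntegral O (hψ.isIntegral x)), h4]

theorem exists_twist_cent [N.Normal] (hQ : Syl(p, Q, N)) {k : ℕ} (hi : (N ⊔ 𝒞(Q)).index = p ^ k)
    {θ : IrrCharacter N} (hθ : θ ∈ H19.irr (H19.B0 O N)) (hψ : IsCharacter G ψ)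
    (e : ∀ n : N, ψ n = (θ : N → ℂ) n) (e1 : ψ 1 = d) (hd : ¬ p ∣ d) :
    ∃ μ : G →* ℂˣ, (∀ n ∈ N, μ n = 1) ∧ ∀ x ∈ 𝒞(Q), H19.res O (μ x) * H19.res O (ψ x) = d := by
  haveI := normal_sup_cent hQ
  have h1 : N ≤ N ⊔ 𝒞(Q) := le_sup_left
  have h2 := hQ.le.trans h1
  obtain ⟨β, b1, b2⟩ := exists_twist_top (O := O) (N := N.subgroupOf (N ⊔ 𝒞(Q)))
    (Q := Q.subgroupOf (N ⊔ 𝒞(Q))) (by rw [relIndex_subgroupOf h1]; exact hQ.not_dvd_idx hp.1 rfl)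
    (by rw [← subgroupOf_cent h2, ← subgroupOf_sup h1 le_sup_right, subgroupOf_self])
    (B0_equiv (subgroupOfEquivOfLe h1) hθ) (hψ.restrict _) (fun n => e ⟨n, n.2⟩) e1 hd
  rw [← subgroupOf_cent h2] at b2
  obtain ⟨a, r, hr, ec⟩ := Nat.exists_eq_pow_mul_and_not_dvd (Nat.card_pos (α := G)).ne' p hp.1.ne_one
  obtain ⟨j, j1, i, j2⟩ := exists_dvd_exp hr hp.1.not_dvd_one a
  have h3 : ∀ x : ↥(N ⊔ 𝒞(Q)), x ^ (p ^ a * r) = 1 := fun x => Subtype.ext (ec ▸ pow_card_eq_one')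
  have h4 : ∀ x, H19.res O ((β ^ (j * 1 + 1)) x) = H19.res O (β x) := fun x => by
    rw [mul_one, MonoidHom.pow_apply, pow_succ, ← MonoidHom.pow_apply, Units.val_mul,
      H19.res_mul (units_mem O _ x) (units_mem O _ x), res_pow_eq_one β h3 j1, one_mul]
  have h5 : ∀ x, (β ^ (j * 1 + 1)) x ^ r = 1 := fun x => by
    rw [j2, MonoidHom.pow_apply, ← pow_mul, mul_right_comm, pow_mul, ← map_pow, h3, map_one, one_pow]
  have h6 : ∀ n : ↥(N ⊔ 𝒞(Q)), (n : G) ∈ N → (β ^ (j * 1 + 1)) n = 1 := fun n hn => by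
    rw [MonoidHom.pow_apply, b1 n hn, one_pow]
  generalize β ^ (j * 1 + 1) = γ at h4 h5 h6
  suffices h : ∀ (g : G) (m : ↥(N ⊔ 𝒞(Q))), γ ⟨g * m * g⁻¹, Normal.conj_mem inferInstance _ m.2 g⟩ = γ m by
    obtain ⟨μ, ⟨m1, -⟩, -⟩ := lin_ext_order γ h
      (hi ▸ ((hp.1.coprime_iff_not_dvd.2 fun h => hr (h.trans ((ord_dvd_iff γ).2 h5))).pow_left k))
    exact ⟨μ, fun n hn => (m1 ⟨n, h1 hn⟩).trans (h6 _ hn), fun x hx => by
      rw [m1 ⟨x, mem_sup_right hx⟩, h4]; exact b2 _ hx⟩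
  intro g m
  obtain ⟨n, hn, t, ht, rfl⟩ := hQ.frattini_mem (top_le_norm N (mem_top g))
  obtain ⟨m, hm⟩ := m
  obtain ⟨y, hy, c, hc, rfl⟩ := mem_sup_of_normal_left.1 hm
  have c1 : t * c * t⁻¹ ∈ 𝒞(Q) := (mem_normalizer_iff.1 (norm_le_norm_cent Q ht) c).1 hc
  have y1 : n * t * y * (n * t)⁻¹ ∈ N := Normal.conj_mem inferInstance y hy _
  have key : γ ⟨_, mem_sup_right c1⟩ = γ ⟨c, mem_sup_right hc⟩ := Units.ext (H20.root_eq_of_res (O := O) hr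
    (by rw [← Units.val_pow_eq_pow_val, h5, Units.val_one])
    (by rw [← Units.val_pow_eq_pow_val, h5, Units.val_one]) (by
      have a1 := b2 ⟨_, mem_sup_right c1⟩ c1
      have a2 := b2 ⟨c, mem_sup_right hc⟩ hc
      rw [hψ.isClassFunction c t] at a1
      rw [h4, h4]
      exact mul_right_cancel₀ (right_ne_zero_of_mul (a2 ▸ (CharP.cast_eq_zero_iff _ p _).not.2 hd))
        (a1.trans a2.symm)))
  calc _ = γ (⟨_, h1 y1⟩ * (⟨n, h1 hn⟩ * ⟨_, mem_sup_right c1⟩ * ⟨n, h1 hn⟩⁻¹)) :=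
        congrArg γ (Subtype.ext (by simp [mul_assoc]))
    _ = γ (⟨y, h1 hy⟩ * ⟨c, mem_sup_right hc⟩) := by
        simp only [map_mul, map_inv, h6 ⟨_, h1 y1⟩ y1, h6 ⟨_, h1 hn⟩ hn, h6 ⟨_, h1 hy⟩ hy, key, one_mul,
          inv_one, mul_one]
    _ = _ := rfl

theorem exists_ext_of_B0 {M : Ideal AlgInt} (hM : IsPModular p M) (hO : H19.Over O M) [hN : N.Normal]
    (hQ : Syl(p, Q, N)) {k : ℕ} (hi : (N ⊔ 𝒞(Q)).index = p ^ k) {θ : IrrCharacter N}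
    (hθ : θ ∈ H19.irr (H19.B0 O N))
    (hinv : ∀ (g : G) (n : N), (θ : N → ℂ) ⟨g * n * g⁻¹, hN.conj_mem n n.2 g⟩ = (θ : N → ℂ) n)
    (e1 : (θ : N → ℂ) 1 = d) (hd : ¬ p ∣ detOrder (θ : N → ℂ) * d) :
    ∃ ψ : G → ℂ, IsIrrCharacter G ψ ∧ ∀ n : N, ψ n = (θ : N → ℂ) n := by
  refine ext_of_primes θ.2 hinv e1 fun q hq _ h => ?_
  have hqp : q ≠ p := fun e => hd (e ▸ h)
  haveI := Fact.mk hq
  obtain ⟨R, hR⟩ := exists_syl q 𝒞(Q)
  have h1 : N ≤ R ⊔ N := le_sup_right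
  have h2 : ¬ p ∣ N.relIndex (R ⊔ N) := fun a => hqp.symm (hR.isPi p hp.1
    (a.trans (relIndex_sup_dvd' (le_top.trans (top_le_norm N)))))
  obtain ⟨S, hS⟩ := (hQ.trans_idx h1 fun r _ a (b : r = p) => h2 (b ▸ a)).exists_sylow
  have h3 : N.subgroupOf (R ⊔ N) ⊔ 𝒞((S : Subgroup ↥(R ⊔ N))) = ⊤ := by
    rw [← subgroupOf_map (S : Subgroup ↥(R ⊔ N)), hS, ← subgroupOf_cent (hQ.le.trans h1), eq_top_iff,
      ← subgroupOf_self, subgroupOf_sup le_sup_left h1]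
    exact sup_le ((subgroupOf_mono _ hR.le).trans le_sup_right) le_sup_left
  have h4 := B0_equiv (subgroupOfEquivOfLe h1) hθ
  rw [← hO.principalBlock_eq] at h4
  obtain ⟨η, ⟨-, b⟩, -⟩ := (Cfsg.Agent.S4551.result p M hM (N.subgroupOf (R ⊔ N)) h2 S h3).2 _ h4
  refine ⟨_, h1, η, ?_, η.2.isCharacter, fun n => b ⟨⟨n, h1 n.2⟩, n.2⟩⟩
  have := (hR.map (QuotientGroup.mk' N)).not_dvd_idx hq rfl
  rw [relIndex_map_map, QuotientGroup.ker_mk'] at this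
  rw [← relIndex_mul_index (sup_le_sup_right hR.le N), sup_comm 𝒞(Q) N, hi, hq.dvd_mul, sup_comm N]
  exact not_or.2 ⟨this, fun a => hqp ((Nat.prime_dvd_prime_iff_eq hq hp.1).1 (hq.dvd_of_dvd_pow a))⟩

theorem fix_of_cent [N.Normal] (hQ : Syl(p, Q, N)) {k : ℕ} (hi : (N ⊔ 𝒞(Q)).index = p ^ k)
    {θ : N → ℂ} (hθ : IsIrrCharacter N θ) (hχ : IsCharacter G χ) (e : ∀ n : N, χ n = θ n)
    (e1 : χ 1 = d) (hd : ¬ p ∣ d) (h : ∀ x ∈ 𝒞(Q), H19.res O (χ x) = d) (u : ℂ →+* ℂ)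
    (h1 : ∀ n, u (θ n) = θ n) (h2 : ∀ g, u (detChar χ g) = detChar χ g) (g : G) : u (χ g) = χ g := by
  haveI := normal_sup_cent hQ
  obtain ⟨β, b1, b2⟩ := exists_twist hθ hχ (hχ.map_ringHom u) e fun n => by rw [e, h1]
  obtain ⟨δ, hδ⟩ := exists_detChar hχ
  have h3 : ∀ g, β g ^ d = 1 := fun g => Units.ext (by
    have := detChar_aut hχ u g
    rw [b2, detChar_twist hχ β e1, h2, hδ] at this
    simpa using this)
  obtain ⟨j, -, hj⟩ := ringHom_exists_pow_char (G := G) u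
  have h4 : N ⊔ 𝒞(Q) ≤ β.ker := sup_le b1 fun x hx => Units.ext (H20.root_eq_of_res (O := O) hd
    (by rw [← Units.val_pow_eq_pow_val, h3, Units.val_one]) (by simp) (by
      have := congrArg (H19.res O) (congrFun b2 x)
      rw [hj χ hχ.isGen, h _ (pow_mem hx j), H19.res_mul (units_mem O β x)
        (H19.mem_of_isIntegral O (hχ.isIntegral x)), h x hx] at this
      rw [Units.val_one, H19.res_one]
      exact mul_right_cancel₀ ((CharP.cast_eq_zero_iff _ p _).not.2 hd) (this.symm.trans (one_mul _).symm)))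
  rw [congrFun b2 g, eq_one_of_pow_coprime (N := N ⊔ 𝒞(Q)) h4
    (hi ▸ (hp.1.coprime_iff_not_dvd.2 hd).pow_left k) h3, Units.val_one, one_mul]

end H21
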