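/-
Elements at which the non-principal characters of the principal `2`-block drop by a constant.
-/
import Cfsg.Agent.H21.Pr1
import Cfsg.Agent.H21.PB1
import Cfsg.Agent.H19.BS1
import Cfsg.Agent.H19.Mur
import Cfsg.Agent.S0205

set_option autoImplicit false
set_option linter.unusedSectionVars false
open H17 Cfsg H15 CF Subgroup
open H19 (irr B0 triv IsPElt ppart)
open scoped Classical

namespace H21

variable {O : ValuationSubring ℂ} {G : Type*} [Group G] [Finite G]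

theorem mem_core_of_B0 (O : ValuationSubring ℂ) {p : ℕ} [hp : Fact p.Prime] [CharP (H19.kk O) p] {g : G}
    (h : ∀ χ ∈ irr (B0 O G), (χ : G → ℂ) g = (χ : G → ℂ) 1) : g ∈ pPrimeCore p G := by
  obtain ⟨c, h1, -, h2⟩ := exists_pr_one O G p
  haveI : (⨅ χ ∈ irr (B0 O G), charKer (χ : G → ℂ)).Normal :=
    normal_iInf_normal fun χ => normal_iInf_normal fun _ => χ.2.isCharacter.charKer_normal
  refine H1.le_pPrimeCore (N := ⨅ χ ∈ irr (B0 O G), charKer (χ : G → ℂ))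
    (hp.1.coprime_iff_not_dvd.2 fun hd => ?_).symm
    (mem_iInf.2 fun χ => mem_iInf.2 fun hχ => χ.2.mem_charKer.2 (h χ hχ))
  obtain ⟨x, hx⟩ := exists_prime_orderOf_dvd_card' p hd
  have h3 := h2 x
  rw [orderOf_coe, hx, if_pos dvd_rfl, Finset.sum_congr rfl fun χ _ =>
    show c χ * (χ : G → ℂ) x = c χ * (χ : G → ℂ) 1 from by_cases (fun e : c χ = 0 => by simp [e])
      fun e => by rw [χ.2.mem_charKer.1 (mem_iInf.1 (mem_iInf.1 x.2 χ) ((h1 χ).1 e))], h2,
    if_neg H19.preg_one] at h3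
  exact H20.p_pow_ne_zero p _ h3

theorem sum_mul_eq_zero {χ : G → ℂ} (h : IsCharacter G χ) {P : Subgroup G} [Fintype P]
    (h0 : ∑ t : P, χ t = 0) (y : G) : ∑ t : P, χ (t * y) = 0 := by
  obtain ⟨n, ρ, rfl⟩ := h
  have h1 : ∀ s : P, ρ s * ∑ t : P, ρ t = ∑ t : P, ρ t := fun s => by
    rw [Finset.mul_sum, ← Equiv.sum_comp (Equiv.mulLeft s) fun t : P => ρ t]; simp
  have h2 : (Fintype.card P : ℂ) ≠ 0 := Nat.cast_ne_zero.2 Fintype.card_ne_zero
  have h3 : IsIdempotentElem ((Fintype.card P : ℂ)⁻¹ • ∑ t : P, ρ t) := by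
    rw [IsIdempotentElem, smul_mul_smul_comm, Finset.sum_mul, Finset.sum_congr rfl fun s _ => h1 s,
      Finset.sum_const, Finset.card_univ, ← Nat.cast_smul_eq_nsmul ℂ, smul_smul, inv_mul_cancel_right₀ h2]
  have h4 := (smul_eq_zero_iff_right (inv_ne_zero h2)).1 (LinearMap.IsIdempotentElem.eq_zero_of_trace_eq_zero h3 (by
    rw [map_smul, map_sum]; exact smul_eq_zero_of_right _ h0))
  simpa [Finset.sum_mul, Representation.character] using
    congrArg (fun T => LinearMap.trace ℂ _ (T * ρ y)) h4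

theorem exists_irr_le {χ : G → ℂ} (h : IsCharacter G χ) : ∀ d : ℕ, χ 1 = d → (∃ g, χ g ≠ χ 1) →
    ∃ ψ, IsIrrCharacter G ψ ∧ ψ ≠ (fun _ => 1) ∧ ∃ n ≤ d, ψ 1 = n := by
  refine h.induction_on (by simp) (fun ψ h d e ⟨g, hg⟩ => ⟨ψ, h, by rintro rfl; exact hg rfl, d, le_rfl, e⟩)
    fun φ ψ h1 h2 a b d e ⟨g, hg⟩ => ?_
  obtain ⟨m, hm⟩ := h1.exists_nat_one
  obtain ⟨n, hn⟩ := h2.exists_nat_one
  obtain rfl : m + n = d := by exact_mod_cast (by rw [← e, ← hm, ← hn]; rfl : (m + n : ℂ) = d)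
  by_cases h3 : φ g = φ 1
  · obtain ⟨θ, c1, c2, k, c3, c4⟩ := b n hn ⟨g, fun e => hg (by simp [h3, e])⟩
    exact ⟨θ, c1, c2, k, by omega, c4⟩
  obtain ⟨θ, c1, c2, k, c3, c4⟩ := a m hm ⟨g, h3⟩
  exact ⟨θ, c1, c2, k, by omega, c4⟩

variable (O) in
/-- `χ 1 - χ u = k` on the non-principal members of the principal `2`-block, `O(G) = 1` -/
structure BK (u : G) (k : ℂ) : Prop where
  core : pPrimeCore 2 G = ⊥
  ne : u ≠ 1
  eq : ∀ χ ∈ irr (B0 O G), χ ≠ triv G → (χ : G → ℂ) 1 - (χ : G → ℂ) u = k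

namespace BK

variable [CharP (H19.kk O) 2] {u : G} {k : ℂ} (h : BK O u k)
include h

theorem k_ne : k ≠ 0 := fun e => h.ne (mem_bot.1 (h.core ▸ mem_core_of_B0 O fun χ hχ => by
  by_cases e1 : χ = triv G
  · simp [e1, H19.triv_apply]
  exact (sub_eq_zero.1 ((h.eq χ hχ e1).trans e)).symm))

theorem sum_eq (f : IrrCharacter G → ℂ) :
    ∑ χ with χ ∈ irr (B0 O G), ((χ : G → ℂ) 1 - (χ : G → ℂ) u) * f χ =
      k * (∑ χ with χ ∈ irr (B0 O G), f χ - f (triv G)) := by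
  have h1 : triv G ∈ Finset.univ.filter (· ∈ irr (B0 O G)) :=
    Finset.mem_filter.2 ⟨Finset.mem_univ _, H19.triv_mem_B0⟩
  rw [← Finset.add_sum_erase _ _ h1, ← Finset.add_sum_erase _ f h1, add_sub_cancel_left, Finset.mul_sum,
    H19.triv_apply, H19.triv_apply, sub_self, zero_mul, zero_add]
  exact Finset.sum_congr rfl fun χ a => by
    rw [h.eq χ (Finset.mem_filter.1 (Finset.mem_of_mem_erase a)).2 (Finset.ne_of_mem_erase a)]

theorem isConj {x : G} (hx : IsPElt 2 x) (h1 : x ≠ 1) : IsConj (ppart 2 u) x := by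
  by_contra hc
  have a := H19.block_orth (B0 O G) (H19.isPPart_ppart u) (H19.isPPart_self hx) hc
  have b := H19.block_orth (B0 O G) (H19.isPPart_self H19.isPElt_one) (H19.isPPart_self hx)
    (by simpa using h1.symm)
  have c := h.sum_eq fun χ => (χ : G → ℂ) x⁻¹
  simp only [sub_mul, Finset.sum_sub_distrib, a, b, sub_self, H19.triv_apply] at c
  refine H19.one_not_mem_nonunits (O := O) ?_
  rw [← sub_eq_zero.1 ((mul_eq_zero_iff_left h.k_ne).1 c.symm), ← sub_zero (Finset.sum _ _), ← b,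
    ← Finset.sum_sub_distrib]
  refine sum_mem fun χ _ => ?_
  obtain ⟨n, hn⟩ := χ.2.isCharacter.exists_nat_one
  have d := H19.char_sub_one_mem (O := O) χ.2.isCharacter hx.inv
  rw [hn] at d ⊢
  rw [show ∀ z : ℂ, z - n * z = (1 - n) * (z - n) - ((n * (n - 1) : ℤ) : ℂ) from fun z => by push_cast; ring]
  exact sub_mem (H19.nonunits_mul_left (sub_mem (one_mem O) (natCast_mem O n)) d)
    ((H19.intCast_mem_nonunits_iff 2 _).2 (even_iff_two_dvd.1 (Int.even_mul_pred_self _)))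

theorem two_dvd {N : Subgroup G} [N.Normal] (hN : N ≠ ⊥) : 2 ∣ Nat.card N := by_contra fun e =>
  hN (le_bot_iff.1 (h.core ▸ H1.le_pPrimeCore ((Nat.prime_two.coprime_iff_not_dvd.2 e).symm)))

theorem exists_mem {N : Subgroup G} (hN : 2 ∣ Nat.card N) :
    ∃ t ∈ N, orderOf t = 2 ∧ IsConj (ppart 2 u) t := by
  obtain ⟨t, ht⟩ := exists_prime_orderOf_dvd_card' 2 hN
  rw [← orderOf_coe] at ht
  exact ⟨t, t.2, ht, h.isConj ⟨1, ht⟩ fun e => by simp [e] at ht⟩

theorem ord : orderOf (ppart 2 u) = 2 := by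
  obtain ⟨t, -, h1, h2⟩ := h.exists_mem (h.two_dvd (N := ⊤) fun e => h.ne (mem_bot.1 (e ▸ mem_top u)))
  rw [← H19.orderOf_isConj h2, h1]

theorem z_ne : ppart 2 u ≠ 1 := fun e => by simpa [e] using h.ord

theorem sing : 2 ∣ orderOf u := by_contra fun e =>
  h.z_ne ((H19.isPPart_eq_one_iff (H19.isPPart_ppart u)).2 e)

theorem sq {x : G} (hx : IsPElt 2 x) : x * x = 1 := by
  by_cases h1 : x = 1
  · simp [h1]
  rw [← pow_two, ← h.ord, ← H19.orderOf_isConj (h.isConj hx h1), pow_orderOf_eq_one]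

theorem mem_normal {N : Subgroup G} [hN : N.Normal] (h1 : N ≠ ⊥) {x : G} (hx : IsPElt 2 x) : x ∈ N := by
  by_cases h2 : x = 1
  · exact h2 ▸ one_mem N
  obtain ⟨t, a, -, b⟩ := h.exists_mem (h.two_dvd h1)
  obtain ⟨c, rfl⟩ := isConj_iff.1 (b.symm.trans (h.isConj hx h2))
  exact hN.conj_mem t a c

theorem exists_small : ∃ χ ∈ irr (B0 O G), χ ≠ triv G ∧
    ∃ n : ℕ, n < 2 ^ (Nat.card G).factorization 2 ∧ (χ : G → ℂ) 1 = n := by
  obtain ⟨c, h1, -, h2⟩ := exists_pr_one O G 2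
  have a := h.sum_eq fun χ => c χ
  rw [Finset.sum_filter_of_ne fun χ _ e => (h1 χ).1 (Int.cast_ne_zero.1 (right_ne_zero_of_mul e))] at a
  simp only [mul_sub _ ((_ : G → ℂ) 1), Finset.sum_sub_distrib, mul_comm _ (c _ : ℂ), h2, h.sing, if_true,
    if_neg H19.preg_one, sub_zero, ← Int.cast_sum, ← Int.cast_sub] at a
  generalize ∑ χ with χ ∈ irr (B0 O G), c χ - c (triv G) = C at a
  generalize (Nat.card G).factorization 2 = m at a ⊢
  have h3 : (C : ℂ) ≠ 0 := fun e => by simp [e] at a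
  obtain rfl : k = ((2 ^ m / C : ℝ) : ℂ) := by push_cast at a ⊢; rw [a]; field_simp
  have h4 : (2 ^ m / C : ℝ) ≤ 2 ^ m := by
    rcases lt_or_gt_of_ne (Int.cast_ne_zero.1 h3) with e | e
    · exact (div_nonpos_of_nonneg_of_nonpos (by positivity) (by exact_mod_cast e.le)).trans (by positivity)
    exact div_le_self (by positivity) (by exact_mod_cast e)
  by_contra! h5
  have b := congrArg Complex.re (H19.block_orth (B0 O G) (H19.isPPart_ppart u)
    (H19.isPPart_self H19.isPElt_one) (by simpa using h.z_ne))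
  have h6 : triv G ∈ Finset.univ.filter (· ∈ irr (B0 O G)) :=
    Finset.mem_filter.2 ⟨Finset.mem_univ _, H19.triv_mem_B0⟩
  rw [← Finset.add_sum_erase _ _ h6, Complex.add_re, Complex.re_sum] at b
  refine (add_pos_of_pos_of_nonneg (by simp [H19.triv_apply]) (Finset.sum_nonneg fun χ e => ?_)).ne' b
  have e1 := (Finset.mem_filter.1 (Finset.mem_of_mem_erase e)).2
  have e2 := Finset.ne_of_mem_erase e
  obtain ⟨n, hn⟩ := χ.2.isCharacter.exists_nat_one
  have e3 : (2 : ℝ) ^ m ≤ n := by exact_mod_cast not_lt.1 fun e => h5 χ e1 e2 n e hn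
  rw [inv_one, ← sub_sub_cancel ((χ : G → ℂ) 1) ((χ : G → ℂ) u), h.eq χ e1 e2, hn]
  rw [← Complex.ofReal_natCast, ← Complex.ofReal_sub, ← Complex.ofReal_mul, Complex.ofReal_re]
  exact mul_nonneg (by linarith) n.cast_nonneg

theorem le_normal {N : Subgroup G} [N.Normal] (h1 : N ≠ ⊥) (P : Sylow 2 G) : (P : Subgroup G) ≤ N :=
  fun _ hx => h.mem_normal h1 (H19.isPElt_of_mem P.isPGroup' hx)

theorem sup_eq {N : Subgroup G} [N.Normal] (h1 : N ≠ ⊥) (P : Sylow 2 G) :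
    N ⊔ 𝒞((P : Subgroup G)) = ⊤ := by
  have hQ := (syl_top_sylow P).of_le (h.le_normal h1 P) le_top
  haveI := normal_sup_cent hQ
  have ho : ¬ 2 ∣ (N ⊔ 𝒞((P : Subgroup G))).index := fun e =>
    P.not_dvd_index (e.trans (index_dvd_of_le (hQ.le.trans le_sup_left)))
  haveI := Cfsg.Agent.S0205.result (G := G ⧸ (N ⊔ 𝒞((P : Subgroup G)))) (Nat.not_even_iff_odd.1
    (even_iff_two_dvd.not.2 ho))
  by_contra hn
  haveI := QuotientGroup.nontrivial_iff.2 hn
  haveI := finite_monoidHom_units (G := G ⧸ (N ⊔ 𝒞((P : Subgroup G))))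
  haveI : Nontrivial (G ⧸ (N ⊔ 𝒞((P : Subgroup G))) →* ℂˣ) := Finite.one_lt_card_iff_nontrivial.1 (by
    rw [card_monoidHom_units]
    exact one_lt_index_of_ne_top (Group.IsSolvable.commutator_lt_top_of_nontrivial _).ne)
  have key : ∀ l : G ⧸ (N ⊔ 𝒞((P : Subgroup G))) →* ℂˣ, l ≠ 1 → 1 - (l u : ℂ) = k := fun l b => by
    have := h.eq ⟨_, isIrr_linear (l.comp (QuotientGroup.mk' _))⟩ (mem_B0_of_cent hQ (d := 1) (by simp)
      (by decide) fun x hx => by simp [(QuotientGroup.eq_one_iff x).2 (mem_sup_right hx), H19.res_one])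
      fun e => b (MonoidHom.ext fun g => QuotientGroup.induction_on g fun g =>
        Units.ext (congrFun (congrArg Subtype.val e) g))
    simpa using this
  obtain ⟨l, hl⟩ := exists_ne (1 : G ⧸ (N ⊔ 𝒞((P : Subgroup G))) →* ℂˣ)
  have a := Units.ext (sub_right_injective ((key l hl).trans (key l⁻¹ fun e =>
    hl (MonoidHom.ext fun g => inv_eq_one.1 (DFunLike.congr_fun e g))).symm))
  have b : l u = 1 := orderOf_eq_one_iff.1 (Nat.eq_one_of_dvd_coprimes
    (Nat.prime_two.coprime_iff_not_dvd.2 ho) (orderOf_dvd_of_pow_eq_one (by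
      rw [pow_two]; exact mul_eq_one_iff_eq_inv.2 a)) ((orderOf_map_dvd l _).trans (orderOf_dvd_natCard _)))
  exact h.k_ne (by rw [← key l hl, b, Units.val_one, sub_self])

theorem faithful {χ : IrrCharacter G} (h1 : χ ∈ irr (B0 O G)) (h2 : χ ≠ triv G) {g : G}
    (hg : (χ : G → ℂ) g = (χ : G → ℂ) 1) : g = 1 := by
  haveI := χ.2.isCharacter.charKer_normal
  have := Fintype.ofFinite G
  obtain ⟨P⟩ : Nonempty (Sylow 2 G) := inferInstance
  refine mem_bot.1 ((by_contra fun e => ?_ : charKer (χ : G → ℂ) = ⊥) ▸ χ.2.mem_charKer.2 hg)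
  have a := h.le_normal e P
  have b := H20.dot_res_B0 (((syl_top_sylow P).of_le a le_top).not_dvd_idx Nat.prime_two rfl)
    (fun e => P.not_dvd_index (e.trans (index_dvd_of_le a))) a (h.sup_eq e P) (H20.mem_IB_top.2 h1)
    (H20.mem_IB_top.2 H19.triv_mem_B0)
  rw [dot_top, irr_inner, if_neg h2, dot_def, sum_fs_congr fun x hx =>
    show _ = (χ : G → ℂ) 1 by simp [χ.2.mem_charKer.1 hx, H19.triv_apply], sum_sub_const,
    inv_mul_cancel_left₀ card_ne_zero_complex] at b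
  exact χ.2.one_ne_zero b

theorem exists_char (P : Sylow 2 G) [Fintype P] : ∃ χ ∈ irr (B0 O G), χ ≠ triv G ∧
    (∃ d : ℕ, (χ : G → ℂ) 1 = d ∧ d + 1 = Nat.card P) ∧ (χ : G → ℂ) (ppart 2 u) = -1 ∧
      ∑ t : (P : Subgroup G), (χ : G → ℂ) t = 0 := by
  obtain ⟨χ, h1, h2, n, h3, h4⟩ := h.exists_small
  rw [← P.card_eq_multiplicity] at h3
  obtain ⟨m, hm⟩ := (χ.2.isCharacter.restrict P).inner_nat isCharacter_one
  obtain ⟨b, hb⟩ : ∃ b : ℤ, (χ : G → ℂ) (ppart 2 u) = b :=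
    H19.exists_int_of_sq_eq_one χ.2.isCharacter.isGen (h.sq (H19.ppart_isPElt u))
  have h5 : ∑ t : (P : Subgroup G), (χ : G → ℂ) t = n + (Nat.card P - 1) * b := by
    rw [← Finset.add_sum_erase _ _ (Finset.mem_univ 1), Finset.sum_congr rfl fun t ht =>
      (χ.2.isClassFunction.of_isConj (h.isConj (H19.isPElt_of_mem P.isPGroup' t.2) fun e =>
        Finset.ne_of_mem_erase ht (Subtype.ext e))).symm.trans hb]
    simp [h4, Nat.cast_pred Fintype.card_pos]
  rw [classInner_one_right, h5, inv_mul_eq_iff_eq_mul₀ card_ne_zero_complex] at hm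
  have h6 : b < n := lt_of_le_of_ne (by
    have := χ.2.isCharacter.re_le (ppart 2 u); rw [hb, h4] at this; exact_mod_cast this)
    fun e => h.z_ne (h.faithful h1 h2 (by rw [hb, h4, e, Int.cast_natCast]))
  have h7 : (n : ℤ) + (Nat.card P - 1) * b = Nat.card P * m := by exact_mod_cast hm
  have h8 : m - b = 1 ∧ (m : ℤ) = 0 := by
    generalize Nat.card P = q at h3 h7
    have a : 0 < m - b := pos_of_mul_pos_right (a := (q : ℤ)) (by nlinarith) (by positivity)
    have c : 0 < n := Nat.pos_of_ne_zero fun e => χ.2.one_ne_zero (by rw [h4, e, Nat.cast_zero])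
    have d : m - b = 1 := by nlinarith
    exact ⟨d, by nlinarith⟩
  obtain rfl : b = -1 := by omega
  rw [h8.2] at h7
  refine ⟨χ, h1, h2, ⟨n, h4, by omega⟩, by simpa using hb, ?_⟩
  rw [h5]; exact_mod_cast h7.trans (mul_zero _)

theorem ncl_ne : normalClosure ({ppart 2 u} : Set G) ≠ ⊥ := fun e =>
  h.z_ne (mem_bot.1 (e ▸ subset_normalClosure rfl))

theorem simple : IsSimpleGroup (normalClosure ({ppart 2 u} : Set G)) := by
  haveI := (nontrivial_iff_ne_bot _).2 h.ncl_ne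
  refine ⟨fun K hK => or_iff_not_imp_left.2 fun e => ?_⟩
  obtain ⟨t, ⟨t, h1, rfl⟩, h2, h3⟩ := h.exists_mem (N := K.map (normalClosure {ppart 2 u}).subtype) (by
    rw [card_subtype]
    exact by_contra fun a => e ((map_eq_bot_iff_of_injective _ (subtype_injective _)).1 (le_bot_iff.1
      (h.core ▸ (map_mono (H1.le_pPrimeCore (Nat.prime_two.coprime_iff_not_dvd.2 a).symm)).trans
        (H1.map_pPrimeCore_subtype_le 2 _)))))
  obtain ⟨P, hP⟩ := (H19.IsPElt.isPGroup_zpowers (p := 2) ⟨1, h2⟩).exists_le_sylow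
  rw [← map_subtype_inj, ← MonoidHom.range_eq_map, range_subtype]
  refine (map_subtype_le K).antisymm ((closure_le _).2 fun x hx => ?_)
  obtain ⟨_, rfl, hx⟩ := Group.mem_conjugatesOfSet_iff.1 hx
  obtain ⟨g, rfl⟩ := isConj_iff.1 (h3.symm.trans hx)
  obtain ⟨m, hm, c, hc, rfl⟩ := mem_sup_of_normal_left.1 (h.sup_eq h.ncl_ne P ▸ mem_top g)
  exact ⟨_, hK.conj_mem t h1 ⟨m, hm⟩, by
    simp [mul_assoc, ← mul_assoc c, ← show (t : G) * c = c * t from hc _ (hP (mem_zpowers _))]⟩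

theorem le_cent (P : Sylow 2 G) : (P : Subgroup G) ≤ 𝒞((P : Subgroup G)) := fun x hx y hy => by
  have a := fun z hz => inv_eq_of_mul_eq_one_right (h.sq (H19.isPElt_of_mem P.isPGroup' (x := z) hz))
  rw [← a _ (mul_mem hy hx), mul_inv_rev, a x hx, a y hy]

theorem eq_top {N : Subgroup G} [N.Normal] (h1 : N ≠ ⊥)
    (hc : ∀ t ∈ N, orderOf t = 2 → ∀ x ∈ N, Commute x t → x * x = 1) : N = ⊤ := by
  obtain ⟨P⟩ : Nonempty (Sylow 2 G) := inferInstance
  have := Fintype.ofFinite (P : Subgroup G)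
  obtain ⟨χ, a1, a2, ⟨d, a3, a4⟩, a5, a6⟩ := h.exists_char P
  have b : ∀ t ∈ (P : Subgroup G), t ≠ 1 → 𝒞₁(t) = 𝒞((P : Subgroup G)) := fun t ht t1 => by
    refine le_antisymm (fun g hg => ?_) (centralizer_le (Set.singleton_subset_iff.2 ht))
    obtain ⟨m, hm, c, hc', rfl⟩ := mem_sup_of_normal_left.1 (h.sup_eq h1 P ▸ mem_top g)
    have e := H19.isPElt_of_mem P.isPGroup' ht
    refine mul_mem (h.le_cent P ((P.is_maximal' (Q := N ⊓ 𝒞₁(t)) (fun x => ⟨1, Subtype.ext ?_⟩)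
      (le_inf (h.le_normal h1 P) fun x hx => mem_cent1.2 (h.le_cent P ht x hx))).le
      ⟨hm, (mul_mem_cancel_right (centralizer_le (Set.singleton_subset_iff.2 ht) hc')).1 hg⟩)) hc'
    rw [pow_one, coe_pow, pow_two]
    exact hc t (h.mem_normal h1 e) ((H19.orderOf_isConj (h.isConj e t1)).trans h.ord) x x.2.1
      (mem_cent1.1 x.2.2)
  refine top_le_iff.1 ((h.sup_eq h1 P).ge.trans (sup_le le_rfl fun g hg => ?_))
  have c : ∀ t ∈ (P : Subgroup G), Commute t (H19.rpart 2 g) := fun t ht => H19.commute_rpart (hg t ht)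
  have e := sum_mul_eq_zero χ.2.isCharacter a6 (H19.rpart 2 g)
  rw [← Finset.add_sum_erase _ _ (Finset.mem_univ 1), Finset.sum_congr rfl fun t ht => by
    have e := H19.isPElt_of_mem P.isPGroup' t.2
    have t1 : (t : G) ≠ 1 := fun e => Finset.ne_of_mem_erase ht (Subtype.ext e)
    exact (H19.irr_B0_section' (H19.isPPart_mul e (H19.rpart_reg g) (c t t.2))
      (b t t.2 t1 ▸ H19.npc_cent_sylow P) a1).trans
      ((χ.2.isClassFunction.of_isConj (h.isConj e t1)).symm.trans a5)] at e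
  rw [← H19.ppart_mul_rpart (p := 2) g, h.faithful a1 a2 (g := H19.rpart 2 g) (by
    rw [Finset.sum_const, Finset.card_erase_of_mem (Finset.mem_univ _), Finset.card_univ,
      ← Nat.card_eq_fintype_card, ← a4] at e
    simpa [a3, add_neg_eq_zero] using e), mul_one]
  exact h.mem_normal h1 (H19.ppart_isPElt g)

end BK

end H21
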