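/-
Simple groups with abelian Sylow `2`-subgroup `S` and a faithful character of degree `|S| - 1`.
-/
import Cfsg.Agent.H21.BK1
import Cfsg.Agent.H26.JRz
import Cfsg.Agent.H26.JRx
import Cfsg.Agent.H20.Tu6
import Cfsg.Agent.H4.SL2Deg
import Cfsg.Agent.H18.Small

set_option autoImplicit false
set_option linter.unusedSectionVars false
open H17 Cfsg H15 CF Subgroup
open H19 (irr B0 triv IsPElt ppart)
open scoped Classical MatrixGroups

namespace H21

variable {O : ValuationSubring ℂ} {G : Type*} [Group G] [Finite G] {F : Type*} [Field F] [Fintype F]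
  {χ : G → ℂ} {d n : ℕ}

theorem psl_le_deg (e : G ≃* PSL(2, F)) (h : IsCharacter G χ) (hd : χ 1 = d) (hg : ∃ g, χ g ≠ χ 1) :
    Fintype.card F ≤ 2 * d + 1 := by
  obtain ⟨ψ, h1, h2, n, h3, h4⟩ := exists_irr_le h d hd hg
  obtain ⟨a, ha⟩ := H4.exists_ell_sl (F := F)
  have := Fintype.ofFinite SL(2, F)
  have hs := e.symm.surjective.comp (QuotientGroup.mk'_surjective (center SL(2, F)))
  rcases H4.sl_irr_deg ha (h1.comp_of_surjective (e.symm.toMonoidHom.comp (QuotientGroup.mk' _)) hs)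
    (n := n) (by rw [map_one, h4]) with h | h | h | h | h | h
  · exact absurd (funext fun g => by obtain ⟨x, rfl⟩ := hs g; exact congrFun h.2 x) h2
  all_goals omega

theorem psl_sq (e : G ≃* PSL(2, F)) (h2 : Fintype.card F = 2 ^ n) {t x : G} (ht : orderOf t = 2)
    (hc : Commute x t) : x * x = 1 := by
  haveI : CharP F 2 := H26.charTwo_of_card h2
  have he : Even (2 ^ n) := h2 ▸ Nat.even_iff.2 (FiniteField.even_card_of_char_two (ringChar.eq F 2))
  have k : ∀ y : G, y * y = 1 ∨ Odd (orderOf y) := fun y => by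
    rw [← pow_two, ← orderOf_dvd_iff_pow_eq_one, ← e.orderOf_eq y]
    have ho := Nat.Even.sub_odd Nat.one_le_two_pow he odd_one
    have := H4.orderOf_psl_cases 2 (e y)
    rw [h2, Nat.coprime_two_left.2 ho, Nat.div_one, Nat.div_one] at this
    rcases this with k | k | k
    exacts [Or.inl k, Or.inr (ho.of_dvd_nat k), Or.inr (he.add_one.of_dvd_nat k)]
  rcases k (x * t) with k2 | k2
  · rwa [hc.symm.mul_mul_mul_comm, ← pow_two t, ← ht, pow_orderOf_eq_one, mul_one] at k2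
  refine (k x).resolve_right fun k1 => H19.preg_mul (p := 2) (x := x⁻¹) (y := x * t)
    (by rw [orderOf_inv]; exact k1.not_two_dvd_nat) k2.not_two_dvd_nat
    ((Commute.refl x).mul_right hc).inv_left ?_
  rw [inv_mul_cancel_left, ht]

theorem psl_drop (e : G ≃* PSL(2, F)) (h2 : Fintype.card F = 2 ^ n) {t : G} (ht : orderOf t = 2)
    (h : IsIrrCharacter G χ) (h1 : χ ≠ fun _ => 1) : χ 1 - χ t = Fintype.card F := by
  haveI : CharP F 2 := H26.charTwo_of_card h2
  have he := FiniteField.even_card_of_char_two (ringChar.eq F 2)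
  obtain ⟨a, ha⟩ := H4.exists_ell_sl (F := F)
  have := Fintype.ofFinite SL(2, F)
  set f := e.symm.toMonoidHom.comp (QuotientGroup.mk' (center SL(2, F)))
  have hs : Function.Surjective f := e.symm.surjective.comp (QuotientGroup.mk'_surjective _)
  obtain ⟨g, rfl⟩ := hs t
  have hc : ∀ x ∈ center SL(2, F), x = 1 := fun x hx => by
    obtain ⟨r, r1, r2⟩ := Matrix.SpecialLinearGroup.mem_center_iff.1 hx
    obtain rfl : r = 1 := (sq_eq_one_iff.1 r1).elim id fun e => e.trans (CharTwo.neg_eq 1)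
    exact Subtype.ext (r2.symm.trans (map_one _))
  have hg : H4.Un g.1 ((1 : Fˣ) : F) := H4.sl_un_of_pow 2 (k := 1) (by rintro rfl; simp at ht)
    (hc _ ((QuotientGroup.eq_one_iff _).1 (e.symm.injective (by
      rw [map_one, ← pow_orderOf_eq_one (f g), ht, ← map_pow]; rfl))))
  rw [← map_one f]
  rcases H4.sl_irr_cases ha (h.comp_of_surjective f hs) with h | h | ⟨α, -, h⟩ | ⟨θ, -, h⟩ |
    ⟨α, _, a1, a2, -⟩ | ⟨θ, _, a1, a2, -⟩
  · exact absurd (funext fun g => by obtain ⟨x, rfl⟩ := hs g; exact congrFun h x) h1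
  · rw [congrFun h 1, congrFun h g, H4.sSt_one, H4.sSt_un hg, sub_zero]
  · rw [congrFun h 1, congrFun h g, H4.sW_one, H4.sW_un _ hg]; simp
  · rw [congrFun h 1, congrFun h g, H4.sX_one, H4.sX_un _ _ hg]; simp
  · have := H4.odd_of_mulChar a1 a2; omega
  · have := H4.odd_of_theta ha a1 a2; omega

theorem psl_of_deg (hs : IsSimpleGroup G) (hn : ¬ IsMulCommutative G) (S : Sylow 2 G)
    (hc : (S : Subgroup G) ≤ 𝒞((S : Subgroup G))) (h : IsCharacter G χ) (hf : ∀ g, χ g = χ 1 → g = 1)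
    (hd : χ 1 = d) (e : d + 1 = Nat.card S) : ∃ (F : Type) (_ : Field F) (_ : Fintype F) (n : ℕ),
      2 ≤ n ∧ Fintype.card F = 2 ^ n ∧ Nonempty (G ≃* PSL(2, F)) := by
  rcases H26.J.walter hs hn (H10.isSylowIn_top S) hc with ⟨-, F, _, _, n, h1, h2⟩ |
    ⟨F, _, _, h1, h2, ⟨φ⟩⟩ | ⟨p, n, ρ, τ, f, hJ⟩
  · exact ⟨F, _, _, n, by omega, h2⟩
  · obtain ⟨g, hg⟩ := exists_ne (1 : G)
    have a := psl_le_deg φ h hd ⟨g, fun e => hg (hf g e)⟩
    have b := H4.card_psl (F := F)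
    obtain ⟨k, hk⟩ := S.isPGroup'.exists_card_eq
    have c : ¬ 3 ≤ k := fun c => by
      obtain ⟨m, hm⟩ := (pow_dvd_pow 2 c).trans (hk ▸ card_subgroup_dvd_card (S : Subgroup G))
      rw [← Nat.card_congr φ.toEquiv, hm, Nat.gcd_eq_left (by omega), Nat.mul_sub_one, ← pow_succ'] at b
      have c1 := Nat.le_self_pow (show 2 + 1 ≠ 0 by omega) (Fintype.card F)
      have c2 := Nat.pow_mod (Fintype.card F) (2 + 1) 16
      rcases (by omega : Fintype.card F % 16 = 3 ∨ Fintype.card F % 16 = 5 ∨ Fintype.card F % 16 = 11 ∨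
        Fintype.card F % 16 = 13) with c | c | c | c <;> rw [c] at c2 <;> omega
    have c : 2 ^ k ≤ 2 ^ 2 := Nat.pow_le_pow_right two_pos (by omega)
    obtain ⟨ψ⟩ := H18.psl_a5 (F := F) (Or.inr (by omega))
    haveI := Fintype.ofFinite (GaloisField 2 2)
    have b : Fintype.card (GaloisField 2 2) = 2 ^ 2 := by
      rw [← Nat.card_eq_fintype_card, GaloisField.card 2 2 two_ne_zero]
    obtain ⟨θ⟩ := H18.psl_a5 (Or.inl b)
    exact ⟨_, _, _, 2, le_rfl, b, ⟨φ.trans (ψ.trans θ.symm)⟩⟩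
  obtain rfl : d = 7 := by have := hJ.rf.card; omega
  rcases hJ.main.2 with ⟨-, -, a⟩ | ⟨rfl, -, a, -⟩
  · haveI : Fact (Nat.Prime 19) := ⟨by norm_num⟩
    obtain ⟨x, h1, h2⟩ := H20.Tu.exists_sy (p := 19) (G := G) (by rw [a]; norm_num) (by rw [a]; norm_num)
      fun H hH => by rcases hH.eq_bot_or_eq_top with rfl | rfl <;> simp [a]
    have := (h1.le_fc (by norm_num) h2 h hf hd (by norm_num)).trans
      (Nat.mul_le_mul_left 2 (h1.fc_le h hf hd).1)
    omega
  obtain ⟨t, ht⟩ := exists_prime_orderOf_dvd_card' 2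
    (show 2 ∣ Nat.card G from (by rw [← e]; norm_num : 2 ∣ Nat.card S).trans (card_subgroup_dvd_card _))
  obtain ⟨F, _, _, h1, ⟨φ⟩⟩ := (hJ.lf t ht).psl
  obtain ⟨g, hg⟩ := exists_ne (1 : PSL(2, F))
  have := psl_le_deg φ (h.restrict _) hd ⟨φ.symm g, fun e => hg (by
    rw [← φ.apply_symm_apply g, show φ.symm g = 1 from Subtype.ext (hf _ e)]; exact map_one φ)⟩
  have := Nat.pow_le_pow_right (n := 3) (by norm_num) a
  omega

theorem BK.main [CharP (H19.kk O) 2] {u : G} {k : ℂ} (h : BK O u k) : Nat.card G = 2 ∨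
    (∃ (F : Type) (_ : Field F) (_ : Fintype F) (n : ℕ), 2 ≤ n ∧ Fintype.card F = 2 ^ n ∧
      Nonempty (G ≃* PSL(2, F))) ∧ u * u = 1 := by
  have hs := h.simple
  have hz := subset_normalClosure (s := {ppart 2 u}) rfl
  have h1 := h.ncl_ne
  generalize hM : normalClosure ({ppart 2 u} : Set G) = M at hs hz h1
  haveI : M.Normal := hM ▸ inferInstance
  by_cases hn : IsMulCommutative M
  · have a : Nat.card M = 2 := by
      rw [← h.ord, ← orderOf_mk _ hz, ← Nat.card_zpowers, (Normal.eq_bot_or_eq_top inferInstance).resolve_left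
        (zpowers_eq_bot.not.2 fun e => h.z_ne (congrArg Subtype.val e)), card_top]
    rw [← a, h.eq_top h1 fun t _ _ x hx _ => congrArg Subtype.val
      (show (⟨x, hx⟩ : M) * ⟨x, hx⟩ = 1 by rw [← pow_two, ← a, pow_card_eq_one']), card_top]
    exact Or.inl rfl
  obtain ⟨P⟩ : Nonempty (Sylow 2 G) := inferInstance
  have := Fintype.ofFinite (P : Subgroup G)
  obtain ⟨χ, a1, a2, ⟨d, a3, a4⟩, -⟩ := h.exists_char P
  have b := h.le_normal h1 P
  obtain ⟨F, _, _, n, c1, c2, ⟨e⟩⟩ := psl_of_deg hs hn (P.subtype b)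
    (fun x hx y hy => Subtype.ext (h.le_cent P hx y hy)) (χ.2.isCharacter.restrict M)
    (fun g hg => Subtype.ext (h.faithful a1 a2 hg)) a3
    (a4.trans (Nat.card_congr (subgroupOfEquivOfLe b).toEquiv).symm)
  have hc : ∀ t ∈ M, orderOf t = 2 → ∀ x ∈ M, Commute x t → x * x = 1 := fun t ht h2 x hx h3 =>
    congrArg Subtype.val (psl_sq e c2 (t := ⟨t, ht⟩) (x := ⟨x, hx⟩) (by rwa [orderOf_mk]) (Subtype.ext h3))
  obtain rfl := h.eq_top h1 hc
  exact Or.inr ⟨⟨F, _, _, n, c1, c2, ⟨topEquiv.symm.trans e⟩⟩,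
    hc _ hz h.ord u trivial (H19.commute_ppart (Commute.refl u))⟩

end H21
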