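import Cfsg.Agent.S2986
import Cfsg.Agent.H14.BbE
import Cfsg.Agent.H4.Replace
import Cfsg.Agent.H10.Trace
import Cfsg.Agent.H12.FF10

/-! Subnormal blocks and the Baumann subgroup, I. -/

set_option autoImplicit false
set_option linter.unusedSectionVars false

open Cfsg Subgroup H10 H12 H16.BB
open scoped commutatorElement

namespace H21.Bq

variable {G : Type*} [Group G] [Finite G] {p : ℕ} [hp : Fact p.Prime] {E F : Subgroup G}
  {T : Sylow p G}

theorem cen_of (hE : Bk p E) {c : G} (n : c ∈ NN(E)) (h : ∀ x ∈ W0 p E, ⁅c, x⁆ ∈ ZZ p E) :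
    c ∈ CC(WW p E) := by
  have n' : zpowers c ≤ NN(E) := zpowers_le.2 n
  have h1 : ⁅W0 p E, zpowers c⁆ ≤ ZZ p E := H14.Bb.zp_le ⟨ZZ_NN n' (mem_zpowers c), h⟩
  have h2 : ⁅⁅zpowers c, W0 p E⁆, E⁆ ≤ ⊥ := by
    rw [commutator_comm (zpowers c)]
    exact (comm_eq_bot.2 (h1.trans inf_le_right)).le
  have nE : E ≤ NN(W0 p E) := W0_NN (le_NN_self E)
  have h3 : ⁅⁅E, zpowers c⁆, W0 p E⁆ ≤ ZZ p E :=
    three_subgroups (ZZ_NN (le_NN_self E)) (ZZ_NN n')
      ((ZO_le _).trans (ZZ_NN cE_NN)) (h2.trans bot_le)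
      ((commutator_mono (comm_le_left nE) le_rfl).trans h1)
  have h4 : ⁅E, zpowers c⁆ ≤ pCoreOf p E := hE.faith (comm_le_left n') (by
    rw [commutator_comm]
    exact ((commutator_mono le_rfl hE.W_le).trans h3).trans inf_le_right)
  have h5 : ⁅⁅W0 p E, E⁆, zpowers c⁆ ≤ ⊥ :=
    three_subgroups (le_NN_of_normal _ _) (le_NN_of_normal _ _) (le_NN_of_normal _ _)
      (comm_eq_bot.2 (h4.trans (le_CC_ZO _))).le h2
  rw [hE.W_eq] at h5
  exact comm_eq_bot'.1 (le_bot_iff.1 h5) (mem_zpowers c)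

theorem kk (hE : Bk p E) {S : Subgroup G} (hS : IsPGroup p S) (n : S ≤ NN(E)) :
    ¬ WW p E ⊓ CC(S) ≤ CC(E) := by
  intro h
  obtain ⟨T, hT⟩ := hE.blk
  obtain ⟨S', a1, a2⟩ := exists_isSylowIn_ge hS n
  have a3 := a1.inf_normal (le_NN_self E) le_rfl
  have pW : IsPGroup p (WW p E) := (isPGroup_ZO _).to_le (WW_le E)
  have a4 : WW p E ⊓ CC(S' ⊓ E) ≤ CC(E) := a3.inf_CC_le pW (WW_CC E (WW_Q E))
    (WW_NN (le_NN_self E)) hS (WW_NN n) n (le_NN_inf (a2.trans (le_NN_self _)) n)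
    ((inf_le_inf_right _ inf_le_left).trans h)
  have a5 := (isSylowIn_top T).inf_subn hE.sn
  obtain ⟨e, he, a6⟩ := a3.exists_cj a5
  have a7 : WW p E ⊓ CC((T : Subgroup G) ⊓ E) ≤ CC(E) := by
    have := cj_mono e a4
    rwa [cj_inf, cj_centralizer, cj_centralizer, a6, mem_NN.1 (WW_NN (le_NN_self E) he),
      mem_NN.1 (le_NN_self E he)] at this
  have a8 : ZO p (T : Subgroup G) ≤ ZO p (pCore p G) := pCoreOf_top (p := p) (G := G) ▸
    hE.ch.ZO_le (isSylowIn_top T)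
  have a9 := a5.le_CC_sup_comm (isPGroup_ZO _) ((ZO_le_CC _).trans (CC_anti (ZO_le _))) (vN E) a8
    ((ZO_le_CC _).trans (CC_anti inf_le_left))
  rw [hE.res] at a9
  refine hT.2.2.2.1 (comm_eq_bot'.2 fun u hu => ?_)
  obtain ⟨c, hc, w, hw, rfl⟩ := (mem_sup_of_NN (inf_le_right.trans ((CC_anti
    ((commutator_mono a8 le_rfl).trans hE.W_E)).trans (CC_le_NN _)))).1 (a9 hu)
  refine mul_mem hc.2 (a7 ⟨commutator_mono a8 le_rfl hw, ?_⟩)
  exact (mul_mem_cancel_left (CC_anti inf_le_right hc.2)).1 (CC_anti inf_le_left (ZO_le_CC _ hu))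

theorem cj_WW (g : G) : cj g (WW p E) = WW p (cj g E) := by
  rw [cj_commutator, mem_NN.1 (vN ⊤ (mem_top g))]

theorem off (hE : Bk p E) {g w : G} (hg : g ∉ NN(E)) (hw : w ∈ WW p E) : g * w * g⁻¹ ∈ CC(E) := by
  rcases main _ E (cj g E) rfl hE (hE.cj' g) with e | e
  · exact (hg (mem_NN.2 e.symm)).elim
  · exact comm_eq_bot'.1 e (conj_mem_cj (hE.W_E hw))

theorem bn (hE : Bk p E) (h : thompsonSubgroupOf p (T : Subgroup G) ≤ NN(E)) :
    baumannSubgroupOf p (T : Subgroup G) ≤ NN(E) := by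
  have hJ : thompsonSubgroupOf p (T : Subgroup G) ≤ T := (J_le_baum _).trans (baum_le _)
  obtain ⟨w, ⟨w1, w2⟩, w3⟩ := SetLike.not_le_iff_exists.1 (kk hE (T.isPGroup'.to_le hJ) h)
  have w4 := (mem_ZO.1 (WW_le E w1)).2.2
  have w5 := H4.mem_thompsonOf_of_centralizes
    ((pCoreOf_top (p := p) (G := G) ▸ (isSylowIn_top T).pCoreOf_le) (WW_Q E w1)) w4 w2
  intro b hb
  by_contra hn
  have := off hE hn w1
  rw [← mem_CC.1 hb.2 w (mem_ZO.2 ⟨w5, w2, w4⟩), mul_inv_cancel_right] at this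
  exact w3 this

theorem zn (hE : Bk p E) (T : Sylow p G) : ⁅E, omegaOneCenter p (T : Subgroup G)⁆ ≠ ⊥ := by
  obtain ⟨w, ⟨w1, w2⟩, w3⟩ := SetLike.not_le_iff_exists.1
    (kk hE (S := (T : Subgroup G) ⊓ NN(E)) (T.isPGroup'.to_le inf_le_left) inf_le_right)
  obtain ⟨v, hv, h⟩ := exists_trace (V := ZO p (pCore p G)) (T := (T : Subgroup G)) (W := CC(E))
    ((ZO_le_CC _).trans (CC_anti (ZO_le _))) (vN _) inf_le_left (WW_le E w1) w2
    fun t ht hn => off hE (fun e => hn ⟨ht, e⟩) w1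
  intro e
  have v1 : v ∈ CC(E) := comm_eq_bot'.1 e (mem_ZO.2
    ⟨(pCoreOf_top (p := p) (G := G) ▸ (isSylowIn_top T).pCoreOf_le) (ZO_le _ hv.1), hv.2,
      (mem_ZO.1 hv.1).2.2⟩)
  exact w3 (inv_mem_iff.1 ((mul_mem_cancel_right v1).1 h))

theorem baum_cj (hE : Bk p E) {T T' : Sylow p G} (h : baumannSubgroupOf p (T : Subgroup G) ≤ NN(E))
    (h' : baumannSubgroupOf p (T' : Subgroup G) ≤ NN(E)) :
    ∃ g ∈ NN(E), baumannSubgroupOf p (cj g (T : Subgroup G)) = baumannSubgroupOf p (T' : Subgroup G) := by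
  obtain ⟨S, a1, a2⟩ := exists_isSylowIn_ge (T'.isPGroup'.to_le (baum_le _)) h'
  obtain ⟨g, hg, a3⟩ := a1.exists_cj_le (T.isPGroup'.to_le (baum_le _)) h
  obtain ⟨S', a4, a5⟩ := exists_isSylowIn_ge a1.isPGroup le_top
  rw [cj_baum] at a3
  have a6 : IsSylowIn p (cj g (T : Subgroup G)) ⊤ := by
    simpa [cj_top] using (isSylowIn_top T).cj g
  exact ⟨g, hg, (baum_eq_of_le a6 a4 (a3.trans a5)).symm.trans
    (baum_eq_of_le (isSylowIn_top T') a4 (a2.trans a5))⟩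

theorem blk_all (hE : Bk p E) (T' : Sylow p G)
    (h' : baumannSubgroupOf p (T' : Subgroup G) ≤ NN(E)) : IsBaumannBlock p (T' : Subgroup G) E := by
  obtain ⟨T, hT⟩ := hE.blk
  obtain ⟨g, hg, e⟩ := baum_cj hE (T := T) (hT.2.1 ▸ right_le_NN_comm _ _) h'
  have := blk_cj g hT
  rw [mem_NN.1 hg] at this
  unfold IsBaumannBlock at this ⊢
  rw [e] at this
  exact ⟨this.1, this.2.1, this.2.2.1, zn hE T', this.2.2.2.2⟩

theorem blk_le (h : IsBaumannBlock p (T : Subgroup G) F) : F ≤ baumannSubgroup p G := by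
  have : F ≤ NN(baumannSubgroup p G) := fun g _ => mem_NN_of_conj_mem fun x hx => by
    have : baumannSubgroup p G ≤ cj g⁻¹ (baumannSubgroup p G) := iSup_le fun S => by
      have := cj_mono g⁻¹ (le_iSup (fun T : Sylow p G => baumannSubgroupOf p (T : Subgroup G)) (g • S))
      rwa [Sylow.coe_subgroup_smul, cj_smul, ← cj_baum, H10.cj_inv_cj] at this
    simpa [mem_cj] using this hx
  rw [← h.2.1]
  exact (commutator_mono le_rfl (le_iSup (fun T : Sylow p G => baumannSubgroupOf p (T : Subgroup G)) T)).trans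
    (comm_le_right this)

end H21.Bq
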