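import Cfsg.Agent.H21.Bq1

/-! Subnormal blocks and the Baumann subgroup, II: semilinear maps of the plane. -/

set_option autoImplicit false
set_option linter.unusedSectionVars false

open Cfsg Subgroup H10 H12 H14.Bb Matrix Module
open scoped commutatorElement MatrixGroups

namespace H21.Bq

variable {K : Type*} [Field K]

theorem e0_ne : (![1, 0] : Fin 2 → K) ≠ 0 := fun h => by simpa using congrFun h 0

theorem semi {α β : End ℤ (Fin 2 → K)} (e1 : α * β = 1) (e2 : β * α = 1)
    (hn : ∀ g ∈ commutator SL(2, K), ∃ g' : SL(2, K), ∀ v, β (g.1 *ᵥ v) = g'.1 *ᵥ β v) :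
    ∃ σ : K →+* K, ∀ c v, α (c • v) = σ c • α v := by
  rcases two_cases (F := K) with h | h
  · exact ⟨RingHom.id K, lin_of_three h α⟩
  have a1 : ∀ v, α (β v) = v := fun v => DFunLike.congr_fun e1 v
  have a2 : ∀ v, β (α v) = v := fun v => DFunLike.congr_fun e2 v
  have k : ∀ c : K, ∃ μ : K, ∀ v, α (c • v) = μ • α v := fun c => by
    obtain ⟨μ, hμ⟩ := scalar (φ := α * (DistribSMul.toAddMonoidHom (Fin 2 → K) c).toIntLinearMap * β)
      fun g v => by
        obtain ⟨g', hg⟩ := hn g (h ▸ mem_top g)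
        show α (c • β (g.1 *ᵥ v)) = g.1 *ᵥ α (c • β v)
        rw [hg, ← mulVec_smul, ← a2 (c • β v), ← hg, a1, a2]
    exact ⟨μ, fun v => by rw [← hμ (α v)]; show _ = α (c • β (α v)); rw [a2]⟩
  choose σ hσ using k
  have n0 : α ![1, 0] ≠ 0 := fun h => e0_ne (K := K) (by rw [← a2 ![1, 0], h, map_zero])
  have inj := smul_left_injective K n0
  refine ⟨⟨⟨⟨σ, inj ?_⟩, fun c d => inj ?_⟩, inj ?_, fun c d => inj ?_⟩, hσ⟩
  · simp only [← hσ, one_smul]
  · simp only [← hσ, mul_smul]
  · simp only [← hσ, zero_smul, map_zero]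
  · simp only [← hσ, add_smul, map_add]

theorem dec2 (v : Fin 2 → K) : v = v 0 • ![1, 0] + v 1 • ![0, 1] := by
  ext i; fin_cases i <;> simp

theorem dt_semi {α : End ℤ (Fin 2 → K)} {σ : K →+* K} (h : ∀ c v, α (c • v) = σ c • α v)
    (v w : Fin 2 → K) : dt (α v) (α w) = dt (α ![1, 0]) (α ![0, 1]) * σ (dt v w) := by
  conv_lhs => rw [dec2 v, dec2 w, map_add, map_add, h, h, h, h]
  simp only [dt, Pi.add_apply, Pi.smul_apply, smul_eq_mul, map_sub, map_mul]
  ring

theorem hom_comm [Finite K] (σ τ : K →+* K) (x : K) : σ (τ x) = τ (σ x) := by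
  obtain ⟨m, hm⟩ := MonoidHom.map_cyclic (Units.map τ.toMonoidHom)
  have k : ∀ y : K, y ≠ 0 → τ y = y ^ m := fun y hy => by
    simpa using congrArg Units.val (hm (Units.mk0 y hy))
  by_cases hx : x = 0
  · simp [hx]
  · rw [k x hx, k _ ((map_ne_zero σ).2 hx), map_zpow₀]

theorem to_SL {α : End ℤ (Fin 2 → K)} (h : ∀ (c : K) v, α (c • v) = c • α v)
    (hd : dt (α ![1, 0]) (α ![0, 1]) = 1) : ∃ g : SL(2, K), ∀ v, α v = g.1 *ᵥ v := by
  refine ⟨⟨!![α ![1, 0] 0, α ![0, 1] 0; α ![1, 0] 1, α ![0, 1] 1], ?_⟩, fun v => ?_⟩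
  · rw [det_fin_two_of]; unfold dt at hd; linear_combination hd
  · conv_lhs => rw [dec2 v, map_add, h, h]
    ext i; fin_cases i <;> simp [mulVec, dotProduct, mul_comm]

theorem stab_pow {p : ℕ} (hp : (p : K) = 0) {g : SL(2, K)} (hg : g ∈ stabE K) : g ^ p = 1 := by
  have h0 : g.1 0 0 = 1 := by simpa [mulVec, dotProduct] using congrFun hg 0
  have h1 : g.1 1 0 = 0 := by simpa [mulVec, dotProduct] using congrFun hg 1
  have h2 : g.1 1 1 = 1 := by
    have := g.2
    rwa [det_fin_two, h0, h1, one_mul, mul_zero, sub_zero] at this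
  have k : ∀ n : ℕ, (g ^ n).1 = !![1, n * g.1 0 1; 0, 1] := fun n => by
    induction n with
    | zero => ext i j; fin_cases i <;> fin_cases j <;> simp
    | succ n ih =>
      rw [pow_succ, show (g ^ n * g).1 = (g ^ n).1 * g.1 from rfl, ih]
      ext i j; fin_cases i <;> fin_cases j <;> simp [Matrix.mul_apply, h0, h1, h2]
      ring
  apply Subtype.ext
  rw [k, hp]
  ext i j; fin_cases i <;> fin_cases j <;> simp

theorem pow_mem_comm {p : ℕ} (hp : (p : K) = 0) (g : SL(2, K)) : g ^ p ∈ commutator SL(2, K) := by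
  have : (⊤ : Subgroup SL(2, K)) ≤ ((powMonoidHom p).comp Abelianization.of).ker := by
    rw [← comm_sup_stabE]
    refine sup_le (fun x hx => ?_) fun x hx => ?_
    · rw [← Abelianization.ker_of] at hx
      simp [MonoidHom.mem_ker, show Abelianization.of x = 1 from hx]
    · show Abelianization.of x ^ p = 1
      rw [← map_pow, stab_pow hp hx, map_one]
  have h : Abelianization.of g ^ p = 1 := this (mem_top g)
  rw [← Abelianization.ker_of, MonoidHom.mem_ker, map_pow, h]

theorem comm_one {N M : Type*} [Group N] [Monoid M] (φ : N →* M) {g h : N}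
    (e : Commute (φ g) (φ h)) : φ ⁅g, h⁆ = 1 := by
  rw [commutatorElement_def, mul_assoc, ← _root_.mul_inv_rev, map_mul, map_mul, e.eq, ← map_mul, ← map_mul,
    mul_inv_cancel, map_one]

theorem one_of_two (h2 : (2 : K) = 0) {μ : K} {k : ℕ} (h : μ ^ 2 ^ k = 1) : μ = 1 := by
  induction k with
  | zero => simpa using h
  | succ k ih =>
    rw [pow_succ, pow_mul] at h
    exact ih ((sq_eq_one_iff.1 h).elim id fun e => by linear_combination e - h2)

end H21.Bq
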