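import Cfsg.Agent.H21.Bq2

/-! Subnormal blocks and the Baumann subgroup, III: the normalizer of a linear block. -/

set_option autoImplicit false
set_option linter.unusedSectionVars false

open Cfsg Subgroup H10 H12 H16.BB Matrix Module
open H14.Bb (Sc act dt)
open scoped commutatorElement MatrixGroups

namespace H21.Bq

variable {G : Type*} [Group G] [Finite G] {p : ℕ} [hp : Fact p.Prime] {E F : Subgroup G}
  {T : Sylow p G} {K : Type} [Field K] [Fintype K] {ψ : G → Fin 2 → K} {ρ : E →* SL(2, K)}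

theorem nn2 : NN(E) ≤ NN(W0 p E) ⊓ NN(ZZ p E) := le_inf (W0_NN le_rfl) (ZZ_NN le_rfl)

theorem perf (h : resOf p F = F) (q : Group.IsPerfect (F ⧸ pCore p F)) : F ≤ ⁅F, F⁆ := by
  refine h.ge.trans (resOf_le_of_pow fun x hx => ?_)
  have a1 : (commutator F).map (QuotientGroup.mk' (pCore p F)) = ⊤ := by
    rw [commutator_def, map_commutator, ← MonoidHom.range_eq_map,
      MonoidHom.range_eq_top.2 (QuotientGroup.mk'_surjective _), ← commutator_def, q.commutator_eq_top]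
  obtain ⟨y, hy, e⟩ : (QuotientGroup.mk' (pCore p F) ⟨x, hx⟩) ∈ (commutator F).map
    (QuotientGroup.mk' (pCore p F)) := a1 ▸ mem_top _
  obtain ⟨k, hk⟩ := isPGroup_iff_mem.1 (isPGroup_pCoreOf F) _
    (mem_map_of_mem F.subtype (QuotientGroup.eq.1 e))
  refine ⟨k, map_subtype_commutator F ▸ mem_map_of_mem F.subtype (x := ⟨x, hx⟩ ^ p ^ k) ?_⟩
  rw [← Abelianization.ker_of] at hy ⊢
  have hy' : Abelianization.of y = 1 := hy
  have : (y⁻¹ * ⟨x, hx⟩) ^ p ^ k = 1 := Subtype.ext hk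
  rw [MonoidHom.mem_ker, map_pow]
  simpa [hy'] using congrArg Abelianization.of this

/-- elements acting linearly -/
def Li (p : ℕ) (E : Subgroup G) (ψ : G → Fin 2 → K) (g : G) : Prop :=
  g ∈ NN(E) ∧ ∀ (c : K) v, act (W0 p E) ψ g (c • v) = c • act (W0 p E) ψ g v

variable (s : Sc E (W0 p E) (ZZ p E) ψ ρ)
include s

theorem a_mul {g h : G} (hg : g ∈ NN(E)) (hh : h ∈ NN(E)) (v : Fin 2 → K) :
    act (W0 p E) ψ (g * h) v = act (W0 p E) ψ g (act (W0 p E) ψ h v) := by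
  rw [s.toMd.act_mul (nn2 hg) (nn2 hh)]; rfl

theorem a_ne {g : G} (hg : g ∈ NN(E)) {v : Fin 2 → K} (h : v ≠ 0) : act (W0 p E) ψ g v ≠ 0 :=
  fun e => h (by
    have := DFunLike.congr_fun (s.toMd.act_inv_mul (nn2 hg)) v
    rw [End.mul_apply, e, map_zero] at this
    exact this.symm)

theorem li_E {e : G} (he : e ∈ E) : Li p E ψ e :=
  ⟨le_NN_self E he, fun c v => by
    rw [s.act_eq ⟨e, he⟩, s.act_eq ⟨e, he⟩, mulVec_smul]⟩

theorem exists_ker : ∃ K₁ K₂ : Subgroup G, (∀ g, g ∈ K₁ ↔ Li p E ψ g) ∧ ⁅NN(E), NN(E)⁆ ≤ K₁ ∧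
    ⁅K₁, K₁⁆ ≤ K₂ ∧ (∀ g ∈ K₂, dt (act (W0 p E) ψ g ![1, 0]) (act (W0 p E) ψ g ![0, 1]) = 1) ∧
    ∀ g ∈ NN(E), ∃ σ : K →+* K, ∀ c v, act (W0 p E) ψ g (c • v) = σ c • act (W0 p E) ψ g v := by
  have k : ∀ g : NN(E), ∃ σ : K →+* K, ∀ c v,
      act (W0 p E) ψ g (c • v) = σ c • act (W0 p E) ψ g v := fun g =>
    semi (s.toMd.act_mul_inv (nn2 g.2)) (s.toMd.act_inv_mul (nn2 g.2)) fun x hx => by
      obtain ⟨e, rfl⟩ := s.exists_e hx
      have he := conj_mem_of_mem_NN' g.2 e.2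
      refine ⟨ρ ⟨_, he⟩, fun v => ?_⟩
      rw [← s.act_eq, ← s.act_eq, ← a_mul s (inv_mem g.2) (le_NN_self E e.2),
        ← a_mul s (le_NN_self E he) (inv_mem g.2), mul_inv_cancel_right]
  choose σ hσ using k
  have s1 : ∀ c, σ 1 c = c := fun c => smul_left_injective K e0_ne (by
    have := hσ 1 c ![1, 0]
    rw [coe_one, s.toMd.act_one] at this
    exact this.symm)
  let S : NN(E) →* Function.End K :=
    { toFun := fun g c => σ g c
      map_one' := funext s1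
      map_mul' := fun g h => funext fun c => smul_left_injective K (a_ne s (g * h).2 e0_ne) (by
        show σ (g * h) c • _ = σ g (σ h c) • _
        rw [← hσ, coe_mul, a_mul s g.2 h.2, a_mul s g.2 h.2, hσ, hσ]) }
  have d1 : ∀ x : K, dt ![x, 0] ![0, 1] = x := fun x => by simp [dt]
  let Θ : NN(E) →* Function.End K :=
    { toFun := fun g x => dt (act (W0 p E) ψ g ![1, 0]) (act (W0 p E) ψ g ![0, 1]) * σ g x
      map_one' := funext fun x => by
        rw [s1, coe_one, s.toMd.act_one]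
        exact (congrArg (· * x) (d1 1)).trans (one_mul x)
      map_mul' := fun g h => funext fun x => by
        show _ * σ (g * h) x = _ * σ g (_ * σ h x)
        rw [← d1 x, ← dt_semi (hσ _), ← dt_semi (hσ _), ← dt_semi (hσ _), coe_mul, a_mul s g.2 h.2,
          a_mul s g.2 h.2] }
  have m : ∀ g : NN(E), S g = 1 ↔ ∀ c, σ g c = c := fun g => funext_iff
  refine ⟨S.ker.map (Subgroup.subtype _), Θ.ker.map (Subgroup.subtype _), fun g => ⟨?_, fun h => ?_⟩,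
    commutator_le.2 fun g hg h hh => ?_, commutator_le.2 ?_, ?_, fun g hg => ⟨_, hσ ⟨g, hg⟩⟩⟩
  · rintro ⟨g, hg, rfl⟩
    exact ⟨g.2, fun c v => (hσ g c v).trans (by rw [(m g).1 hg]; rfl)⟩
  · exact ⟨⟨g, h.1⟩, (m _).2 fun c => smul_left_injective K (a_ne s h.1 e0_ne)
      ((hσ ⟨g, h.1⟩ c _).symm.trans (h.2 c _)), rfl⟩
  · exact ⟨⁅⟨g, hg⟩, ⟨h, hh⟩⁆, comm_one S (funext fun c => hom_comm _ _ c), rfl⟩
  · rintro _ ⟨g, hg, rfl⟩ _ ⟨h, hh, rfl⟩
    refine ⟨⁅g, h⁆, comm_one Θ (funext fun c => ?_), rfl⟩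
    show _ * σ g (_ * σ h c) = _ * σ h (_ * σ g c)
    rw [(m g).1 hg, (m h).1 hh, (m g).1 hg, (m h).1 hh, mul_left_comm]
  · rintro _ ⟨g, hg, rfl⟩
    have := congrFun (show Θ g = 1 from hg) 1
    change _ * σ g 1 = 1 at this
    rwa [map_one, mul_one] at this

theorem cen_act (hE : Bk p E) {g : G} (hg : g ∈ NN(E)) (h : act (W0 p E) ψ g = 1) :
    g ∈ CC(WW p E) := cen_of hE hg ((s.toMd.act_eq_one (nn2 hg)).1 h)

theorem fin_lin (hE : Bk p E) (cp : (p : K) = 0) (hF : resOf p F = F) (h1 : ∀ f ∈ F, Li p E ψ f)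
    (h2 : ∀ f ∈ F, dt (act (W0 p E) ψ f ![1, 0]) (act (W0 p E) ψ f ![0, 1]) = 1) :
    F ≤ E ⊔ CC(WW p E) := by
  refine hF.ge.trans (resOf_le_iff.2 fun f hf ho => mem_of_pow_mem (n := p) ho ?_)
  obtain ⟨g, hg⟩ := to_SL (h1 f hf).2 (h2 f hf)
  obtain ⟨e, he⟩ := s.exists_e (pow_mem_comm cp g)
  have n := (h1 f hf).1
  have k : ∀ (m : ℕ) v, act (W0 p E) ψ (f ^ m) v = (g ^ m).1 *ᵥ v := fun m => by
    induction m with
    | zero => intro v; rw [pow_zero, pow_zero, s.toMd.act_one, H14.Bb.sl_one]; rfl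
    | succ m ih => intro v; rw [pow_succ, pow_succ, a_mul s (pow_mem n m) n, H14.Bb.sl_mul, hg, ih]
  have n' : (e : G)⁻¹ ∈ NN(E) := le_NN_self E (inv_mem e.2)
  have := cen_act s hE (mul_mem n' (pow_mem n p)) (LinearMap.ext fun v => by
    rw [a_mul s n' (pow_mem n p), k, ← he, ← s.act_eq, ← a_mul s n' (le_NN_self E e.2),
      inv_mul_cancel, s.toMd.act_one])
  simpa using mul_mem (mem_sup_left e.2) (mem_sup_right this : _ ∈ E ⊔ CC(WW p E))

end H21.Bq
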