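import Cfsg.Agent.H21.Bq3

/-! Subnormal blocks and the Baumann subgroup, IV: blocks normalizing a linear block. -/

set_option autoImplicit false
set_option linter.unusedSectionVars false

open Cfsg Subgroup H10 H12 H16.BB Matrix Module
open H14.Bb (Sc act dt)
open scoped commutatorElement MatrixGroups

namespace H21.Bq

variable {G : Type*} [Group G] [Finite G] {p : ℕ} [hp : Fact p.Prime] {E F : Subgroup G}
  {T : Sylow p G} {K : Type} [Field K] [Fintype K] {ψ : G → Fin 2 → K} {ρ : E →* SL(2, K)}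

theorem X_le (bF : IsBaumannBlock p (T : Subgroup G) F) (n : F ≤ NN(E)) :
    ⁅WW p E, F⁆ ≤ ⁅W0 p F, F⁆ := by
  have a0 : ⁅WW p E, F⁆ ≤ WW p E := comm_le_left (WW_NN n)
  have a1 : ⁅WW p E, F⁆ ≤ W0 p F := blk_ab_le bF
    ((commutator_mono (WW_Q E) le_rfl).trans (H14.Bb.PEQ bF)) (right_le_NN_comm _ _)
    (a0.trans (WW_CC E (a0.trans (WW_Q E))))
  exact (cc bF.1 ((isPGroup_ZO _).to_le (WW_le E)) (WW_CC E (WW_Q E)) (WW_NN n)).trans
    (commutator_mono a1 le_rfl)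

variable (s : Sc E (W0 p E) (ZZ p E) ψ ρ)
include s

theorem exists_X (hE : Bk p E) {f : G} (hf : f ∈ F) (n : F ≤ NN(E)) (v : Fin 2 → K) :
    ∃ x ∈ ⁅WW p E, F⁆, ψ x = act (W0 p E) ψ f v - v := by
  obtain ⟨w, hw, rfl⟩ := s.surj v
  obtain ⟨w', h1, z, h2, rfl⟩ := (mem_sup_of_NN (hE.W_E.trans (ZZ_NN (le_NN_self E)))).1 (hE.W0_le hw)
  rw [s.add _ (hE.W_le h1) _ h2.1, (s.ker _ h2.1).2 h2, add_zero]
  exact ⟨⁅f, w'⁆, commutator_comm F _ ▸ commutator_mem_commutator hf h1,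
    s.toMd.comm (nn2 (n hf)) (hE.W_le h1)⟩

theorem syl_lin (hE : Bk p E) (bE : IsBaumannBlock p (T : Subgroup G) E) (cp : (p : K) = 0)
    (top : commutator SL(2, K) = ⊤) {b : G} (hb : b ∈ NN(E)) {σ : K →+* K}
    (hσ : ∀ c v, act (W0 p E) ψ b (c • v) = σ c • act (W0 p E) ψ b v)
    (h : ∀ t ∈ (T : Subgroup G) ⊓ E, act (W0 p E) ψ ⁅b, t⁆ = 1) (c : K) : σ c = c := by
  have pR : IsPGroup p (((stabE K).comap ρ).map E.subtype) := isPGroup_iff_mem.2 (by
    rintro _ ⟨r, hr, rfl⟩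
    have a1 : act (W0 p E) ψ (r ^ p : E) = 1 := (s.eq_one_iff _).1 (by rw [map_pow, stab_pow cp hr])
    have a2 := blk_faith bE (r ^ p).2 ((H14.Bb.zp_le ⟨ZZ_NN (le_NN_self E) (r ^ p).2,
      (s.toMd.act_eq_one (s.nn (r ^ p).2)).1 a1⟩).trans inf_le_right)
    obtain ⟨k, hk⟩ := isPGroup_iff_mem.1 (isPGroup_pCoreOf E) _ a2
    exact ⟨k + 1, by rw [pow_succ', pow_mul]; exact hk⟩)
  obtain ⟨e, he, h1⟩ := ((isSylowIn_top T).inf_subn hE.sn).exists_cj_le pR (map_subtype_le _)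
  have ne := le_NN_self E he
  have k : ∀ l : K, σ l • act (W0 p E) ψ b (act (W0 p E) ψ e ![1, 0]) =
      (l * act (W0 p E) ψ e⁻¹ (act (W0 p E) ψ b (act (W0 p E) ψ e ![0, 1])) 1) •
        act (W0 p E) ψ e ![1, 0] := fun l => by
    obtain ⟨r, hr⟩ := s.exists_e (g := ⟨!![1, l; 0, 1], by simp [det_fin_two]⟩) (top ▸ mem_top _)
    have r1 : ∀ v, act (W0 p E) ψ r v = v + (l * v 1) • ![1, 0] := fun v => by
      rw [s.act_eq, hr]
      ext i; fin_cases i <;> simp [mulVec, dotProduct]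
    have r2 : e * r * e⁻¹ ∈ (T : Subgroup G) ⊓ E := h1 (conj_mem_cj ⟨r, by
      show (ρ r).1 *ᵥ _ = _
      rw [← s.act_eq, r1]; simp, rfl⟩)
    have nr := le_NN_self E r.2
    have nt := le_NN_self E r2.2
    have r3 : act (W0 p E) ψ (b * (e * r * e⁻¹) * e) ![0, 1] =
        act (W0 p E) ψ (e * r * e⁻¹ * b * e) ![0, 1] := by
      rw [show b * (e * r * e⁻¹) * e = ⁅b, e * r * e⁻¹⁆ * (e * r * e⁻¹ * b * e) by
        rw [commutatorElement_def]; group, a_mul s (g := ⁅b, e * r * e⁻¹⁆)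
        (mul_mem (mul_mem (mul_mem hb nt) (inv_mem hb)) (inv_mem nt)) (mul_mem (mul_mem nt hb) ne), h _ r2]
      rfl
    rw [show b * (e * r * e⁻¹) * e = b * (e * r) by group, a_mul s hb (mul_mem ne nr), a_mul s ne nr,
      a_mul s (mul_mem nt hb) ne, a_mul s nt hb, a_mul s (mul_mem ne nr) (inv_mem ne), a_mul s ne nr,
      r1, r1, map_add, map_add, map_add, (li_E s he).2, (li_E s he).2, hσ,
      ← a_mul s ne (inv_mem ne), mul_inv_cancel, s.toMd.act_one] at r3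
    simpa using r3
  have k1 := k 1
  rw [map_one, one_smul, one_mul] at k1
  have k2 := k c
  rw [mul_smul, ← k1] at k2
  exact smul_left_injective K (a_ne s hb (a_ne s ne e0_ne)) k2

theorem two_case (hE : Bk p E) (bF : IsBaumannBlock p (T : Subgroup G) F) (n : F ≤ NN(E)) (p2 : p = 2)
    (h2 : (2 : K) = 0) (q : ∀ e ∈ F, ∃ k, e ^ 3 ^ k ∈ pCoreOf p F) (li : ∀ f ∈ F, Li p E ψ f)
    {u0 : Fin 2 → K} (h0 : u0 ≠ 0) (hU : ∀ x ∈ ⁅W0 p F, F⁆, x ∈ WW p E ∧ ∃ d : K, ψ x = d • u0)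
    {x : G} (hx : x ∈ ⁅W0 p F, F⁆) (x0 : ψ x = u0) {f : G} (hf : f ∈ F) {ω : K} (h1 : ω ≠ 1)
    (fu : act (W0 p E) ψ f u0 = ω • u0) {u : G} (hu : u ∈ baumannSubgroupOf p (T : Subgroup G))
    (uE : u ∈ E) : act (W0 p E) ψ u = 1 := by
  have hQ : pCoreOf p F = ⁅W0 p F, F⁆ := by
    have : pCoreOf p F = W0 p F := by
      by_contra e
      have := (H14.Bb.exc_of bF e).1
      omega
    rw [← this, bF.2.2.1]
  have mv : ∀ g ∈ F, ∀ v, ∃ d : K, act (W0 p E) ψ g v = v + d • u0 := fun g hg v => by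
    obtain ⟨y, hy, e⟩ := exists_X s hE hg n v
    obtain ⟨d, hd⟩ := (hU y (X_le bF n hy)).2
    exact ⟨d, by rw [← hd, e, add_sub_cancel]⟩
  have lT : ∀ g ∈ F, act (W0 p E) ψ g u0 = u0 → act (W0 p E) ψ g = 1 := fun g hg e => by
    have a1 : act (W0 p E) ψ g ^ 2 = 1 := LinearMap.ext fun v => by
      obtain ⟨d, hd⟩ := mv g hg v
      rw [pow_two, End.mul_apply, hd, map_add, hd, (li g hg).2, e, add_assoc, ← add_smul, ← two_mul,
        h2, zero_mul, zero_smul, add_zero, End.one_apply]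
    obtain ⟨k, hk⟩ := q g hg
    have a2 : act (W0 p E) ψ g ^ 3 ^ k = 1 := by
      rw [← s.toMd.act_pow (nn2 (n hg)), s.toMd.act_eq_one (nn2 (n (pow_mem hg _)))]
      intro y hy
      rw [commutatorElement_eq_one_iff_mul_comm.2
        (mem_CC.1 (ZO_le_CC _ hy) _ (ZO_le _ (hE.W_le (hU _ (hQ ▸ hk)).1)))]
      exact one_mem _
    obtain ⟨j, hj⟩ : Odd (3 ^ k) := Odd.pow (by decide)
    rwa [hj, pow_succ, pow_mul, a1, one_pow, one_mul] at a2
  have uF : u ∈ NN(F) := (bF.2.1 ▸ right_le_NN_comm _ _ : _ ≤ NN(F)) hu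
  have nu := le_NN_self E uE
  have nf := n hf
  obtain ⟨μ, hμ⟩ := (hU _ (conj_mem_of_mem_NN (le_NN_commutator (W0_NN le_rfl) le_rfl uF) hx)).2
  rw [← s.toMd.act_apply (nn2 nu) (hE.W_le (hU x hx).1), x0] at hμ
  obtain ⟨k, hk⟩ := isPGroup_iff_mem.1 T.isPGroup' u (baum_le _ hu)
  have a3 : ∀ m : ℕ, act (W0 p E) ψ (u ^ m) u0 = μ ^ m • u0 := fun m => by
    induction m with
    | zero => rw [pow_zero, pow_zero, s.toMd.act_one, one_smul]; rfl
    | succ m ih => rw [pow_succ', a_mul s nu (pow_mem nu m), ih, (li_E s uE).2, hμ, smul_smul, pow_succ]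
  have a4 := a3 (p ^ k)
  rw [hk, s.toMd.act_one, p2] at a4
  rw [one_of_two h2 (smul_left_injective K h0 (a4.symm.trans (one_smul K u0).symm)), one_smul] at hμ
  have cF : ⁅f, u⁆ ∈ F := by
    rw [commutatorElement_def, mul_assoc, mul_assoc, ← mul_assoc u]
    exact mul_mem hf (conj_mem_of_mem_NN uF (inv_mem hf))
  have a5 : ∀ v, act (W0 p E) ψ ⁅f, u⁆ (act (W0 p E) ψ u (act (W0 p E) ψ f v)) =
      act (W0 p E) ψ f (act (W0 p E) ψ u v) := fun v => by
    rw [← a_mul s nu nf, ← a_mul s (n cF) (mul_mem nu nf), ← a_mul s nf nu, commutatorElement_def]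
    congr 2; group
  have ω0 : ω ≠ 0 := fun e => a_ne s nf h0 (by rw [fu, e, zero_smul])
  have a6 := lT _ cF (smul_right_injective _ ω0 (by
    have := a5 u0
    rwa [hμ, fu, (li_E s uE).2, hμ, (li _ cF).2] at this))
  refine LinearMap.ext fun v => ?_
  obtain ⟨d, hd⟩ := H14.Bb.par h0 (w := act (W0 p E) ψ u v - v) (by
    have := H14.Bb.dt_mulVec (ρ ⟨u, uE⟩) u0 v
    rw [← s.act_eq, ← s.act_eq, hμ] at this
    simp only [dt, Pi.sub_apply] at this ⊢
    linear_combination this)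
  obtain ⟨e, he⟩ := mv f hf v
  have a7 := a5 v
  rw [a6, End.one_apply, he, map_add, (li_E s uE).2, hμ, eq_add_of_sub_eq' hd, map_add, he,
    (li f hf).2, fu] at a7
  have a8 : (d * (ω - 1)) • u0 = 0 := by linear_combination (norm := module) -a7
  rw [eq_add_of_sub_eq' hd, ((mul_eq_zero.1 ((smul_eq_zero.1 a8).resolve_right h0)).resolve_right
    (sub_ne_zero.2 h1)), zero_smul, add_zero, End.one_apply]

omit s in
theorem innL (hE : Bk p E) (bE : IsBaumannBlock p (T : Subgroup G) E)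
    (bF : IsBaumannBlock p (T : Subgroup G) F) (n : F ≤ NN(E)) {K : Type} [Field K] [Fintype K]
    {m : ℕ} (hK : Fintype.card K = p ^ m)
    (s : ActsAsSL2OnSection K (commutator SL(2, K)) E (W0 p E) (ZZ p E)) : F ≤ E ⊔ CC(WW p E) := by
  obtain ⟨ψ, ρ, s⟩ := H14.Bb.sc_of s
  have cp : (p : K) = 0 := by
    have := FiniteField.cast_card_eq_zero K
    rw [hK, Nat.cast_pow] at this
    exact pow_eq_zero_iff (by rintro rfl; simp at this) |>.1 this
  obtain ⟨K₁, K₂, k1, k2, k3, k4, k5⟩ := exists_ker s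
  have nB : baumannSubgroupOf p (T : Subgroup G) ≤ NN(E) := bE.2.1 ▸ right_le_NN_comm _ _
  have f1 : F ≤ K₁ := bF.2.1.ge.trans ((commutator_mono n nB).trans k2)
  have li : ∀ f ∈ F, Li p E ψ f := fun f hf => (k1 f).1 (f1 hf)
  have fin : F ≤ K₂ → F ≤ E ⊔ CC(WW p E) := fun h => fin_lin s hE cp bF.1 li fun f hf => k4 f (h hf)
  by_cases hb : baumannSubgroupOf p (T : Subgroup G) ≤ K₁
  · exact fin (bF.2.1.ge.trans ((commutator_mono f1 hb).trans k3))
  rcases blk_type bF with ⟨q, -⟩ | sF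
  · exact fin ((perf bF.1 q.1).trans ((commutator_mono f1 f1).trans k3))
  by_cases h0 : ∀ f ∈ F, act (W0 p E) ψ f = 1
  · exact fun f hf => mem_sup_right (cen_act s hE (n hf) (h0 f hf))
  exfalso
  push Not at h0
  obtain ⟨f, hf, h0⟩ := h0
  obtain ⟨v, hv⟩ := DFunLike.ne_iff.1 h0
  have u0 : act (W0 p E) ψ f v - v ≠ 0 := sub_ne_zero.2 hv
  have hc : ∀ c : K, ∃ x ∈ ⁅WW p E, F⁆, ψ x = c • (act (W0 p E) ψ f v - v) := fun c => by
    obtain ⟨x, hx, e⟩ := exists_X s hE hf n (c • v)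
    exact ⟨x, hx, by rw [e, (li f hf).2, smul_sub]⟩
  generalize act (W0 p E) ψ f v - v = u at u0 hc
  choose x x1 x2 using hc
  have xW : ∀ c, x c ∈ WW p E := fun c => comm_le_left (WW_NN n) (x1 c)
  have x3 : ∀ c, c ≠ 0 → x c ≠ 1 := fun c hc e => smul_ne_zero hc u0 (by rw [← x2, e, s.toMd.one])
  have inj := smul_left_injective K u0
  have key : ∀ c : K, c ≠ 0 → ∃ e ∈ F, act (W0 p E) ψ e u = c • u ∧
      (c = 1 ∨ c = -1 ∨ c * c = -1 + 3 * c) := fun c hc => by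
    obtain ⟨e, he, h⟩ := sF.tr _ (X_le bF n (x1 1)) _ (X_le bF n (x1 c)) (x3 1 one_ne_zero) (x3 c hc)
    have a1 := s.toMd.act_apply (nn2 (n he)) (hE.W_le (xW 1))
    rw [h, x2, x2, one_smul] at a1
    refine ⟨e, he, a1, (sF.rel e he).imp (fun r => inj ?_) (Or.imp (fun r => inj ?_) fun r => inj ?_)⟩
    · simp only [← x2, ← h, r _ (X_le bF n (x1 1))]
    · have := r _ (X_le bF n (x1 1))
      rw [h] at this
      simp only [← x2 c, this, s.toMd.inv (hE.W_le (xW 1)), x2 1, neg_smul]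
    · have := congrArg ψ (r _ (X_le bF n (x1 1)))
      rw [h, ← s.toMd.act_apply (nn2 (n he)) (hE.W_le (xW c)), x2, (li e he).2, a1,
        s.add _ (inv_mem (hE.W_le (xW 1))) _ (pow_mem (hE.W_le (xW c)) 3),
        s.toMd.inv (hE.W_le (xW 1)), s.toMd.pow (hE.W_le (xW c)), x2, x2] at this
      linear_combination (norm := module) this
  obtain ⟨b, b1, b2⟩ := SetLike.not_le_iff_exists.1 hb
  obtain ⟨σ, hσ⟩ := k5 b (nB b1)
  obtain ⟨c, hc⟩ : ∃ c, σ c ≠ c := by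
    by_contra e
    push Not at e
    exact b2 ((k1 b).2 ⟨nB b1, fun c v => by rw [hσ, e]⟩)
  have c0 : c ≠ 0 := by rintro rfl; simp at hc
  have c1 : c ≠ 1 := by rintro rfl; simp at hc
  have c2 : c ≠ -1 := by rintro rfl; simp at hc
  obtain ⟨e, he, e1, e2⟩ := key c c0
  rcases sF.q with ⟨p2, q⟩ | ⟨rfl, -⟩
  · have h4 : p ^ 2 ≤ Fintype.card K := by
      have := Fintype.two_lt_card_iff.2 ⟨(0 : K), 1, c, zero_ne_one, c0.symm, c1.symm⟩
      rw [hK, p2] at this ⊢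
      refine Nat.pow_le_pow_right two_pos (not_lt.1 fun h => ?_)
      interval_cases m <;> simp at this
    have bij := Function.Injective.bijective_of_nat_card_le
      (f := fun c : K => (⟨x c, X_le bF n (x1 c)⟩ : (⁅W0 p F, F⁆ : Subgroup G)))
      (fun a b e => inj (by simp only [← x2]; exact congrArg (fun y => ψ y.1) e))
      (by rw [sF.card, Nat.card_eq_fintype_card]; exact h4)
    refine hc (syl_lin s hE bE cp (H14.Bb.two_cases.resolve_left fun h => by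
      rcases h c with h | h | h <;> contradiction) (nB b1) hσ (fun t ht => ?_) c)
    refine two_case s hE bF n p2 (by rw [p2] at cp; exact_mod_cast cp) q li u0 (fun y hy => ?_)
      (X_le bF n (x1 1)) ((x2 1).trans (one_smul _ _)) he c1 e1 ?_ ?_
    · obtain ⟨d, hd⟩ := bij.2 ⟨y, hy⟩
      obtain rfl : x d = y := congrArg Subtype.val hd
      exact ⟨xW d, d, x2 d⟩
    · exact comm_le_left (NN_le_NN_baum _ |>.trans' (le_NN_self _)) (commutator_mem_commutator b1 ht.1)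
    · exact comm_le_right nB (commutator_mem_commutator b1 ht.2)
  · have h3 : (3 : K) = 0 := by exact_mod_cast cp
    have a1 : c * c = -1 := by
      rcases e2 with h | h | h
      exacts [absurd h c1, absurd h c2, by linear_combination h + c * h3]
    obtain ⟨-, -, -, h | h | h⟩ := key (1 + c) fun h => c2 (by linear_combination h)
    · exact c0 (by linear_combination h)
    · exact c1 (by linear_combination h - h3)
    · exact c1 (by linear_combination a1 - h + (-1) * h3)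

end H21.Bq
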