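import Cfsg.Agent.H21.Cmp0
import Cfsg.Agent.H29.J4m2
import Cfsg.Agent.H2.CovD

/-! Kernel checks on the duad involutions of `2^11 ≤ J4`. -/

set_option autoImplicit false
set_option maxRecDepth 100000

namespace H21.Cmp
open H29 H29.J4m H7.J4

noncomputable def cj (a c b : ℕ) : ℕ := force (kmul a c) fun u => kmul u b
noncomputable def inD (c : ℕ) : Bool := force c fun u => DL.any fun l => l.any (Nat.beq u)
noncomputable def clo (a b : ℕ) : Bool := DL.all fun l => l.all fun c => inD (cj a c b)
noncomputable def wc (L w : List ℕ) : ℕ :=
  List.rec (motive := fun _ => ℕ) kone (fun a _ ih => force ih fun y => kmul (lgetD kone L a) y) w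
noncomputable def nc (c : ℕ) : Bool := force c fun u => eL.any fun f => !(Nat.beq (kmul u f) (kmul f u))
noncomputable def ck (i : ℕ) : Bool := force (wc L0 (H2.Cov.WL.getD i [])) fun w =>
  force (pl kmul kone w (ns.getD i 0)) fun w' =>
    Nat.beq (kmul w w') kone && DL.all fun l => l.all fun c => nc (cj w' c w)
noncomputable def alP (P : ℕ → Bool) (L : List ℕ) : ℕ → Bool :=
  List.rec (motive := fun _ => ℕ → Bool) P (fun a _ ih c => ih c && force (kmul a c) ih) L
noncomputable def tst (s c : ℕ) : Bool :=
  !(Nat.beq (kmul c c) kone) || force (kmul c s) (fun u => !(Nat.beq (cj u u u) kone)) || Nat.beq c cx || Nat.beq c cv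

theorem k1 : clo cx cx = true := by decide +kernel
theorem k2 : clo cY cy = true := by decide +kernel
theorem k3 : clo cy cY = true := by decide +kernel
theorem k4 : clo ce ce = true := by decide +kernel
theorem k5 : inD cd = true ∧ inD ce = false := by decide +kernel
theorem k6 : force (kmul cx cy) (fun s => alP (tst s) eL cx) = true := by decide +kernel

end H21.Cmp
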