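import Cfsg.Agent.H21.Cmp1

/-! Kernel checks on the double cosets of `2^11 : M24` in `J4`. -/

set_option autoImplicit false
set_option maxRecDepth 100000

namespace H21.Cmp

theorem ck1 : ck 1 = true := by decide +kernel
theorem ck2 : ck 2 = true := by decide +kernel
theorem ck3 : ck 3 = true := by decide +kernel
theorem ck4 : ck 4 = true := by decide +kernel
theorem ck5 : ck 5 = true := by decide +kernel
theorem ck6 : ck 6 = true := by decide +kernel
theorem ck7 : ck 7 = true := by decide +kernel

end H21.Cmp
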