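import Cfsg.Agent.H21.Cmp1

/-! Kernel checks on the double cosets of `2^11 : M24` in `J4`. -/

set_option autoImplicit false
set_option maxRecDepth 100000

namespace H21.Cmp

theorem ck8 : ck 8 = true := by decide +kernel
theorem ck9 : ck 9 = true := by decide +kernel
theorem ck10 : ck 10 = true := by decide +kernel
theorem ck11 : ck 11 = true := by decide +kernel
theorem ck12 : ck 12 = true := by decide +kernel
theorem ck13 : ck 13 = true := by decide +kernel

end H21.Cmp
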