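import Cfsg.Agent.H21.Cmp1

/-! Kernel checks on the double cosets of `2^11 : M24` in `J4`. -/

set_option autoImplicit false
set_option maxRecDepth 100000

namespace H21.Cmp

theorem ck14 : ck 14 = true := by decide +kernel
theorem ck15 : ck 15 = true := by decide +kernel
theorem ck16 : ck 16 = true := by decide +kernel
theorem ck17 : ck 17 = true := by decide +kernel
theorem ck18 : ck 18 = true := by decide +kernel
theorem ck19 : ck 19 = true := by decide +kernel

end H21.Cmp
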