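import Cfsg.Agent.H21.Cmp2a
import Cfsg.Agent.H21.Cmp2b
import Cfsg.Agent.H21.Cmp2c
import Cfsg.Agent.H29.J4M
import Cfsg.Agent.H2.Cov

/-! The duad involutions of `2^11 ≤ J4`. -/

set_option autoImplicit false
set_option maxRecDepth 100000

namespace H21.Cmp
open H29 H29.J4m H7.J4 Subgroup Cfsg Cfsg.Spor

theorem conj_odd {G : Type*} [Group G] {a b g : G} (ha : a * a = 1) (hb : b * b = 1) (k : ℕ)
    (h : (a * (g * b * g⁻¹)) ^ (2 * k + 1) = 1) : IsConj a b := by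
  have hc : g * b * g⁻¹ * (g * b * g⁻¹) = 1 := by
    calc _ = g * (b * b) * g⁻¹ := by group
      _ = 1 := by rw [hb]; group
  refine IsConj.trans (b := g * b * g⁻¹) ?_ (isConj_iff.2 ⟨g, rfl⟩).symm
  generalize g * b * g⁻¹ = c at h hc
  have i : (a * c)⁻¹ = c * a := by rw [mul_inv_rev, inv_eq_of_mul_eq_one_right ha, inv_eq_of_mul_eq_one_right hc]
  have s : SemiconjBy a (a * c)⁻¹ (a * c) := by rw [SemiconjBy, i, mul_assoc]
  refine isConj_iff.2 ⟨(a * c) ^ k, ?_⟩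
  rw [← inv_pow, mul_assoc, (s.pow_right k).eq, ← mul_assoc, ← pow_add, ← two_mul,
    eq_inv_of_mul_eq_one_left (show (a * c) ^ (2 * k) * (a * c) = 1 by rw [← pow_succ, h]), i, mul_assoc, ha, mul_one]

variable {G : Type*} [Group G] {M : Model G}

theorem Rm (s : Std M) {a b : ℕ} {g h : G} (ha : M.R a g) (hb : M.R b h) : M.R (kmul a b) (g * h) :=
  s.1 ▸ M.R_mul ha hb
theorem R1 (s : Std M) : M.R kone 1 := s.2.1 ▸ M.R_one
theorem Req (s : Std M) {a b : ℕ} {g h : G} (ha : M.R a g) (hb : M.R b h) : Nat.beq a b = true ↔ g = h :=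
  s.2.2 ▸ M.eqb_iff ha hb
theorem Rcj (s : Std M) {a b c : ℕ} {g h k : G} (ha : M.R a g) (hc : M.R c k) (hb : M.R b h) :
    M.R (cj a c b) (g * k * h) := Rm s (Rm s ha hc) hb

/-- the listed elements -/
def S (M : Model G) : Set G := {g | ∃ l ∈ DL, ∃ c ∈ l, M.R c g}

theorem inD_t {c : ℕ} {g : G} (h : M.R c g) (e : inD c = true) : g ∈ S M := by
  simp only [inD, force_eq, List.any_eq_true] at e
  obtain ⟨l, hl, d, hd, e⟩ := e
  exact ⟨l, hl, d, hd, Nat.eq_of_beq_eq_true e ▸ h⟩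

theorem inD_f (s : Std M) {c : ℕ} {g : G} (h : M.R c g) (e : inD c = false) : g ∉ S M := by
  rintro ⟨l, hl, d, hd, hr⟩
  have : inD c = true := by
    simp only [inD, force_eq, List.any_eq_true]
    exact ⟨l, hl, d, hd, (Req s h hr).2 rfl⟩
  rw [e] at this
  exact absurd this (by decide)

theorem clo_t (s : Std M) {a b : ℕ} {g h : G} (ha : M.R a g) (hb : M.R b h) (e : clo a b = true) :
    ∀ k ∈ S M, g * k * h ∈ S M := by
  rintro k ⟨l, hl, c, hc, hr⟩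
  simp only [clo, List.all_eq_true] at e
  exact inD_t (Rcj s ha hr hb) (e l hl c hc)

theorem Rwc (s : Std M) {L : List ℕ} {l : List G} (h : List.Forall₂ M.R L l) (w : List ℕ) :
    M.R (wc L w) (H28.ev l w) := by
  induction w with
  | nil => exact R1 s
  | cons a w ih => rw [H28.ev_cons]; exact Rm s (s.2.1 ▸ R_getD h a) ih

theorem ck_t (s : Std M) {l : List G} (h : List.Forall₂ M.R L0 l) (hE : EA M eL) {i : ℕ} (e : ck i = true) :
    ∀ k ∈ S M, (H28.ev l (H2.Cov.WL.getD i []))⁻¹ * k * H28.ev l (H2.Cov.WL.getD i []) ∉ M.cl eL := by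
  rintro k ⟨L, hl, c, hc, hr⟩ hk
  have r := Rwc s h (H2.Cov.WL.getD i [])
  simp only [ck, force_eq, Bool.and_eq_true, List.all_eq_true] at e
  have r' := R_pl r (ns.getD i 0)
  rw [s.1, s.2.1] at r'
  rw [eq_inv_of_mul_eq_one_right ((Req s (Rm s r r') (R1 s)).1 e.1)] at r'
  have e2 := e.2 L hl c hc
  simp only [nc, force_eq, List.any_eq_true, Bool.not_eq_true'] at e2
  obtain ⟨f, hf, e2⟩ := e2
  obtain ⟨α, h1, -, h3⟩ := hE f hf
  have hc : M.cl eL ≤ centralizer {α} := Model.cl_le' fun d hd β hβ =>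
    mem_centralizer_singleton_iff.2 (h3 d hd β hβ).eq.symm
  have r2 := Rcj s r' hr r
  rw [(Req s (Rm s r2 h1) (Rm s h1 r2)).2 (mem_centralizer_singleton_iff.1 (hc hk))] at e2
  exact absurd e2 (by decide)

theorem alP_t (s : Std M) {P : ℕ → Bool} {L : List ℕ} (hE : EA M L) {c : ℕ} {g : G} (hg : M.R c g)
    (e : alP P L c = true) : ∀ v ∈ M.cl L, ∃ c', M.R c' (v * g) ∧ P c' = true := by
  induction L generalizing c g with
  | nil =>
    intro v hv
    rw [cl_nil, mem_bot] at hv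
    exact ⟨c, by rwa [hv, one_mul], e⟩
  | cons a L ih =>
    intro v hv
    obtain ⟨α, h1, h2, h3⟩ := hE.cons
    have e' : (alP P L c && alP P L (kmul a c)) = true := e
    rw [Bool.and_eq_true] at e'
    rcases h3 v hv with h | h
    · have := ih hE.tail (Rm s h1 hg) e'.2 _ h
      rwa [mul_assoc, ← mul_assoc α, h2, one_mul] at this
    · exact ih hE.tail hg e'.1 _ h

theorem cks : ∀ i < 20, i ≠ 0 → ck i = true := fun i hi h0 => by
  interval_cases i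
  exacts [absurd rfl h0, ck1, ck2, ck3, ck4, ck5, ck6, ck7, ck8, ck9, ck10, ck11, ck12, ck13, ck14, ck15, ck16, ck17,
    ck18, ck19]

/-- a word as an expression -/
def ex (w : List ℕ) : Ex := w.foldr (fun a e => .m (.v a) e) (.v 20)
def wb : Ex := ex [2, 0, 2, 0, 2, 0, 2, 0, 1, 0, 2, 0, 1, 0, 2, 0, 2, 0, 2, 0, 1, 0, 1, 1, 0, 2, 0, 1, 0, 1, 0, 1, 0, 1]
def L3 : List ℕ := [cx, cy, cY, ct, ce, cd, cv]
noncomputable def eqc (a b : Ex) : Bool := Nat.beq (a.c kmul kone L3) (b.c kmul kone L3)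

theorem q1 : Nat.beq ((ex [0, 3]).c kmul kone eL) cd = true := by decide +kernel
theorem q2 : Nat.beq (kmul ((ex [0, 1, 2, 4, 5, 7]).c kmul kone eL) cx) cv = true := by decide +kernel
theorem q3 : eqc (.v 5) (.v 9) = false ∧ eqc wb (.v 9) = false ∧ eqc (.p wb 11) (.v 9) = true ∧
    eqc (.m wb (.v 5)) (.m (.v 5) wb) = true ∧ eqc (.m (.v 0) (.v 0)) (.v 9) = true ∧
    eqc (.m (.v 6) (.v 6)) (.v 9) = true := by decide +kernel
theorem q4 : eqc (.m (ex [3, 2, 3, 2]) (ex [1, 3, 1, 3])) (.v 9) = true ∧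
    eqc (.p (.m (.v 5) (.m (.m (ex [3, 2, 3, 2]) (.v 0)) (ex [1, 3, 1, 3]))) 29) (.v 9) = true := by decide +kernel
theorem q5 : eqc (.m (ex [3, 2, 0, 2, 3, 1, 3, 2]) (ex [1, 3, 2, 3, 1, 0, 1, 3])) (.v 9) = true ∧
    eqc (.p (.m (.v 5) (.m (.m (ex [3, 2, 0, 2, 3, 1, 3, 2]) (.v 5)) (ex [1, 3, 2, 3, 1, 0, 1, 3]))) 23) (.v 9) = true ∧
    eqc (.m (.v 5) (.m (.m (ex [3, 2, 0, 2, 3, 1, 3, 2]) (.v 5)) (ex [1, 3, 2, 3, 1, 0, 1, 3]))) (.v 9) = false := by
  decide +kernel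
theorem q6 : eqc (.m (ex [0, 2, 3, 2, 3]) (ex [3, 1, 3, 1, 0])) (.v 9) = true ∧
    eqc (.p (.m (.v 6) (.m (.m (ex [0, 2, 3, 2, 3]) (.v 4)) (ex [3, 1, 3, 1, 0]))) 11) (.v 9) = true := by
  decide +kernel
theorem q7 : Nat.beq (wb.c kmul kone L3) (wb.c kmul kone [cx, cy, cY]) = true := by decide +kernel
theorem q8 : (∀ c ∈ eL, Nat.beq (kmul c c) kone = true) ∧ (∀ c ∈ eL, ∀ d ∈ eL, Nat.beq (kmul c d) (kmul d c) = true) ∧
    nzs kmul Nat.beq kone eL = true := by decide +kernel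

end H21.Cmp
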