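import Cfsg.Agent.H21.Cmp3

/-! The duad involutions of `2^11 ≤ J4`: the facts used for the outer automorphism group. -/

set_option autoImplicit false
set_option maxRecDepth 100000

namespace H21.Cmp
open H29 H29.J4m H7.J4 Subgroup Cfsg Cfsg.Spor

theorem dc (g : J4) : ∃ i < 20, ∃ k ∈ closure {jx, jy, je}, ∃ h ∈ closure {jx, jy, je},
    g = k * H28.ev [jx, jy, jy⁻¹, jt] (H2.Cov.WL.getD i []) * h := by
  have h : ∀ r ∈ J4.extra, PresentedGroup.mk (coxRelators J4.edges ∪ {r | r ∈ J4.extra}) r = 1 :=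
    fun r hr => PresentedGroup.one_of_mem (Or.inr hr)
  simp only [J4.extra, List.forall_mem_cons, map_mul, map_pow, map_inv] at h
  obtain ⟨h1, h2, h3, h4, h5, h6, h7, h8, h9, h10, h11, h12, -⟩ := h
  obtain ⟨O, o1, -, o3⟩ := H2.Cov.cov h1 h2 h3 h4 h5 h6 h7 h8 h9 h10 h11 h12 H7.JD.j_top (closure {jx, jy, je})
    (subset_closure (Or.inl rfl)) (subset_closure (Or.inr (Or.inl rfl))) (subset_closure (Or.inr (Or.inr rfl)))
  obtain ⟨i, hi⟩ := o1 g
  exact ⟨i, i.2, o3 i g hi⟩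

theorem sqE {G : Type*} [Group G] {M : Model G} {L : List ℕ} (hE : EA M L) : ∀ g ∈ M.cl L, g * g = 1 := by
  have cm : ∀ g ∈ M.cl L, M.cl L ≤ centralizer {g} := fun g hg => Model.cl_le' fun c hc α hα => by
    obtain ⟨β, h1, -, h3⟩ := hE c hc
    rw [M.unique hα h1]
    exact mem_centralizer_singleton_iff.2 (mem_centralizer_singleton_iff.1 (Model.cl_le' (K := centralizer {β})
      (fun d hd γ hγ => mem_centralizer_singleton_iff.2 (h3 d hd γ hγ).eq.symm) hg)).symm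
  intro g hg
  induction hg using closure_induction with
  | mem g hg =>
    obtain ⟨c, hc, r⟩ := hg
    obtain ⟨β, h1, h2, -⟩ := hE c hc
    rwa [M.unique r h1]
  | one => exact one_mul 1
  | mul a b ha hb h1 h2 =>
    rw [mul_assoc, ← mul_assoc b, mem_centralizer_singleton_iff.1 (cm a ha hb), mul_assoc, h2, mul_one, h1]
  | inv a _ h => rw [← mul_inv_rev, h, inv_one]

theorem gen {G : Type*} [Group G] {M : Model G} (s : Std M) {x y t e : G}
    (h : List.Forall₂ M.R L1 [x, y, y⁻¹, t, e])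
    (dc : ∀ g : G, ∃ i < 20, ∃ k ∈ closure {x, y, e}, ∃ h ∈ closure {x, y, e},
      g = k * H28.ev [x, y, y⁻¹, t] (H2.Cov.WL.getD i []) * h) :
    ∃ (E : Subgroup G) (d b : G), Nat.card E = 2 ^ 11 ∧ (∀ g ∈ E, g * g = 1) ∧ e ∈ E ∧
    E ≤ closure {x, y, e} ∧ x ∈ normalizer (E : Set G) ∧ y ∈ normalizer (E : Set G) ∧ d ∈ E ∧ d ≠ 1 ∧
    (∀ g, g⁻¹ * d * g ∈ E → g ∈ closure {x, y, e}) ∧ ¬ IsConj d e ∧ b ∈ closure {x, y} ∧ orderOf b = 11 ∧
    Commute b d ∧ IsConj d x ∧ (∃ g, orderOf (d * (g * d * g⁻¹)) = 23) ∧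
    ∀ v ∈ E, (v * x) ^ 2 = 1 → (v * x * (x * y)) ^ 3 = 1 → v = 1 ∨ IsConj (v * x) e := by
  have rx : M.R cx x := R_getD h 0
  have ry : M.R cy y := R_getD h 1
  have rY : M.R cY y⁻¹ := R_getD h 2
  have rt : M.R ct t := R_getD h 3
  have re : M.R ce e := R_getD h 4
  have hK : ∀ c ∈ [cx, cy, cY, ce], M.In (closure {x, y, e}) c := by
    have y1 : y ∈ closure {x, y, e} := subset_closure (Or.inr (Or.inl rfl))
    simp only [List.forall_mem_cons]
    exact ⟨⟨_, subset_closure (Or.inl rfl), rx⟩, ⟨_, y1, ry⟩, ⟨_, inv_mem y1, rY⟩,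
      ⟨_, subset_closure (Or.inr (Or.inr rfl)), re⟩, by simp⟩
  have hv := s.map hK eK (L' := eL) (by decide +kernel)
  have hc := s.card hv q8.1 q8.2.1 q8.2.2
  have hE : EA M eL := EA.of hv (by rw [s.1, s.2.1, s.2.2]; exact q8.1) (by rw [s.1, s.2.2]; exact q8.2.1)
  have : Finite (M.cl eL) := Nat.finite_of_card_ne_zero (by rw [hc]; positivity)
  have hin : ∀ c ∈ eL, M.In (M.cl eL) c := fun c hc => let ⟨g, _, r⟩ := hv c hc; ⟨g, Model.mem_cl hc r, r⟩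
  have exE : ∀ w : Ex, M.In (M.cl eL) (w.c kmul kone eL) := fun w => by
    have := w.In hin
    rwa [s.1, s.2.1] at this
  obtain ⟨d, dE, rd⟩ := exE (ex [0, 3])
  rw [Nat.eq_of_beq_eq_true q1] at rd
  obtain ⟨v0, -, rv⟩ := exE (ex [0, 1, 2, 4, 5, 7])
  replace rv := Rm s rv rx
  rw [Nat.eq_of_beq_eq_true q2] at rv
  generalize v0 * x = v at rv
  have h3 : List.Forall₂ M.R L3 [x, y, y⁻¹, t, e, d, v] :=
    .cons rx (.cons ry (.cons rY (.cons rt (.cons re (.cons rd (.cons rv .nil))))))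
  have h0 : List.Forall₂ M.R L0 [x, y, y⁻¹, t] := .cons rx (.cons ry (.cons rY (.cons rt .nil)))
  have xx : x * x = 1 := s.eq h3 _ _ q3.2.2.2.2.1
  have xi : x⁻¹ = x := inv_eq_of_mul_eq_one_right xx
  have eE : e ∈ M.cl eL := Model.mem_cl List.mem_cons_self re
  have sq : ∀ g ∈ M.cl eL, g * g = 1 := sqE hE
  have ei : e⁻¹ = e := inv_eq_of_mul_eq_one_right (sq e eE)
  have nx' : x ∈ normalizer (M.cl eL : Set G) := s.norm hv rx (y := cx) (xi.symm ▸ rx) nx (by decide +kernel)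
  have ny' : y ∈ normalizer (M.cl eL : Set G) := s.norm hv ry rY ny (by decide +kernel)
  have hN : closure {x, y, e} ≤ normalizer (M.cl eL : Set G) := (closure_le _).2 (by
    rintro _ (rfl | rfl | rfl)
    exacts [nx', ny', le_normalizer eE])
  have hS : ∀ k ∈ closure {x, y, e}, ∀ g ∈ S M, k⁻¹ * g * k ∈ S M := fun k hk => by
    induction hk using closure_induction'' with
    | mem k hk =>
      rcases hk with rfl | rfl | rfl
      exacts [clo_t s (xi.symm ▸ rx) rx k1, clo_t s rY ry k2, clo_t s (ei.symm ▸ re) re k4]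
    | inv_mem k hk =>
      rw [inv_inv]
      rcases hk with rfl | rfl | rfl
      exacts [clo_t s rx (xi.symm ▸ rx) k1, clo_t s ry rY k3, clo_t s re (ei.symm ▸ re) k4]
    | one => simp
    | mul a b _ _ ha hb =>
      intro g hg
      have := hb _ (ha g hg)
      rwa [mul_inv_rev, ← mul_assoc, mul_assoc b⁻¹ a⁻¹, mul_assoc b⁻¹ _ a]
  have dS : d ∈ S M := inD_t rd k5.1
  have hD : ∀ g, g⁻¹ * d * g ∈ M.cl eL → g ∈ closure {x, y, e} := fun g hg => by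
    obtain ⟨i, hi, k, hk, l, hl, rfl⟩ := dc g
    by_cases h0' : i = 0
    · rw [h0']
      exact mul_mem (mul_mem hk (one_mem _)) hl
    · refine absurd ?_ (ck_t s h0 hE (cks i hi h0') _ (hS k hk d dS))
      have := (mem_normalizer_iff.1 (hN hl) _).1 hg
      generalize H28.ev [x, y, y⁻¹, t] (H2.Cov.WL.getD i []) = W at this ⊢
      convert this using 1
      group
  have hb : M.In (closure {x, y}) (wb.c kmul kone [cx, cy, cY]) := by
    have y1 : y ∈ closure {x, y} := subset_closure (Or.inr rfl)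
    have := wb.In (M := M) (K := closure {x, y}) (L := [cx, cy, cY]) (by
      simp only [List.forall_mem_cons]
      exact ⟨⟨_, subset_closure (Or.inl rfl), rx⟩, ⟨_, y1, ry⟩, ⟨_, inv_mem y1, rY⟩, by simp⟩)
    rwa [s.1, s.2.1] at this
  have d1 : d ≠ 1 := s.ne h3 _ _ q3.1
  have b1 : wb.g [x, y, y⁻¹, t, e, d, v] ≠ 1 := s.ne h3 _ _ q3.2.1
  have b2 : wb.g [x, y, y⁻¹, t, e, d, v] ^ 11 = 1 := s.eq h3 _ _ q3.2.2.1
  have b3 : wb.g [x, y, y⁻¹, t, e, d, v] * d = d * wb.g [x, y, y⁻¹, t, e, d, v] := s.eq h3 _ _ q3.2.2.2.1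
  have b4 : wb.g [x, y, y⁻¹, t, e, d, v] ∈ closure {x, y} := hb.mem (s.lit h3 wb q7)
  have vv : v * v = 1 := s.eq h3 _ _ q3.2.2.2.2.2
  have iv : ∀ a b : Ex, eqc (.m a b) (.v 9) = true →
      b.g [x, y, y⁻¹, t, e, d, v] = (a.g [x, y, y⁻¹, t, e, d, v])⁻¹ := fun a b h =>
    eq_inv_of_mul_eq_one_right (s.eq h3 _ _ h)
  have c1 : IsConj d x := conj_odd (sq d dE) xx 14 (by rw [← iv _ _ q4.1]; exact s.eq h3 _ _ q4.2)
  have c2 : IsConj v e := conj_odd vv (sq e eE) 5 (by rw [← iv _ _ q6.1]; exact s.eq h3 _ _ q6.2)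
  have c3 : ∃ g, orderOf (d * (g * d * g⁻¹)) = 23 := ⟨_, orderOf_eq_prime (hp := ⟨by norm_num⟩)
    (by rw [← iv _ _ q5.1]; exact s.eq h3 _ _ q5.2.1) (by rw [← iv _ _ q5.1]; exact s.ne h3 _ _ q5.2.2)⟩
  refine ⟨M.cl eL, d, _, hc, sq, eE, Model.cl_le hv, nx', ny', dE, d1, hD, fun hc => ?_, b4,
    orderOf_eq_prime (hp := ⟨by norm_num⟩) b2 b1, b3, c1, c3, fun w hw w2 w3 => ?_⟩
  · obtain ⟨c, hc⟩ := isConj_iff.1 hc
    have := hS _ (hD c⁻¹ (by rwa [inv_inv, hc])) d dS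
    rw [inv_inv, hc] at this
    exact inD_f s re k5.2 this
  · have k7 : alP (tst (kmul cx cy)) eL cx = true := by
      have := k6
      rwa [force_eq] at this
    obtain ⟨c, r, p⟩ := alP_t s hE rx k7 w hw
    have u := Rm s r (Rm s rx ry)
    simp only [tst, force_eq, Bool.or_eq_true, Bool.not_eq_true'] at p
    rw [(Req s (Rm s r r) (R1 s)).2 (by rwa [← pow_two]), (Req s (Rcj s u u u) (R1 s)).2 (by rwa [← pow_three'])] at p
    rcases p with (p | p) | p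
    · simp at p
    · exact Or.inl (mul_eq_right.1 ((Req s r rx).1 p))
    · exact Or.inr ((Req s r rv).1 p ▸ c2)

theorem comp : ∃ (E : Subgroup J4) (d b : J4), Nat.card E = 2 ^ 11 ∧ (∀ g ∈ E, g * g = 1) ∧ je ∈ E ∧ E ≤ closure {jx, jy, je} ∧ jx ∈ normalizer (E : Set J4) ∧ jy ∈ normalizer (E : Set J4) ∧ d ∈ E ∧ d ≠ 1 ∧ (∀ g, g⁻¹ * d * g ∈ E → g ∈ closure {jx, jy, je}) ∧ ¬ IsConj d je ∧ b ∈ closure {jx, jy} ∧ orderOf b = 11 ∧ Commute b d ∧ IsConj d jx ∧ (∃ g, orderOf (d * (g * d * g⁻¹)) = 23) ∧ ∀ v ∈ E, (v * jx) ^ 2 = 1 → (v * jx * (jx * jy)) ^ 3 = 1 → v = 1 ∨ IsConj (v * jx) je := by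
  obtain ⟨ρ, hρ, h⟩ := j4_model
  exact gen ⟨rfl, rfl, rfl⟩ h dc

end H21.Cmp
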