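/-
Faithful irreducible characters of degree `p - 2`: identification of the group.
-/
import Cfsg.Agent.H21.Dp3
import Cfsg.Agent.H2.Ch1
import Cfsg.Agent.S2202
import Cfsg.Agent.H22.Linear

set_option autoImplicit false
set_option linter.unusedSectionVars false
open H17 Cfsg H15 CF Subgroup
open H20 (cent)
open H19 (IsPElt ppart rpart)
open scoped Classical ComplexConjugate commutatorElement

namespace H21

variable {G : Type*} [Group G] [Finite G] {p : ℕ} [hp : Fact p.Prime] {D : Subgroup G}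
  {ζ χ l m : G → ℂ} {g u v w y z τ : G}

theorem Res_irr_of_sup_center {H : Subgroup G} (h : center G ⊔ H = ⊤) (hχ : IsIrrCharacter G χ) :
    Res (H : Set G) χ ∈ Irr H := by
  obtain ⟨lam, hlam⟩ := hχ.exists_linear_center
  have h1 := mem_Irr_top.2 hχ
  refine ((irr_char h1).Res le_top).mem_Irr ?_
  rw [dot_Res_left, dot_Res_right, ← dot_irr_self h1, dot_eq_dot_one, dot_eq_dot_one (H := ⊤),
    ← Res_one_of_le (le_top (a := H)), dot_Res_right]
  refine dot_of_sup (le_top.trans (normalizer_eq_top _).ge) h (fun z hz x => ?_) (by simp [cfker_one])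
  simp only [Pi.mul_apply, Pi.star_apply, hlam ⟨z, hz⟩ x, RCLike.star_def, map_mul]
  have := Complex.mul_conj' (lam ⟨z, hz⟩)
  rw [linear_norm_eq_one, Complex.ofReal_one, one_pow] at this
  linear_combination (χ x * conj (χ x)) * this

theorem perfect_of_sup (h : center G ⊔ commutator G = ⊤) : commutator (commutator G) = ⊤ := by
  rw [← map_subtype_inj, _root_.commutator_def (commutator G), map_commutator, ← MonoidHom.range_eq_map,
    range_subtype]
  refine le_antisymm (commutator_le_left _ _) ?_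
  nth_rewrite 1 [_root_.commutator_def]
  refine commutator_le.2 fun a _ b _ => ?_
  obtain ⟨y, hy, c, hc, rfl⟩ := mem_sup_of_normal_left.1 (h.ge (mem_top a))
  obtain ⟨z, hz, d, hd, rfl⟩ := mem_sup_of_normal_left.1 (h.ge (mem_top b))
  convert commutator_mem_commutator hc hd using 1
  have h1 : ∀ g, y * g * y⁻¹ = g := fun g => by rw [← mem_center_iff.1 hy g, mul_inv_cancel_right]
  have h2 : ∀ g, z * g * z⁻¹ = g := fun g => by rw [← mem_center_iff.1 hz g, mul_inv_cancel_right]
  calc ⁅y * c, z * d⁆ = y * (c * (z * (d * c⁻¹ * (y⁻¹ * d⁻¹ * y) * y⁻¹) * z⁻¹)) := by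
        rw [commutatorElement_def]; group
    _ = ⁅c, d⁆ := by
        rw [h2, show y⁻¹ * d⁻¹ * y = d⁻¹ by rw [← h1 d⁻¹]; nth_rewrite 2 [h1 d⁻¹]; group,
          ← h1 ⁅c, d⁆, commutatorElement_def]; group

namespace Hyp
variable (h : Hyp p ζ)
include h

theorem exists_D : ∃ D : Subgroup G, Nat.card D = p := by
  obtain ⟨x, hx⟩ := exists_prime_orderOf_dvd_card' p h.dvd
  exact ⟨zpowers x, by rw [Nat.card_zpowers, hx]⟩

theorem sub (M : Subgroup G) [hM : M.Normal] (hD : Nat.card D = p) (hDM : D ≤ M)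
    (hi : Res (M : Set G) ζ ∈ Irr M) : Hyp p (res M ζ) := by
  refine ⟨h.hp, hD ▸ card_dvd_of_le hDM, fun e => h.sq (e.trans (card_subgroup_dvd_card M)),
    fun E hE hn => ?_, by simpa [res_Res] using irr_res hi,
    fun g hg => Subtype.ext (h.faith g hg), h.deg⟩
  have h1 : Nat.card (E.map M.subtype) = p := by rwa [card_map_of_injective M.subtype_injective]
  have h2 := (h.syl h1).of_le (map_subtype_le E) le_top
  refine h.nn _ h1 (normalizer_eq_top_iff.1 (eq_top_iff.2 fun g _ => ?_))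
  obtain ⟨a, ha, b, hb, rfl⟩ := h2.frattini' le_top (le_top.trans (normalizer_eq_top M).ge) (mem_top g)
  exact mul_mem (le_normalizer_map M.subtype ⟨⟨a, ha⟩, (normalizer_eq_top E).ge (mem_top _), rfl⟩) hb.2

theorem exists_n (hD : Nat.card D = p) : ∃ n ∈ H20.nrm D, n ∉ cent D := by
  by_contra h7
  push Not at h7
  have := (h.stepA hD).1
  rw [relIndex_eq_one.2 h7] at this
  omega

theorem le_comm (hD : Nat.card D = p) : D ≤ commutator G := by
  obtain ⟨n, hn, hn'⟩ := h.exists_n hD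
  obtain ⟨w, hw, h1⟩ : ∃ w ∈ D, ¬ w * n = n * w := by
    by_contra h1
    push Not at h1
    exact hn' h1
  rw [← H20.zpowers_eq_of_card hD (w := ⁅n, w⁆)
    (mul_mem ((mem_normalizer_iff.1 hn w).1 hw) (inv_mem hw))
    fun e => h1 (commutatorElement_eq_one_iff_mul_comm.1 e).symm, zpowers_le]
  exact commutator_mem_commutator (mem_top _) (mem_top _)

theorem cent_le (hD : Nat.card D = p) : cent D ≤ center G ⊔ D := fun c hc => by
  have m1 := zpowers_le.2 hc (H19.isPPart_mem_zpowers (H19.isPPart_ppart (p := p) c))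
  rw [← H19.ppart_mul_rpart (p := p) c]
  exact mul_mem (mem_sup_right ((h.syl hD).le_of_le_NN (H19.ppart_isPElt c).isPGroup_zpowers le_top
    (zpowers_le.2 (centralizer_le_normalizer _ m1)) (mem_zpowers _)))
    (mem_sup_left ((h.stepA hD).2.1 _ (mul_mem (inv_mem m1) hc) (H19.rpart_reg c)))

theorem odd_deg : Odd (p - 2) := by
  have := h.hp
  have := hp.out.eq_two_or_odd
  exact Nat.odd_iff.2 (by omega)

theorem sup_eq : center G ⊔ commutator G = ⊤ := by
  obtain ⟨D, hD⟩ := h.exists_D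
  set M := center G ⊔ commutator G
  haveI : M.Normal := sup_normal _ _
  have h1 : D ≤ M := (h.le_comm hD).trans le_sup_right
  have h2 : cent D ≤ M := (h.cent_le hD).trans (sup_le le_sup_left h1)
  have h3 := (h.stepA hD).1
  have h4 : M.relIndex ⊤ = M.relIndex (H20.nrm D) := H10.relIndex_eq_of_mul le_top fun g _ => by
    obtain ⟨b, hb, a, ha, e⟩ := ((h.syl hD).of_le h1 le_top).frattini'' le_top
      (le_top.trans (normalizer_eq_top M).ge) (mem_top g)
    exact ⟨b, hb.2, a, ha, e⟩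
  have h5 := relIndex_dvd_of_le_left (H20.nrm D) h2
  rw [h3, ← h4] at h5
  rcases (Nat.dvd_prime Nat.prime_two).1 h5 with e | e
  · exact top_le_iff.1 (relIndex_eq_one.1 e)
  have h6 := h.sub M hD h1 (Res_irr_of_coprime le_top (le_top.trans (normalizer_eq_top M).ge)
    (mem_Irr_top.2 h.irr) (by rw [e, charDegree_eq_of_one h.deg]; exact Nat.coprime_two_right.2 h.odd_deg))
  obtain ⟨n, hn, hn'⟩ := h6.exists_n (D := D.subgroupOf M) (by
    rwa [Nat.card_congr (subgroupOfEquivOfLe h1).toEquiv])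
  have h7 : (n : G) ∈ H20.nrm D := by
    have := le_normalizer_map M.subtype ⟨n, hn, rfl⟩
    rwa [subgroupOf_map_subtype, inf_eq_left.2 h1] at this
  have h8 := relIndex_mul_relIndex (cent D) (M ⊓ H20.nrm D) (H20.nrm D)
    (le_inf h2 (centralizer_le_normalizer _)) inf_le_right
  rw [h3, inf_relIndex_right, ← h4, e] at h8
  have h9 : M ⊓ H20.nrm D ≤ cent D := relIndex_eq_one.1 (by omega)
  exact (hn' fun x hx => Subtype.ext (h9 ⟨n.2, h7⟩ x hx)).elim

theorem odd_center (hG : commutator G = ⊤) : Odd (Nat.card (center G)) := by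
  rw [← Nat.not_even_iff_odd, even_iff_two_dvd]
  intro e
  obtain ⟨z, hz⟩ := exists_prime_orderOf_dvd_card' 2 e
  obtain ⟨lam, hlam⟩ := h.irr.exists_linear_center
  have h1 := H2.ch_det_prod hG h.irr.isCharacter (center G).subtype (n := p - 2) (fun _ => lam)
    (fun x => by simpa [h.deg, mul_comm] using hlam x 1) z
  rw [Finset.prod_const, Finset.card_univ, Fintype.card_fin] at h1
  have h2 : lam z ^ 2 = 1 := by rw [← map_pow, show z ^ 2 = 1 from hz ▸ pow_orderOf_eq_one z, map_one]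
  obtain ⟨k, hk⟩ := h.odd_deg
  rw [hk, pow_succ, pow_mul, h2, one_pow, one_mul] at h1
  have h3 := h.faith z (by simpa [h1] using hlam z 1)
  rw [show z = 1 from Subtype.ext h3, orderOf_one] at hz
  omega

theorem perfect_case (hG : commutator G = ⊤) :
    ∃ (a : ℕ) (F : Type) (_ : Field F) (_ : Fintype F), p = 2 ^ a + 1 ∧ Fintype.card F = 2 ^ a ∧
      center G = ⊥ ∧ Nonempty (G ≃* Matrix.SpecialLinearGroup (Fin 2) F) := by
  obtain ⟨D, hD⟩ := h.exists_D
  obtain ⟨h1, h2, l, h3, h4, h5⟩ := h.stepA hD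
  have H : DP p ζ D l := ⟨h, hD, h2, h3, h4, h5, h.odd_center hG⟩
  have p5 := h.hp
  have ev : 2 ∣ Nat.card G := h1 ▸ (relIndex_dvd_card _ _).trans (card_subgroup_dvd_card _)
  obtain ⟨T⟩ : Nonempty (Sylow 2 G) := inferInstance
  rcases Cfsg.Agent.S2202.result (even_iff_two_dvd.2 ev) fun t ht => H.cent_comm ht with
    e | e | ⟨F, _, _, A, _, _, hF, -, ⟨φ⟩⟩
  · have h6 : (Nat.card G).minFac = 2 := (Nat.minFac_eq_two_iff _).2 ev
    have h7 := MonoidHom.not_dvd_card_ker_transferSylow T ((e T).normalizer_le_centralizer h6)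
    letI : CommGroup T := (e T).commGroup
    rw [top_le_iff.1 (hG.ge.trans (Abelianization.commutator_subset_ker _)), card_top] at h7
    exact (h7 ev).elim
  · obtain ⟨n, hn, hn'⟩ := h.exists_n hD
    have m1 := zpowers_le.2 hn (H19.isPPart_mem_zpowers (H19.isPPart_ppart (p := 2) n))
    have m2 : ppart 2 n ∈ (T : Subgroup G) := (H10.isSylowIn_top T).le_of_le_NN
      (H19.ppart_isPElt n).isPGroup_zpowers le_top
      (le_top.trans (normalizer_eq_top_iff.2 (e T)).ge) (mem_zpowers _)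
    have m3 : ppart 2 n ∈ cent D := fun w hw => by
      refine (commutatorElement_eq_one_iff_mul_comm.1 ?_).symm
      have a : ⁅ppart 2 n, w⁆ ∈ D := mul_mem ((mem_normalizer_iff.1 m1 w).1 hw) (inv_mem hw)
      have b : ⁅ppart 2 n, w⁆ ∈ (T : Subgroup G) := by
        rw [commutatorElement_def, mul_assoc, mul_assoc, ← mul_assoc w]
        exact mul_mem m2 ((e T).conj_mem _ (inv_mem m2) w)
      refine (H19.isPElt_of_mem T.isPGroup' b).eq_one fun c => ?_
      have := (Nat.prime_dvd_prime_iff_eq Nat.prime_two hp.out).1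
        (c.trans (hD ▸ D.orderOf_dvd_natCard a))
      omega
    have m4 : rpart 2 n ∈ H20.nrm D := mul_mem (inv_mem m1) hn
    have m5 : rpart 2 n ^ 2 ∈ cent D := by
      rw [pow_two]
      exact mul_self_mem_of_index_two (H := (cent D).subgroupOf (H20.nrm D)) h1 ⟨_, m4⟩
    refine (hn' ?_).elim
    rw [← H19.ppart_mul_rpart (p := 2) n]
    exact mul_mem m3 (zpowers_le.2 m5 (mem_zpowers_pow_iff.2
      ((Nat.Prime.coprime_iff_not_dvd Nat.prime_two).2 (H19.rpart_reg n))))
  have hA : ∀ g, (φ g).2 = 1 := fun g =>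
    (hG.ge.trans (Abelianization.commutator_subset_ker ((MonoidHom.snd _ A).comp φ.toMonoidHom)))
      (mem_top g)
  haveI : Unique A := ⟨⟨1⟩, fun a => by simpa using hA (φ.symm (1, a))⟩
  have ψ := φ.trans MulEquiv.prodUnique
  obtain ⟨a, -, ha⟩ := FiniteField.card F 2
  have hc := Nat.card_congr ψ.toEquiv
  rw [H22.card_SL_two, ha] at hc
  refine ⟨a, F, _, _, ?_, ha, eq_bot_iff.2 fun z hz => ?_, ⟨ψ⟩⟩
  · obtain ⟨R, hR⟩ := Sylow.exists_subgroup_card_pow_prime 2 (G := G) (hc ▸ dvd_mul_right _ _)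
    haveI := Fintype.ofFinite R
    obtain ⟨j, hj⟩ := H2.ch_sum_sub h.irr.isCharacter R
    rw [H2.ch_sum_const (fun y : R => ζ y) (-1) fun y hy => H.inv_val (orderOf_eq_prime
      ((pow_two _).trans (H.sq_one (H19.isPElt_of_mem (IsPGroup.of_card hR) y.2)))
      fun e => hy (Subtype.ext e)), hR, OneMemClass.coe_one, h.deg, H.cast_deg] at hj
    have h6 : (p : ℂ) = 2 ^ (a : ℕ) * (j + 1) + 1 := by push_cast at hj; linear_combination hj
    have h7 : p = 2 ^ (a : ℕ) * (j + 1) + 1 := by exact_mod_cast h6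
    have h8 := h.dvd
    have h9 : 1 < 2 ^ (a : ℕ) := Nat.one_lt_two_pow a.ne_zero
    rw [hc, show (2 ^ (a : ℕ)) ^ 2 - 1 = (2 ^ (a : ℕ) + 1) * (2 ^ (a : ℕ) - 1) from Nat.sq_sub_sq _ 1,
      hp.out.dvd_mul, hp.out.dvd_mul] at h8
    have h10 : p ≤ 2 ^ (a : ℕ) + 1 := by
      rcases h8 with e | e | e <;> have := Nat.le_of_dvd (by omega) e <;> omega
    have : 2 ^ (a : ℕ) * 1 ≤ 2 ^ (a : ℕ) * (j + 1) := Nat.mul_le_mul_left _ (by omega)
    omega
  · have h6 : ψ z ∈ center _ := mem_center_iff.2 fun g => by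
      obtain ⟨g, rfl⟩ := ψ.surjective g
      rw [← map_mul, mem_center_iff.1 hz g, map_mul]
    rw [H8.center_sl_two (CharP.cast_eq_zero F 2), mem_bot, map_eq_one_iff _ ψ.injective] at h6
    exact h6

theorem main : ∃ (a : ℕ) (F : Type) (_ : Field F) (_ : Fintype F), p = 2 ^ a + 1 ∧
    Fintype.card F = 2 ^ a ∧ Nonempty (G ≃* Matrix.SpecialLinearGroup (Fin 2) F × center G) := by
  obtain ⟨D, hD⟩ := h.exists_D
  obtain ⟨a, F, _, _, h1, h2, h3, ⟨ψ⟩⟩ := (h.sub _ hD (h.le_comm hD)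
    (Res_irr_of_sup_center h.sup_eq h.irr)).perfect_case (perfect_of_sup h.sup_eq)
  refine ⟨a, F, _, _, h1, h2, ⟨(MulEquiv.ofBijective ((commutator G).subtype.noncommCoprod
    (center G).subtype fun x y => mem_center_iff.1 y.2 x) ⟨?_, ?_⟩).symm.trans
    (ψ.prodCongr (MulEquiv.refl _))⟩⟩
  · refine (MonoidHom.noncommCoprod_injective _ _ _).2 ⟨subtype_injective _, subtype_injective _, ?_⟩
    rw [range_subtype, range_subtype, disjoint_def]
    intro x hx hz
    have h4 : (⟨x, hx⟩ : commutator G) ∈ center _ :=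
      mem_center_iff.2 fun g => Subtype.ext (mem_center_iff.1 hz g)
    rw [h3] at h4
    exact congrArg Subtype.val (mem_bot.1 h4)
  · refine MonoidHom.range_eq_top.1 ((MonoidHom.noncommCoprod_range _ _ _).trans ?_)
    rw [range_subtype, range_subtype, sup_comm, h.sup_eq]

end Hyp

end H21
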