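/-
More on the cyclic case of the Glauberman correspondence; characters of degree prime to a
coprime complement.
-/
import Cfsg.Agent.H21.GBr
import Cfsg.Agent.H17.PGen

set_option autoImplicit false
set_option linter.unusedSectionVars false
open H17 Cfsg H15 CF
open scoped ComplexConjugate

namespace H21

variable {G : Type*} [Group G] [Finite G] {K L S T C D N A : Subgroup G} {p : ℕ}

theorem exists_pow_of_zpowers_eq {s t : G} (h : Subgroup.zpowers t = Subgroup.zpowers s) :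
    ∃ k : ℕ, k.Coprime (orderOf s) ∧ s ^ k = t := by
  obtain ⟨k, rfl⟩ := mem_powers_iff_mem_zpowers.2 (h ▸ Subgroup.mem_zpowers t)
  have := H8.orderOf_eq_of_zpowers_eq h
  rw [orderOf_pow, Nat.div_eq_self, or_iff_right (orderOf_pos s).ne'] at this
  exact ⟨k, Nat.Coprime.symm this, rfl⟩

theorem Canon.exists_sign_gen (hn : S ≤ 𝒩(K)) (hc : (Nat.card K).Coprime (Nat.card S)) {ξ : G → ℂ}
    (h : Canon K (K ⊔ S) ξ) (hS : IsCyclic S) : ∃ ε : ℤ, (ε = 1 ∨ ε = -1) ∧ ∃ β ∈ Irr (K ⊓ 𝒞(S)),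
      ∀ s, Subgroup.zpowers s = S → shf (K ⊓ 𝒞(S)) ξ s = (ε : ℂ) • β := by
  obtain ⟨s, hs⟩ := H16.exists_gen hS
  have hsS : s ∈ S := hs ▸ Subgroup.mem_zpowers s
  obtain ⟨ε, h1, β, h2, h3⟩ := h.exists_sign hn hc hsS (by rw [← hs, cent_zpowers]) inf_le_right
  refine ⟨ε, h1, β, h2, fun t ht => ?_⟩
  obtain ⟨k, h4, rfl⟩ := exists_pow_of_zpowers_eq (ht.trans hs.symm)
  rw [h.shf_pow hn hc le_rfl hsS (by rwa [← hs, H16.card_zpowers]), h3]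

theorem sign_smul_inj {ε ε' : ℤ} (h : ε = 1 ∨ ε = -1) (h' : ε' = 1 ∨ ε' = -1) {β β' : G → ℂ}
    (hβ : β ∈ Irr C) (hβ' : β' ∈ Irr C) (e : (ε : ℂ) • β = (ε' : ℂ) • β') : β = β' ∧ ε = ε' := by
  have h1 := irr_ne_neg hβ hβ'
  have h2 := irr_ne_neg hβ' hβ
  rcases h with rfl | rfl <;> rcases h' with rfl | rfl <;> simp_all [neg_eq_iff_eq_neg]

theorem shf_eq_iff {ξ : G → ℂ} {s : G} {β : C → ℂ} {a : ℂ} :
    (∀ c : C, ξ (c * s) = a * β c) ↔ shf C ξ s = a • extendByZero C β := by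
  constructor
  · intro h
    funext x
    by_cases hx : x ∈ C
    · rw [shf_apply hx, Pi.smul_apply, ext0_of_mem _ hx, smul_eq_mul, ← h]
    · rw [shf, Res_of_not_mem _ hx, Pi.smul_apply, ext0_of_not_mem _ hx, smul_zero]
  · intro h c
    rw [← shf_apply (ξ := ξ) c.2, h, Pi.smul_apply, extendByZero_coe, smul_eq_mul]

theorem Res_eq_ext0_iff {ξ : G → ℂ} {χ : K → ℂ} :
    (∀ g : K, ξ g = χ g) ↔ Res (K : Set G) ξ = extendByZero K χ := by
  rw [← shf_one, ← one_smul ℂ (extendByZero K χ), ← shf_eq_iff]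
  simp

theorem detOrder_res_top {ξ : G → ℂ} (h : IsCharacter G ξ) : detOrder (res ⊤ ξ) = detOrder ξ :=
  detOrder_equiv h Subgroup.topEquiv

theorem canon_top (hn : S ≤ 𝒩(K)) (hc : (Nat.card K).Coprime (Nat.card S)) (htop : K ⊔ S = ⊤)
    {ξ : G → ℂ} : Canon K (K ⊔ S) ξ ↔ IsIrrCharacter G ξ ∧ Res (K : Set G) ξ ∈ Irr K ∧
      (detOrder ξ).Coprime (Nat.card S) := by
  rw [Canon, relIndex_compl (compl_of_coprime hn hc), htop, mem_Irr_top]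
  refine and_congr_right fun h => ?_
  rw [detOrder_res_top h.isCharacter, Nat.coprime_comm]

theorem Canon.dot_ne (hn : S ≤ 𝒩(K)) (hc : (Nat.card K).Coprime (Nat.card S)) {ξ β : G → ℂ}
    (h : Canon K (K ⊔ S) ξ) (hC : C ≤ K ⊓ 𝒞(S)) (hβ : β ∈ Irr C) {s : G} (hs : s ∈ S)
    (h0 : dot C (shf C ξ s) β ≠ 0) : dot C ξ β ≠ 0 := by
  rw [← cmp_one (S := S)]
  intro e
  rw [← cmp_apply hs, (h.isChar_cmp hn hc hC (irr_char hβ)).eq_zero_of_one e] at h0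
  exact h0 rfl

theorem small_zero_iff_aux {ψ : G → ℂ} (hψ : ψ ∈ vchar S)
    (h : ∀ x ∈ S, x ≠ 1 → ψ x = 0 ∨ ψ x = 1 ∨ ψ x = -1) (hp : p.Prime) {u y : G} (hu : u ∈ S)
    (hy : y ∈ S) {k : ℕ} (hk : u ^ p ^ k = 1) (hc : u * y = y * u) (h1 : y ≠ 1) (h2 : u * y ≠ 1) :
    ψ (u * y) = 0 ↔ ψ y = 0 := by
  have key : ∀ x ∈ S, x ≠ 1 → ∃ n : ℤ, ψ x = n ∧ (n = 0 ∨ n = 1 ∨ n = -1) := fun x hx hx1 => by
    rcases h x hx hx1 with e | e | e
    exacts [⟨0, by simp [e]⟩, ⟨1, by simp [e]⟩, ⟨-1, by simp [e]⟩]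
  obtain ⟨a, ha, ha'⟩ := key _ (mul_mem hu hy) h2
  obtain ⟨b, hb, hb'⟩ := key _ hy h1
  have hd := vchar_mod_pelt hψ hp hu hy hk hc ha hb
  have h3 := not_dvd_sign hp (n := 0) (Or.inl rfl)
  have h4 := not_dvd_sign hp (n := 0) (Or.inr rfl)
  rw [ha, hb]
  rcases ha' with rfl | rfl | rfl <;> rcases hb' with rfl | rfl | rfl <;> simp_all

theorem small_zero_iff_cop {ψ : G → ℂ} (hψ : ψ ∈ vchar S) (hS : IsMulCommutative S)
    (h : ∀ x ∈ S, x ≠ 1 → ψ x = 0 ∨ ψ x = 1 ∨ ψ x = -1) {z : G} (hz : z ∈ S) (hz1 : z ≠ 1) (n : ℕ) :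
    ∀ w ∈ S, orderOf w = n → (orderOf z).Coprime n → (ψ (w * z) = 0 ↔ ψ z = 0) := by
  induction n using Nat.strong_induction_on with | _ n ih => ?_
  intro w hw hn hc
  have hcm : ∀ a ∈ S, ∀ b ∈ S, a * b = b * a := fun a ha b hb => mem_cent.1 (le_cent_self hS hb) a ha
  have hne : ∀ w : G, (orderOf z).Coprime (orderOf w) → w * z ≠ 1 := fun w hc e => by
    rw [eq_inv_of_mul_eq_one_left e, orderOf_inv, Nat.coprime_self, orderOf_eq_one_iff] at hc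
    exact hz1 hc
  by_cases h1 : n = 1
  · rw [orderOf_eq_one_iff.1 (hn.trans h1), one_mul]
  obtain ⟨p, hp, hpn⟩ := Nat.exists_prime_and_dvd h1
  have hn0 : n ≠ 0 := hn ▸ (orderOf_pos w).ne'
  obtain ⟨k, m, hm, e⟩ := Nat.exists_eq_pow_mul_and_not_dvd hn0 p hp.ne_one
  obtain ⟨u, hu, v, hv, a1, a2, -, rfl⟩ := H8.exists_coprime_decomp
    ((hp.coprime_iff_not_dvd.2 hm).pow_left k) (g := w) (by rw [← e, ← hn, pow_orderOf_eq_one])
  have hu := Subgroup.zpowers_le.2 hw hu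
  have hv := Subgroup.zpowers_le.2 hw hv
  have hd : orderOf v ∣ m := orderOf_dvd_of_pow_eq_one a2
  have hmn : m ∣ n := e ▸ dvd_mul_left _ _
  have hc' := hc.coprime_dvd_right (hd.trans hmn)
  rw [mul_assoc, small_zero_iff_aux hψ h hp hu (mul_mem hv hz) a1 (hcm _ hu _ (mul_mem hv hz))
    (hne v hc') (mul_assoc u v z ▸ hne _ (hn ▸ hc))]
  refine ih _ (lt_of_le_of_ne (Nat.le_of_dvd (Nat.pos_of_ne_zero hn0) (hd.trans hmn)) fun e' => ?_)
    v hv rfl hc'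
  exact hm (hpn.trans (e' ▸ hd))

theorem small_zero_iff {ψ : G → ℂ} (hψ : ψ ∈ vchar S) (hS : IsMulCommutative S)
    (h : ∀ x ∈ S, x ≠ 1 → ψ x = 0 ∨ ψ x = 1 ∨ ψ x = -1) {x y : G} (hx : x ∈ S) (hy : y ∈ S)
    (hp : p.Prime) (h1 : p ∣ orderOf x) (h2 : p ∣ orderOf y) : ψ x = 0 ↔ ψ y = 0 := by
  have key : ∀ x ∈ S, p ∣ orderOf x → ∃ u ∈ S, u ≠ 1 ∧ (∃ k, u ^ p ^ k = 1) ∧ (ψ x = 0 ↔ ψ u = 0) := by
    intro x hx hd
    obtain ⟨k, m, hm, e⟩ := Nat.exists_eq_pow_mul_and_not_dvd (orderOf_pos x).ne' p hp.ne_one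
    have hc := (hp.coprime_iff_not_dvd.2 hm).pow_left k
    obtain ⟨u, hu, v, hv, a1, a2, a3, rfl⟩ := H8.exists_coprime_decomp hc (g := x)
      (by rw [← e, pow_orderOf_eq_one])
    have hu := Subgroup.zpowers_le.2 hx hu
    have hv := Subgroup.zpowers_le.2 hx hv
    have hu1 : u ≠ 1 := by
      rintro rfl
      exact hm (hd.trans (by simpa using orderOf_dvd_of_pow_eq_one a2))
    refine ⟨u, hu, hu1, ⟨k, a1⟩, ?_⟩
    rw [a3.eq]
    exact small_zero_iff_cop hψ hS h hu hu1 _ v hv rfl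
      ((hc.coprime_dvd_left (orderOf_dvd_of_pow_eq_one a1)).coprime_dvd_right
        (orderOf_dvd_of_pow_eq_one a2))
  obtain ⟨u, a1, a2, ⟨k, a3⟩, a4⟩ := key x hx h1
  obtain ⟨v, b1, b2, ⟨l, b3⟩, b4⟩ := key y hy h2
  have hcm : Commute u v := mem_cent.1 (le_cent_self hS b1) u a1
  have := small_zero_iff_aux hψ h hp (mul_mem a1 (inv_mem b1)) b1 (k := k + l)
    (by rw [hcm.inv_right.mul_pow, inv_pow, pow_add, pow_mul, a3, one_pow, mul_comm (p ^ k), pow_mul, b3]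
        simp) (hcm.mul_left (Commute.refl v).inv_left) b2 (by simpa using a2)
  rw [a4, b4, ← this, inv_mul_cancel_right]

theorem exists_reg_of_vanish {ψ : G → ℂ} (hψ : IsChar S ψ) (h : ∀ x ∈ S, x ≠ 1 → ψ x = 0) :
    ∃ n : ℕ, ψ 1 = Nat.card S * n := by
  obtain ⟨n, hn⟩ := hψ.dot_nat isChar_one
  rw [dot_one_right, Finset.sum_eq_single_of_mem 1 (mem_fs.2 S.one_mem)
    fun x hx => h x (mem_fs.1 hx), inv_mul_eq_iff_eq_mul₀ (card_ne S)] at hn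
  exact ⟨n, hn⟩

/-- a character of an abelian group with values `± 1` away from the identity -/
theorem exists_reg_add_lin {ψ : G → ℂ} (hψ : IsChar S ψ) (hS : IsMulCommutative S) (h1 : S ≠ ⊥)
    (h : ∀ x ∈ S, x ≠ 1 → ‖ψ x‖ = 1) : ∃ ε : ℤ, (ε = 1 ∨ ε = -1) ∧ ∃ μ, IsLin S μ ∧ ∃ n : ℕ,
      ψ 1 = Nat.card S * n + ε ∧ ∀ x, x ≠ 1 → ψ x = ε * μ x := by
  obtain ⟨d, hd⟩ := hψ.exists_nat_one
  obtain ⟨N, hN⟩ : ∃ N : ℤ, N = Nat.card S := ⟨_, rfl⟩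
  have hN2 : 2 ≤ N := by
    have := (Subgroup.one_lt_card_iff_ne_bot S).2 h1
    omega
  obtain ⟨n, r, e, hr⟩ : ∃ n r : ℤ, d = N * n + r ∧ 2 * |r| ≤ N := by
    have a1 := Int.emod_add_mul_ediv d N
    have a2 := Int.emod_nonneg d (by omega : N ≠ 0)
    have a3 := Int.emod_lt_of_pos d (by omega : 0 < N)
    by_cases h : 2 * (d % N) ≤ N
    · exact ⟨d / N, d % N, by linarith, by rwa [abs_of_nonneg a2]⟩
    · exact ⟨d / N + 1, d % N - N, by linarith, by rw [abs_of_neg (by omega)]; omega⟩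
  have hφ : ψ - (n : ℂ) • reg S ∈ vchar S := sub_mem hψ.vchar (intCast_smul_mem (isChar_reg S).vchar _)
  have hφ1 : (ψ - (n : ℂ) • reg S) 1 = r := by
    rw [Pi.sub_apply, Pi.smul_apply, reg_one, hd, smul_eq_mul]
    have := congrArg (Int.cast (R := ℂ)) e
    push_cast [hN] at this
    linear_combination this
  have hφx : ∀ x, x ≠ 1 → (ψ - (n : ℂ) • reg S) x = ψ x := fun x hx => by
    rw [Pi.sub_apply, Pi.smul_apply, reg_of_ne _ hx, smul_zero, sub_zero]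
  generalize ψ - (n : ℂ) • reg S = φ at hφ hφ1 hφx
  obtain ⟨m, hm, eφ⟩ := vchar_exists_coeff hφ
  have s1 : ∑ l ∈ Irr S, m l = r := by
    have := congrFun eφ 1
    rw [hφ1, Finset.sum_apply, Finset.sum_congr rfl (g := fun l => (m l : ℂ)) fun l hl => by
      rw [Pi.smul_apply, irr_one_of_comm hS hl, smul_eq_mul, mul_one]] at this
    exact_mod_cast this.symm
  have s2 : N * ∑ l ∈ Irr S, m l ^ 2 = r ^ 2 + (N - 1) := by
    have a1 := card_mul_nrm S φ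
    rw [sum_sharp, hφ1, sum_fs_congr (g := fun _ => 1) fun x hx => by
      rw [hφx x hx.2, h x hx.1 hx.2, one_pow], sum_fs_const, ncard_sharp, eφ,
      (on_Irr S).nrm_sum_int, Complex.norm_intCast, sq_abs, mul_one] at a1
    rw [hN]
    exact_mod_cast a1
  have s3 : |r| ≤ ∑ l ∈ Irr S, m l ^ 2 := by
    rw [← s1]
    refine (Finset.abs_sum_le_sum_abs _ _).trans (Finset.sum_le_sum fun l _ => ?_)
    rw [← sq_abs]
    exact Int.le_self_sq _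
  have hr1 : |r| = 1 := by
    rw [← sq_abs r] at s2
    generalize ∑ l ∈ Irr S, m l ^ 2 = T at s2 s3
    have := abs_nonneg r
    generalize |r| = a at *
    by_contra hne
    rcases (by omega : a = 0 ∨ 2 ≤ a) with rfl | ha
    · have : N ∣ 1 := ⟨1 - T, by linarith⟩
      have := Int.le_of_dvd one_pos this
      omega
    · nlinarith
  have s4 : ∑ l ∈ Irr S, m l ^ 2 = 1 := by
    rw [← sq_abs r, hr1] at s2
    exact mul_left_cancel₀ (by omega : N ≠ 0) (by linarith)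
  obtain ⟨ε, hε, μ, hμ, e2⟩ := vchar_norm_one hφ (by
    rw [dot_self, eφ, (on_Irr S).nrm_sum_int, s4]; simp)
  have hεr : ε = r := by
    rw [e2, Pi.smul_apply, irr_one_of_comm hS hμ, smul_eq_mul, mul_one] at hφ1
    exact_mod_cast hφ1
  have hn0 : 0 ≤ n := by
    by_contra hn
    have : r ≤ 1 := (le_abs_self r).trans hr1.le
    nlinarith
  lift n to ℕ using hn0
  refine ⟨ε, hε, μ, isLin_of_comm hS hμ, n, ?_, fun x hx => by rw [← hφx x hx, e2]; rfl⟩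
  rw [hd, hεr]
  exact_mod_cast hN ▸ e

/-- Isaacs (13.14) -/
theorem Canon.semiprime (hn : S ≤ 𝒩(K)) (hc : (Nat.card K).Coprime (Nat.card S)) {ξ β : G → ℂ}
    (h : Canon K (K ⊔ S) ξ) {s : G} (hs : Subgroup.zpowers s = S) (h1 : S ≠ ⊥)
    (hC : ∀ x ∈ S, x ≠ 1 → K ⊓ 𝒞₁(x) = C) (hβ : β ∈ Irr C) (e : dot C (shf C ξ s) β ≠ 0) :
    ∃ ε : ℤ, (ε = 1 ∨ ε = -1) ∧ (∃ μ, IsLin S μ ∧ (∀ x ∈ S, μ x * μ x = 1) ∧
      ∀ x ∈ S, x ≠ 1 → shf C ξ x = (ε * μ x) • β) ∧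
      ∃ ϑ, IsChar C ϑ ∧ Res (C : Set G) ξ = (Nat.card S : ℂ) • ϑ + (ε : ℂ) • β := by
  classical
  have hsS : s ∈ S := hs ▸ Subgroup.mem_zpowers s
  have hs1 : s ≠ 1 := by
    rintro rfl
    exact h1 (hs ▸ Subgroup.zpowers_one_eq_bot)
  have hS := H16.comm_of_cyclic (hs ▸ H16.cyclic_zpowers s)
  have hCS : C ≤ K ⊓ 𝒞(S) := by rw [← hC s hsS hs1, ← hs, cent_zpowers]
  have hsg := fun x hx hx1 => h.exists_sign hn hc hx (hC x hx hx1) (hCS.trans inf_le_right)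
  have hch := fun γ (hγ : γ ∈ Irr C) => h.isChar_cmp hn hc hCS (irr_char hγ)
  have hsm : ∀ γ ∈ Irr C, ∀ x ∈ S, x ≠ 1 →
      cmp C S ξ γ x = 0 ∨ cmp C S ξ γ x = 1 ∨ cmp C S ξ γ x = -1 := fun γ hγ x hx hx1 => by
    obtain ⟨ε, a1, δ, a2, a3⟩ := hsg x hx hx1
    rw [cmp_apply hx, a3, dot_smul_left, dot_irr a2 hγ]
    rcases a1 with rfl | rfl <;> split_ifs <;> simp
  have hβx : ∀ x ∈ S, x ≠ 1 → ∃ ε : ℤ, (ε = 1 ∨ ε = -1) ∧ shf C ξ x = (ε : ℂ) • β := fun x hx hx1 => by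
    obtain ⟨ε, a1, δ, a2, a3⟩ := hsg x hx hx1
    obtain ⟨p, hp, hd⟩ := Nat.exists_prime_and_dvd (mt orderOf_eq_one_iff.1 hx1)
    have := (small_zero_iff (hch β hβ).vchar hS (hsm β hβ) hx hsS hp hd
      (hd.trans (by rw [← H16.card_zpowers s, hs]; exact H16.orderOf_dvd_card hx))).not.2
      (by rwa [cmp_apply hsS])
    rw [cmp_apply hx, a3, dot_smul_left] at this
    exact ⟨ε, a1, irr_eq_of_dot_ne a2 hβ (right_ne_zero_of_mul this) ▸ a3⟩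
  obtain ⟨ε, hε, μ, hμ, n, b1, b2⟩ := exists_reg_add_lin (hch β hβ) hS h1 fun x hx hx1 => by
    obtain ⟨ε, a1, a2⟩ := hβx x hx hx1
    rw [cmp_apply hx, a2, dot_smul_left, dot_irr_self hβ]
    rcases a1 with rfl | rfl <;> simp
  have hγ : ∀ γ : G → ℂ, ∃ m : ℕ, γ ∈ Irr C →
      dot C ξ γ = Nat.card S * m + ε * dot C β γ := fun γ => by
    by_cases hγ : γ ∈ Irr C
    · by_cases e : β = γ
      · exact ⟨n, fun _ => by rw [← e, ← cmp_one (S := S), b1, dot_irr_self hβ, mul_one]⟩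
      · obtain ⟨m, hm⟩ := exists_reg_of_vanish (hch γ hγ) fun x hx hx1 => by
          obtain ⟨ε, -, a2⟩ := hβx x hx hx1
          rw [cmp_apply hx, a2, dot_smul_left, dot_irr_ne hβ hγ e, mul_zero]
        exact ⟨m, fun _ => by rw [← cmp_one (S := S), hm, dot_irr_ne hβ hγ e, mul_zero, add_zero]⟩
    · exact ⟨0, fun h => absurd h hγ⟩
  choose m hm using hγ
  have hx : ∀ x ∈ S, x ≠ 1 → ∃ ε' : ℤ, (ε' = 1 ∨ ε' = -1) ∧ shf C ξ x = (ε' : ℂ) • β ∧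
      ε' = ε * μ x := fun x hx hx1 => by
    obtain ⟨ε', a1, a2⟩ := hβx x hx hx1
    have := b2 x hx1
    rw [cmp_apply hx, a2, dot_smul_left, dot_irr_self hβ, mul_one] at this
    exact ⟨ε', a1, a2, this⟩
  have hϑ : IsChar C (∑ γ ∈ Irr C, (m γ : ℂ) • γ) :=
    isChar_sum _ _ fun γ hγ => (irr_char hγ).natCast_smul _
  refine ⟨ε, hε, ⟨μ, hμ, fun x hxS => ?_, fun x hxS hx1 => ?_⟩, _, hϑ, ?_⟩
  · by_cases hx1 : x = 1
    · rw [hx1, hμ.one_apply, one_mul]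
    obtain ⟨ε', a1, -, a3⟩ := hx x hxS hx1
    have a4 : (ε' : ℂ) ^ 2 = 1 := by rcases a1 with rfl | rfl <;> simp
    have a5 : (ε : ℂ) ^ 2 = 1 := by rcases hε with rfl | rfl <;> simp
    rw [a3] at a4
    linear_combination a4 - μ x ^ 2 * a5
  · obtain ⟨ε', -, a2, a3⟩ := hx x hxS hx1
    rw [a2, a3]
  · refine cf_ext_dot (Res_mem_cf (hCS.trans (inf_le_left.trans le_sup_left)) (irr_cf h.1))
      (add_mem (Submodule.smul_mem _ _ hϑ.cf) (Submodule.smul_mem _ _ (irr_cf hβ))) fun γ hγ => ?_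
    rw [dot_Res_left, dot_add_left, dot_smul_left, dot_smul_left, hm γ hγ,
      dot_sum_irr Finset.Subset.rfl (fun γ => (m γ : ℂ)) hγ]

theorem res_mem_IrrS_of_coprime (hn : S ≤ 𝒩(K)) (hc : (Nat.card K).Coprime (Nat.card S))
    {χ : G → ℂ} (hχ : χ ∈ Irr (K ⊔ S)) {d : ℕ} (hd : χ 1 = d) (h : d.Coprime (Nat.card S)) :
    Res (K : Set G) χ ∈ IrrS K S := by
  obtain ⟨θ, h1, h2⟩ := exists_under le_sup_left hχ
  obtain ⟨m, h3, h4⟩ := exists_degree_dvd le_sup_left (sup_le_norm hn) h1 (mem_over.2 ⟨hχ, h2⟩)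
  obtain ⟨t, -, ht⟩ := irr_pos_one h1
  rw [relIndex_compl (compl_of_coprime hn hc)] at h3
  have e : d = m * t := by rw [hd, ht] at h4; exact_mod_cast h4
  rw [Nat.eq_one_of_dvd_coprimes h (e ▸ dvd_mul_right _ _) h3, Nat.cast_one, one_mul] at h4
  have := ((irr_char hχ).Res le_sup_left).eq_irr_of_degree h1 (by rwa [dot_Res_left])
    (by rwa [Res_one])
  exact mem_IrrS.2 ⟨this ▸ h1, le_sup_right.trans (le_stab_Res (sup_le_norm hn) (irr_cf hχ))⟩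

open Classical in
theorem card_coprime_degree (hn : S ≤ 𝒩(K)) (hc : (Nat.card K).Coprime (Nat.card S)) :
    ((Irr (K ⊔ S)).filter fun χ => ∃ d : ℕ, χ 1 = (d : ℂ) ∧ d.Coprime (Nat.card S)).card =
      (IrrS K S).card * ((Irr S).filter fun l => l 1 = 1).card := by
  have hcm := compl_of_coprime hn hc
  rw [← smul_eq_mul, ← Finset.sum_const,
    Finset.card_eq_sum_card_fiberwise (f := fun χ => Res (K : Set G) χ) (t := IrrS K S) fun χ hχ => by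
      obtain ⟨h1, d, h2, h3⟩ := Finset.mem_filter.1 hχ
      exact res_mem_IrrS_of_coprime hn hc h1 h2 h3]
  refine Finset.sum_congr rfl fun θ hθ => ?_
  obtain ⟨h1, h2⟩ := mem_IrrS.1 hθ
  obtain ⟨ξ, hξ, rfl⟩ := exists_ext_hall le_sup_left (sup_le_norm hn) h1
    (sup_le (le_stab (irr_cf h1)) h2) (coprime_relIndex_sup hn hc)
  symm
  refine Finset.card_bij (fun l _ => sdp K S l * ξ) (fun l hl => ?_) (fun a ha b hb e => ?_)
    fun χ hχ => ?_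
  · obtain ⟨a1, a2⟩ := Finset.mem_filter.1 hl
    have a3 := sdp_mem_IrrQ hcm hn a1
    obtain ⟨t, -, ht⟩ := irr_pos_one h1
    refine Finset.mem_filter.2 ⟨Finset.mem_filter.2
      ⟨gall1_irr le_sup_left (sup_le_norm hn) (irr_char hξ) h1 a3, t, ?_, ?_⟩, ?_⟩
    · rw [Pi.mul_apply, sdp_at_one hcm.2.2.1, a2, one_mul, ← ht, Res_one]
    · exact hc.coprime_dvd_left ((irr_res h1).degree_dvd_card ht)
    · exact Res_congr fun x hx => by rw [Pi.mul_apply, sdp_of_mem_left hcm.2.2.1 _ hx, a2, one_mul]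
  · have a1 := (Finset.mem_filter.1 ha).1
    have b1 := (Finset.mem_filter.1 hb).1
    exact sdp_injOn hcm.2.2.1 (cf_le_supp _ (irr_cf a1)) (cf_le_supp _ (irr_cf b1))
      (gall1_inj le_sup_left (sup_le_norm hn) (irr_char hξ) h1 (sdp_mem_IrrQ hcm hn a1)
        (sdp_mem_IrrQ hcm hn b1) e)
  · obtain ⟨a1, a2⟩ := Finset.mem_filter.1 hχ
    obtain ⟨β, b1, b2, rfl⟩ := exists_lin_of_Res_eq le_sup_left (sup_le_norm hn) (irr_char hξ) h1
      (irr_char (Finset.mem_filter.1 a1).1) a2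
    rw [← image_sdp_Irr hcm hn, Finset.mem_image] at b1
    obtain ⟨l, hl, rfl⟩ := b1
    exact ⟨l, Finset.mem_filter.2 ⟨hl, by rw [← sdp_at_one hcm.2.2.1 l, b2.one_apply]⟩, rfl⟩

end H21
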