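/-
Existence of the reduction of a character triple, and its basic properties.
-/
import Cfsg.Agent.H21.Trip

set_option autoImplicit false
set_option linter.unusedSectionVars false
open H17 Cfsg H15 CF
open scoped ComplexConjugate

namespace H21

universe u

theorem mul_pow_relIndex {Γ : Type*} [Group Γ] [Finite Γ] {K Z : Subgroup Γ}
    (hZ : Z ≤ Subgroup.center Γ) {x y : Γ} (hx : x ∈ K) (hy : y ∈ K) :
    (x * y) ^ Z.relIndex K = x ^ Z.relIndex K * y ^ Z.relIndex K := by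
  have h1 : (Subgroup.center K).index ∣ Z.relIndex K := Subgroup.index_dvd_of_le fun z hz =>
    Subgroup.mem_center_iff.2 fun g => Subtype.ext (Subgroup.mem_center_iff.1 (hZ hz) g)
  obtain ⟨a, ha⟩ := h1
  have h2 := congrArg (fun z : Subgroup.center K => ((z : K) : Γ))
    ((MonoidHom.transferCenterPow K).map_mul ⟨x, hx⟩ ⟨y, hy⟩)
  have h3 := congrArg Subtype.val (Subgroup.mem_center_iff.1
    (MonoidHom.transferCenterPow K ⟨x, hx⟩).2 (MonoidHom.transferCenterPow K ⟨y, hy⟩))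
  simp only [MonoidHom.transferCenterPow_apply, Subgroup.coe_mul, Subgroup.coe_pow] at h2 h3
  rw [ha, pow_mul, h2, Commute.mul_pow h3.symm, pow_mul, pow_mul]

theorem exists_split {Γ : Type*} [Group Γ] [Finite Γ] (K Z : Subgroup Γ) [hK : K.Normal]
    (hZK : Z ≤ K) (hZ : Z ≤ Subgroup.center Γ) : ∃ D B : Subgroup Γ, D.Normal ∧ B ≤ Z ∧ D ≤ K ∧
      D ⊓ B = ⊥ ∧ (∀ x ∈ K, ∃ y ∈ D, y⁻¹ * x ∈ B) ∧ ∃ k, ∀ y ∈ D, y ^ (Z.relIndex K ^ k) = 1 := by
  set n := Z.relIndex K with hn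
  have hn0 : n ≠ 0 := Subgroup.index_ne_zero_of_finite
  have hc : ∀ z ∈ Z, ∀ g, Commute z g := fun z hz g => (Subgroup.mem_center_iff.1 (hZ hz) g).symm
  have hZn : ∀ x ∈ K, x ^ n ∈ Z := fun x hx => pow_relIndex_mem (le_norm_of_le_center
    (fun z hz => mem_cent.2 fun g _ => (hc z hz g).eq.symm)) hx
  have hp : ∀ k, ∀ x ∈ K, ∀ y ∈ K, (x * y) ^ (n * n ^ k) = x ^ (n * n ^ k) * y ^ (n * n ^ k) :=
    fun k x hx y hy => by
      rw [pow_mul, mul_pow_relIndex hZ hx hy, (hc _ (hZn x hx) _).mul_pow, pow_mul, pow_mul]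
  let M := n * n ^ Nat.card Γ
  let D : Subgroup Γ :=
    { carrier := {x | x ∈ K ∧ x ^ M = 1}
      mul_mem' := fun {a b} ha hb => ⟨K.mul_mem ha.1 hb.1, by
        rw [hp _ a ha.1 b hb.1, ha.2, hb.2, one_mul]⟩
      one_mem' := ⟨K.one_mem, one_pow _⟩
      inv_mem' := fun {a} ha => ⟨K.inv_mem ha.1, by rw [inv_pow, ha.2, inv_one]⟩ }
  let B : Subgroup Γ :=
    { carrier := {x | x ∈ Z ∧ (orderOf x).Coprime n}
      mul_mem' := fun {a b} ha hb => ⟨Z.mul_mem ha.1 hb.1,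
        (Nat.Coprime.mul_left ha.2 hb.2).coprime_dvd_left (hc a ha.1 b).orderOf_mul_dvd_mul_orderOf⟩
      one_mem' := ⟨Z.one_mem, by simp⟩
      inv_mem' := fun {a} ha => ⟨Z.inv_mem ha.1, by rw [orderOf_inv]; exact ha.2⟩ }
  have hM : ∀ {m : ℕ}, m.Coprime n → m.Coprime M := fun h => h.mul_right (h.pow_right _)
  refine ⟨D, B, ⟨fun x hx g => ⟨hK.conj_mem x hx.1 g, by rw [conj_pow, hx.2]; simp⟩⟩,
    fun x hx => hx.1, fun x hx => hx.1, eq_bot_iff.2 fun x hx => ?_, fun x hx => ?_,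
    Nat.card Γ + 1, fun y hy => by rw [pow_succ']; exact hy.2⟩
  · exact orderOf_eq_one_iff.1 ((hM hx.2.2).eq_one_of_dvd (orderOf_dvd_of_pow_eq_one hx.1.2))
  · have h1 : (orderOf (x ^ M)).Coprime n := by
      rw [orderOf_pow' _ (mul_ne_zero hn0 (pow_ne_zero _ hn0))]
      refine Nat.Coprime.symm (Nat.coprime_of_dvd fun p hp h1 h2 => ?_)
      have h3 : 0 < orderOf x := orderOf_pos x
      have h4 : orderOf x ≤ Nat.card Γ := orderOf_le_card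
      have h5 : p ^ (orderOf x).factorization p ∣ (orderOf x).gcd M := Nat.dvd_gcd
        (Nat.ordProj_dvd _ _) (((pow_dvd_pow _ ((Nat.factorization_lt p h3.ne').le.trans h4)).trans
          (pow_dvd_pow_of_dvd h1 _)).mul_left _)
      have h6 := mul_dvd_mul h2 h5
      rw [Nat.div_mul_cancel (Nat.gcd_dvd_left _ _), ← pow_succ'] at h6
      exact Nat.pow_succ_factorization_not_dvd h3.ne' hp h6
    have h2 : x ^ M ∈ B := ⟨by rw [pow_mul]; exact Z.pow_mem (hZn x hx) _, h1⟩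
    obtain ⟨j, hj⟩ := exists_pow_eq_self_of_coprime (x := x ^ M) (hM h1).symm
    have h3 := B.pow_mem h2 j
    refine ⟨x * ((x ^ M) ^ j)⁻¹, ⟨K.mul_mem hx (K.inv_mem (hZK h3.1)), ?_⟩, ?_⟩
    · rw [hp _ x hx _ (K.inv_mem (hZK h3.1)), inv_pow, ← pow_mul (x ^ M) j, mul_comm j,
        pow_mul (x ^ M), hj, mul_inv_cancel]
    · simpa using h3

variable {G : Type u} [Group G] [Finite G] {L K N U V : Subgroup G} {θ : G → ℂ}

theorem exists_trip (hNK : N ≤ K) (hKL : K ≤ L) (hN : L ≤ 𝒩(N)) (hK : L ≤ 𝒩(K)) (hθ : θ ∈ Irr N)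
    (hs : L ≤ stab θ) : ∃ (Δ Q : Type u) (_ : Group Δ) (_ : Finite Δ) (_ : Group Q) (_ : Finite Q)
      (f : L →* Q) (ρ : Δ →* Q) (lam : Δ → ℂ) (Ψ : (Δ → ℂ) →ₗ[ℂ] (G → ℂ)), TIso K N θ f ρ lam Ψ ∧
      ∀ m : ℕ, m.Coprime (N.relIndex K) → m.Coprime (Nat.card (up f ρ K)) := by
  haveI hN' := normal_subgroupOf hN
  haveI hK' := normal_subgroupOf hK
  obtain ⟨Γ, _, _, π, s, η, h1, h2, h3, h4, h5, h6⟩ := exists_cover (N := N.subgroupOf L)
    (θ := fun n => θ n) ((irr_res hθ).comp_equiv (Subgroup.subgroupOfEquivOfLe (hNK.trans hKL)))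
    fun g n => by
      have := congrFun (mem_stab.1 (hs (L.inv_mem g.2))) n
      rw [cfj_apply, inv_inv] at this
      exact this
  let f := QuotientGroup.mk' (N.subgroupOf L)
  let q₁ := QuotientGroup.mk' s.range
  have hq₁ := QuotientGroup.mk'_surjective s.range
  have hf : ∀ g : L, f g = 1 ↔ (g : G) ∈ N := fun g => QuotientGroup.eq_one_iff g
  have kf : kerf f = N := by
    ext x
    exact ⟨fun ⟨y, hy, e⟩ => e ▸ (hf y).1 hy, fun h => ⟨⟨x, hKL (hNK h)⟩, (hf _).2 h, rfl⟩⟩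
  let ρ₁ : Γ ⧸ s.range →* L ⧸ N.subgroupOf L := QuotientGroup.lift _ (f.comp π) (by
    rintro _ ⟨n, rfl⟩
    change f (π (s n)) = 1
    rw [h3, hf]
    exact n.2)
  have e₁ : ∀ x, ρ₁ (q₁ x) = f (π x) := fun _ => rfl
  have hρ₁ : Function.Surjective ρ₁ := fun y => by
    obtain ⟨g, rfl⟩ := QuotientGroup.mk'_surjective _ y
    obtain ⟨x, rfl⟩ := h1 g
    exact ⟨q₁ x, rfl⟩
  have hup : ∀ g : L, f g ∈ img f K ↔ (g : G) ∈ K := fun g =>
    ⟨by
      rintro ⟨y, hy, e⟩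
      have : ((y⁻¹ * g : L) : G) ∈ K := hNK ((hf _).1 (by rw [map_mul, map_inv, e, inv_mul_cancel]))
      exact (K.mul_mem_cancel_left (K.inv_mem hy)).1 this, apply_mem_img f⟩
  have hZ : ∀ x, q₁ x ∈ ρ₁.ker → ∃ n, π (s n) = π x := fun x hx =>
    ⟨⟨π x, (hf _).1 hx⟩, h3 _⟩
  have hq1 : ∀ x, q₁ x = 1 ↔ x ∈ s.range := fun x => QuotientGroup.eq_one_iff x
  have hZc : ρ₁.ker ≤ Subgroup.center _ := fun z hz => by
    obtain ⟨x, rfl⟩ := hq₁ z
    obtain ⟨n, hn⟩ := hZ x hz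
    have a1 : (s n)⁻¹ * x ∈ π.ker := by rw [MonoidHom.mem_ker, map_mul, map_inv, hn, inv_mul_cancel]
    have a2 : q₁ x = q₁ ((s n)⁻¹ * x) := by rw [map_mul, map_inv, (hq1 _).2 ⟨n, rfl⟩, inv_one, one_mul]
    refine Subgroup.mem_center_iff.2 fun d => ?_
    obtain ⟨y, rfl⟩ := hq₁ d
    change q₁ y * q₁ x = q₁ x * q₁ y
    rw [a2, ← map_mul, ← map_mul, Subgroup.mem_center_iff.1 (h2 a1)]
  haveI : (img f K).Normal := hK'.map f (QuotientGroup.mk'_surjective _)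
  obtain ⟨D, B, hD, b1, b2, b3, b4, k, b5⟩ := exists_split (up f ρ₁ K) ρ₁.ker
    (Subgroup.ker_le_comap _ _) hZc
  have hidx : ρ₁.ker.relIndex (up f ρ₁ K) = N.relIndex K := by
    rw [Subgroup.relIndex_ker, Subgroup.map_comap_eq_self_of_surjective hρ₁]
    have a1 := card_img_mul f hKL
    rw [kf, inf_eq_right.2 hNK, ← H16.card_mul_relIndex hNK] at a1
    exact Nat.eq_of_mul_eq_mul_left Nat.card_pos a1
  haveI : B.Normal := ⟨fun x hx g => by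
    rwa [Subgroup.mem_center_iff.1 (hZc (b1 hx)) g, mul_inv_cancel_right]⟩
  let q := (QuotientGroup.mk' B).comp q₁
  let ρ : (Γ ⧸ s.range) ⧸ B →* L ⧸ N.subgroupOf L := QuotientGroup.lift _ ρ₁ b1
  have hDq : ∀ x, x ∈ D.comap q₁ ⊓ q.ker ↔ x ∈ s.range := fun x => by
    rw [← hq1, ← Subgroup.mem_bot, ← b3]
    exact and_congr Iff.rfl (QuotientGroup.eq_one_iff _)
  have hK2 : ∀ x, (π x : G) ∈ K → ∃ y ∈ D.comap q₁, (q₁ y)⁻¹ * q₁ x ∈ B := fun x hx => by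
    obtain ⟨y, c1, c2⟩ := b4 (q₁ x) ((hup _).2 hx)
    obtain ⟨y, rfl⟩ := hq₁ y
    exact ⟨y, c1, c2⟩
  obtain ⟨lam, Ψ, h⟩ := tiso_of_cover (K := K) π q (D.comap q₁) (mem_Irr_top.2 h5) f ρ kf
    (QuotientGroup.mk'_surjective _) h1 ((QuotientGroup.mk'_surjective _).comp hq₁) h2 (fun _ => rfl)
    (fun n hn => ⟨s ⟨n, hn⟩, (hDq _).2 ⟨_, rfl⟩, h3 _⟩) hθ
    (fun x hx => by obtain ⟨n, rfl⟩ := (hDq x).1 hx; rw [h6, h3])
    (eq_bot_iff.2 fun x hx => by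
      obtain ⟨n, rfl⟩ := (hDq x).1 hx.1
      have : n = 1 := Subtype.ext ((h3 n).symm.trans hx.2)
      rw [this, map_one]; exact Subgroup.one_mem _)
    (fun x hx => (hup _).1 (b2 hx)) (fun x hx => by
      obtain ⟨y, c1, c2⟩ := hK2 x hx
      rw [← map_inv, ← map_mul] at c2
      obtain ⟨n, hn⟩ := hZ _ (b1 c2)
      exact ⟨y * s n, Subgroup.mul_mem _ c1 ((hDq _).2 ⟨n, rfl⟩).1, by simp [hn]⟩)
    (fun x hx => by
      obtain ⟨y, c1, c2⟩ := hK2 x hx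
      exact ⟨y, c1, QuotientGroup.eq.2 c2⟩) hNK hKL hK
  refine ⟨_, _, inferInstance, inferInstance, inferInstance, inferInstance, f, ρ, lam, Ψ, h,
    fun m hm => Nat.coprime_of_dvd fun p hp c1 c2 => ?_⟩
  haveI := Fact.mk hp
  obtain ⟨⟨d, hd⟩, e⟩ := exists_prime_orderOf_dvd_card' p c2
  obtain ⟨x, rfl⟩ := ((QuotientGroup.mk'_surjective B).comp hq₁) d
  obtain ⟨y, c3, c4⟩ := hK2 x ((hup _).1 hd)
  have c5 : q x ^ N.relIndex K ^ k = 1 := by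
    rw [← show q y = q x from QuotientGroup.eq.2 c4, ← hidx]
    change QuotientGroup.mk' B (q₁ y) ^ _ = 1
    rw [← map_pow, b5 _ c3, map_one]
  rw [← Subgroup.orderOf_coe] at e
  have c6 := orderOf_dvd_of_pow_eq_one c5
  rw [show orderOf (q x) = p from e] at c6
  exact hp.one_lt.ne' (Nat.eq_one_of_dvd_coprimes hm c1 (hp.dvd_of_dvd_pow c6))

end H21
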