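/-
Basic properties of the reduction of a character triple.
-/
import Cfsg.Agent.H21.Trip2
import Cfsg.Agent.Lead.Frob

set_option autoImplicit false
set_option linter.unusedSectionVars false
open H17 Cfsg H15 CF
open scoped ComplexConjugate

namespace H21

universe u

theorem QSol.comap {G Q : Type u} [Group G] [Group Q] [Finite G] [Finite Q] {X Y : Subgroup Q}
    (h : QSol X Y) (ρ : G →* Q) : QSol (X.comap ρ) (Y.comap ρ) := by
  obtain ⟨n, hn⟩ := h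
  refine ⟨n, ?_⟩
  rintro _ ⟨x, hx, rfl⟩
  exact hn ⟨_, map_derivedSeries_le_derivedSeries (ρ.subgroupComap X) n ⟨x, hx, rfl⟩, rfl⟩

theorem QSol.img' {G Q : Type u} [Group G] [Group Q] [Finite G] [Finite Q] {D X Y : Subgroup G}
    (h : QSol X Y) (f : D →* Q) (hX : X ≤ D) : QSol (CF.img f X) (CF.img f Y) := by
  obtain ⟨n, hn⟩ := h
  refine ⟨n, ?_⟩
  rw [← map_derivedSeries_eq (imgHom_surjective f hX)]
  rintro _ ⟨_, ⟨x, hx, rfl⟩, rfl⟩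
  exact apply_mem_img f (x := ⟨x, hX x.2⟩) (hn ⟨x, hx, rfl⟩)

theorem QSol.sol {G : Type u} [Group G] [Finite G] {X Y : Subgroup G} (h : QSol X Y)
    (hd : X ⊓ Y = ⊥) : Group.IsSolvable X := by
  obtain ⟨n, hn⟩ := h
  refine ⟨n, eq_bot_iff.2 fun x hx => Subtype.ext ?_⟩
  exact Subgroup.mem_bot.1 (hd ▸ ⟨x.2, hn ⟨x, hx, rfl⟩⟩)

variable {G : Type u} [Group G] [Finite G] {L K N U V : Subgroup G} {θ : G → ℂ}
  {Δ Q : Type u} [Group Δ] [Finite Δ] [Group Q] [Finite Q] {f : L →* Q} {ρ : Δ →* Q} {lam β γ : Δ → ℂ}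
  {Ψ : (Δ → ℂ) →ₗ[ℂ] (G → ℂ)}

theorem up_mono (h : U ≤ V) : up f ρ U ≤ up f ρ V := Subgroup.comap_mono (img_mono f h)

theorem ker_le_up (U : Subgroup G) : ρ.ker ≤ up f ρ U := Subgroup.ker_le_comap _ _

theorem norm_comap {X : Subgroup Q} {d : Δ} (h : ρ d ∈ 𝒩(X)) : d ∈ 𝒩(X.comap ρ) :=
  Subgroup.le_normalizer_comap ρ h

theorem up_norm {g : L} {d : Δ} (e : f g = ρ d) (hg : (g : G) ∈ 𝒩(U)) : d ∈ 𝒩(up f ρ U) :=
  norm_comap (e ▸ img_le_norm f le_rfl (apply_mem_img f hg))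

theorem up_le_norm (h : V ≤ 𝒩(U)) : up f ρ V ≤ 𝒩(up f ρ U) := fun _ hd =>
  norm_comap (img_le_norm f h hd)

theorem QSol.up (h : QSol U V) (hU : U ≤ L) : QSol (H21.up f ρ U) (H21.up f ρ V) := (h.img' f hU).comap ρ

namespace TIso
variable (h : TIso K N θ f ρ lam Ψ)
include h

theorem le : N ≤ L := h.ker ▸ kerf_le f

theorem f_eq_one (g : L) : f g = 1 ↔ (g : G) ∈ N := by rw [← h.ker, mem_kerf]

theorem mem_img (hU : N ≤ U) (g : L) : f g ∈ img f U ↔ (g : G) ∈ U :=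
  ⟨fun ⟨y, hy, e⟩ => by
    have : ((y⁻¹ * g : L) : G) ∈ U := hU ((h.f_eq_one _).1 (by
      rw [map_mul, map_inv, e, inv_mul_cancel]))
    exact (U.mul_mem_cancel_left (U.inv_mem hy)).1 this, apply_mem_img f⟩

theorem mem_up (hU : N ≤ U) {g : L} {d : Δ} (e : f g = ρ d) : d ∈ up f ρ U ↔ (g : G) ∈ U := by
  rw [Subgroup.mem_comap, ← e, h.mem_img hU]

theorem up_N : up f ρ N = ρ.ker := by
  rw [up, ← h.ker, H18.img_kerf]; rfl

theorem up_L : up f ρ L = ⊤ := eq_top_iff.2 fun d _ => by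
  obtain ⟨g, hg⟩ := h.fsurj (ρ d)
  exact ⟨g, g.2, hg⟩

theorem exists_lift (d : Δ) : ∃ g : L, f g = ρ d := h.fsurj _

theorem exists_lift' (g : L) : ∃ d : Δ, f g = ρ d := (h.rsurj (f g)).imp fun _ e => e.symm

theorem relIndex_up (hU : N ≤ U) (hUV : U ≤ V) (hV : V ≤ L) :
    (up f ρ U).relIndex (up f ρ V) = U.relIndex V := by
  rw [up, up, Subgroup.relIndex_comap, Subgroup.map_comap_eq_self_of_surjective h.rsurj,
    relIndex_img f hUV hV (inf_le_right.trans (h.ker.le.trans hU))]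

theorem relIndex_ker (hU : N ≤ U) (hUL : U ≤ L) : ρ.ker.relIndex (up f ρ U) = N.relIndex U := by
  rw [← h.up_N, h.relIndex_up le_rfl hU hUL]

theorem up_sup (hU : U ≤ L) (hV : V ≤ L) : up f ρ (U ⊔ V) = up f ρ U ⊔ up f ρ V := by
  rw [up, H18.img_sup f hU hV, Subgroup.comap_sup_eq ρ _ _ h.rsurj]

theorem cent' (X : Subgroup Δ) : ρ.ker ≤ 𝒞(X) := fun _ hz =>
  mem_cent.2 fun d _ => Subgroup.mem_center_iff.1 (h.cent hz) d

theorem cent'' (X : Subgroup Δ) : X ≤ 𝒞(ρ.ker) := cent_comm (h.cent' X)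

theorem eqv {X : Subgroup Δ} (hX : ρ.ker ≤ X) (hβ : β ∈ IrrO X ρ.ker lam) : Eqv ρ.ker lam β :=
  eqv_of_over h.lin hX (h.cent' X) hβ

theorem stab_lam (X : Subgroup Δ) : X ≤ stab lam :=
  (h.cent'' X).trans (cent_le_stab (cf_le_supp _ h.lin.cf))

theorem dot_base (hθ : θ ∈ Irr N) (hβ : Eqv ρ.ker lam β) : CF.dot N (Ψ β) θ = β 1 := by
  rw [dot_congr (φ' := β 1 • θ) (ψ' := θ) (fun n hn => h.base β hβ n hn) fun _ _ => rfl,
    dot_smul_left, dot_irr_self hθ, mul_one]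

theorem mem_over (hθ : θ ∈ Irr N) (h1 : N ≤ U) (h2 : U ≤ K) (hβ : β ∈ IrrO (up f ρ U) ρ.ker lam) :
    Ψ β ∈ IrrO U N θ := by
  have e := h.eqv (ker_le_up U) hβ
  have hβ' := (H21.mem_over.1 hβ).1
  refine H21.mem_over.2 ⟨(h.char U h1 h2 β e (irr_char hβ')).mem_Irr ?_, ?_⟩
  · rw [h.dot U h1 h2 β β e e, dot_irr_self hβ']
  · rw [h.dot_base hθ e]; exact irr_one_ne hβ'

theorem inj (h1 : N ≤ U) (h2 : U ≤ K) (hβ : β ∈ IrrO (up f ρ U) ρ.ker lam)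
    (hγ : γ ∈ IrrO (up f ρ U) ρ.ker lam) (e : Ψ β = Ψ γ) : β = γ := by
  have e1 := h.eqv (ker_le_up U) hβ
  have e2 := h.eqv (ker_le_up U) hγ
  refine irr_eq_of_dot_ne (H21.mem_over.1 hβ).1 (H21.mem_over.1 hγ).1 ?_
  rw [← h.dot U h1 h2 β γ e1 e2, ← e, h.dot U h1 h2 β β e1 e1, dot_irr_self (H21.mem_over.1 hβ).1]
  exact one_ne_zero

theorem mem_stab (h1 : N ≤ U) (h2 : U ≤ K) (hβ : β ∈ IrrO (up f ρ U) ρ.ker lam) {g : L} {d : Δ}
    (e : f g = ρ d) (hg : (g : G) ∈ 𝒩(U)) : (g : G) ∈ stab (Ψ β) ↔ d ∈ stab β := by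
  rw [CF.mem_stab, CF.mem_stab, h.cfj g d e β (h.eqv (ker_le_up U) hβ)]
  exact ⟨h.inj h1 h2 (cfj_mem_over (up_norm e hg) (cent_le_norm _ (h.cent'' ⊤ (Subgroup.mem_top d)))
    (h.stab_lam ⊤ (Subgroup.mem_top d)) hβ) hβ, fun e => by rw [e]⟩

end TIso

open FT in
theorem exists_inv_over [hK : K.Normal] [hN : N.Normal] (hNK : N ≤ K)
    (hc : K.index.Coprime (N.relIndex K)) (hs : QSol ⊤ K ∨ QSol K N) (hθ : θ ∈ Irr N)
    (hi : ⊤ ≤ stab θ) : ∃ χ ∈ IrrO K N θ, ⊤ ≤ stab χ := by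
  obtain ⟨Δ, Q, _, _, _, _, f, ρ, lam, Ψ, h, hm⟩ := exists_trip hNK le_top (top_le_norm N)
    (top_le_norm K) hθ hi
  have hn : ⊤ ≤ 𝒩(up f ρ K) := h.up_L ▸ up_le_norm (top_le_norm K)
  have hi : (up f ρ K).relIndex ⊤ = K.index := by
    rw [← h.up_L, h.relIndex_up hNK le_top le_rfl, Subgroup.relIndex_top_right]
  obtain ⟨S, hS⟩ := FT.exists_compl le_top hn (hi ▸ (hm _ hc).symm)
  have hco : (Nat.card (up f ρ K)).Coprime (Nat.card S) := by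
    rw [← hS.relIndex1, hi]; exact (hm _ hc).symm
  have hl : lam ∈ IrrS ρ.ker S := mem_IrrS.2 ⟨h.lin.mem_Irr, h.stab_lam S⟩
  have : ∃ χ ∈ IrrS (up f ρ K) S, dot ρ.ker χ lam ≠ 0 := by
    rcases hs with hs | hs
    · exact exists_IrrS_over (((hs.up le_rfl).mono (h.up_L ▸ le_top) le_rfl).sol hS.inf') _
        (le_top.trans hn) hco _ (ker_le_up K) (le_top.trans (top_le_norm _))
        (le_top.trans (top_le_norm _)) lam hl
    · exact exists_IrrS_over_qsol (le_top.trans hn) _ (ker_le_up K) (le_top.trans (top_le_norm _))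
        (le_top.trans (top_le_norm _)) ((hco.symm.coprime_dvd_left
          (Subgroup.relIndex_dvd_card _ _)).coprime_dvd_right (Subgroup.relIndex_dvd_card _ _))
        (h.up_N ▸ hs.up le_top) lam hl
  obtain ⟨χ, h1, h2⟩ := this
  obtain ⟨h3, h4⟩ := mem_IrrS.1 h1
  have h5 := mem_over.2 ⟨h3, h2⟩
  refine ⟨Ψ χ, h.mem_over hθ hNK le_rfl h5, fun g hg => ?_⟩
  obtain ⟨d, e⟩ := h.exists_lift' ⟨g, hg⟩
  refine (h.mem_stab hNK le_rfl h5 e (top_le_norm K hg)).2 ?_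
  exact (hS.sup.ge.trans (sup_le (le_stab (irr_cf h3)) h4)) (Subgroup.mem_top d)

end H21
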