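/-
The Isaacs correspondence, first step: the central case in the presence of an involution.
-/
import Cfsg.Agent.H21.Trip3

set_option autoImplicit false
set_option linter.unusedSectionVars false
open H17 Cfsg H15 CF
open scoped ComplexConjugate

namespace H21

universe u
variable {G : Type u} [Group G] [Finite G] {K M Z A C S P H : Subgroup G} {θ θ' χ ψ lam : G → ℂ}

theorem eq_of_inv_over (hZK : Z ≤ K) (hd : ⁅K, K⁆ ≤ Z) (hA : A ≤ 𝒩(K))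
    (hc : (Nat.card A).Coprime (Nat.card K)) (hs : Group.IsSolvable K) (hC : K ⊓ 𝒞(A) ≤ Z)
    (hl : lam ∈ Irr Z) (hθ : θ ∈ IrrO K Z lam) (hθ' : θ' ∈ IrrO K Z lam) (h1 : A ≤ stab θ)
    (h2 : A ≤ stab θ') : θ = θ' := by
  obtain ⟨l, h3, rfl⟩ := exists_mul_eq_over hZK hd hl hθ hθ'
  have h4 := isLin_of_IrrQ hd h3
  let W : Subgroup G :=
    { carrier := {x | x ∈ K ∧ ∀ a ∈ A, l (a * x * a⁻¹) = l x}
      mul_mem' := fun {x y} hx hy => ⟨K.mul_mem hx.1 hy.1, fun a ha => by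
        rw [← conj_mul, h4.map_mul (H16.conj_mem (hA ha) hx.1) (H16.conj_mem (hA ha) hy.1), hx.2 a ha,
          hy.2 a ha, h4.map_mul hx.1 hy.1]⟩
      one_mem' := ⟨K.one_mem, fun a _ => by simp⟩
      inv_mem' := fun {x} hx => ⟨K.inv_mem hx.1, fun a ha => by
        rw [← conj_inv, h4.map_inv (H16.conj_mem (hA ha) hx.1), hx.2 a ha, h4.map_inv hx.1]⟩ }
  have hWK : W ≤ K := fun x hx => hx.1
  have hAW : A ≤ 𝒩(W) := H16.le_norm_iff.2 fun a ha x hx => ⟨H16.conj_mem (hA ha) hx.1, fun b hb => by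
    rw [hx.2 a ha, ← hx.2 (b * a) (A.mul_mem hb ha)]
    simp [mul_assoc]⟩
  have hW : W ≤ cfker l := by
    rw [← H16.cop_comm_sup_cent hAW (hc.coprime_dvd_right (H16.card_dvd hWK))
      (Or.inr (H16.sol_of_le hs hWK))]
    refine sup_le (Subgroup.commutator_le.2 fun w hw a ha => h4.mem_cfker.2 ?_)
      (((inf_le_inf_right _ hWK).trans hC).trans (mem_IrrQ.1 h3).2)
    rw [commutatorElement_def, mul_assoc, mul_assoc, ← mul_assoc a, h4.map_mul_left hw.1,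
      (W.inv_mem hw).2 a ha, h4.map_inv hw.1, mul_inv_cancel₀ (h4.ne_zero hw.1)]
  funext x
  by_cases h0 : θ x = 0
  · rw [Pi.mul_apply, h0, mul_zero]
  have hx : x ∈ K := by_contra fun hx => h0 (cf_zero (irr_cf (mem_over.1 hθ).1) hx)
  have h5 : x ∈ W := ⟨hx, fun a ha => by
    have := mem_stab_iff.1 (h2 ha) x
    rwa [Pi.mul_apply, Pi.mul_apply, mem_stab_iff.1 (h1 ha) x, mul_left_inj' h0] at this⟩
  rw [Pi.mul_apply, h4.mem_cfker.1 (hW h5), one_mul]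

theorem over_of_under (hKH : K ≤ H) (hHM : H ≤ M) (hn : M ≤ 𝒩(K)) (hθ : θ ∈ Irr K) (hs : M ≤ stab θ)
    (hχ : χ ∈ IrrO M K θ) (hψ : ψ ∈ Irr H) (hd : dot H χ ψ ≠ 0) : ψ ∈ IrrO H K θ := by
  obtain ⟨h1, h2⟩ := mem_over.1 hχ
  obtain ⟨θ', h3, h4⟩ := exists_under hKH hψ
  have := clifford_mem_orb (hKH.trans hHM) hn h1 hθ h3 h2
    (dot_ne_trans hKH hHM (irr_char h1) hψ (irr_char h3) hd h4)
  rw [orb_of_le_stab hs, Finset.mem_singleton] at this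
  exact mem_over.2 ⟨hψ, this ▸ h4⟩

theorem le_stab_of_over (hKM : K ≤ M) (hn : M ≤ 𝒩(K)) (hA : A ≤ 𝒩(K)) (hAM : ⁅A, M⁆ ≤ K)
    (hc : (Nat.card A).Coprime (Nat.card M)) (hθ : θ ∈ IrrS K A) (hs : M ≤ stab θ)
    (hχ : χ ∈ IrrO M K θ) : A ≤ stab χ := fun a ha => mem_stab_iff.2 fun x => by
  have hn' : ∀ {U}, K ≤ U → U ≤ M → A ≤ 𝒩(U) := fun h1 h2 => H16.norm_of_comm_le
    ((Subgroup.commutator_comm _ _).le.trans (((Subgroup.commutator_mono le_rfl h2).trans hAM).trans h1))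
  have hχ' := (mem_over.1 hχ).1
  by_cases hx : x ∈ M
  swap
  · rw [cf_zero (irr_cf hχ') hx, cf_zero (irr_cf hχ') fun h => hx ?_]
    simpa [mul_assoc] using H16.conj_mem' (hn' hKM le_rfl ha) h
  have hU : K ⊔ Subgroup.zpowers x ≤ M := sup_le hKM (Subgroup.zpowers_le.2 hx)
  have hxU : x ∈ K ⊔ Subgroup.zpowers x := Subgroup.mem_sup_right (Subgroup.mem_zpowers x)
  have hd : ⁅K ⊔ Subgroup.zpowers x, K ⊔ Subgroup.zpowers x⁆ ≤ K := by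
    refine (H16.der_sup_le (le_sup_right.trans (hU.trans hn))).trans ?_
    rw [H16.der_eq_bot.2 (H16.comm_of_cyclic (H16.cyclic_zpowers x)), sup_bot_eq]
  generalize hUe : K ⊔ Subgroup.zpowers x = U at hU hxU hd
  have hKU : K ≤ U := hUe ▸ le_sup_left
  obtain ⟨ω, h1, h2⟩ := exists_IrrS_over_abel hKU hd (hn' hKU hU) hA ((hc.coprime_dvd_left
    (Subgroup.relIndex_dvd_card _ _)).coprime_dvd_right ((Subgroup.relIndex_dvd_card _ _).trans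
      (H16.card_dvd hU))) hθ
  obtain ⟨h3, h4⟩ := mem_IrrS.1 h1
  have h5 := Res_mem_cf hU (irr_cf hχ')
  rw [← Res_of_mem χ hxU, ← Res_of_mem χ (H16.conj_mem (hn' hKU hU ha) hxU), cf_apply_eq_sum h5,
    cf_apply_eq_sum h5]
  refine Finset.sum_congr rfl fun ψ hψ => ?_
  rw [dot_Res_left]
  by_cases h0 : dot U χ ψ = 0
  · rw [h0, zero_mul, zero_mul]
  obtain ⟨l, h6, rfl⟩ := exists_mul_eq_over hKU hd (IrrS_subset _ _ hθ) (mem_over.2 ⟨h3, h2⟩)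
    (over_of_under hKU hU hn (IrrS_subset _ _ hθ) hs hχ hψ h0)
  obtain ⟨h7, h8⟩ := mem_IrrQ.1 h6
  rw [Pi.mul_apply, Pi.mul_apply, mem_stab_iff.1 (h4 ha), mem_stab_iff.1 (le_stab_of_comm_le
    (cf_le_supp _ (irr_cf h7)) (hn' hKU hU) (((Subgroup.commutator_mono le_rfl hU).trans hAM).trans h8) ha)]

theorem exists_inv_iff (hZK : Z ≤ K) (hd : ⁅K, K⁆ ≤ Z) (hM : K ⊔ C = M) (hn : M ≤ 𝒩(K))
    (hZ : Z ≤ 𝒞(M)) (hs : Group.IsSolvable M) (hl : IsLin Z lam) (hA : A ≤ 𝒩(K)) (hAZ : A ≤ 𝒞(Z))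
    (hCA : C ≤ 𝒞(A)) (hC : K ⊓ 𝒞(A) ≤ Z) (hc : (Nat.card A).Coprime (Nat.card M)) :
    ∃ θ ∈ IrrO K Z lam, A ≤ stab θ ∧ ∀ χ ∈ IrrO M Z lam, A ≤ stab χ ↔ dot K χ θ ≠ 0 := by
  have hKM : K ≤ M := hM ▸ le_sup_left
  have hCM : C ≤ M := hM ▸ le_sup_right
  have hc' := hc.coprime_dvd_right (H16.card_dvd hKM)
  have hst := cent_le_stab (cf_le_supp _ hl.cf)
  obtain ⟨θ, h1, h2⟩ := exists_IrrS_over_abel hZK hd hA (H16.norm_of_cent hAZ) ((hc'.coprime_dvd_left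
    (Subgroup.relIndex_dvd_card _ _)).coprime_dvd_right (Subgroup.relIndex_dvd_card _ _))
    (mem_IrrS.2 ⟨hl.mem_Irr, hAZ.trans hst⟩)
  obtain ⟨h3, h4⟩ := mem_IrrS.1 h1
  have h5 := mem_over.2 ⟨h3, h2⟩
  have hu : ∀ θ' ∈ IrrO K Z lam, A ≤ stab θ' → θ' = θ := fun θ' a b =>
    eq_of_inv_over hZK hd hA hc' (H16.sol_of_le hs hKM) hC hl.mem_Irr a h5 b h4
  have hMθ : M ≤ stab θ := hM ▸ sup_le (le_stab (irr_cf h3)) fun c hc => hu _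
    (cfj_mem_over (hn (hCM hc)) (H16.norm_of_cent' hZ (hCM hc)) (hst (H16.cent_symm hZ (hCM hc))) h5)
    (mem_IrrS.1 (cfj_mem_IrrS h1 (hn (hCM hc)) (H16.norm_of_cent hCA hc))).2
  have hAM : ⁅A, M⁆ ≤ K := hM ▸ H16.comm_sup_le (H16.comm_le_right hA)
    ((H16.comm_eq_bot.2 (H16.cent_symm hCA)).le.trans bot_le) (H16.le_norm K) (hCM.trans hn)
  refine ⟨θ, h5, h4, fun χ hχ => ⟨fun h => ?_, fun h =>
    le_stab_of_over hKM hn hA hAM hc h1 hMθ (mem_over.2 ⟨(mem_over.1 hχ).1, h⟩)⟩⟩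
  obtain ⟨θ', a, b⟩ := exists_IrrS_under (H16.norm_of_comm_le ((Subgroup.commutator_comm _ _).le.trans
    (hAM.trans hKM))) hKM hn hA ((hc.coprime_dvd_left
    (Subgroup.relIndex_dvd_card _ _)).coprime_dvd_right (Subgroup.relIndex_dvd_card _ _))
    (Or.inr (qsol_of_sol hs K)) (mem_IrrS.2 ⟨(mem_over.1 hχ).1, h⟩)
  exact hu θ' ((eqv_of_over hl (hZK.trans hKM) hZ hχ).over_of_dot hl hZK
    (hZ.trans (H16.cent_anti hKM)) (IrrS_subset _ _ a) b) (mem_IrrS.1 a).2 ▸ b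

/-- odd multiplicity -/
def Od (H : Subgroup G) (χ ψ : G → ℂ) : Prop := ∃ m : ℕ, dot H χ ψ = m ∧ Odd m

theorem Od.ne (h : Od H χ ψ) : dot H χ ψ ≠ 0 := by
  obtain ⟨m, h1, h2⟩ := h
  rw [h1]
  exact Nat.cast_ne_zero.2 h2.pos.ne'

/-- odd multiplicity gives a bijection -/
structure OB (H : Subgroup G) (X Y : Set (G → ℂ)) : Prop where
  ex : ∀ χ ∈ X, ∃ ψ ∈ Y, Od H χ ψ
  uniq : ∀ χ ∈ X, ∀ ψ ∈ Y, ∀ ψ' ∈ Y, Od H χ ψ → Od H χ ψ' → ψ = ψ'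
  inj : ∀ χ ∈ X, ∀ χ' ∈ X, ∀ ψ ∈ Y, Od H χ ψ → Od H χ' ψ → χ = χ'
  surj : ∀ ψ ∈ Y, ∃ χ ∈ X, Od H χ ψ

theorem OB.map {G' : Type u} [Group G'] [Finite G'] {H' : Subgroup G'} {X' Y' : Set (G' → ℂ)}
    (h : OB H' X' Y') {X Y : Set (G → ℂ)} (a b : (G' → ℂ) → (G → ℂ)) (hX : a '' X' = X)
    (hY : b '' Y' = Y) (hd : ∀ χ ∈ X', ∀ ψ ∈ Y', dot H (a χ) (b ψ) = dot H' χ ψ) : OB H X Y := by
  subst hX hY
  have e : ∀ χ ∈ X', ∀ ψ ∈ Y', Od H (a χ) (b ψ) ↔ Od H' χ ψ := fun χ h1 ψ h2 => by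
    rw [Od, hd χ h1 ψ h2, Od]
  refine ⟨?_, ?_, ?_, ?_⟩
  · rintro _ ⟨χ, h1, rfl⟩
    obtain ⟨ψ, h2, h3⟩ := h.ex χ h1
    exact ⟨_, ⟨ψ, h2, rfl⟩, (e χ h1 ψ h2).2 h3⟩
  · rintro _ ⟨χ, h1, rfl⟩ _ ⟨ψ, h2, rfl⟩ _ ⟨ψ', h3, rfl⟩ h4 h5
    rw [h.uniq χ h1 ψ h2 ψ' h3 ((e χ h1 ψ h2).1 h4) ((e χ h1 ψ' h3).1 h5)]
  · rintro _ ⟨χ, h1, rfl⟩ _ ⟨χ', h2, rfl⟩ _ ⟨ψ, h3, rfl⟩ h4 h5
    rw [h.inj χ h1 χ' h2 ψ h3 ((e χ h1 ψ h3).1 h4) ((e χ' h2 ψ h3).1 h5)]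
  · rintro _ ⟨ψ, h2, rfl⟩
    obtain ⟨χ, h1, h3⟩ := h.surj ψ h2
    exact ⟨_, ⟨χ, h1, rfl⟩, (e χ h1 ψ h2).2 h3⟩

theorem ob_central_amb (hZK : Z ≤ K) (hd : ⁅K, K⁆ ≤ Z) (hM : K ⊔ C = M) (hn : M ≤ 𝒩(K))
    (hZ : Z ≤ 𝒞(M)) (hs : Group.IsSolvable M) (hl : IsLin Z lam) (hS : S ≤ 𝒩(K)) (hZC : Z ≤ C)
    (hCS : C ≤ 𝒞(S)) (hC : K ⊓ 𝒞(S) ≤ Z) (hc : (Nat.card S).Coprime (Nat.card M))
    (hP : IsPGroup 2 P) (hPK : P ≤ 𝒩(K)) (hPS : P ≤ 𝒩(S)) (hCP : C ≤ 𝒞(P)) (hC' : K ⊓ 𝒞(P) ≤ Z)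
    (hc' : (Nat.card P).Coprime (Nat.card M)) :
    OB C {χ | χ ∈ IrrO M Z lam ∧ S ≤ stab χ} (IrrO C Z lam) := by
  have hKM : K ≤ M := hM ▸ le_sup_left
  have hCM : C ≤ M := hM ▸ le_sup_right
  have hSZ := H16.cent_symm (hZC.trans hCS)
  have hPZ := H16.cent_symm (hZC.trans hCP)
  obtain ⟨θ, a1, a2, a3⟩ := exists_inv_iff hZK hd hM hn hZ hs hl hS hSZ hCS hC hc
  obtain ⟨θ', b1, b2, b3⟩ := exists_inv_iff hZK hd hM hn hZ hs hl hPK hPZ hCP hC' hc'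
  obtain rfl : θ = θ' := eq_of_inv_over hZK hd hPK (hc'.coprime_dvd_right (H16.card_dvd hKM))
    (H16.sol_of_le hs hKM) hC' hl.mem_Irr a1 b1 (fun g hg => eq_of_inv_over hZK hd hS
      (hc.coprime_dvd_right (H16.card_dvd hKM)) (H16.sol_of_le hs hKM) hC hl.mem_Irr
      (cfj_mem_over (hPK hg) (H16.norm_of_cent hPZ hg) (cent_le_stab (cf_le_supp _ hl.cf) (hPZ hg)) a1)
      a1 (mem_IrrS.1 (cfj_mem_IrrS (mem_IrrS.2 ⟨(mem_over.1 a1).1, a2⟩) (hPK hg) (hPS hg))).2 a2) b2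
  have hg := gb_pgroup Nat.prime_two P hP (hM ▸ H16.norm_sup hPK (H16.norm_of_cent' hCP)) hc'.symm
  have hCe : M ⊓ 𝒞(P) = C := by
    rw [← hM, H16.modr hCP (Or.inr (hCM.trans hn)), sup_eq_right.2 (hC'.trans hZC)]
  rw [hCe] at hg
  have hX : ∀ χ, χ ∈ IrrO M Z lam ∧ S ≤ stab χ → χ ∈ IrrS M P := fun χ h =>
    mem_IrrS.2 ⟨(mem_over.1 h.1).1, (b3 χ h.1).2 ((a3 χ h.1).1 h.2)⟩
  have hO : ∀ χ ∈ Irr M, ∀ ψ, GR 2 C χ ψ → Od C χ ψ := fun χ h1 ψ h2 => by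
    obtain ⟨m, c1, c2⟩ := h2.exists_nat Nat.prime_two hCM h1
    exact ⟨m, c1, Nat.not_even_iff_odd.1 (mt even_iff_two_dvd.1 c2)⟩
  have hG : ∀ χ ∈ IrrS M P, ∀ ψ ∈ IrrO C Z lam, Od C χ ψ → GR 2 C χ ψ := fun χ h1 ψ h2 ⟨m, c1, c2⟩ =>
    hg.gr_of h1 (mem_over.1 h2).1 c1 (mt even_iff_two_dvd.2 (Nat.not_even_iff_odd.2 c2))
  refine ⟨fun χ h => ?_, fun χ h ψ h1 ψ' h2 h3 h4 => (hG χ (hX χ h) ψ h1 h3).unique Nat.prime_two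
    (hG χ (hX χ h) ψ' h2 h4), fun χ h χ' h' ψ h1 h2 h3 => hg.inj χ (hX χ h) χ' (hX χ' h') ψ
      (hG χ (hX χ h) ψ h1 h2) (hG χ' (hX χ' h') ψ h1 h3), fun ψ h => ?_⟩
  · obtain ⟨ψ, h1, h2⟩ := hg.ex χ (hX χ h)
    exact ⟨ψ, (eqv_of_over hl (hZK.trans hKM) hZ h.1).over_of_dot hl hZC
      (hZ.trans (H16.cent_anti hCM)) h1 (h2.dot_ne_zero Nat.prime_two), hO χ (mem_over.1 h.1).1 ψ h2⟩
  · obtain ⟨h1, h2⟩ := mem_over.1 h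
    obtain ⟨χ, h3, h4⟩ := hg.surj ψ h1
    obtain ⟨h5, h6⟩ := mem_IrrS.1 h3
    have h7 := mem_over.2 ⟨h5, dot_ne_trans hZC hCM (irr_char h5) h1 hl.char
      (h4.dot_ne_zero Nat.prime_two) h2⟩
    exact ⟨χ, ⟨h7, (a3 χ h7).2 ((b3 χ h7).1 h6)⟩, hO χ h5 ψ h4⟩

end H21
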