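/-
The relative Glauberman correspondence: the cyclic case.
-/
import Cfsg.Agent.H21.GBr

set_option autoImplicit false
set_option linter.unusedSectionVars false
open H17 Cfsg H15 CF
open Subgroup (zpowers mem_zpowers mem_sup_left mem_sup_right)
open scoped ComplexConjugate

namespace H21

variable {G : Type*} [Group G] [Finite G] {K L E C : Subgroup G} {p : ℕ} {s : G}
  {a a' e e' ξ η χ : G → ℂ}

/-- right translation of a function -/
def sh (s : G) (φ : G → ℂ) : G → ℂ := fun g => φ (g * s)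

theorem sh_one (φ : G → ℂ) : sh 1 φ = φ := funext fun g => by rw [sh, mul_one]

theorem sum_coset_ti (hCK : C ≤ K) (hs : s ∈ 𝒩(K))
    (hti : ∀ x ∈ K, ∀ c ∈ C, ∀ c' ∈ C, x * (c * s) * x⁻¹ = c' * s → x ∈ C)
    {f : G → ℂ} (hf : ∀ x ∈ K, ∀ y, f (x * y * x⁻¹) = f y) :
    Nat.card C * ∑ g ∈ fs (K : Set G), f (g * s) =
      Nat.card K * ∑ c ∈ fs (C : Set G), f (c * s) := by
  classical
  set P := fs (K : Set G) ×ˢ fs (C : Set G) with hP
  set F : G × G → G := fun p => p.1 * (p.2 * s) * p.1⁻¹ * s⁻¹ with hF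
  have hmaps : ∀ p ∈ P, F p ∈ fs (K : Set G) := by
    rintro ⟨x, c⟩ hp
    simp only [hP, Finset.mem_product, mem_fs, SetLike.mem_coe] at hp ⊢
    have := mul_mem (mul_mem hp.1 (hCK hp.2)) (H16.conj_mem hs (inv_mem hp.1))
    simpa only [hF, mul_assoc] using this
  have hle : ∀ g ∈ fs (K : Set G), (P.filter fun p => F p = g).card ≤ Nat.card C := by
    intro g _
    rcases (P.filter fun p => F p = g).eq_empty_or_nonempty with h | ⟨⟨x, c⟩, h⟩
    · simp [h]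
    rw [← card_fs_sub]
    simp only [hP, Finset.mem_filter, Finset.mem_product, mem_fs, SetLike.mem_coe] at h
    refine Finset.card_le_card_of_injOn (fun p => x⁻¹ * p.1) ?_ ?_
    · rintro ⟨y, d⟩ hp
      simp only [hP, Finset.coe_filter, Finset.mem_product, mem_fs, SetLike.mem_coe,
        Set.mem_ofPred_eq] at hp ⊢
      refine hti _ (K.mul_mem (K.inv_mem h.1.1) hp.1.1) _ hp.1.2 _ h.1.2 ?_
      have e := mul_right_cancel (hp.2.trans h.2.symm)
      simp only at e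
      rw [mul_inv_rev, inv_inv, show x⁻¹ * y * (d * s) * (y⁻¹ * x) = x⁻¹ * (y * (d * s) * y⁻¹) * x by
        group, e]
      group
    · rintro ⟨y, d⟩ hp ⟨y', d'⟩ hp' e
      simp only [Finset.coe_filter, Set.mem_ofPred_eq] at hp hp'
      obtain rfl : y = y' := mul_left_cancel e
      have e := hp.2.trans hp'.2.symm
      simp only [hF, mul_left_inj, mul_right_inj] at e
      rw [e]
  have htot : ∑ g ∈ fs (K : Set G), (P.filter fun p => F p = g).card =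
      ∑ g ∈ fs (K : Set G), Nat.card C := by
    rw [← Finset.card_eq_sum_card_fiberwise hmaps, hP, Finset.card_product, Finset.sum_const,
      card_fs_sub C, smul_eq_mul]
  have heq := (Finset.sum_eq_sum_iff_of_le hle).1 htot
  have h1 : ∑ p ∈ P, f (F p * s) = Nat.card K * ∑ c ∈ fs (C : Set G), f (c * s) := by
    rw [hP, Finset.sum_product, ← sum_sub_const]
    refine sum_fs_congr fun x hx => Finset.sum_congr rfl fun c _ => ?_
    simp only [hF, inv_mul_cancel_right]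
    exact hf x hx _
  rw [← h1, ← Finset.sum_fiberwise_of_maps_to hmaps, Finset.mul_sum]
  refine Finset.sum_congr rfl fun g hg => ?_
  rw [Finset.sum_congr rfl (g := fun _ => f (g * s)) fun p hp => by rw [(Finset.mem_filter.1 hp).2],
    Finset.sum_const, heq g hg, nsmul_eq_mul]

theorem dot_sh_eq (hCE : C ≤ E) (hn : E ≤ 𝒩(C)) (hξ : ξ ∈ cf E) (hη : η ∈ cf E) (s : G) :
    dot C (sh s ξ) (sh s η) = ∑ β ∈ IrrQ E C, dot E ξ (β * η) * β s := by
  have h1 := sum_coset_eq hCE hn (mul_mem_cf hξ (star_mem_cf hη)) s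
  simp only [dot_mul_left, star_star] at h1
  rw [dot_def, inv_mul_eq_iff_eq_mul₀ (card_ne _), ← h1]
  rfl

theorem aut_dot_sh (u : ℂ →+* ℂ) (h : η ∈ vchar E) :
    u (dot C (sh s ξ) (sh s η)) = dot C (sh s (aut u ξ)) (sh s (aut u η)) := by
  rw [dot_def, dot_def, map_mul, map_inv₀, map_natCast, map_sum]
  congr 1
  refine Finset.sum_congr rfl fun c _ => ?_
  rw [map_mul]
  exact congrArg _ (congrFun (aut_star u h) (c * s))

/-- `a` extends an irreducible character of `K` to `K ⟨s⟩` -/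
def Ext (K : Subgroup G) (s : G) (a : G → ℂ) : Prop :=
  IsChar (K ⊔ zpowers s) a ∧ Res (K : Set G) a ∈ Irr K

theorem Ext.aut (h : Ext K s a) (u : ℂ →+* ℂ) : Ext K s (aut u a) :=
  ⟨h.1.aut u, aut_Res u _ a ▸ aut_mem_Irr u h.2⟩

theorem supz_le_norm (hs : s ∈ 𝒩(K)) : K ⊔ zpowers s ≤ 𝒩(K) :=
  sup_le_norm (Subgroup.zpowers_le.2 hs)

theorem der_supz_le (hs : s ∈ 𝒩(K)) : ⁅K ⊔ zpowers s, K ⊔ zpowers s⁆ ≤ K :=
  (H16.der_sup_le (Subgroup.zpowers_le.2 hs)).trans (sup_le le_rfl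
    ((H16.der_eq_bot.2 inferInstance).le.trans bot_le))

theorem Ext.mem (h : Ext K s a) (hs : s ∈ 𝒩(K)) : Res (K : Set G) a ∈ IrrS K (zpowers s) :=
  mem_IrrS.2 ⟨h.2, le_sup_right.trans (le_stab_Res (supz_le_norm hs) h.1.cf)⟩

theorem exists_Ext (hs : s ∈ 𝒩(K)) (h : χ ∈ IrrS K (zpowers s)) :
    ∃ a, Ext K s a ∧ Res (K : Set G) a = χ := by
  obtain ⟨h1, h2⟩ := mem_IrrS.1 h
  obtain ⟨a, h3, rfl⟩ := exists_ext_cyclic le_sup_left (supz_le_norm hs) h1
    (sup_le (le_stab (irr_cf h1)) h2) (H16.cyclic_zpowers s) rfl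
  exact ⟨a, ⟨irr_char h3, h1⟩, rfl⟩

theorem ext_of_ne (hs : s ∈ 𝒩(K)) (h : a ∈ Irr (K ⊔ zpowers s)) {c : G} (hc : c ∈ K)
    (h0 : a (c * s) ≠ 0) : Ext K s a := by
  rcases homogeneous_or_induced le_sup_left (supz_le_norm hs) h with
    ⟨θ, hθ, hst, e, he, h1⟩ | ⟨T, h1, h2, ψ, -, rfl⟩
  · obtain ⟨ξ, hξ, rfl⟩ := exists_Ext hs (mem_IrrS.2 ⟨hθ, le_sup_right.trans hst⟩)
    obtain ⟨β, hβ, rfl⟩ := (gall1_mem le_sup_left (supz_le_norm hs) hξ.1 hθ).1
      (mem_over.2 ⟨h, by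
        rw [← dot_Res_left, h1, dot_smul_left, dot_irr_self hθ, mul_one]
        exact Nat.cast_ne_zero.2 he.ne'⟩)
    refine ⟨irr_char h, ?_⟩
    rw [Res_mul_right, mul_comm]
    exact mul_lin_mem_Irr_of_le le_sup_left hθ (isLin_of_IrrQ (der_supz_le hs) hβ)
  · refine absurd (mem_supp.1 (Ind_mem_supp_normal le_rfl
      (H16.norm_of_der_le ((der_supz_le hs).trans h1) h2.le) ψ) _ fun hm =>
        h2.not_ge (sup_le h1 ?_)) h0
    rw [Subgroup.zpowers_le]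
    exact (T.mul_mem_cancel_left (h1 hc)).1 hm

theorem Ext.self (h : Ext K s a) (hs : s ∈ 𝒩(K)) : dot K (sh s a) (sh s a) = 1 := by
  classical
  rw [dot_sh_eq le_sup_left (supz_le_norm hs) h.1.cf h.1.cf,
    Finset.sum_eq_single_of_mem _ (one_mem_IrrQ le_sup_left)]
  · rw [one_mul_cf h.1.cf, dot_irr_self (h.1.mem_Irr_of_Res le_sup_left h.2),
      one_of_mem (mem_sup_right (mem_zpowers s)), one_mul]
  · intro β hβ hne
    have := gall1_dot le_sup_left (supz_le_norm hs) h.1 h.2 (one_mem_IrrQ le_sup_left) hβ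
    rw [one_mul_cf h.1.cf, if_neg hne.symm] at this
    rw [this, zero_mul]

theorem Ext.eq_of_ne (h : Ext K s a) (h' : Ext K s a') (hs : s ∈ 𝒩(K))
    (h0 : dot K (sh s a) (sh s a') ≠ 0) : Res (K : Set G) a = Res (K : Set G) a' := by
  rw [dot_sh_eq le_sup_left (supz_le_norm hs) h.1.cf h'.1.cf] at h0
  obtain ⟨β, hβ, h1⟩ := Finset.exists_ne_zero_of_sum_ne_zero h0
  have e := irr_eq_of_dot_ne (h.1.mem_Irr_of_Res le_sup_left h.2)
    (gall1_irr le_sup_left (supz_le_norm hs) h'.1 h'.2 hβ) (left_ne_zero_of_mul h1)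
  have := (mem_over.1 ((gall1_mem le_sup_left (supz_le_norm hs) h'.1 h'.2).2 ⟨β, hβ, e.symm⟩)).2
  rw [← dot_Res_left] at this
  exact irr_eq_of_dot_ne h.2 h'.2 this

theorem md_sum {ι : Type*} {q : ℕ} (hq : q ≠ 0) {ε : ℂ} (hε : IsPrimitiveRoot ε q) (X : Finset ι)
    (n : ι → ℕ) (z : ι → ℂ) (hz : ∀ i ∈ X, z i ^ q = 1) :
    ∃ w, IsIntegral ℤ w ∧ ∑ i ∈ X, (n i : ℂ) - ∑ i ∈ X, n i * z i = (1 - ε) * w := by
  haveI := NeZero.mk hq
  have h : ∀ i ∈ X, ∃ j, ε ^ j = z i := fun i hi =>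
    (hε.eq_pow_of_pow_eq_one (hz i hi)).imp fun _ h => h.2
  choose! j hj using h
  refine ⟨∑ i ∈ X, n i * ∑ k ∈ Finset.range (j i), ε ^ k, IsIntegral.sum _ fun i _ =>
    (isIntegral_natCast _).mul (IsIntegral.sum _ fun k _ =>
      (hε.isIntegral (Nat.pos_of_ne_zero hq)).pow k), ?_⟩
  rw [← Finset.sum_sub_distrib, Finset.mul_sum]
  exact Finset.sum_congr rfl fun i hi => by rw [mul_left_comm, mul_neg_geom_sum, hj i hi]; ring

/-- the multiplicity, as an integer -/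
noncomputable def mi (C : Subgroup G) (χ ξ : G → ℂ) : ℤ := ⌊(dot C χ ξ).re⌋

theorem mi_eq {n : ℤ} (h : dot C χ ξ = n) : mi C χ ξ = n := by simp [mi, h]

theorem mi_cast (hCK : C ≤ K) (h : IsChar K χ) (h' : IsChar C ξ) : (mi C χ ξ : ℂ) = dot C χ ξ := by
  obtain ⟨n, hn⟩ := h.dot_nat_of_le hCK h'
  rw [mi_eq (n := n) (by simpa using hn), hn, Int.cast_natCast]

/-- the setting of the cyclic case -/
structure CS (p : ℕ) (K C : Subgroup G) (s : G) : Prop where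
  hp : p.Prime
  le : C ≤ K
  nK : s ∈ 𝒩(K)
  nC : s ∈ 𝒩(C)
  pw : ∃ k, s ^ p ^ k = 1
  ti : ∀ x ∈ K, ∀ c ∈ C, ∀ c' ∈ C, x * (c * s) * x⁻¹ = c' * s → x ∈ C

namespace CS

variable (h : CS p K C s)
include h

theorem dot_sh (hξ : ξ ∈ cf (K ⊔ zpowers s)) (hη : η ∈ cf (K ⊔ zpowers s)) :
    dot C (sh s ξ) (sh s η) = dot K (sh s ξ) (sh s η) := by
  have := sum_coset_ti h.le h.nK h.ti (f := ξ * star η) fun x hx y =>
    cf_conj (mul_mem_cf hξ (star_mem_cf hη)) y (mem_sup_left hx)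
  rw [dot_def, dot_def, inv_mul_eq_iff_eq_mul₀ (card_ne _), mul_left_comm,
    eq_inv_mul_iff_mul_eq₀ (card_ne _)]
  exact this.symm

theorem key (ha : Ext K s a) (he : Ext C s e) :
    (dot C (sh s a) (sh s e) = 0 → (p : ℤ) ∣ mi C a e) ∧ (dot C (sh s a) (sh s e) ≠ 0 →
      (p : ℤ) ∣ mi C a e ^ 2 - 1 ∧ ∀ c ∈ C, sh s a c = dot C (sh s a) (sh s e) * sh s e c) := by
  obtain ⟨k, hk⟩ := h.pw
  have hq : p ^ k ≠ 0 := pow_ne_zero _ h.hp.ne_zero
  have hε := Complex.isPrimitiveRoot_exp _ hq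
  have hE : C ⊔ zpowers s ≤ K ⊔ zpowers s := sup_le_sup_right h.le _
  have hs : s ∈ C ⊔ zpowers s := mem_sup_right (mem_zpowers s)
  have h1 : ∀ β ∈ IrrQ (C ⊔ zpowers s) C, ∃ n : ℕ, dot (C ⊔ zpowers s) a (β * e) = n :=
    fun β hβ => ha.1.dot_nat_of_le hE ((irr_char (mem_IrrQ.1 hβ).1).mul he.1)
  choose! n hn using h1
  have h2 : ∀ t ∈ C ⊔ zpowers s, dot C (sh t a) (sh t e) = ∑ β ∈ IrrQ (C ⊔ zpowers s) C,
      n β * β t := fun t ht => by
    rw [dot_congr (φ := sh t a) (φ' := sh t (Res ((C ⊔ zpowers s : Subgroup G) : Set G) a)) (fun c hc =>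
      (Res_of_mem _ (mul_mem (mem_sup_left hc) ht)).symm) (fun _ _ => rfl), dot_sh_eq le_sup_left
      (supz_le_norm h.nC) (Res_mem_cf hE ha.1.cf) he.1.cf]
    exact Finset.sum_congr rfl fun β hβ => by rw [dot_Res_left, hn β hβ]
  have hl := fun β (hβ : β ∈ IrrQ (C ⊔ zpowers s) C) => isLin_of_IrrQ (der_supz_le h.nC) hβ
  have h3 : (mi C a e : ℂ) = ∑ β ∈ IrrQ (C ⊔ zpowers s) C, (n β : ℂ) := by
    have := h2 1 (one_mem _)
    rw [Finset.sum_congr rfl fun β hβ => by rw [(hl β hβ).one_apply, mul_one], ← Nat.cast_sum]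
      at this
    rw [mi_eq (n := (∑ β ∈ IrrQ (C ⊔ zpowers s) C, n β : ℕ)) (by simpa [sh_one] using this)]
    simp
  have h4 : ∀ β ∈ IrrQ (C ⊔ zpowers s) C, β s ^ p ^ k = 1 := fun β hβ => by
    rw [← (hl β hβ).map_pow hs, hk, (hl β hβ).one_apply]
  obtain ⟨w, hw, h5⟩ := md_sum hq hε _ n _ h4
  obtain ⟨w', hw', h6⟩ := md_sum hq hε _ n (fun β => conj (β s)) fun β hβ => by
    rw [← map_pow, h4 β hβ, map_one]
  set b := dot C (sh s a) (sh s e) with hb
  rw [← h3, ← h2 s hs] at h5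
  rw [← h3, show ∑ β ∈ IrrQ (C ⊔ zpowers s) C, n β * conj (β s) = conj b by
    simp [hb, h2 s hs]] at h6
  have h7 : IsIntegral ℤ b := by
    rw [hb, h2 s hs]
    exact IsIntegral.sum _ fun β hβ => (isIntegral_natCast _).mul ((hl β hβ).char.isIntegral s)
  have h8 : ∀ {a e}, Ext K s a → Ext C s e → nrm C (sh s a) = 1 ∧ nrm C (sh s e) = 1 :=
    fun ha he => ⟨by rw [nrm, h.dot_sh ha.1.cf ha.1.cf, ha.self h.nK, Complex.one_re],
      by rw [nrm, he.self h.nC, Complex.one_re]⟩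
  have h9 : ∀ {a e}, Ext K s a → Ext C s e → ‖dot C (sh s a) (sh s e)‖ ≤ 1 :=
      fun {a e} ha he => by
    have := norm_dot_sq_le (H := C) (sh s a) (sh s e)
    rwa [(h8 ha he).1, (h8 ha he).2, mul_one, sq_le_one_iff₀ (norm_nonneg _)] at this
  refine ⟨fun h0 => int_dvd_of_mod' h.hp hε.pow_eq_one hw (by rw [← h5, ← hb, h0, sub_zero]),
    fun h0 => ?_⟩
  have h10 : ‖b‖ = 1 := (h9 ha he).eq_of_not_lt fun h10 => h0 (eq_zero_of_conj_norm_le h7
    (fun u => (aut_dot_sh (u : ℂ →+* ℂ) he.1.vchar).symm ▸ h9 (ha.aut u) (he.aut u)) h10)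
  have h11 : b * conj b = 1 := by rw [Complex.mul_conj', h10]; simp
  refine ⟨int_dvd_of_mod' h.hp hε.pow_eq_one ((hw.mul (isIntegral_intCast (mi C a e))).add
    (h7.mul hw')) ?_, fun c hc => sub_eq_zero.1
        ((nrm_eq_zero_iff (φ := sh s a - b • sh s e)).1 ?_ c hc)⟩
  · rw [Int.cast_sub, Int.cast_pow, Int.cast_one]
    linear_combination (mi C a e : ℂ) * h5 + b * h6 + h11
  rw [nrm_sub, nrm_smul, (h8 ha he).1, (h8 ha he).2, h10, dot_smul_right, ← hb, mul_comm (conj b),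
    h11]
  norm_num

theorem exists_right (ha : Ext K s a) : ∃ e, Ext C s e ∧ dot C (sh s a) (sh s e) ≠ 0 := by
  have hE : C ⊔ zpowers s ≤ K ⊔ zpowers s := sup_le_sup_right h.le _
  by_contra! h0
  have h1 := (h.dot_sh ha.1.cf ha.1.cf).trans (ha.self h.nK)
  rw [dot_congr (ψ' := ∑ e ∈ Irr (C ⊔ zpowers s), dot (C ⊔ zpowers s) a e • sh s e) (fun _ _ => rfl)
    fun c hc => by
      simpa [sh, Res_of_mem _ (mul_mem (mem_sup_left hc) (mem_sup_right (mem_zpowers s))),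
        dot_Res_left]
        using cf_apply_eq_sum (Res_mem_cf hE ha.1.cf) (c * s),
    dot_sum_right, Finset.sum_eq_zero fun e he => ?_] at h1
  · exact zero_ne_one h1
  rw [dot_smul_right]
  by_cases h2 : ∃ c ∈ C, e (c * s) ≠ 0
  · obtain ⟨c, hc, h2⟩ := h2
    rw [h0 e (ext_of_ne h.nC he hc h2), mul_zero]
  push Not at h2
  rw [dot_congr (ψ := sh s e) (ψ' := 0) (fun _ _ => rfl) h2, dot_zero_right, mul_zero]

theorem exists_left (he : Ext C s e) : ∃ a, Ext K s a ∧ dot C (sh s a) (sh s e) ≠ 0 := by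
  classical
  obtain ⟨c₀, hc₀, h1⟩ : ∃ c ∈ C, e (c * s) ≠ 0 := by
    by_contra! h1
    exact zero_ne_one ((dot_zero_left _).symm.trans
      ((dot_congr (fun c hc => (h1 c hc).symm) fun _ _ => rfl).trans (he.self h.nC)))
  have hs : s ∈ K ⊔ zpowers s := mem_sup_right (mem_zpowers s)
  by_contra! h0
  have h2 : ∑ c ∈ fs (C : Set G), (∑ a ∈ Irr (K ⊔ zpowers s), a (c * s) * conj (a (c₀ * s))) *
      conj (e (c * s)) = 0 := by
    simp only [Finset.sum_mul]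
    rw [Finset.sum_comm]
    refine Finset.sum_eq_zero fun a ha => ?_
    by_cases h2 : a (c₀ * s) = 0
    · simp [h2]
    have := h0 a (ext_of_ne h.nK ha (h.le hc₀) h2)
    rw [dot_def, mul_eq_zero, or_iff_right (inv_ne_zero (card_ne C))] at this
    rw [← zero_mul (conj (a (c₀ * s))), ← this, Finset.sum_mul]
    exact Finset.sum_congr rfl fun c _ => mul_right_comm _ _ _
  rw [sum_fs_congr (g := fun c => ((if ∃ x ∈ K ⊔ zpowers s, x * (c * s) * x⁻¹ = c₀ * s then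
    Nat.card ↥((K ⊔ zpowers s) ⊓ 𝒞₁(c * s)) else 0 : ℕ) : ℂ) * conj (e (c₀ * s))) fun c hc => ?_,
    ← Finset.sum_mul, ← Nat.cast_sum, mul_eq_zero, map_eq_zero, or_iff_left h1, Nat.cast_eq_zero,
    Finset.sum_eq_zero_iff] at h2
  · have := h2 c₀ (mem_fs.2 hc₀)
    rw [if_pos ⟨1, one_mem _, by simp⟩] at this
    exact Nat.card_pos.ne' this
  rw [column_orth (mul_mem (mem_sup_left (h.le hc)) hs)]
  split_ifs with h3
  · obtain ⟨x, hx, h3⟩ := h3
    obtain ⟨y, hy, z, hz, rfl⟩ := (H16.mem_sup_l (Subgroup.zpowers_le.2 h.nK)).1 hx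
    have h4 : z * s = s * z := (H16.mem_cent1.1 (H16.le_cent1.2 (H16.comm_iff.1 inferInstance
      (mem_zpowers s)) hz))
    have h5 := h.ti y hy _ (H16.conj_mem (Subgroup.zpowers_le.2 h.nC hz) hc) _ hc₀ (by
      rw [← h3, mul_inv_rev]
      simp only [mul_assoc, mul_right_inj]
      rw [← mul_assoc s, ← mul_assoc z⁻¹, inv_mul_eq_iff_eq_mul.2 (by
        rw [← mul_assoc, h4, mul_inv_cancel_right])])
    rw [← h3, cf_conj he.1.cf _ (mul_mem (mem_sup_left h5) (mem_sup_right hz))]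
  · simp

end CS

end H21
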