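/-
The relative Glauberman correspondence.
-/
import Cfsg.Agent.H21.RG1

set_option autoImplicit false
set_option linter.unusedSectionVars false
open H17 Cfsg H15 CF
open Subgroup (zpowers mem_zpowers mem_sup_left mem_sup_right)
open scoped ComplexConjugate

namespace H21

universe u
variable {G : Type u} [Group G] [Finite G] {K L D C N S T P : Subgroup G} {p : ℕ} {s : G}
  {a a' e e' ξ η χ δ : G → ℂ}

theorem dvd_sum_sub (hp : p.Prime) (hP : IsPGroup p P) (X : Finset (G → ℂ))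
    (hX : ∀ φ ∈ X, ∀ g ∈ P, cfj g φ ∈ X) (f : (G → ℂ) → ℤ)
    (hf : ∀ φ ∈ X, ∀ g ∈ P, f (cfj g φ) = f φ) (h1 : δ ∈ X) (h2 : P ≤ stab δ)
    (h : ∀ φ ∈ X, P ≤ stab φ → φ ≠ δ → (p : ℤ) ∣ f φ) : (p : ℤ) ∣ ∑ φ ∈ X, f φ - f δ := by
  classical
  rw [← Finset.sum_erase_eq_sub h1]
  refine dvd_sum_of_orb hp hP _ (fun φ hφ g hg => Finset.mem_erase.2 ⟨fun e => ?_,
    hX φ (Finset.mem_of_mem_erase hφ) g hg⟩) f (fun φ hφ => hf φ (Finset.mem_of_mem_erase hφ))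
    fun φ hφ h3 => h φ (Finset.mem_of_mem_erase hφ) h3 (Finset.ne_of_mem_erase hφ)
  refine Finset.ne_of_mem_erase hφ ?_
  rw [← mem_stab.1 (h2 (inv_mem hg)), ← e]
  exact funext fun x => by simp [cfj, mul_assoc]

theorem fixed_of_unique (hp : p.Prime) (hP : IsPGroup p P) (hSP : S ≤ P) (X : Finset (G → ℂ))
    (hX : ∀ φ ∈ X, ∀ g ∈ P, cfj g φ ∈ X) (h1 : δ ∈ X) (h2 : S ≤ stab δ)
    (h : ∀ φ ∈ X, S ≤ stab φ → φ = δ) : P ≤ stab δ := by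
  by_contra h0
  have h3 := dvd_sum_of_orb hp hP X hX (fun _ => 1) (fun _ _ _ _ => rfl)
    fun φ hφ h3 => absurd (h φ hφ (hSP.trans h3) ▸ h3) h0
  have h4 := dvd_sum_sub hp (hP.to_le hSP) X (fun φ hφ g hg => hX φ hφ g (hSP hg)) (fun _ => 1)
    (fun _ _ _ _ => rfl) h1 h2 fun φ hφ h3 h4 => absurd (h φ hφ h3) h4
  exact (Nat.prime_iff_prime_int.1 hp).not_dvd_one ((dvd_sub_right h3).1 h4)

theorem mi_cfj {g : G} (hg : g ∈ 𝒩(C)) (χ ξ : G → ℂ) : mi C (cfj g χ) (cfj g ξ) = mi C χ ξ := by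
  rw [mi, dot_cfj_norm hg, mi]

/-- the relation "multiplicity prime to `p`" is a bijection with multiplicities `± 1` -/
structure RB (p : ℕ) (K C S : Subgroup G) : Prop where
  ex : ∀ χ ∈ IrrS K S, ∃ ξ ∈ IrrS C S, ¬ (p : ℤ) ∣ mi C χ ξ
  ex' : ∀ ξ ∈ IrrS C S, ∃ χ ∈ IrrS K S, ¬ (p : ℤ) ∣ mi C χ ξ
  sq : ∀ χ ∈ IrrS K S, ∀ ξ ∈ IrrS C S, ¬ (p : ℤ) ∣ mi C χ ξ → (p : ℤ) ∣ mi C χ ξ ^ 2 - 1
  un : ∀ χ ∈ IrrS K S, ∀ ξ ∈ IrrS C S, ∀ ξ' ∈ IrrS C S, ¬ (p : ℤ) ∣ mi C χ ξ →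
    ¬ (p : ℤ) ∣ mi C χ ξ' → ξ = ξ'
  un' : ∀ ξ ∈ IrrS C S, ∀ χ ∈ IrrS K S, ∀ χ' ∈ IrrS K S, ¬ (p : ℤ) ∣ mi C χ ξ →
    ¬ (p : ℤ) ∣ mi C χ' ξ → χ = χ'

theorem RB.refl (hp : p.Prime) : RB p K K S := by
  classical
  have h1 : ∀ χ ∈ IrrS K S, mi K χ χ = 1 := fun χ h =>
    mi_eq (by rw [dot_irr_self (mem_IrrS.1 h).1, Int.cast_one])
  have h2 : ∀ χ ∈ IrrS K S, ∀ ξ ∈ IrrS K S, ¬ (p : ℤ) ∣ mi K χ ξ → χ = ξ := fun χ h ξ h' h0 =>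
    irr_eq_of_dot_ne (mem_IrrS.1 h).1 (mem_IrrS.1 h').1 fun e =>
      h0 (by rw [mi_eq (n := 0) (by rw [e, Int.cast_zero])]; exact dvd_zero _)
  have h3 := (Nat.prime_iff_prime_int.1 hp).not_dvd_one
  exact ⟨fun χ h => ⟨χ, h, (h1 χ h).symm ▸ h3⟩, fun χ h => ⟨χ, h, (h1 χ h).symm ▸ h3⟩,
    fun χ h ξ h' h0 => by rw [← h2 χ h ξ h' h0, h1 χ h]; exact dvd_zero _,
    fun χ h ξ a ξ' b c d => (h2 χ h ξ a c).symm.trans (h2 χ h ξ' b d),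
    fun χ h ξ a ξ' b c d => (h2 ξ a χ h c).trans (h2 ξ' b χ h d).symm⟩

theorem CS.rb (h : CS p K C s) : RB p K C (zpowers s) := by
  have hm : ∀ a e : G → ℂ, mi C (Res (K : Set G) a) (Res (C : Set G) e) = mi C a e := fun a e => by
    rw [mi, mi, dot_Res_right, dot_congr (fun c hc => Res_of_mem a (h.le hc)) fun _ _ => rfl]
  have h1 : ∀ {a e}, Ext K s a → Ext C s e → dot C (sh s a) (sh s e) ≠ 0 →
      ¬ (p : ℤ) ∣ mi C (Res (K : Set G) a) (Res (C : Set G) e) := fun ha he h0 h1 =>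
    (Nat.prime_iff_prime_int.1 h.hp).not_dvd_one
      ((dvd_sub_right (dvd_pow (hm _ _ ▸ h1) two_ne_zero)).1 ((h.key ha he).2 h0).1)
  have h2 : ∀ {a e}, Ext K s a → Ext C s e →
      ¬ (p : ℤ) ∣ mi C (Res (K : Set G) a) (Res (C : Set G) e) → dot C (sh s a) (sh s e) ≠ 0 :=
    fun ha he h0 h1 => h0 (by rw [hm]; exact (h.key ha he).1 h1)
  refine ⟨fun χ hχ => ?_, fun ξ hξ => ?_, fun χ hχ ξ hξ h0 => ?_, fun χ hχ ξ hξ ξ' hξ' h3 h4 => ?_,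
    fun ξ hξ χ hχ χ' hχ' h3 h4 => ?_⟩
  · obtain ⟨a, ha, rfl⟩ := exists_Ext h.nK hχ
    obtain ⟨e, he, h0⟩ := h.exists_right ha
    exact ⟨_, he.mem h.nC, h1 ha he h0⟩
  · obtain ⟨e, he, rfl⟩ := exists_Ext h.nC hξ
    obtain ⟨a, ha, h0⟩ := h.exists_left he
    exact ⟨_, ha.mem h.nK, h1 ha he h0⟩
  · obtain ⟨a, ha, rfl⟩ := exists_Ext h.nK hχ
    obtain ⟨e, he, rfl⟩ := exists_Ext h.nC hξ
    rw [hm]
    exact ((h.key ha he).2 (h2 ha he h0)).1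
  · obtain ⟨a, ha, rfl⟩ := exists_Ext h.nK hχ
    obtain ⟨e, he, rfl⟩ := exists_Ext h.nC hξ
    obtain ⟨e', he', rfl⟩ := exists_Ext h.nC hξ'
    refine he.eq_of_ne he' h.nC fun h0 => h2 ha he' h4 ?_
    rw [dot_congr (φ' := dot C (sh s a) (sh s e) • sh s e) ((h.key ha he).2 (h2 ha he h3)).2
      fun _ _ => rfl, dot_smul_left, h0, mul_zero]
  · obtain ⟨e, he, rfl⟩ := exists_Ext h.nC hξ
    obtain ⟨a, ha, rfl⟩ := exists_Ext h.nK hχ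
    obtain ⟨a', ha', rfl⟩ := exists_Ext h.nK hχ'
    refine ha.eq_of_ne ha' h.nK ?_
    rw [← h.dot_sh ha.1.cf ha'.1.cf, dot_congr (ψ' := dot C (sh s a') (sh s e) • sh s e)
      (fun _ _ => rfl) ((h.key ha' he).2 (h2 ha' he h4)).2, dot_smul_right]
    exact mul_ne_zero ((map_ne_zero _).2 (h2 ha' he h4)) (h2 ha he h3)

theorem RB.lift (h : RB p K C S) (hp : p.Prime) (hP : IsPGroup p P) (hSP : S ≤ P) (hK : P ≤ 𝒩(K))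
    (hC : P ≤ 𝒩(C)) : RB p K C P := by
  classical
  have m := fun K => IrrS_mono (K := K) hSP
  refine ⟨fun χ hχ => ?_, fun ξ hξ => ?_, fun χ a ξ b => h.sq χ (m _ a) ξ (m _ b),
    fun χ a ξ b ξ' c => h.un χ (m _ a) ξ (m _ b) ξ' (m _ c),
    fun χ a ξ b ξ' c => h.un' χ (m _ a) ξ (m _ b) ξ' (m _ c)⟩
  · obtain ⟨ξ, h1, h2⟩ := h.ex χ (m _ hχ)
    refine ⟨ξ, mem_IrrS.2 ⟨(mem_IrrS.1 h1).1, fixed_of_unique hp hP hSP ((Irr C).filter fun φ =>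
      ¬ (p : ℤ) ∣ mi C χ φ) (fun φ hφ g hg => ?_) (Finset.mem_filter.2 ⟨(mem_IrrS.1 h1).1, h2⟩)
      (mem_IrrS.1 h1).2 fun φ hφ h3 => h.un χ (m _ hχ) φ (mem_IrrS.2
        ⟨(Finset.mem_filter.1 hφ).1, h3⟩) ξ h1 (Finset.mem_filter.1 hφ).2 h2⟩, h2⟩
    rw [Finset.mem_filter] at hφ ⊢
    refine ⟨cfj_mem_Irr_norm (hC hg) hφ.1, ?_⟩
    rw [← mem_stab.1 ((mem_IrrS.1 hχ).2 hg), mi_cfj (hC hg)]
    exact hφ.2
  · obtain ⟨χ, h1, h2⟩ := h.ex' ξ (m _ hξ)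
    refine ⟨χ, mem_IrrS.2 ⟨(mem_IrrS.1 h1).1, fixed_of_unique hp hP hSP ((Irr K).filter fun φ =>
      ¬ (p : ℤ) ∣ mi C φ ξ) (fun φ hφ g hg => ?_) (Finset.mem_filter.2 ⟨(mem_IrrS.1 h1).1, h2⟩)
      (mem_IrrS.1 h1).2 fun φ hφ h3 => h.un' ξ (m _ hξ) φ (mem_IrrS.2
        ⟨(Finset.mem_filter.1 hφ).1, h3⟩) χ h1 (Finset.mem_filter.1 hφ).2 h2⟩, h2⟩
    rw [Finset.mem_filter] at hφ ⊢
    refine ⟨cfj_mem_Irr_norm (hK hg) hφ.1, ?_⟩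
    rw [← mem_stab.1 ((mem_IrrS.1 hξ).2 hg), mi_cfj (hC hg)]
    exact hφ.2

theorem RB.cong (h : RB p K D P) (hp : p.Prime) (hP : IsPGroup p P) (hDK : D ≤ K) (hD : P ≤ 𝒩(D))
    (hχ : χ ∈ IrrS K P) (hδ : δ ∈ IrrS D P) (h0 : ¬ (p : ℤ) ∣ mi D χ δ) (f : (G → ℂ) → ℤ)
    (hf : ∀ φ ∈ Irr D, ∀ g ∈ P, f (cfj g φ) = f φ) :
    (p : ℤ) ∣ ∑ φ ∈ Irr D, mi D χ φ * f φ - mi D χ δ * f δ := by
  refine dvd_sum_sub hp hP _ (fun φ hφ g hg => cfj_mem_Irr_norm (hD hg) hφ)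
    (fun φ => mi D χ φ * f φ) (fun φ hφ g hg => ?_) (mem_IrrS.1 hδ).1 (mem_IrrS.1 hδ).2
    fun φ hφ h1 h2 => Dvd.dvd.mul_right (of_not_not fun h3 =>
      h2 (h.un χ hχ φ (mem_IrrS.2 ⟨hφ, h1⟩) δ hδ h3 h0)) _
  rw [hf φ hφ g hg, ← mi_cfj (hD hg) χ φ, mem_stab.1 ((mem_IrrS.1 hχ).2 hg)]

theorem RB.trans (h : RB p K D P) (h' : RB p D C P) (hp : p.Prime) (hP : IsPGroup p P)
    (hDK : D ≤ K) (hCD : C ≤ D) (hD : P ≤ 𝒩(D)) (hC : P ≤ 𝒩(C)) : RB p K C P := by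
  have hq := Nat.prime_iff_prime_int.1 hp
  have h1 : ∀ χ ∈ IrrS K P, ∀ δ ∈ IrrS D P, ¬ (p : ℤ) ∣ mi D χ δ → ∀ ξ ∈ IrrS C P,
      (p : ℤ) ∣ mi C χ ξ - mi D χ δ * mi C δ ξ := fun χ hχ δ hδ h0 ξ hξ => by
    have c1 := irr_char (mem_IrrS.1 hχ).1
    have c2 := irr_char (mem_IrrS.1 hξ).1
    convert h.cong hp hP hDK hD hχ hδ h0 (fun φ => mi C φ ξ) fun φ _ g hg => by
      rw [← mi_cfj (hC hg) φ, mem_stab.1 ((mem_IrrS.1 hξ).2 hg)]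
    rw [← Int.cast_inj (α := ℂ), mi_cast (hCD.trans hDK) c1 c2,
      dot_eq_sum_under hCD (Res_mem_cf hDK c1.cf), Int.cast_sum]
    exact Finset.sum_congr rfl fun φ hφ => by
      rw [Int.cast_mul, mi_cast hDK c1 (irr_char hφ), mi_cast hCD (irr_char hφ) c2]
  have h2 : ∀ χ ∈ IrrS K P, ∀ δ ∈ IrrS D P, ¬ (p : ℤ) ∣ mi D χ δ → ∀ ξ ∈ IrrS C P,
      ((p : ℤ) ∣ mi C χ ξ ↔ (p : ℤ) ∣ mi C δ ξ) := fun χ hχ δ hδ h0 ξ hξ => by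
    rw [dvd_iff_dvd_of_dvd_sub (h1 χ hχ δ hδ h0 ξ hξ), hq.dvd_mul, or_iff_right h0]
  refine ⟨fun χ hχ => ?_, fun ξ hξ => ?_, fun χ hχ ξ hξ h0 => ?_, fun χ hχ ξ hξ ξ' hξ' h3 h4 => ?_,
    fun ξ hξ χ hχ χ' hχ' h3 h4 => ?_⟩
  · obtain ⟨δ, hδ, h3⟩ := h.ex χ hχ
    obtain ⟨ξ, hξ, h4⟩ := h'.ex δ hδ
    exact ⟨ξ, hξ, mt (h2 χ hχ δ hδ h3 ξ hξ).1 h4⟩
  · obtain ⟨δ, hδ, h4⟩ := h'.ex' ξ hξ
    obtain ⟨χ, hχ, h3⟩ := h.ex' δ hδ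
    exact ⟨χ, hχ, mt (h2 χ hχ δ hδ h3 ξ hξ).1 h4⟩
  · obtain ⟨δ, hδ, h3⟩ := h.ex χ hχ
    obtain ⟨x, hx⟩ := h1 χ hχ δ hδ h3 ξ hξ
    obtain ⟨y, hy⟩ := h.sq χ hχ δ hδ h3
    obtain ⟨z, hz⟩ := h'.sq δ hδ ξ hξ (mt (h2 χ hχ δ hδ h3 ξ hξ).2 h0)
    exact ⟨x * (mi C χ ξ + mi D χ δ * mi C δ ξ) + y * mi C δ ξ ^ 2 + z, by
      linear_combination (mi C χ ξ + mi D χ δ * mi C δ ξ) * hx + mi C δ ξ ^ 2 * hy + hz⟩
  · obtain ⟨δ, hδ, h5⟩ := h.ex χ hχ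
    exact h'.un δ hδ ξ hξ ξ' hξ' (mt (h2 χ hχ δ hδ h5 ξ hξ).2 h3) (mt (h2 χ hχ δ hδ h5 ξ' hξ').2 h4)
  · obtain ⟨δ, hδ, h5⟩ := h.ex χ hχ
    obtain ⟨δ', hδ', h6⟩ := h.ex χ' hχ'
    obtain rfl := h'.un' ξ hξ δ hδ δ' hδ' (mt (h2 χ hχ δ hδ h5 ξ hξ).2 h3)
      (mt (h2 χ' hχ' δ' hδ' h6 ξ hξ).2 h4)
    exact h.un' δ hδ χ hχ χ' hχ' h5 h6

/-- the elements commuting with `s` modulo `N` -/
def rc1 (N : Subgroup G) (s : G) : Subgroup G where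
  carrier := {k | k ∈ 𝒩(N) ∧ s * k * s⁻¹ * k⁻¹ ∈ N}
  one_mem' := ⟨one_mem _, by simp⟩
  mul_mem' := fun {a b} ha hb => ⟨mul_mem ha.1 hb.1, by
    convert mul_mem ha.2 (H16.conj_mem ha.1 hb.2) using 1; group⟩
  inv_mem' := fun {a} ha => ⟨inv_mem ha.1, by
    convert H16.conj_mem (inv_mem ha.1) (inv_mem ha.2) using 1; group⟩

/-- the elements of `K` centralizing `S` modulo `N` -/
def rc (K N S : Subgroup G) : Subgroup G := K ⊓ ⨅ x ∈ S, rc1 N x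

theorem mem_rc (hK : K ≤ 𝒩(N)) {k : G} :
    k ∈ rc K N S ↔ k ∈ K ∧ ∀ x ∈ S, x * k * x⁻¹ * k⁻¹ ∈ N := by
  simp only [rc, Subgroup.mem_inf, Subgroup.mem_iInf, and_congr_right_iff]
  exact fun hk => ⟨fun h x hx => (h x hx).2, fun h x hx => ⟨hK hk, h x hx⟩⟩

theorem rc_le : rc K N S ≤ K := inf_le_left

theorem mem_rc' (hK : K ≤ 𝒩(N)) (hS : S ≤ 𝒩(N)) {k : G} : k ∈ rc K N S ↔ k ∈ K ∧ S ≤ rc1 N k := by
  rw [mem_rc hK]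
  refine and_congr_right fun _ => forall₂_congr fun x hx => ?_
  rw [← inv_mem_iff]
  exact ⟨fun h => ⟨hS hx, by simpa [mul_assoc] using h⟩, fun h => by simpa [mul_assoc] using h.2⟩

theorem le_norm_rc (hK : K ≤ 𝒩(N)) (h1 : P ≤ 𝒩(K)) (h2 : P ≤ 𝒩(N)) (h3 : P ≤ 𝒩(S)) :
    P ≤ 𝒩(rc K N S) := by
  refine fun g hg => Subgroup.mem_normalizer_fintype fun k hk => ?_
  obtain ⟨a, b⟩ := (mem_rc hK).1 hk
  refine (mem_rc hK).2 ⟨H16.conj_mem (h1 hg) a, fun x hx => ?_⟩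
  convert H16.conj_mem (h2 hg) (b _ (H16.conj_mem (h3 (inv_mem hg)) hx)) using 1
  group

theorem ti_of_cop (hK : K ≤ 𝒩(N)) (hs : s ∈ 𝒩(N)) (hc : (N.relIndex K).Coprime (orderOf s))
    {x c c' : G} (hx : x ∈ K) (h1 : c ∈ K ⊓ rc1 N s) (h2 : c' ∈ K ⊓ rc1 N s)
    (e : x * (c * s) * x⁻¹ = c' * s) : x ∈ rc1 N s := by
  obtain ⟨Q, _, _, f, hf, -⟩ := H18.exists_quot (H16.le_norm N) le_rfl
  have h : ∀ (x : G) (hx : x ∈ K), x ∈ rc1 N s ↔ f ⟨x, hK hx⟩ ∈ 𝒞₁(f ⟨s, hs⟩) := fun x hx => by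
    rw [H16.mem_cent1, eq_comm, ← mul_inv_eq_one, ← map_mul, ← map_mul, ← map_inv, ← map_mul,
      ← mem_kerf, hf]
    exact ⟨fun h => by simpa [mul_assoc] using h.2, fun h => ⟨hK hx, by simpa [mul_assoc] using h⟩⟩
  refine (h x hx).2 (mem_cent_of_conj_eq (K := img f K) ?_ ⟨apply_mem_img f h1.1, (h _ h1.1).1 h1.2⟩
    ⟨apply_mem_img f h2.1, (h _ h2.1).1 h2.2⟩ ?_)
  · rw [H18.card_img f hK, hf]
    exact hc.coprime_dvd_right ((orderOf_map_dvd f _).trans (Subgroup.orderOf_mk _ _).dvd)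
  · rw [← map_inv, ← map_mul, ← map_mul, ← map_mul, ← map_mul]
    exact congrArg f (Subtype.ext e)

/-- the relative Glauberman correspondence -/
theorem rb_pgroup (hp : p.Prime) (hK : K ≤ 𝒩(N)) (hc : ¬ p ∣ N.relIndex K) (S : Subgroup G) :
    IsPGroup p S → S ≤ 𝒩(K) → S ≤ 𝒩(N) → RB p K (rc K N S) S := by
  haveI := Fact.mk hp
  induction S using WellFoundedLT.induction with | ind S ih => ?_
  intro hS hn hN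
  by_cases h0 : S = ⊥
  · subst h0
    rw [show rc K N ⊥ = K from le_antisymm rc_le fun k hk => (mem_rc' hK bot_le).2 ⟨hk, bot_le⟩]
    exact RB.refl hp
  obtain ⟨T, hT, -, hmax⟩ := H1.exists_maximal_ge (fun T => T < S) (bot_lt_iff_ne_bot.2 h0)
  obtain ⟨s, hs, hsT⟩ := SetLike.exists_of_lt hT
  have hz : zpowers s ≤ S := Subgroup.zpowers_le.2 hs
  have hTs : T ⊔ zpowers s = S := by
    by_contra hne
    exact hsT ((hmax _ (lt_of_le_of_ne (sup_le hT.le hz) hne) le_sup_left) ▸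
      mem_sup_right (mem_zpowers s))
  have hTn : S ≤ 𝒩(T) := by
    by_contra hne
    have h1 := H16.pg_lt_norm (H16.pg_iff.2 hS) hT
    exact h1.ne' (hmax _ (lt_of_le_of_ne inf_le_left fun e => hne (e ▸ inf_le_right)) h1.le)
  have hD := le_norm_rc hK hn hN hTn
  have hC := le_norm_rc hK hn hN (H16.le_norm S)
  have hle : rc K N S ≤ rc K N T := fun k hk =>
    (mem_rc hK).2 ⟨rc_le hk, fun x hx => ((mem_rc hK).1 hk).2 x (hT.le hx)⟩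
  have hm : ∀ c ∈ rc K N S, c ∈ K ⊓ rc1 N s := fun c hc =>
    ⟨rc_le hc, hK (rc_le hc), ((mem_rc hK).1 hc).2 s hs⟩
  obtain ⟨k, hk⟩ := hS ⟨s, hs⟩
  replace hk : s ^ p ^ k = 1 := congrArg Subtype.val hk
  refine ((ih T hT (hS.to_le hT.le) (hT.le.trans hn) (hT.le.trans hN)).lift hp hS hT.le hn hD).trans
    ((CS.rb ⟨hp, hle, hD hs, hC hs, ⟨k, hk⟩, fun x hx c hc1 c' hc' e => ?_⟩).lift hp hS hz hD hC)
    hp hS rc_le hle hD hC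
  have := ti_of_cop hK (hN hs) (((hp.coprime_iff_not_dvd.2 hc).symm.pow_right k).coprime_dvd_right
    (orderOf_dvd_of_pow_eq_one hk)) (rc_le hx) (hm c hc1) (hm c' hc') e
  refine (mem_rc' hK hN).2 ⟨rc_le hx, hTs ▸ sup_le ((mem_rc' hK (hT.le.trans hN)).1 hx).2
    (Subgroup.zpowers_le.2 ⟨hN hs, ?_⟩)⟩
  simpa [mul_assoc] using inv_mem this.2

theorem RB.degree (h : RB p K D P) (hp : p.Prime) (hP : IsPGroup p P) (hDK : D ≤ K)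
    (hD : P ≤ 𝒩(D)) (hχ : χ ∈ IrrS K P) (hδ : δ ∈ IrrS D P) (h0 : ¬ (p : ℤ) ∣ mi D χ δ) {m n : ℕ}
    (hm : χ 1 = m) (hn : δ 1 = n) : (p : ℤ) ∣ m - mi D χ δ * n := by
  have c1 := irr_char (mem_IrrS.1 hχ).1
  have h1 : ∀ φ ∈ Irr D, (⌊(φ 1).re⌋ : ℂ) = φ 1 := fun φ hφ => by
    obtain ⟨d, -, hd⟩ := irr_pos_one hφ
    simp [hd]
  convert h.cong hp hP hDK hD hχ hδ h0 (fun φ => ⌊(φ 1).re⌋) fun φ _ g hg => by simp [cfj]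
  · rw [← Int.cast_inj (α := ℂ), Int.cast_natCast, ← hm, ← Res_of_mem χ (A := (D : Set G))
      (one_mem D), cf_apply_eq_sum (Res_mem_cf hDK c1.cf), Int.cast_sum]
    exact Finset.sum_congr rfl fun φ hφ => by
      rw [Int.cast_mul, mi_cast hDK c1 (irr_char hφ), h1 φ hφ, dot_Res_left]
  · simp [hn]

end H21
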