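/-
Invariant bilinear forms and real representations (Frobenius–Schur).
-/
import Cfsg.Agent.H21.FS

set_option autoImplicit false
set_option linter.unusedSectionVars false
open Cfsg H17 Matrix
open scoped ComplexConjugate ComplexOrder

namespace H21

variable {G : Type*} [Group G] [Fintype G] {n : ℕ}

/-- `A ↦ Xᵀ A X` -/
def cong (X : Matrix (Fin n) (Fin n) ℂ) :
    Matrix (Fin n) (Fin n) ℂ →ₗ[ℂ] Matrix (Fin n) (Fin n) ℂ where
  toFun A := Xᵀ * A * X
  map_add' A B := by rw [mul_add, add_mul]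
  map_smul' c A := by simp

theorem trace_matrix_end (f : Matrix (Fin n) (Fin n) ℂ →ₗ[ℂ] Matrix (Fin n) (Fin n) ℂ) :
    LinearMap.trace ℂ _ f = ∑ i, ∑ j, f (single i j 1) i j := by
  rw [LinearMap.trace_eq_matrix_trace ℂ (stdBasis ℂ (Fin n) (Fin n)), Matrix.trace,
    Fintype.sum_prod_type]
  refine Finset.sum_congr rfl fun i _ => Finset.sum_congr rfl fun j _ => ?_
  rw [diag_apply, LinearMap.toMatrix_apply, stdBasis_eq_single]
  simp [stdBasis]

theorem mul_single_mul (A B : Matrix (Fin n) (Fin n) ℂ) (i j k l : Fin n) :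
    (A * single i j (1 : ℂ) * B) k l = A k i * B j l := by
  simp [Matrix.mul_apply, single_apply, ite_and]

theorem trace_cong (X : Matrix (Fin n) (Fin n) ℂ) :
    LinearMap.trace ℂ _ (cong X) = X.trace ^ 2 := by
  rw [trace_matrix_end, pow_two, Matrix.trace, Finset.sum_mul_sum]
  exact Finset.sum_congr rfl fun i _ => Finset.sum_congr rfl fun j _ => mul_single_mul _ _ _ _ _ _

theorem trace_cong_transpose (X : Matrix (Fin n) (Fin n) ℂ) :
    LinearMap.trace ℂ _ (cong X ∘ₗ (transposeLinearEquiv (Fin n) (Fin n) ℂ ℂ).toLinearMap) =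
      (X * X).trace := by
  rw [trace_matrix_end, Matrix.trace]
  refine Finset.sum_congr rfl fun i _ => ?_
  rw [diag_apply, Matrix.mul_apply]
  refine Finset.sum_congr rfl fun j _ => ?_
  change (Xᵀ * (single i j (1 : ℂ))ᵀ * X) i j = _
  rw [transpose_single, mul_single_mul, transpose_apply, mul_comm]

theorem inv_form (X : G →* Matrix (Fin n) (Fin n) ℂ)
    (h : (Nat.card G : ℂ)⁻¹ * ∑ g, (X g).trace ^ 2 = 1) :
    (∃ M : Matrix (Fin n) (Fin n) ℂ, M ≠ 0 ∧ ∀ g, (X g)ᵀ * M * X g = M) ∧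
    ∀ M : Matrix (Fin n) (Fin n) ℂ, (∀ g, (X g)ᵀ * M * X g = M) →
      Mᵀ = ((Nat.card G : ℂ)⁻¹ * ∑ g, (X (g * g)).trace) • M := by
  let T := (Nat.card G : ℂ)⁻¹ • ∑ g, cong (X g)
  have hT : ∀ A, T A = (Nat.card G : ℂ)⁻¹ • ∑ g, (X g)ᵀ * A * X g := fun A => by
    simp [T, cong, LinearMap.sum_apply]
  let I : Submodule ℂ (Matrix (Fin n) (Fin n) ℂ) :=
    { carrier := {M | ∀ g, (X g)ᵀ * M * X g = M}
      add_mem' := fun ha hb g => by rw [mul_add, add_mul, ha, hb]
      zero_mem' := fun g => by simp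
      smul_mem' := fun c A ha g => by rw [Matrix.mul_smul, Matrix.smul_mul, ha] }
  have hP : LinearMap.IsProj I T := ⟨fun A g => by
      rw [hT, Matrix.mul_smul, Matrix.smul_mul, Finset.mul_sum, Finset.sum_mul]
      congr 1
      refine Fintype.sum_equiv (Equiv.mulRight g) _ _ fun x => ?_
      simp [Matrix.mul_assoc],
    fun A hA => by
      rw [hT, Finset.sum_congr rfl fun g _ => hA g, Finset.sum_const, Finset.card_univ,
        ← Nat.card_eq_fintype_card, ← Nat.cast_smul_eq_nsmul ℂ, smul_smul,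
        inv_mul_cancel₀ card_ne_zero_complex, one_smul]⟩
  have h1 : LinearMap.trace ℂ _ T = 1 := by
    simp only [T, map_smul, map_sum, trace_cong, smul_eq_mul, h]
  have h2 : Module.finrank ℂ I = 1 := by
    rw [hP.trace] at h1
    exact_mod_cast h1
  obtain ⟨M, hM0, hM⟩ := finrank_eq_one_iff'.1 h2
  refine ⟨⟨M, fun h => hM0 (Subtype.ext h), M.2⟩, ?_⟩
  have h3 : ∀ A ∈ I, Aᵀ ∈ I := fun A hA g => by
    have := congrArg transpose (hA g)
    rwa [transpose_mul, transpose_mul, transpose_transpose, ← Matrix.mul_assoc] at this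
  obtain ⟨c, hc⟩ := hM ⟨_, h3 _ M.2⟩
  have h4 : ∀ A ∈ I, Aᵀ = c • A := fun A hA => by
    obtain ⟨a, ha⟩ := hM ⟨A, hA⟩
    have h5 : A = a • (M : Matrix (Fin n) (Fin n) ℂ) := (congrArg Subtype.val ha).symm
    have h6 : (M : Matrix (Fin n) (Fin n) ℂ)ᵀ = c • M := (congrArg Subtype.val hc).symm
    rw [h5, transpose_smul, h6, smul_comm]
  have h5 : T ∘ₗ (transposeLinearEquiv (Fin n) (Fin n) ℂ ℂ).toLinearMap = c • T := by
    refine LinearMap.ext fun A => ?_
    rw [LinearMap.smul_apply, ← h4 _ (hP.map_mem A)]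
    change T Aᵀ = _
    simp [hT, transpose_sum, Matrix.mul_assoc]
  have h6 := congrArg (LinearMap.trace ℂ _) h5
  rw [map_smul, h1, smul_eq_mul, mul_one, LinearMap.smul_comp, ← Module.End.mul_eq_comp,
    Finset.sum_mul] at h6
  simp only [map_smul, map_sum, Module.End.mul_eq_comp, trace_cong_transpose, smul_eq_mul,
    ← map_mul] at h6
  exact fun A hA => h6 ▸ h4 A hA

/-- the matrices of a representation -/
noncomputable def mx {k : Type*} [Field k] (ρ : Representation k G (Fin n → k)) :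
    G →* Matrix (Fin n) (Fin n) k where
  toFun g := LinearMap.toMatrix' (ρ g)
  map_one' := by rw [map_one, LinearMap.toMatrix'_one]
  map_mul' a b := by rw [map_mul, LinearMap.toMatrix'_mul]

theorem trace_mx {k : Type*} [Field k] (ρ : Representation k G (Fin n → k)) (g : G) :
    (mx ρ g).trace = LinearMap.trace k _ (ρ g) := by
  rw [← Matrix.trace_toLin'_eq]
  exact congrArg _ (Matrix.toLin'_toMatrix' _)

/-- the representation given by matrices -/
noncomputable def ofMx {k : Type*} [Field k] (X : G →* Matrix (Fin n) (Fin n) k) :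
    Representation k G (Fin n → k) where
  toFun g := Matrix.toLin' (X g)
  map_one' := by rw [map_one, Matrix.toLin'_one]; rfl
  map_mul' a b := by rw [map_mul, Matrix.toLin'_mul]; rfl

theorem trace_ofMx {k : Type*} [Field k] (X : G →* Matrix (Fin n) (Fin n) k) (g : G) :
    LinearMap.trace k _ (ofMx X g) = (X g).trace := Matrix.trace_toLin'_eq _

theorem real_sq {χ : G → ℂ} (h : IsIrrCharacter G χ) (hr : ∀ g, (χ g).im = 0) :
    (Nat.card G : ℂ)⁻¹ * ∑ g, χ g ^ 2 = 1 := by
  have := h.inner_self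
  simp only [classInner_def, Complex.conj_eq_iff_im.2 (hr _), ← pow_two] at this
  exact this

theorem schur_mx (ρ : Representation ℂ G (Fin n → ℂ)) [ρ.IsIrreducible]
    {A : Matrix (Fin n) (Fin n) ℂ} (h : ∀ g, A * mx ρ g = mx ρ g * A) : ∃ c : ℂ, A = c • 1 := by
  obtain ⟨c, hc⟩ := schur_scalar ρ (Matrix.toLin' A) fun g => by
    have := congrArg Matrix.toLin' (h g)
    rwa [Matrix.toLin'_mul, Matrix.toLin'_mul, mx, MonoidHom.coe_mk, OneHom.coe_mk,
      Matrix.toLin'_toMatrix'] at this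
  exact ⟨c, Matrix.toLin'.injective (by rw [hc, map_smul, Matrix.toLin'_one])⟩

theorem nu_of_real (X : G →* Matrix (Fin n) (Fin n) ℝ) {χ : G → ℂ} (h : IsIrrCharacter G χ)
    (e : ∀ g, ((X g).trace : ℂ) = χ g) : (Nat.card G : ℂ)⁻¹ * ∑ s : G, χ (s * s) = 1 := by
  let Y : G →* Matrix (Fin n) (Fin n) ℂ := (Complex.ofRealHom.mapMatrix (m := Fin n)).toMonoidHom.comp X
  have hY : ∀ g, (Y g).trace = χ g := fun g => by
    rw [← e]
    exact (AddMonoidHom.map_trace Complex.ofRealHom (X g)).symm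
  have hT : ∀ g, (Y g)ᴴ = (Y g)ᵀ := fun g => by
    ext i j
    exact Complex.conj_ofReal _
  obtain ⟨-, h1⟩ := inv_form Y (by
    simp only [hY]
    exact real_sq h fun g => by rw [← e, Complex.ofReal_im])
  have h2 := h1 (∑ g, (Y g)ᵀ * Y g) fun g => by
    rw [Finset.mul_sum, Finset.sum_mul]
    refine Fintype.sum_equiv (Equiv.mulRight g) _ _ fun x => ?_
    simp [Matrix.mul_assoc]
  simp only [hY, transpose_sum, transpose_mul, transpose_transpose] at h2
  obtain ⟨m, hm0, hm⟩ := h.exists_pos_one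
  haveI : Nonempty (Fin n) := by
    rw [← hY, map_one, trace_one, Fintype.card_fin, Nat.cast_inj] at hm
    exact ⟨⟨0, hm ▸ hm0⟩⟩
  have h3 : (∑ g, (Y g)ᵀ * Y g).PosDef := posDef_sum Finset.univ_nonempty fun g _ => by
    rw [← hT]
    exact PosDef.conjTranspose_mul_self _ (mulVec_injective_of_isUnit ((Group.isUnit g).map Y))
  have h4 := congrArg Matrix.trace h2
  rw [trace_smul, smul_eq_mul] at h4
  exact (mul_right_cancel₀ h3.trace_pos.ne' ((one_mul _).trans h4)).symm

theorem exists_unit_det (N : Matrix (Fin n) (Fin n) ℂ) :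
    ∃ a : ℂ, IsUnit (a • (1 : Matrix (Fin n) (Fin n) ℂ) + conj a • N) := by
  have h1 : Function.Injective fun t : ℝ => -(((t : ℂ) + Complex.I) / (t - Complex.I)) := by
    have h0 : ∀ t : ℝ, (t : ℂ) - Complex.I ≠ 0 := fun t h => by simpa using congrArg Complex.im h
    intro s t h
    simp only [neg_inj, div_eq_div_iff (h0 s) (h0 t)] at h
    have := congrArg Complex.im h
    simp at this
    linarith
  obtain ⟨_, ⟨t, rfl⟩, ht⟩ := (Set.infinite_range_of_injective h1).exists_notMem_finite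
    (Matrix.finite_spectrum N)
  have h0 : (t : ℂ) - Complex.I ≠ 0 := fun h => by simpa using congrArg Complex.im h
  refine ⟨t + Complex.I, ?_⟩
  have h2 := ((IsUnit.mk0 _ h0).map (algebraMap ℂ (Matrix (Fin n) (Fin n) ℂ))).mul
    (spectrum.notMem_iff.1 ht)
  rw [← IsUnit.neg_iff]
  convert h2 using 1
  simp only [Algebra.algebraMap_eq_smul_one, map_add, Complex.conj_ofReal, Complex.conj_I,
    smul_mul_assoc, one_mul, smul_sub, smul_neg, smul_smul, mul_div_cancel₀ _ h0, neg_smul,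
    ← sub_eq_add_neg, neg_add']

theorem real_of_nu (ρ : Representation ℂ G (Fin n → ℂ)) [ρ.IsIrreducible]
    (h : (Nat.card G : ℂ)⁻¹ * ∑ s : G, ρ.character (s * s) = 1) :
    ∃ X : G →* Matrix (Fin n) (Fin n) ℝ, ∀ g, ((X g).trace : ℂ) = ρ.character g := by
  have hχ := isIrr_character ρ
  have hr : ∀ g, (ρ.character g).im = 0 := by
    by_contra hc
    exact one_ne_zero (h.symm.trans (hχ.indicator.2 hc))
  have ht : ∀ g, (mx ρ g).trace = ρ.character g := trace_mx ρ
  obtain ⟨⟨M, hM0, hM⟩, h1⟩ := inv_form (mx ρ) (by simp only [ht]; exact real_sq hχ hr)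
  have hMs := h1 M hM
  simp only [ht, h, one_smul] at hMs
  let b : Matrix (Fin n) (Fin n) ℂ →+* Matrix (Fin n) (Fin n) ℂ := (starRingEnd ℂ).mapMatrix
  have hb : ∀ A, b (b A) = A := fun A => by ext i j; exact Complex.conj_conj _
  have hbT : ∀ A : Matrix (Fin n) (Fin n) ℂ, (b A)ᵀ = Aᴴ := fun A => rfl
  have hbT' : ∀ A : Matrix (Fin n) (Fin n) ℂ, b Aᵀ = Aᴴ := fun A => rfl
  have hbs : ∀ (c : ℂ) (A : Matrix (Fin n) (Fin n) ℂ), b (c • A) = conj c • b A := fun c A => by
    ext i j; exact map_mul conj c (A i j)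
  haveI : Nonempty (Fin n) := by
    by_contra hc
    rw [not_nonempty_iff] at hc
    exact hM0 (Subsingleton.elim _ _)
  set H := ∑ g, (mx ρ g)ᴴ * mx ρ g with hH
  have hHp : H.PosDef := posDef_sum Finset.univ_nonempty fun g _ =>
    PosDef.conjTranspose_mul_self _ (mulVec_injective_of_isUnit ((Group.isUnit g).map (mx ρ)))
  have hHi : ∀ g, (mx ρ g)ᴴ * H * mx ρ g = H := fun g => by
    rw [hH, Finset.mul_sum, Finset.sum_mul]
    refine Fintype.sum_equiv (Equiv.mulRight g) _ _ fun x => ?_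
    simp [Matrix.mul_assoc]
  obtain ⟨N, hN⟩ : ∃ N, H * N = b M := ⟨H⁻¹ * b M, by
    rw [Matrix.mul_nonsing_inv_cancel_left _ _ ((Matrix.isUnit_iff_isUnit_det _).1 hHp.isUnit)]⟩
  have hNX : ∀ g, N * b (mx ρ g) = mx ρ g * N := fun g => by
    refine hHp.isUnit.mul_left_cancel (((Group.isUnit g).map (mx ρ)).star.mul_left_cancel ?_)
    have h2 := congrArg b (hM g)
    rw [map_mul, map_mul, hbT'] at h2
    rw [star_eq_conjTranspose, ← Matrix.mul_assoc H, hN, ← Matrix.mul_assoc, h2, ← Matrix.mul_assoc H,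
      ← Matrix.mul_assoc, ← Matrix.mul_assoc, hHi, hN]
  obtain ⟨c, hc⟩ := schur_mx ρ (A := N * b N) fun g => by
    have h2 := congrArg b (hNX g)
    rw [map_mul, map_mul, hb] at h2
    rw [Matrix.mul_assoc, h2, ← Matrix.mul_assoc, hNX, Matrix.mul_assoc]
  have hcH : c • H = (b N)ᴴ * Hᵀ * b N := by
    have h2 : (b N)ᴴ = Nᵀ := by rw [← hbT, hb]
    rw [h2, ← transpose_mul, hN, hbT, ← hbT', hMs, ← hN, Matrix.mul_assoc, hc, Matrix.mul_smul,
      Matrix.mul_one]
  have hc0 : 0 < c := by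
    have h2 := (hHp.transpose.posSemidef.conjTranspose_mul_mul_same (b N)).trace_nonneg
    rw [← hcH, trace_smul, smul_eq_mul] at h2
    refine lt_of_le_of_ne (by
      have := mul_nonneg h2 (inv_nonneg.2 hHp.trace_pos.le)
      rwa [mul_inv_cancel_right₀ hHp.trace_pos.ne'] at this) fun h3 => hM0 ?_
    have h4 : b N = 0 := by
      ext i j
      by_contra h5
      have h6 := hHp.transpose.dotProduct_mulVec_pos (x := fun i => b N i j)
        fun h => h5 (congrFun h i)
      have h7 := congrFun (congrFun hcH j) j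
      rw [← h3, zero_smul, Matrix.mul_assoc] at h7
      exact h6.ne h7
    rw [← hb M, ← hN, ← hb N, h4, map_zero, Matrix.mul_zero, map_zero]
  obtain ⟨r, hr0, hrc⟩ : ∃ r : ℝ, r ≠ 0 ∧ (r : ℂ) * r * c = 1 := by
    obtain ⟨h2, h3⟩ := Complex.pos_iff.1 hc0
    refine ⟨(√c.re)⁻¹, inv_ne_zero (Real.sqrt_pos.2 h2).ne', ?_⟩
    rw [← Complex.re_add_im c, ← h3]
    simp only [Complex.ofReal_zero, zero_mul, add_zero, Complex.ofReal_re]
    rw [← Complex.ofReal_mul, ← Complex.ofReal_mul, ← mul_inv, Real.mul_self_sqrt h2.le,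
      inv_mul_cancel₀ h2.ne', Complex.ofReal_one]
  obtain ⟨a, P, hP⟩ := exists_unit_det ((r : ℂ) • N)
  have hNP : ((r : ℂ) • N) * b P = P := by
    rw [hP, map_add, hbs, hbs, hbs, map_one, Complex.conj_conj, Complex.conj_ofReal, mul_add,
      add_comm]
    simp only [Matrix.mul_smul, Matrix.smul_mul, hc, smul_smul, Matrix.mul_one, mul_assoc]
    rw [← mul_assoc (r : ℂ), hrc, mul_one, mul_comm]
  have hY : ∀ g, b (P⁻¹.val * mx ρ g * P.val) = P⁻¹.val * mx ρ g * P.val := fun g => by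
    refine P.isUnit.mul_left_cancel ?_
    rw [← Matrix.mul_assoc, ← Matrix.mul_assoc, P.mul_inv, Matrix.one_mul]
    nth_rewrite 1 [← hNP]
    rw [Matrix.mul_assoc, ← map_mul, ← Matrix.mul_assoc, ← Matrix.mul_assoc, P.mul_inv,
      Matrix.one_mul, map_mul, ← Matrix.mul_assoc, Matrix.smul_mul, hNX, ← Matrix.mul_smul,
      Matrix.mul_assoc, hNP]
  have hre : ∀ g, ((P⁻¹.val * mx ρ g * P.val).map Complex.re).map Complex.ofRealHom =
      P⁻¹.val * mx ρ g * P.val := fun g => by
    ext i j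
    exact Complex.conj_eq_iff_re.1 (congrFun (congrFun (hY g) i) j)
  have hinj := Matrix.map_injective (m := Fin n) (n := Fin n) Complex.ofRealHom.injective
  refine ⟨⟨⟨fun g => (P⁻¹.val * mx ρ g * P.val).map Complex.re, hinj ?_⟩, fun x y => hinj ?_⟩,
    fun g => ?_⟩
  · simp only [hre]
    simp
  · simp only [Matrix.map_mul, hre]
    simp only [map_mul, Matrix.mul_assoc, Units.mul_inv_cancel_left]
  · rw [← ht, ← trace_units_conj' P]
    exact (AddMonoidHom.map_trace Complex.ofRealHom _).trans (congrArg _ (hre g))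

end H21
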