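/-
Real characters: Frobenius–Schur indicators of constituents of odd multiplicity, real characters
over a normal subgroup.
-/
import Cfsg.Agent.H21.Real
import Cfsg.Agent.H21.RG2
import Cfsg.Agent.H21.CD2
import Cfsg.Agent.H18.PF6b

set_option autoImplicit false
set_option linter.unusedSectionVars false
open H17 Cfsg H15 CF
open scoped ComplexConjugate

namespace H21

section mat
open Matrix Kronecker
variable {ι : Type*} [Fintype ι] [DecidableEq ι]

theorem even_trace_of_skew {M P : Matrix ι ι ℂ} (hM : IsUnit M) (hs : Mᵀ = -M) (hP : P * P = P)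
    (h : Pᵀ * M = M * P) : ∃ k : ℕ, P.trace = (2 * k : ℕ) := by
  let W := LinearMap.range (toLin' P)
  let b := Module.finBasis ℂ W
  let E := LinearMap.toMatrix b (Pi.basisFun ℂ ι) W.subtype
  let F := LinearMap.toMatrix (Pi.basisFun ℂ ι) b (toLin' P).rangeRestrict
  have h1 : E * F = P := by
    rw [← LinearMap.toMatrix_comp, show W.subtype ∘ₗ (toLin' P).rangeRestrict = toLin' P from rfl,
      LinearMap.toMatrix_eq_toMatrix', LinearMap.toMatrix'_toLin']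
  have h2 : F * E = 1 := by
    rw [← LinearMap.toMatrix_comp, ← LinearMap.toMatrix_id b]
    congr 1
    refine LinearMap.ext fun ⟨_, x, rfl⟩ => Subtype.ext ?_
    change toLin' P (toLin' P x) = toLin' P x
    rw [← toLin'_mul_apply, hP]
  have h3 : (Eᵀ * M * E) * (F * M⁻¹ * Fᵀ) = 1 := by
    rw [show Eᵀ * M * E * (F * M⁻¹ * Fᵀ) = Eᵀ * (M * (E * F) * M⁻¹) * Fᵀ by
      simp only [Matrix.mul_assoc], h1, ← h, mul_nonsing_inv_cancel_right _ _
        ((isUnit_iff_isUnit_det _).1 hM), ← transpose_mul, ← transpose_mul, ← h1,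
      Matrix.mul_assoc E, h2, Matrix.mul_one, h2, transpose_one]
  have h4 : (Eᵀ * M * E).det = (-1) ^ Module.finrank ℂ W * (Eᵀ * M * E).det := by
    conv_lhs => rw [← det_transpose, transpose_mul, transpose_mul, transpose_transpose, hs,
      Matrix.neg_mul, Matrix.mul_neg, det_neg, Fintype.card_fin, ← Matrix.mul_assoc]
  have h5 : (Eᵀ * M * E).det ≠ 0 := left_ne_zero_of_mul_eq_one (by rw [← det_mul, h3, det_one])
  obtain ⟨k, hk⟩ := (neg_one_pow_eq_one_iff_even (by norm_num)).1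
    (mul_right_cancel₀ h5 (h4.symm.trans (one_mul _).symm))
  exact ⟨k, by rw [← h1, trace_mul_comm, h2, trace_one, Fintype.card_fin, hk, two_mul]⟩

variable {G : Type*} [Group G] [Fintype G]

theorem even_avg_trace (X : G →* Matrix ι ι ℂ) {M : Matrix ι ι ℂ} (hM : IsUnit M) (hs : Mᵀ = -M)
    (h : ∀ g, (X g)ᵀ * M * X g = M) :
    ∃ k : ℕ, (Nat.card G : ℂ)⁻¹ * ∑ g, (X g).trace = (2 * k : ℕ) := by
  have h1 : ∀ g, X g * ∑ g, X g = ∑ g, X g := fun g => by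
    rw [Finset.mul_sum]
    exact Fintype.sum_equiv (Equiv.mulLeft g) _ _ fun x => by simp
  obtain ⟨k, hk⟩ := even_trace_of_skew (P := (Nat.card G : ℂ)⁻¹ • ∑ g, X g) hM hs (by
    rw [smul_mul_assoc, mul_smul_comm, Finset.sum_mul, Finset.sum_congr rfl fun g _ => h1 g,
      Finset.sum_const, Finset.card_univ, ← Nat.card_eq_fintype_card, ← Nat.cast_smul_eq_nsmul ℂ,
      smul_smul _ (Nat.card G : ℂ), inv_mul_cancel₀ card_ne_zero_complex, one_smul]) (by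
    rw [transpose_smul, smul_mul_assoc, mul_smul_comm, transpose_sum, Finset.sum_mul, Finset.mul_sum]
    congr 1
    refine Fintype.sum_equiv (Equiv.inv G) _ _ fun x => ?_
    conv_rhs => rw [← h x, mul_assoc, Equiv.inv_apply, ← map_mul, mul_inv_cancel, map_one, mul_one])
  exact ⟨k, by rw [← hk, trace_smul, trace_sum, smul_eq_mul]⟩

theorem exists_form {χ : G → ℂ} (h : IsIrrCharacter G χ) (hr : ∀ g, (χ g).im = 0) :
    ∃ (n : ℕ) (X : G →* Matrix (Fin n) (Fin n) ℂ) (M : Matrix (Fin n) (Fin n) ℂ),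
      (∀ g, (X g).trace = χ g) ∧ M.det ≠ 0 ∧ (∀ g, (X g)ᵀ * M * X g = M) ∧
        Mᵀ = ((Nat.card G : ℂ)⁻¹ * ∑ g, χ (g * g)) • M := by
  have h1 := real_sq h hr
  obtain ⟨n, ρ, hρ, rfl⟩ := h
  have ht : ∀ g, (mx ρ g).trace = ρ.character g := trace_mx ρ
  obtain ⟨⟨M, h0, hM⟩, h2⟩ := inv_form (mx ρ) (by simpa only [ht] using h1)
  refine ⟨n, mx ρ, M, ht, fun hd => ?_, hM, by simpa only [ht] using h2 M hM⟩
  obtain ⟨v, hv, h3⟩ := exists_mulVec_eq_zero_iff.2 hd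
  let S : Subrepresentation ρ := ⟨LinearMap.ker (toLin' M), fun g v hv => by
    have := congrArg (fun A => (mx ρ g⁻¹)ᵀ *ᵥ A) (show M *ᵥ v = 0 from hv)
    simp only [mulVec_zero, mulVec_mulVec] at this
    rw [LinearMap.mem_ker, ← this, ← toLin'_toMatrix' (ρ g), ← toLin'_mul_apply, toLin'_apply]
    congr 1
    conv_lhs => rw [← hM g⁻¹, mul_assoc]
    exact (congrArg _ ((map_mul (mx ρ) _ _).symm.trans (by simp))).trans (mul_one _)⟩
  rcases eq_bot_or_eq_top S with h4 | h4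
  · exact hv (show v ∈ (⊥ : Subrepresentation ρ).toSubmodule from h4 ▸ h3)
  · exact h0 (toLin'.map_eq_zero_iff.1 (LinearMap.ker_eq_top.1
      (congrArg Subrepresentation.toSubmodule h4)))

theorem nu_eq_of_odd {H : Type*} [Group H] [Fintype H] (f : H →* G) {χ : G → ℂ} {θ : H → ℂ}
    (hχ : IsIrrCharacter G χ) (hr : ∀ g, (χ g).im = 0) (hθ : IsIrrCharacter H θ)
    (hr' : ∀ g, (θ g).im = 0) {m : ℕ} (hm : (Nat.card H : ℂ)⁻¹ * ∑ h, χ (f h) * θ h = m)
    (ho : Odd m) : (Nat.card G : ℂ)⁻¹ * ∑ g, χ (g * g) = (Nat.card H : ℂ)⁻¹ * ∑ g, θ (g * g) := by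
  by_contra hne
  obtain ⟨n, X, M, h1, h2, h3, h4⟩ := exists_form hχ hr
  obtain ⟨d, Y, B, h5, h6, h7, h8⟩ := exists_form hθ hr'
  obtain ⟨k, hk⟩ := even_avg_trace (M := M ⊗ₖ B) ⟨⟨fun h => X (f h) ⊗ₖ Y h, by simp⟩,
    fun a b => by simp [mul_kronecker_mul]⟩ ((isUnit_iff_isUnit_det _).2 (by
      rw [det_kronecker]; exact (mul_ne_zero (pow_ne_zero _ h2) (pow_ne_zero _ h6)).isUnit)) (by
      rw [← kroneckerMap_transpose, h4, h8, smul_kronecker, kronecker_smul, smul_smul]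
      rcases hχ.indicator.1 hr with a | a <;> rcases hθ.indicator.1 hr' with b | b <;>
        simp_all) fun g => by
      change (X (f g) ⊗ₖ Y g)ᵀ * _ * (X (f g) ⊗ₖ Y g) = _
      rw [← kroneckerMap_transpose, ← mul_kronecker_mul, ← mul_kronecker_mul, h3, h7]
  simp only [MonoidHom.coe_mk, OneHom.coe_mk, trace_kronecker, h1, h5, hm, Nat.cast_inj] at hk
  exact Nat.not_even_iff_odd.2 ho (hk ▸ even_two_mul k)

end mat

universe u
variable {G : Type u} [Group G] [Finite G] {K H N T : Subgroup G} {θ χ ψ φ : G → ℂ}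

theorem star_eq_iff_im : star χ = χ ↔ ∀ g, (χ g).im = 0 := conj_eq_self_iff_im

/-- the Frobenius–Schur indicator -/
noncomputable def nu (H : Subgroup G) (χ : G → ℂ) : ℂ :=
  (Nat.card H : ℂ)⁻¹ * ∑ g ∈ fs (H : Set G), χ (g * g)

theorem nu_eq [Fintype H] (χ : G → ℂ) : nu H χ = (Nat.card H : ℂ)⁻¹ * ∑ g : H, res H χ (g * g) := by
  rw [nu, sum_sub_eq]; rfl

theorem nu_ext0 (θ : H → ℂ) :
    nu H (extendByZero H θ) = (Nat.card H : ℂ)⁻¹ * ∑ᶠ g : H, θ (g * g) := by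
  haveI := Fintype.ofFinite H
  rw [nu_eq, res_ext0, finsum_eq_sum_of_fintype]

theorem nu_top (χ : G → ℂ) : nu ⊤ χ = (Nat.card G : ℂ)⁻¹ * ∑ᶠ g : G, χ (g * g) := by
  haveI := Fintype.ofFinite G
  rw [nu, sum_top_eq, Subgroup.card_top, finsum_eq_sum_of_fintype]

theorem nu_real (h : χ ∈ Irr H) (hr : star χ = χ) : nu H χ = 1 ∨ nu H χ = -1 := by
  haveI := Fintype.ofFinite H
  rw [nu_eq]
  exact (irr_res h).indicator.1 fun g => star_eq_iff_im.1 hr g

theorem nu_of_not_real (h : χ ∈ Irr H) (hr : star χ ≠ χ) : nu H χ = 0 := by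
  haveI := Fintype.ofFinite H
  rw [nu_eq]
  exact (irr_res h).indicator.2 fun h1 => hr (cf_ext (star_mem_cf (irr_cf h)) (irr_cf h)
    fun g hg => Complex.conj_eq_iff_im.2 (h1 ⟨g, hg⟩))

theorem real_of_nu_ne (h : χ ∈ Irr H) (h0 : nu H χ ≠ 0) : star χ = χ :=
  of_not_not fun hr => h0 (nu_of_not_real h hr)

theorem nu_one : nu H (one H) = 1 := by
  rw [nu, sum_fs_congr fun g hg => one_of_mem (mul_mem hg hg), sum_sub_const, mul_one,
    inv_mul_cancel₀ (card_ne H)]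

theorem nu_sum {ι : Type*} (X : Finset ι) (a : ι → ℂ) (f : ι → G → ℂ) :
    nu H (∑ i ∈ X, a i • f i) = ∑ i ∈ X, a i * nu H (f i) := by
  simp only [nu, Finset.sum_apply, Pi.smul_apply, smul_eq_mul, Finset.mul_sum]
  rw [Finset.sum_comm]
  exact Finset.sum_congr rfl fun _ _ => Finset.sum_congr rfl fun _ _ => mul_left_comm _ _ _

theorem nu_Ind (θ : G → ℂ) : nu K (Ind K H θ) =
    (Nat.card H : ℂ)⁻¹ * ∑ g ∈ fs (K : Set G), Res (H : Set G) θ (g * g) := by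
  simp only [nu, Ind_apply']
  rw [← Finset.mul_sum, Finset.sum_comm, mul_left_comm, sum_fs_congr (g := fun _ =>
    ∑ g ∈ fs (K : Set G), Res (H : Set G) θ (g * g)) fun x hx => ?_, sum_sub_const,
    inv_mul_cancel_left₀ (card_ne K)]
  rw [← sum_conj_norm (H16.le_norm K hx) fun g => Res (H : Set G) θ (g * g)]
  exact sum_fs_congr fun g _ => by group

/-- a real constituent of odd multiplicity has the same indicator -/
theorem nu_eq_nu (hHK : H ≤ K) (hχ : χ ∈ Irr K) (hr : star χ = χ) (hθ : θ ∈ Irr H)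
    (hr' : star θ = θ) {m : ℕ} (hm : dot H χ θ = m) (ho : Odd m) : nu K χ = nu H θ := by
  haveI := Fintype.ofFinite H
  haveI := Fintype.ofFinite K
  rw [nu_eq, nu_eq]
  refine nu_eq_of_odd (Subgroup.inclusion hHK) (irr_res hχ) (fun g => star_eq_iff_im.1 hr g)
    (irr_res hθ) (fun g => star_eq_iff_im.1 hr' g) ?_ ho
  rw [← hm, dot_def, sum_sub_eq]
  exact congrArg _ (Finset.sum_congr rfl fun g _ => congrArg _ (congrFun hr' g).symm)

theorem exists_fixed_of_odd {α : Type*} (X : Finset α) (σ : α → α) (h1 : ∀ x ∈ X, σ x ∈ X)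
    (h2 : ∀ x ∈ X, σ (σ x) = x) (a : α → ℤ) (ha : ∀ x ∈ X, a (σ x) = a x) (h : Odd (∑ x ∈ X, a x)) :
    ∃ x ∈ X, σ x = x ∧ Odd (a x) := by
  by_contra! h0
  rw [← ZMod.intCast_eq_one_iff_odd, Int.cast_sum, Finset.sum_involution (fun x _ => σ x)
    (fun x hx => by rw [ha x hx, CharTwo.add_self_eq_zero]) (fun x hx h3 h4 => h3
      (ZMod.intCast_eq_zero_iff_even.2 (Int.not_odd_iff_even.1 (h0 x hx h4)))) h1 h2] at h
  exact zero_ne_one h

theorem exists_real_over (hNK : N ≤ K) (hψ : IsChar K ψ) (hr : star ψ = ψ) (hθ : θ ∈ Irr N) {g : G}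
    (hg : g ∈ K) (hn : g ∈ 𝒩(N)) (e : cfj g θ = star θ) {m : ℕ} (hm : dot N ψ θ = m) (ho : Odd m) :
    ∃ χ ∈ Irr K, star χ = χ ∧ ∃ a b : ℕ, Odd a ∧ Odd b ∧ dot K ψ χ = a ∧ dot N χ θ = b := by
  obtain ⟨χ, h1, h2, h3⟩ := exists_fixed_of_odd (Irr K) star (fun _ => star_mem_Irr)
    (fun _ _ => star_star _) (fun χ => mi K ψ χ * mi N χ θ) (fun χ hχ => by
      rw [← Int.cast_inj (α := ℂ), Int.cast_mul, Int.cast_mul, mi_cast le_rfl hψ (irr_char hχ),
        mi_cast le_rfl hψ (irr_char hχ).star, mi_cast hNK (irr_char hχ) (irr_char hθ),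
        mi_cast hNK (irr_char hχ).star (irr_char hθ), dot_star_right, hr, dot_star_left, ← e,
        ← cfj_of_mem (irr_cf hχ) hg, dot_cfj_norm hn, cfj_of_mem (irr_cf hχ) hg,
        ← mi_cast le_rfl hψ (irr_char hχ), ← mi_cast hNK (irr_char hχ) (irr_char hθ), map_intCast,
        map_intCast]) (by
      rw [show ∑ χ ∈ Irr K, mi K ψ χ * mi N χ θ = m from ?_]
      · exact_mod_cast ho
      rw [← Int.cast_inj (α := ℂ), Int.cast_natCast, ← hm, dot_eq_sum_under hNK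
        ((Res_cf hψ.cf).symm ▸ hψ.cf), Int.cast_sum]
      exact Finset.sum_congr rfl fun χ hχ => by
        rw [Int.cast_mul, mi_cast le_rfl hψ (irr_char hχ), mi_cast hNK (irr_char hχ) (irr_char hθ)])
  obtain ⟨a, ha⟩ := hψ.dot_nat (irr_char h1)
  obtain ⟨b, hb⟩ := (irr_char h1).dot_nat_of_le hNK (irr_char hθ)
  rw [mi_eq (n := a) (by simpa using ha), mi_eq (n := b) (by simpa using hb), Int.odd_mul] at h3
  exact ⟨χ, h1, h2, a, b, by exact_mod_cast h3.1, by exact_mod_cast h3.2, ha, hb⟩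

theorem exists_plus_over {S : Subgroup G} (hNK : N ≤ K) (hS : S ≤ K) (hθ : θ ∈ Irr N) {g : G}
    (hg : g ∈ K) (hn : g ∈ 𝒩(N)) (e : cfj g θ = star θ)
    (hv : ∀ x ∈ N, x ≠ 1 → ∀ g ∈ K, g * x * g⁻¹ ∈ S → θ x = 0)
    (ho : ∀ m, Nat.card N * m = S.relIndex K * charDegree θ → Odd m) :
    ∃ χ ∈ Irr K, star χ = χ ∧ nu K χ = 1 ∧ ∃ b : ℕ, Odd b ∧ dot N χ θ = b := by
  have h1 := Ind_irr_char hS (one_mem_Irr S)
  obtain ⟨m, hm⟩ := h1.dot_nat_of_le hNK (irr_char hθ)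
  obtain ⟨χ, h2, h3, a, b, h4, h5, h6, h7⟩ := exists_real_over hNK h1 (by rw [← Ind_star, star_one'])
    hθ hg hn e hm (ho m (by
      rw [dot_def, Finset.sum_eq_single_of_mem 1 (mem_fs.2 (one_mem N)) fun x hx h1 => ?_,
        inv_mul_eq_iff_eq_mul₀ (card_ne N), Ind_one hS, one_of_mem (one_mem S), mul_one,
        ← deg_cast hθ, map_natCast] at hm
      · exact_mod_cast hm.symm
      by_cases h2 : ∃ g ∈ K, g * x * g⁻¹ ∈ S
      · obtain ⟨g, hg, h2⟩ := h2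
        rw [hv x (mem_fs.1 hx) h1 g hg h2, map_zero, mul_zero]
      · rw [Ind_eq_zero_of fun g hg h3 => absurd ⟨g, hg, h3⟩ h2, zero_mul]))
  refine ⟨χ, h2, h3, (nu_eq_nu hS h2 h3 (one_mem_Irr S) (star_one' S) ?_ h4).trans nu_one, b, h5, h7⟩
  rw [← dot_Ind_right hS _ (irr_cf h2), ← dot_conj_symm, h6, map_natCast]

/-- a character of `2`-defect zero conjugate to its complex conjugate -/
theorem exists_plus_over_dz (hNK : N ≤ K) (hθ : θ ∈ Irr N) {g : G} (hg : g ∈ K) (hn : g ∈ 𝒩(N))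
    (e : cfj g θ = star θ) (hv : ∀ x ∈ N, 2 ∣ orderOf x → θ x = 0) :
    ∃ χ ∈ Irr K, star χ = χ ∧ nu K χ = 1 ∧ ∃ b : ℕ, Odd b ∧ dot N χ θ = b := by
  obtain ⟨S, hS⟩ := exists_syl 2 K
  refine exists_plus_over hNK hS.le hθ hg hn e (fun x hx h1 g _ h2 => hv x hx ?_) fun m hm => ?_
  · obtain ⟨k, hk⟩ := IsPGroup.iff_orderOf.1 hS.isPGroup ⟨_, h2⟩
    rw [Subgroup.orderOf_mk, ← MulAut.conj_apply, MulEquiv.orderOf_eq] at hk
    rcases k with _ | k
    · exact absurd (orderOf_eq_one_iff.1 hk) h1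
    · exact hk ▸ dvd_pow_self 2 k.succ_ne_zero
  obtain ⟨c, hc⟩ : charDegree θ ∣ Nat.card N := by
    exact_mod_cast (irr_res hθ).degree_dvd_card (deg_cast hθ).symm
  rw [hc, mul_assoc, mul_comm, mul_left_inj' (deg_pos hθ).ne'] at hm
  exact (Nat.odd_mul.1 (hm ▸ Nat.not_even_iff_odd.1 fun h =>
    hS.not_dvd_idx Nat.prime_two rfl h.two_dvd)).2

theorem dot_ext0_fin (χ : G → ℂ) (θ : N → ℂ) : dot N χ (extendByZero N θ) =
    (Nat.card N : ℂ)⁻¹ * ∑ᶠ n : N, χ n * conj (θ n) := by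
  haveI := Fintype.ofFinite N
  rw [dot_ext0_right, finsum_eq_sum_of_fintype]; rfl

theorem mem_of_sq_mem (hn : K ≤ 𝒩(N)) (ho : Odd (N.relIndex K)) {g : G} (hg : g ∈ K)
    (h : g * g ∈ N) : g ∈ N := by
  have h1 := pow_relIndex_mem hn hg
  obtain ⟨k, hk⟩ := ho
  rwa [hk, pow_succ, pow_mul, sq, N.mul_mem_cancel_left (pow_mem h k)] at h1

theorem exists_of_sum_eq_one {α : Type*} {X : Finset α} {f : α → ℕ} (h : ∑ x ∈ X, f x = 1) :
    ∃ x ∈ X, f x = 1 ∧ ∀ y ∈ X, y ≠ x → f y = 0 := by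
  classical
  obtain ⟨x, hx, h1⟩ := Finset.exists_ne_zero_of_sum_ne_zero (h.trans_ne one_ne_zero)
  rw [← Finset.add_sum_erase X f hx] at h
  exact ⟨x, hx, by omega, fun y hy h2 => Finset.sum_eq_zero_iff.1
    (show ∑ x ∈ X.erase x, f x = 0 by omega) y (Finset.mem_erase.2 ⟨h2, hy⟩)⟩

/-- the unique real character over a real character of a normal subgroup of odd index -/
theorem real_over_odd (hNK : N ≤ K) (hn : K ≤ 𝒩(N)) (ho : Odd (N.relIndex K)) (hθ : θ ∈ Irr N)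
    (hr : star θ = θ) : ∃ χ ∈ Irr K, star χ = χ ∧ dot N χ θ = 1 ∧ nu K χ = nu N θ ∧
      ∀ ψ ∈ IrrO K N θ, star ψ = ψ → ψ = χ := by
  classical
  have h1 : ∀ χ ∈ IrrO K N θ, ∃ e : ℕ, dot N χ θ = e ∧ e ∣ N.relIndex K := fun χ hχ =>
    clifford_dot_dvd hNK hn hθ hχ
  choose! e he using h1
  have h2 : ∀ χ ∈ IrrO K N θ, star χ = χ → nu K χ = nu N θ := fun χ hχ h =>
    nu_eq_nu hNK (mem_over.1 hχ).1 h hθ hr (he χ hχ).1 (ho.of_dvd_nat (he χ hχ).2)
  have h3 : nu K (Ind K N θ) = nu N θ := by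
    rw [nu_Ind, ← sum_fs_subset hNK fun g hg h => Res_of_not_mem _ fun h' =>
      h (mem_of_sq_mem hn ho hg h'), sum_fs_congr fun g hg => Res_of_mem _ (mul_mem hg hg), nu]
  rw [Ind_eq_sum_over hNK (irr_char hθ), nu_sum, ← Finset.sum_filter_of_ne (p := fun χ => star χ = χ)
    fun χ hχ h => real_of_nu_ne (mem_over.1 hχ).1 (right_ne_zero_of_mul h),
    Finset.sum_congr rfl fun χ hχ => by
      rw [h2 χ (Finset.mem_filter.1 hχ).1 (Finset.mem_filter.1 hχ).2,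
        (he χ (Finset.mem_filter.1 hχ).1).1], ← Finset.sum_mul, mul_eq_right₀ (by
          rcases nu_real hθ hr with h | h <;> simp [h]), ← Nat.cast_sum, Nat.cast_eq_one] at h3
  obtain ⟨χ, h4, h5, h6⟩ := exists_of_sum_eq_one h3
  obtain ⟨h7, h8⟩ := Finset.mem_filter.1 h4
  refine ⟨χ, (mem_over.1 h7).1, h8, by rw [(he χ h7).1, h5, Nat.cast_one], h2 χ h7 h8,
    fun ψ hψ h9 => of_not_not fun hne => (mem_over.1 hψ).2 ?_⟩
  rw [(he ψ hψ).1, h6 ψ (Finset.mem_filter.2 ⟨hψ, h9⟩) hne, Nat.cast_zero]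

/-- the constituents of a real character on a normal subgroup of odd index are real -/
theorem real_under_odd (hNK : N ≤ K) (hn : K ≤ 𝒩(N)) (ho : Odd (N.relIndex K)) (hθ : θ ∈ Irr N)
    (hχ : χ ∈ IrrO K N θ) (hr : star χ = χ) : star θ = θ := by
  obtain ⟨h1, h2⟩ := mem_over.1 hχ
  have h3 : star θ ∈ orb K θ := clifford_mem_orb hNK hn h1 hθ (star_mem_Irr hθ) h2 (by
    rwa [dot_star_right, hr, map_ne_zero])
  obtain ⟨g, hg, e⟩ := mem_orb.1 h3
  have h4 : g * g ∈ stab θ := by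
    rw [mem_stab, cfj_mul, e, cfj_star, e, star_star]
  obtain ⟨k, hk⟩ := ho
  have h5 := le_stab (irr_cf hθ) (pow_relIndex_mem hn hg)
  rw [hk, pow_succ, pow_mul, sq, (stab θ).mul_mem_cancel_left (pow_mem h4 k)] at h5
  rw [← e, mem_stab.1 h5]

end H21
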