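/-
Groups whose real characters have degree prime to `p`.
-/
import Cfsg.Agent.H21.RC1
import Cfsg.Agent.H17.FrobIrr

set_option autoImplicit false
set_option linter.unusedSectionVars false
open H17 Cfsg H15 CF
open scoped ComplexConjugate commutatorElement

namespace H21

universe u
variable {G : Type u} [Group G] [Finite G] {K H N T L M U R P : Subgroup G} {θ χ ψ φ l : G → ℂ}
  {p : ℕ}

theorem deg_Ind' (hHK : H ≤ K) (h : θ ∈ Irr H) :
    charDegree (Ind K H θ) = H.relIndex K * charDegree θ :=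
  charDegree_eq_of_one (by rw [Ind_one hHK, Nat.cast_mul, deg_cast h])

theorem card_over_le (hHK : H ≤ K) (hθ : IsLin H θ) : (IrrO K H θ).card ≤ H.relIndex K := by
  have h1 := congrArg Complex.re (congrFun (Ind_eq_sum_over hHK hθ.char) 1)
  rw [Ind_one hHK, hθ.one_apply, mul_one, Finset.sum_apply, Complex.re_sum, Complex.natCast_re] at h1
  rw [← Nat.cast_le (α := ℝ), h1, ← nsmul_one]
  refine Finset.card_nsmul_le_sum _ _ _ fun χ hχ => ?_
  obtain ⟨a, ha, h2⟩ := over_pos hHK hθ.char hχ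
  obtain ⟨b, hb, h3⟩ := irr_pos_one (mem_over.1 hχ).1
  rw [Pi.smul_apply, h2, h3, smul_eq_mul, ← Nat.cast_mul, Complex.natCast_re]
  exact_mod_cast mul_pos ha hb

theorem nu_lin_mul (hl : IsLin H l) (hr : star l = l) (ψ : G → ℂ) : nu H (l * ψ) = nu H ψ := by
  refine congrArg (_ * ·) (sum_fs_congr fun g hg => ?_)
  rw [Pi.mul_apply, hl.map_mul hg hg, (congrArg _ (congrFun hr g).symm).trans (hl.mul_conj hg), one_mul]

theorem nu_Ind_irr (hHK : H ≤ K) (hθ : θ ∈ Irr H) (hr : star θ = θ) (h : Ind K H θ ∈ Irr K) :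
    nu K (Ind K H θ) = nu H θ :=
  nu_eq_nu hHK h (by rw [← Ind_star, hr]) hθ hr (by
    rw [← dot_Ind_right hHK _ (irr_cf h), dot_irr_self h, Nat.cast_one]) odd_one

section
variable (hNK : N ≤ K) (hn : K ≤ 𝒩(N)) (hψ : ψ ∈ Irr T) (hθ : Res (N : Set G) ψ ∈ Irr N)
  (hT : T = K ⊓ stab (Res (N : Set G) ψ))
include hNK hn hψ hθ hT

theorem lin_mul_mem_over (hl : IsLin K l) (hk : N ≤ cfker l) :
    Res (T : Set G) l ∈ IrrQ T N ∧ Res (T : Set G) l * ψ ∈ IrrO T N (Res (N : Set G) ψ) := by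
  have h1 : T ≤ K := hT ▸ inf_le_left
  have h2 : N ≤ T := hT ▸ le_inf hNK (le_stab (irr_cf hθ))
  have h3 := mem_IrrQ.2 ⟨(hl.Res h1).mem_Irr, le_cfker_Res h2 hk⟩
  exact ⟨h3, (gall1_mem h2 (h1.trans hn) (irr_char hψ) hθ).2 ⟨_, h3, rfl⟩⟩

theorem card_lin_le (X Y : Finset (G → ℂ)) (hX : ∀ l ∈ X, IsLin K l ∧ N ≤ cfker l)
    (hY : ∀ l ∈ X, Ind K T (Res (T : Set G) l * ψ) ∈ Y) : X.card ≤ T.relIndex K * Y.card := by
  classical
  have h1 : T ≤ K := hT ▸ inf_le_left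
  have h2 : N ≤ T := hT ▸ le_inf hNK (le_stab (irr_cf hθ))
  refine Finset.card_le_mul_card_image_of_maps_to hY _ fun y _ => ?_
  rcases (X.filter fun l => Ind K T (Res (T : Set G) l * ψ) = y).eq_empty_or_nonempty with
    h | ⟨l, hl⟩
  · simp [h]
  rw [Finset.mem_filter] at hl
  refine le_trans (Finset.card_le_card fun l' hl' => ?_) (card_over_le h1 ((hX l hl.1).1.Res h1))
  rw [Finset.mem_filter] at hl'
  obtain ⟨a, b⟩ := lin_mul_mem_over hNK hn hψ hθ hT (hX l hl.1).1 (hX l hl.1).2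
  obtain ⟨c, d⟩ := lin_mul_mem_over hNK hn hψ hθ hT (hX l' hl'.1).1 (hX l' hl'.1).2
  exact mem_over_of_Res (hX l' hl'.1).1.mem_Irr (mem_IrrQ.1 a).1 (gall1_inj h2 (h1.trans hn)
    (irr_char hψ) hθ c a (Ind_injOn_over hNK hn hθ hT d b (hl'.2.trans hl.2.symm)))

theorem Ind_lin_mul (hl : IsLin K l) (hk : N ≤ cfker l) :
    Ind K T (Res (T : Set G) l * ψ) ∈ Irr K ∧
      charDegree (Ind K T (Res (T : Set G) l * ψ)) = T.relIndex K * charDegree ψ ∧
      (star l = l → star ψ = ψ → nu K (Ind K T (Res (T : Set G) l * ψ)) = nu T ψ) := by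
  have h1 : T ≤ K := hT ▸ inf_le_left
  obtain ⟨a, b⟩ := lin_mul_mem_over hNK hn hψ hθ hT hl hk
  have h2 := (mem_over.1 (Ind_mem_over hNK hn hθ hT b)).1
  have h3 : star l = l → star (Res (T : Set G) l) = Res (T : Set G) l := fun h => by
    rw [← Res_star, h]
  refine ⟨h2, by rw [deg_Ind' h1 (mem_over.1 b).1, deg_congr (ψ := ψ) (by simp [hl.one_apply])],
    fun h4 h5 => ?_⟩
  rw [nu_Ind_irr h1 (mem_over.1 b).1 (by rw [star_mul', h3 h4, h5]) h2,
    nu_lin_mul (hl.Res h1) (h3 h4)]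

end

/-- the subgroup generated by the `p`-elements -/
abbrev gp (p : ℕ) (G : Type*) [Group G] : Subgroup G :=
  Subgroup.closure {g : G | ∃ k : ℕ, orderOf g = p ^ k}

theorem gp_norm : ⊤ ≤ 𝒩(gp p G) := H16.le_norm_iff_cj.2 fun a _ => by
  rw [MonoidHom.map_closure]
  refine Subgroup.closure_mono ?_
  rintro _ ⟨x, ⟨k, hk⟩, rfl⟩
  exact ⟨k, (H16.orderOf_cj x a).trans hk⟩

theorem le_gp [Fact p.Prime] (h : IsPGroup p P) : P ≤ gp p G := fun x hx => by
  obtain ⟨k, hk⟩ := IsPGroup.iff_orderOf.1 h ⟨x, hx⟩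
  exact Subgroup.subset_closure ⟨k, (Subgroup.orderOf_mk x hx).symm.trans hk⟩

theorem not_dvd_gp [hp : Fact p.Prime] : ¬ p ∣ (gp p G).relIndex ⊤ := fun h => by
  obtain ⟨P, hP⟩ := exists_syl p (⊤ : Subgroup G)
  exact hP.not_dvd_idx hp.out rfl (h.trans (Subgroup.relIndex_dvd_of_le_left _ (le_gp hP.isPGroup)))

theorem odd_gp : Odd ((gp 2 G).relIndex ⊤) :=
  Nat.not_even_iff_odd.1 fun h => not_dvd_gp h.two_dvd

theorem gp_le_of_sq {S : Set G} (h1 : 1 ∈ S) (h : ∀ g k, orderOf g = 2 ^ k → g * g ∈ S → g ∈ S)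
    (g : G) (k : ℕ) (hk : orderOf g = 2 ^ k) : g ∈ S := by
  induction k generalizing g with
  | zero => exact orderOf_eq_one_iff.1 hk ▸ h1
  | succ k ih => exact h g _ hk (ih _ (by
      rw [← sq, orderOf_pow_of_dvd two_ne_zero (hk ▸ dvd_pow_self 2 k.succ_ne_zero), hk, pow_succ,
        Nat.mul_div_cancel _ two_pos]))

theorem exists_real_perm (hH : ¬ gp 2 G ≤ H) :
    ∃ χ ∈ Irr (⊤ : Subgroup G), star χ = χ ∧ χ ≠ one ⊤ ∧ dot H χ (one H) ≠ 0 := by
  classical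
  by_contra! h0
  refine hH ((Subgroup.closure_le _).2 fun g ⟨k, hk⟩ => gp_le_of_sq H.one_mem (fun g _ _ hg => ?_)
    g k hk)
  have h1 := nu_Ind (K := ⊤) (H := H) (one H)
  rw [Ind_eq_sum_over le_top isChar_one, nu_sum, Finset.sum_eq_single_of_mem (one ⊤)
    (mem_over_of_Res (one_mem_Irr _) (one_mem_Irr _) (Res_one_of_le le_top)) fun χ hχ hne => by
      rw [nu_of_not_real (mem_over.1 hχ).1 fun h => (mem_over.1 hχ).2 (h0 χ (mem_over.1 hχ).1 h hne),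
        mul_zero], nu_one, mul_one, ← dot_Res_left, Res_one_of_le le_top, dot_one_one,
    eq_inv_mul_iff_mul_eq₀ (card_ne H), Res_cf (one_mem_cf H), ← sum_sub_const,
    ← sum_fs_subset (A := {g | g * g ∈ H}) (B := ((⊤ : Subgroup G) : Set G))
      (fun _ _ => Subgroup.mem_top _) fun g _ h => one_of_not_mem h,
    sum_fs_congr (A := {g | g * g ∈ H}) (g := fun _ => 1) fun g h => one_of_mem h,
    Finset.sum_const, Finset.sum_const, nsmul_one, nsmul_one, Nat.cast_inj] at h1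
  exact mem_fs.1 (Finset.eq_of_subset_of_card_le (fs_mono (A := H) (B := {g | g * g ∈ H})
    fun g h => mul_mem h h) h1.ge ▸ mem_fs.2 hg)

theorem not_dvd_stab (hn : ⊤ ≤ 𝒩(N)) (hθ : θ ∈ Irr N) (hχ : χ ∈ IrrO ⊤ N θ)
    (h : ¬ p ∣ charDegree χ) : ¬ p ∣ (stab θ).relIndex ⊤ := fun h1 => by
  obtain ⟨e, -, he⟩ := over_pos le_top (irr_char hθ) hχ
  have := clifford_degree le_top hn (mem_over.1 hχ).1 hθ (mem_over.1 hχ).2
  rw [he, ← deg_cast hθ, ← deg_cast (mem_over.1 hχ).1, ← Nat.cast_mul, ← Nat.cast_mul,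
    Nat.cast_inj] at this
  exact h (this ▸ (h1.mul_left _).mul_right _)

theorem exists_cj_le_of_idx [hp : Fact p.Prime] (hP : IsPGroup p P) (h : ¬ p ∣ T.relIndex ⊤) :
    ∃ g, cj(g, P) ≤ T := by
  obtain ⟨S, hS⟩ := exists_syl p T
  obtain ⟨g, -, hg⟩ := (syl_iff.2 ⟨le_top, hS.isPGroup, fun h1 => by
    rw [← Subgroup.relIndex_mul_relIndex S T ⊤ hS.le le_top] at h1
    exact (hp.out.dvd_mul.1 h1).elim (hS.not_dvd_idx hp.out rfl) h⟩).exists_cj_le
      (H16.pg_iff.2 hP) le_top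
  exact ⟨g, hg.trans hS.le⟩

theorem norm_syl_of_real [Fact p.Prime]
    (hr : ∀ χ ∈ Irr (⊤ : Subgroup G), star χ = χ → ¬ p ∣ charDegree χ)
    (hs : Group.IsSolvable (gp p G)) (hU : ⊤ ≤ 𝒩(U)) (hR : Syl(p, R, U)) (hK : U ≤ gp 2 G ⊔ R)
    (M : Subgroup G) : ⊤ ≤ 𝒩(M) → ⊤ ≤ 𝒩(M ⊔ R) := by
  induction M using WellFoundedGT.induction with | ind M ih => ?_
  intro hM
  by_contra hne
  have hRM : ¬ R ≤ M := fun h => hne (by rwa [sup_eq_left.2 h])
  obtain ⟨X, ⟨h1, h2⟩, h3, hmin⟩ := H1.exists_minimal_le (fun X => ⊤ ≤ 𝒩(X) ∧ ¬ X ≤ M)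
    (N := gp p G ⊓ U) ⟨le_norm_inf gp_norm hU, fun h => hRM ((le_inf (le_gp hR.isPGroup) hR.le).trans h)⟩
  have h4 : ⁅X, X⁆ ≤ M := by
    by_contra h
    exact H18.not_le_der_of_sol' (H16.sol_of_le hs (h3.trans inf_le_left)) (fun e => h2 (e ▸ bot_le))
      (hmin _ ⟨le_norm_comm h1 h1, h⟩ (H16.der_le X)).ge
  have h5 := ih (M ⊔ X) (left_lt_sup.2 h2) (le_norm_sup hM h1)
  have h6 : (⊤ : Subgroup G) ≤ X ⊔ (M ⊔ 𝒩(R)) := by
    rw [← (hR.of_le (le_inf hR.le le_sup_right) inf_le_left).frattini le_top (le_norm_inf hU h5)]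
    exact sup_le (inf_le_right.trans (sup_le (sup_le (le_sup_of_le_right le_sup_left) le_sup_left)
      (le_sup_of_le_right (le_sup_of_le_right (H16.le_norm R)))))
      (inf_le_right.trans (le_sup_of_le_right le_sup_right))
  have h7 : M ⊔ 𝒩(R) ≤ 𝒩(M ⊔ R) :=
    sup_le (H16.norm_of_le le_sup_left) (le_norm_sup (le_top.trans hM) le_rfl)
  obtain ⟨χ, hχ, h8, h9, h10⟩ := exists_real_perm (H := M ⊔ 𝒩(R)) fun h => hne (h6.trans
    ((sup_le (h3.trans (inf_le_right.trans (hK.trans (sup_le h (le_sup_of_le_right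
      (H16.le_norm R)))))) le_rfl).trans h7))
  have h11 : M ≤ cfker χ := (le_cfker_over_iff le_top le_sup_left hM hχ (one_mem_Irr _) h10).2
    (by rw [cfker_one]; exact le_sup_left)
  obtain ⟨l, hl, h12, h13⟩ := exists_under_ne_one le_top h1 hχ fun h => h9 (by
    have h12 := Res_irr_of_sup (top_le_iff.1 (h6.trans (sup_le_sup_right h _))) hχ
    have h13 := irr_eq_of_dot_ne h12 (one_mem_Irr _) (by rwa [dot_Res_left])
    refine irr_eq_one_of_le_cfker hχ (h6.trans (sup_le h ?_))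
    rw [← (irr_char hχ).le_cfker_Res_iff le_rfl, h13, cfker_one])
  have h14 : X ⊓ M ≤ cfker l :=
    le_cfker_of_under le_top inf_le_left (irr_char hχ) hl h13 (inf_le_right.trans h11)
  have h15 := isLin_of_le_cfker hl ((le_inf (H16.der_le X) h4).trans h14)
  have h16 : ⁅M, X⁆ ≤ X ⊓ M :=
    le_inf (comm_le_right (le_top.trans h1)) (comm_le_left (le_top.trans hM))
  obtain ⟨g, hg⟩ := exists_cj_le_of_idx hR.isPGroup
    (not_dvd_stab h1 hl (mem_over.2 ⟨hχ, h13⟩) (hr χ hχ h8))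
  have h17 : M ⊔ X ⊔ R ≤ stab l := by
    rw [← cj_of_mem_norm (h5 (Subgroup.mem_top g)), cj_sup,
      cj_of_mem_norm (le_norm_sup hM h1 (Subgroup.mem_top g))]
    exact sup_le (sup_le ((h15.le_stab_iff (le_top.trans h1)).2 (h16.trans h14))
      (le_stab (irr_cf hl))) hg
  have h18 : ⁅R, X⁆ ⊔ X ⊓ M ≤ X := sup_le (comm_le_right (le_top.trans h1)) inf_le_left
  by_cases h19 : ⁅R, X⁆ ⊔ X ⊓ M ≤ M
  · refine hne (h6.trans (sup_le (H16.norm_of_comm_le (H16.sup_comm_le ?_ ?_ ?_ ?_)) h7))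
    · exact le_sup_of_le_left (h16.trans inf_le_right)
    · exact le_sup_of_le_left (le_sup_left.trans h19)
    · exact H16.norm_of_le le_sup_left
    · exact H16.norm_of_le le_sup_right
  refine h12 (irr_eq_one_of_le_cfker hl ((hmin _ ⟨h6.trans (sup_le ?_ (sup_le ?_ ?_)), h19⟩
    h18).ge.trans (sup_le ((h15.le_stab_iff (le_top.trans h1)).1 (le_sup_right.trans h17)) h14)))
  · exact H16.norm_of_der_le (le_sup_of_le_right (le_inf (H16.der_le X) h4)) h18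
  · exact le_norm_of_comm_le h18 (le_sup_of_le_right (by rwa [Subgroup.commutator_comm]))
  · exact le_norm_sup (le_norm_comm le_rfl (le_top.trans h1)) (le_top.trans (le_norm_inf h1 hM))

theorem exists_real_not_le (hM : Odd (Nat.card M)) (h : ¬ gp 2 G ≤ 𝒞(M)) :
    ∃ χ ∈ Irr (⊤ : Subgroup G), star χ = χ ∧ ¬ M ≤ cfker χ := by
  haveI := Fintype.ofFinite G
  by_contra! h0
  refine h ((Subgroup.closure_le _).2 fun g ⟨k, hk⟩ => gp_le_of_sq (one_mem _)
    (fun y k hk hy => mem_cent.2 fun m hm => ?_) g k hk)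
  have h1 : Nat.card {s : G // s * s = m * (y * y)} = Nat.card {s : G // s * s = y * y} := by
    rw [← Nat.cast_inj (R := ℂ), card_sq_eq_sum, card_sq_eq_sum]
    refine Finset.sum_congr rfl fun χ _ => ?_
    by_cases h2 : ∀ g, ((χ : G → ℂ) g).im = 0
    · rw [cfker_mul_left (h0 _ (mem_Irr_top.2 χ.2) (star_eq_iff_im.2 h2) hm)]
    · rw [χ.2.indicator.2 h2, zero_mul, zero_mul]
  have ho := hM.of_dvd_nat (H16.orderOf_dvd_card hm)
  have hc : Commute m (y * y) := mem_cent.1 hy m hm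
  have h2 : ∀ s, s * s = m * (y * y) → Commute s m := fun s hs => by
    have h3 : (m * (y * y)) ^ 2 ^ k = m ^ 2 ^ k := by
      rw [hc.mul_pow, (Commute.refl y).mul_pow, ← hk, pow_orderOf_eq_one, mul_one, mul_one]
    obtain ⟨j, hj⟩ := exists_pow_eq_self_of_coprime (x := m)
      ((Nat.coprime_two_left.2 ho).pow_left k)
    rw [← hj, ← h3, ← hs]
    exact (((Commute.refl s).mul_right (Commute.refl s)).pow_right _).pow_right _
  obtain ⟨n, hn⟩ := ho
  have h3 : m * (m ^ n * m ^ n) = 1 := by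
    rw [← pow_add, ← pow_succ', ← two_mul, ← hn, pow_orderOf_eq_one]
  obtain ⟨⟨s, hs⟩, e⟩ := ((Nat.bijective_iff_injective_and_card
    (fun s : {s : G // s * s = m * (y * y)} => (⟨s * m ^ n, by
      rw [((h2 _ s.2).pow_right n).symm.mul_mul_mul_comm, s.2, hc.eq, mul_assoc, h3, mul_one]⟩ :
        {s : G // s * s = y * y}))).2 ⟨fun a b e => Subtype.ext (mul_right_cancel
          (congrArg Subtype.val e)), h1⟩).2 ⟨y, rfl⟩
  rw [← show s * m ^ n = y from congrArg Subtype.val e]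
  exact (h2 s hs).symm.mul_right ((Commute.refl m).pow_right n)

theorem exists_under_not_dvd (hHK : H ≤ K) (hχ : χ ∈ Irr K) (h : ¬ p ∣ charDegree χ) :
    ∃ φ ∈ Irr H, dot H χ φ ≠ 0 ∧ ¬ p ∣ charDegree φ := by
  by_contra! h0
  have h1 := cf_apply_eq_sum (Res_mem_cf hHK (irr_cf hχ)) 1
  rw [Res_one, ← deg_cast hχ, Finset.sum_congr rfl fun φ hφ => by
    rw [dot_Res_left, ← mi_cast hHK (irr_char hχ) (irr_char hφ), ← deg_cast hφ]] at h1
  refine h (Int.natCast_dvd_natCast.1 ((show (charDegree χ : ℤ) = ∑ φ ∈ Irr H,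
    mi H χ φ * charDegree φ by exact_mod_cast h1) ▸ Finset.dvd_sum fun φ hφ => ?_))
  by_cases h2 : dot H χ φ = 0
  · rw [mi_eq (n := 0) (by simpa using h2), zero_mul]; exact dvd_zero _
  · exact (Int.natCast_dvd_natCast.2 (h0 φ hφ h2)).mul_left _

theorem der_le_cfker_of_not_dvd [hp : Fact p.Prime] (hP : IsPGroup p P) (hM : ⊤ ≤ 𝒩(M))
    (hMP : M ≤ ⁅P, P⁆) (hχ : χ ∈ Irr ⊤) (h : ¬ p ∣ charDegree χ) : M ≤ cfker χ := by
  obtain ⟨φ, h1, h2, h3⟩ := exists_under_not_dvd (le_top (a := P)) hχ h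
  obtain ⟨k, hk⟩ := IsPGroup.iff_card.1 hP
  have h4 := (((hp.out.coprime_iff_not_dvd.2 h3).symm.pow_right k).eq_one_of_dvd
    (hk ▸ (irr_res h1).degree_dvd_card (deg_cast h1).symm))
  exact (le_cfker_over_iff le_top (hMP.trans (H16.der_le P)) hM hχ h1 h2).2 (hMP.trans
    ((irr_one_eq_one_iff h1).1 (by rw [← deg_cast h1, h4, Nat.cast_one])))

end H21
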