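/-
Real characters and the Glauberman correspondence.
-/
import Cfsg.Agent.H21.RC2
import Cfsg.Agent.H1.Super
import Cfsg.Agent.S0160

set_option autoImplicit false
set_option linter.unusedSectionVars false
open H17 Cfsg H15 CF
open scoped ComplexConjugate commutatorElement

namespace H21

universe u
variable {G : Type u} [Group G] [Finite G] {K H N T C S Q P : Subgroup G} {θ θ' η η' χ χ' ξ ξ' : G → ℂ}
  {p : ℕ}

theorem exists_bij_of_rel {α β : Type*} (R : α → β → Prop) (ex : ∀ a, ∃ b, R a b)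
    (ex' : ∀ b, ∃ a, R a b) (un : ∀ a b b', R a b → R a b' → b = b')
    (un' : ∀ a a' b, R a b → R a' b → a = a') :
    ∃ f : α → β, Function.Bijective f ∧ ∀ a, R a (f a) := by
  choose f hf using ex
  exact ⟨f, ⟨fun a a' e => un' _ _ _ (hf a) (e ▸ hf a'), fun b =>
    (ex' b).imp fun a h => un _ _ _ (hf a) h⟩, hf⟩

theorem card_eq_of_rel' {α β : Type*} (R : α → β → Prop) (ex : ∀ a, ∃ b, R a b)
    (ex' : ∀ b, ∃ a, R a b) (un : ∀ a b b', R a b → R a b' → b = b')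
    (un' : ∀ a a' b, R a b → R a' b → a = a') : Nat.card α = Nat.card β :=
  (exists_bij_of_rel R ex ex' un un').elim fun f hf => Nat.card_eq_of_bijective f hf.1

theorem card_eq_of_rel {α β : Type*} (A : Finset α) (B : Finset β) (R : α → β → Prop)
    (ex : ∀ a ∈ A, ∃ b ∈ B, R a b) (ex' : ∀ b ∈ B, ∃ a ∈ A, R a b)
    (un : ∀ a ∈ A, ∀ b ∈ B, ∀ b' ∈ B, R a b → R a b' → b = b')
    (un' : ∀ b ∈ B, ∀ a ∈ A, ∀ a' ∈ A, R a b → R a' b → a = a') : A.card = B.card := by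
  obtain ⟨f, hf, -⟩ := exists_bij_of_rel (fun (a : A) (b : B) => R a b)
    (fun a => let ⟨b, h, h'⟩ := ex a a.2; ⟨⟨b, h⟩, h'⟩)
    (fun a => let ⟨b, h, h'⟩ := ex' a a.2; ⟨⟨b, h⟩, h'⟩)
    (fun a b b' h h' => Subtype.ext (un _ a.2 _ b.2 _ b'.2 h h'))
    (fun a b b' h h' => Subtype.ext (un' _ b'.2 _ a.2 _ b.2 h h'))
  exact Finset.card_eq_of_equiv (Equiv.ofBijective f hf)

theorem mi_star (χ ξ : G → ℂ) : mi C (star χ) (star ξ) = mi C χ ξ := by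
  rw [mi, dot_star_star', Complex.conj_re, mi]

theorem star_mem_IrrS (h : χ ∈ IrrS K S) : star χ ∈ IrrS K S :=
  mem_IrrS.2 ⟨star_mem_Irr (mem_IrrS.1 h).1, (stab_star χ).symm ▸ (mem_IrrS.1 h).2⟩

theorem RB.star_iff (h : RB p K C S) (hχ : χ ∈ IrrS K S) (hξ : ξ ∈ IrrS C S)
    (h0 : ¬ (p : ℤ) ∣ mi C χ ξ) : star χ = χ ↔ star ξ = ξ :=
  ⟨fun e => h.un χ hχ _ (star_mem_IrrS hξ) _ hξ (by rwa [← e, mi_star]) h0,
    fun e => h.un' ξ hξ _ (star_mem_IrrS hχ) _ hχ (by rwa [← e, mi_star]) h0⟩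

open Classical in
theorem RB.card_real (h : RB p K C S) :
    ((IrrS K S).filter fun χ => star χ = χ).card = ((IrrS C S).filter fun χ => star χ = χ).card := by
  refine card_eq_of_rel _ _ (fun χ ξ => ¬ (p : ℤ) ∣ mi C χ ξ) (fun χ hχ => ?_) (fun ξ hξ => ?_)
    (fun a b c d e f => h.un a (Finset.mem_filter.1 b).1 c (Finset.mem_filter.1 d).1 e
      (Finset.mem_filter.1 f).1) fun a b c d e f => h.un' a (Finset.mem_filter.1 b).1 c
        (Finset.mem_filter.1 d).1 e (Finset.mem_filter.1 f).1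
  · rw [Finset.mem_filter] at hχ
    obtain ⟨ξ, h1, h2⟩ := h.ex χ hχ.1
    exact ⟨ξ, Finset.mem_filter.2 ⟨h1, (h.star_iff hχ.1 h1 h2).1 hχ.2⟩, h2⟩
  · rw [Finset.mem_filter] at hξ
    obtain ⟨χ, h1, h2⟩ := h.ex' ξ hξ.1
    exact ⟨χ, Finset.mem_filter.2 ⟨h1, (h.star_iff h1 hξ.1 h2).2 hξ.2⟩, h2⟩

theorem rc_bot : rc K ⊥ S = K ⊓ 𝒞(S) := Subgroup.ext fun k => by
  rw [mem_rc (H15.norm_bot.ge.trans' le_top), Subgroup.mem_inf, mem_cent]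
  simp only [Subgroup.mem_bot, mul_inv_eq_iff_eq_mul, one_mul]

theorem real_ext0 (χ : K → ℂ) : star (extendByZero K χ) = extendByZero K χ ↔ ∀ k, (χ k).im = 0 := by
  rw [star_eq_iff_im]
  refine ⟨fun h k => by simpa [ext0_of_mem χ k.2] using h k, fun h g => ?_⟩
  by_cases hg : g ∈ K
  · rw [ext0_of_mem _ hg, h]
  · rw [ext0_of_not_mem _ hg, Complex.zero_im]

open Classical in
theorem card_real_classes (K : Subgroup G) : ((Irr K).filter fun χ => star χ = χ).card =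
    Nat.card {C : ConjClasses K // ∀ g : K, ConjClasses.mk g = C → IsConj g g⁻¹} := by
  rw [← Cfsg.Agent.S0160.result, card_irr_subtype _ _
    (Finset.filter_subset (fun χ => star χ = χ) _) fun χ => by
    rw [Finset.mem_filter, and_iff_right (ext0_irr χ), real_ext0]]

theorem real_mk {X : Type*} [Group X] {g : X} (h : IsConj g g⁻¹) (x : X)
    (hx : ConjClasses.mk x = ConjClasses.mk g) : IsConj x x⁻¹ := by
  obtain ⟨c, rfl⟩ := isConj_iff.1 (ConjClasses.mk_eq_mk_iff_isConj.1 hx.symm)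
  exact (isConj_iff.2 ⟨c⁻¹, by group⟩ : IsConj (c * g * c⁻¹) g).trans
    (h.trans (isConj_iff.2 ⟨c, by group⟩))

theorem isConj_cent (hn : S ≤ 𝒩(K)) (hc : (Nat.card K).Coprime (Nat.card S))
    (hs : Group.IsSolvable S) {c c' : ↥(K ⊓ 𝒞(S))} (h : IsConj (Subgroup.inclusion inf_le_left c)
      (Subgroup.inclusion inf_le_left c')) : IsConj c c' := by
  let inst : MulAction G G := MulAction.compHom G (MulAut.conj (G := G))
  obtain ⟨k, hk⟩ := isConj_iff.1 h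
  have h1 : (k : G) * c * (k : G)⁻¹ = c' := congrArg Subtype.val hk
  obtain ⟨d, hd, e⟩ := @H1.glauberman_conj G _ _ G inst S K hn hc.symm (.inl hs) c k k.2
    (fun a ha => by
      change a * c * a⁻¹ = c
      rw [mem_cent.1 c.2.2 a ha]; group)
    (fun a ha => by
      change a * (k * c * (k : G)⁻¹) * a⁻¹ = k * c * (k : G)⁻¹
      rw [h1, mem_cent.1 c'.2.2 a ha]; group)
  exact isConj_iff.2 ⟨⟨d, hd⟩, Subtype.ext (e.trans h1)⟩

theorem exists_cent_conj (hn : S ≤ 𝒩(K)) (hc : (Nat.card K).Coprime (Nat.card S))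
    (hs : Group.IsSolvable S) {g : K} (h : ∀ s ∈ S, ∀ g' : K, (g' : G) = s * g * s⁻¹ →
      ConjClasses.mk g' = ConjClasses.mk g) :
    ∃ c : ↥(K ⊓ 𝒞(S)), IsConj g (Subgroup.inclusion inf_le_left c) := by
  let inst : MulAction G G := MulAction.compHom G (MulAut.conj (G := G))
  obtain ⟨k, hk, e⟩ := @H1.glauberman_exists G _ _ G inst S K hn hc.symm (.inl hs) g fun a ha => by
    have := h a ha ⟨_, H16.conj_mem (hn ha) g.2⟩ rfl
    rw [eq_comm, ConjClasses.mk_eq_mk_iff_isConj, isConj_iff] at this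
    obtain ⟨k, hk⟩ := this
    exact ⟨k, k.2, (congrArg Subtype.val hk).symm⟩
  exact ⟨⟨k * g * k⁻¹, K.mul_mem (K.mul_mem hk g.2) (K.inv_mem hk),
    mem_cent.2 fun a ha => mul_inv_eq_iff_eq_mul.1 (e a ha)⟩, isConj_iff.2 ⟨⟨k, hk⟩, rfl⟩⟩

theorem card_real_inv_classes (hn : S ≤ 𝒩(K)) (hc : (Nat.card K).Coprime (Nat.card S))
    (hs : Group.IsSolvable S) : Nat.card {X : ConjClasses ↥(K ⊓ 𝒞(S)) //
      ∀ g, ConjClasses.mk g = X → IsConj g g⁻¹} = Nat.card {X : ConjClasses K //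
        (∀ k, ConjClasses.mk k = X → IsConj k k⁻¹) ∧ ∀ k : K, ConjClasses.mk k = X → ∀ x ∈ S,
          ∀ k' : K, (k' : G) = x * k * x⁻¹ → ConjClasses.mk k' = X} := by
  refine card_eq_of_rel' (fun X Y => ConjClasses.map (Subgroup.inclusion inf_le_left) X.1 = Y.1)
    (fun ⟨X, hX⟩ => ?_) (fun ⟨Y, h1, h2⟩ => ?_) (fun _ _ _ h h' => Subtype.ext (h.symm.trans h'))
    fun ⟨X, _⟩ ⟨X', _⟩ _ h h' => Subtype.ext ?_
  · obtain ⟨c, rfl⟩ := ConjClasses.mk_surjective X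
    refine ⟨⟨_, real_mk ((Subgroup.inclusion inf_le_left).map_isConj (hX c rfl)),
      fun g h s hs g' e => ?_⟩, rfl⟩
    rw [ConjClasses.mk_eq_mk_iff_isConj, isConj_iff] at h ⊢
    obtain ⟨k, hk⟩ := h
    refine ⟨⟨s * k * s⁻¹, H16.conj_mem (hn hs) k.2⟩, Subtype.ext ?_⟩
    have h1 := congrArg Subtype.val hk
    have h2 := mem_cent.1 c.2.2 s hs
    simp only [Subgroup.coe_mul, Subgroup.coe_inv, Subgroup.coe_inclusion, e] at h1 ⊢
    rw [show s * k * s⁻¹ * (s * g * s⁻¹) * (s * k * s⁻¹)⁻¹ = s * (k * g * (k : G)⁻¹) * s⁻¹ by group,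
      h1, h2]
    group
  · obtain ⟨g, rfl⟩ := ConjClasses.mk_surjective Y
    obtain ⟨c, h3⟩ := exists_cent_conj hn hc hs (h2 g rfl)
    have h4 := ConjClasses.mk_eq_mk_iff_isConj.2 h3.symm
    exact ⟨⟨_, real_mk (isConj_cent hn hc hs (h1 _ h4))⟩, h4⟩
  · obtain ⟨c, rfl⟩ := ConjClasses.mk_surjective X
    obtain ⟨c', rfl⟩ := ConjClasses.mk_surjective X'
    exact ConjClasses.mk_eq_mk_iff_isConj.2 (isConj_cent hn hc hs
      (ConjClasses.mk_eq_mk_iff_isConj.1 (h.trans h'.symm)))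

theorem exists_norm_cfj [Fact p.Prime] (hP : Syl(p, P, ⊤)) {g : G} (h1 : P ≤ stab θ)
    (h2 : P ≤ stab (cfj g θ)) : ∃ n ∈ 𝒩(P), cfj n θ = cfj g θ := by
  obtain ⟨t, ht, e⟩ := ((hP.cj_top g).of_le (stab_cfj g θ ▸ cj_mono h1) le_top).exists_cj_eq
    (hP.of_le h2 le_top)
  exact ⟨t * g, mem_norm_iff_cj.2 (by rw [cj_mul, e]), by rw [cfj_mul, mem_stab.1 ht]⟩

theorem relIndex_modEq [Fact p.Prime] (hP : Syl(p, P, ⊤)) (h : P ≤ T) :
    T.relIndex ⊤ ≡ T.relIndex 𝒩(P) [MOD p] := by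
  have h1 := Subgroup.relIndex_mul_relIndex (T ⊓ 𝒩(P)) T ⊤ inf_le_left le_top
  rw [← Subgroup.relIndex_mul_relIndex (T ⊓ 𝒩(P)) 𝒩(P) ⊤ inf_le_right le_top,
    Subgroup.inf_relIndex_right, Subgroup.inf_relIndex_left] at h1
  have h2 := (H1.relIndex_normalizer_modEq_one (hP.of_le h le_top)).mul_right (T.relIndex ⊤)
  have h3 := (H1.relIndex_normalizer_modEq_one hP).mul_left (T.relIndex 𝒩(P))
  rw [one_mul, h1] at h2
  rw [mul_one] at h3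
  exact h2.symm.trans h3

theorem real_deg (hNK : N ≤ K) (hn : K ≤ 𝒩(N)) (ho : Odd (N.relIndex K)) (hθ : θ ∈ Irr N)
    (hχ : χ ∈ IrrO K N θ) (hr : star χ = χ) :
    charDegree χ = (stab θ).relIndex K * charDegree θ ∧ ∀ ψ ∈ IrrO K N θ, star ψ = ψ → ψ = χ := by
  obtain ⟨ψ, h1, -, h2, -, h3⟩ := real_over_odd hNK hn ho hθ (real_under_odd hNK hn ho hθ hχ hr)
  obtain rfl := h3 χ hχ hr
  exact ⟨charDegree_eq_of_one (by rw [clifford_degree hNK hn h1 hθ (mem_over.1 hχ).2, h2, one_mul,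
    Nat.cast_mul, deg_cast hθ]), h3⟩

/-- the setting of the Isaacs–Navarro correspondence for real characters -/
structure INS (p : ℕ) (K Q P : Subgroup G) : Prop where
  nK : ⊤ ≤ 𝒩(K)
  nQ : ⊤ ≤ 𝒩(Q)
  odd : Odd (K.relIndex ⊤)
  syl : Syl(p, P, ⊤)
  le : Q ≤ P
  nd : ¬ p ∣ Q.relIndex K
  hr : ∀ χ ∈ Irr (⊤ : Subgroup G), star χ = χ → ¬ p ∣ charDegree χ

/-- the correspondence -/
def INR (p : ℕ) (K P : Subgroup G) (χ ξ : G → ℂ) : Prop :=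
  ∃ θ ∈ IrrS K P, ∃ η ∈ IrrS (K ⊓ 𝒩(P)) P, ¬ (p : ℤ) ∣ mi (K ⊓ 𝒩(P)) θ η ∧ χ ∈ IrrO ⊤ K θ ∧
    ξ ∈ IrrO 𝒩(P) (K ⊓ 𝒩(P)) η ∧ star χ = χ ∧ star ξ = ξ

namespace INS

variable [hp : Fact p.Prime] (h : INS p K Q P)
include h

theorem rb : RB p K (K ⊓ 𝒩(P)) P := by
  have hK : K ≤ 𝒩(Q) := le_top.trans h.nQ
  convert rb_pgroup hp.out hK h.nd P h.syl.isPGroup (le_top.trans h.nK) (le_top.trans h.nQ)
  refine Subgroup.ext fun k => (and_congr_right fun hk => ⟨fun h1 x hx => ?_, fun h1 => ?_⟩).trans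
    (mem_rc hK).symm
  · have h2 : x * k * x⁻¹ * k⁻¹ ∈ P := by
      simpa [mul_assoc] using mul_mem hx (H16.conj_mem h1 (inv_mem hx))
    obtain ⟨a, ha⟩ := IsPGroup.iff_orderOf.1 h.syl.isPGroup ⟨_, h2⟩
    refine H18.mem_of_coprime_relIndex hK (mul_mem (H16.conj_mem (h.nK trivial) hk) (inv_mem hk)) ?_
    rw [← Subgroup.orderOf_mk _ h2, ha]
    exact (hp.out.coprime_iff_not_dvd.2 h.nd).pow_left a
  · refine Subgroup.mem_normalizer_fintype fun x hx => ?_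
    simpa [mul_assoc] using mul_mem hx (h.le (h1 _ (inv_mem hx)))

theorem nC : 𝒩(P) ≤ 𝒩(K ⊓ 𝒩(P)) := le_norm_inf (le_top.trans h.nK) (H16.le_norm _)

theorem odd' : Odd ((K ⊓ 𝒩(P)).relIndex 𝒩(P)) := by
  rw [Subgroup.inf_relIndex_right]
  exact h.odd.of_dvd_nat (H16.relIndex_dvd_of_norm le_top h.nK)

theorem ex (hχ : χ ∈ Irr ⊤) (hr : star χ = χ) : ∃ ξ, INR p K P χ ξ := by
  obtain ⟨θ, h1, h2⟩ := exists_under (le_top (a := K)) hχ
  obtain ⟨g, hg⟩ := exists_cj_le_of_idx h.syl.isPGroup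
    (not_dvd_stab h.nK h1 (mem_over.2 ⟨hχ, h2⟩) (h.hr χ hχ hr))
  have h3 : cfj g⁻¹ θ ∈ IrrS K P :=
    mem_IrrS.2 ⟨cfj_mem_Irr_norm (h.nK trivial) h1, stab_cfj _ θ ▸ cj_le_iff.1 hg⟩
  have h5 : χ ∈ IrrO ⊤ K (cfj g⁻¹ θ) := mem_over.2 ⟨hχ, by
    rwa [← cfj_of_mem (irr_cf hχ) (Subgroup.mem_top g⁻¹), dot_cfj_norm (h.nK trivial)]⟩
  obtain ⟨η, h6, h7⟩ := h.rb.ex _ h3
  obtain ⟨ξ, h8, h9, h10, -⟩ := real_over_odd inf_le_right h.nC h.odd' (mem_IrrS.1 h6).1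
    ((h.rb.star_iff h3 h6 h7).1 (real_under_odd le_top h.nK h.odd (mem_IrrS.1 h3).1 h5 hr))
  exact ⟨ξ, _, h3, η, h6, h7, h5, mem_over.2 ⟨h8, h10.trans_ne one_ne_zero⟩, hr, h9⟩

theorem ex' (hξ : ξ ∈ Irr 𝒩(P)) (hr : star ξ = ξ) (hd : ¬ p ∣ charDegree ξ) :
    ∃ χ, INR p K P χ ξ := by
  obtain ⟨η, h1, h2⟩ := exists_under (inf_le_right (a := K)) hξ
  have h3 := mem_over.2 ⟨hξ, h2⟩
  have h4 : η ∈ IrrS (K ⊓ 𝒩(P)) P := by
    refine mem_IrrS.2 ⟨h1, ?_⟩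
    obtain ⟨S, hS⟩ := exists_syl p (stab η ⊓ 𝒩(P))
    refine le_trans ((h.syl.of_le (H16.le_norm P) le_top).eq_of_normal le_rfl (hS.trans_idx
      inf_le_right fun q hq h5 e => hd ?_)).ge (hS.le.trans inf_le_left)
    rw [(real_deg inf_le_right h.nC h.odd' h1 h3 hr).1, ← Subgroup.inf_relIndex_right]
    exact (e ▸ h5 :).mul_right _
  obtain ⟨θ, h6, h7⟩ := h.rb.ex' _ h4
  obtain ⟨χ, h8, h9, h10, -⟩ := real_over_odd le_top h.nK h.odd (mem_IrrS.1 h6).1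
    ((h.rb.star_iff h6 h4 h7).2 (real_under_odd inf_le_right h.nC h.odd' h1 h3 hr))
  exact ⟨χ, θ, h6, η, h4, h7, mem_over.2 ⟨h8, h10.trans_ne one_ne_zero⟩, h3, h9, hr⟩

theorem cfj_iff (a : θ ∈ IrrS K P) (b : η ∈ IrrS (K ⊓ 𝒩(P)) P) (c : ¬ (p : ℤ) ∣ mi (K ⊓ 𝒩(P)) θ η)
    (a' : θ' ∈ IrrS K P) (b' : η' ∈ IrrS (K ⊓ 𝒩(P)) P) (c' : ¬ (p : ℤ) ∣ mi (K ⊓ 𝒩(P)) θ' η') {n : G}
    (hn : n ∈ 𝒩(P)) : cfj n θ = θ' ↔ cfj n η = η' :=
  ⟨fun e => h.rb.un _ a' _ (cfj_mem_IrrS b (h.nC hn) hn) _ b' (by rwa [← e, mi_cfj (h.nC hn)]) c',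
    fun e => h.rb.un' _ b' _ (cfj_mem_IrrS a (h.nK trivial) hn) _ a'
      (by rwa [← e, mi_cfj (h.nC hn)]) c'⟩

theorem un (h1 : INR p K P χ ξ) (h2 : INR p K P χ ξ') : ξ = ξ' := by
  obtain ⟨θ, a, η, b, c, d, e, -, r⟩ := h1
  obtain ⟨θ', a', η', b', c', d', e', -, r'⟩ := h2
  obtain ⟨g, -, rfl⟩ := mem_orb.1 (clifford_mem_orb le_top h.nK (mem_over.1 d).1 (mem_IrrS.1 a).1
    (mem_IrrS.1 a').1 (mem_over.1 d).2 (mem_over.1 d').2)
  obtain ⟨n, hn, e1⟩ := exists_norm_cfj h.syl (mem_IrrS.1 a).2 (mem_IrrS.1 a').2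
  obtain rfl := (h.cfj_iff a b c a' b' c' hn).1 e1
  refine (real_deg inf_le_right h.nC h.odd' (mem_IrrS.1 b').1 e' r').2 ξ (mem_over.2
    ⟨(mem_over.1 e).1, ?_⟩) r
  rw [← cfj_of_mem (irr_cf (mem_over.1 e).1) hn, dot_cfj_norm (h.nC hn)]
  exact (mem_over.1 e).2

theorem un' (h1 : INR p K P χ ξ) (h2 : INR p K P χ' ξ) : χ = χ' := by
  obtain ⟨θ, a, η, b, c, d, e, r, -⟩ := h1
  obtain ⟨θ', a', η', b', c', d', e', r', -⟩ := h2
  obtain ⟨n, hn, e1⟩ := mem_orb.1 (clifford_mem_orb inf_le_right h.nC (mem_over.1 e).1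
    (mem_IrrS.1 b).1 (mem_IrrS.1 b').1 (mem_over.1 e).2 (mem_over.1 e').2)
  obtain rfl := (h.cfj_iff a b c a' b' c' hn).2 e1
  refine (real_deg le_top h.nK h.odd (mem_IrrS.1 a').1 d' r').2 χ (mem_over.2
    ⟨(mem_over.1 d).1, ?_⟩) r
  rw [← cfj_of_mem (irr_cf (mem_over.1 d).1) (Subgroup.mem_top n), dot_cfj_norm (h.nK trivial)]
  exact (mem_over.1 d).2

theorem degree (h1 : INR p K P χ ξ) : (charDegree ξ : ZMod p) = charDegree χ ∨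
    (charDegree ξ : ZMod p) = -charDegree χ := by
  obtain ⟨θ, a, η, b, c, d, e, r, r'⟩ := h1
  have h2 : (stab η).relIndex 𝒩(P) = (stab θ).relIndex 𝒩(P) := by
    rw [← Subgroup.inf_relIndex_right, ← Subgroup.inf_relIndex_right (stab θ)]
    exact congrArg (Subgroup.relIndex · _) (Subgroup.ext fun n => and_congr_left fun hn =>
      (h.cfj_iff a b c a b c hn).symm)
  have h3 := (ZMod.intCast_zmod_eq_zero_iff_dvd _ p).2 (h.rb.sq _ a _ b c)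
  rw [Int.cast_sub, Int.cast_pow, Int.cast_one, sub_eq_zero, sq_eq_one_iff] at h3
  have h4 := (ZMod.intCast_zmod_eq_zero_iff_dvd _ p).2 (h.rb.degree hp.out h.syl.isPGroup inf_le_left
    ((H16.le_norm P).trans h.nC) a b c (deg_cast (mem_IrrS.1 a).1).symm
    (deg_cast (mem_IrrS.1 b).1).symm)
  rw [Int.cast_sub, Int.cast_mul, Int.cast_natCast, Int.cast_natCast, sub_eq_zero] at h4
  rw [(real_deg inf_le_right h.nC h.odd' (mem_IrrS.1 b).1 e r').1,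
    (real_deg le_top h.nK h.odd (mem_IrrS.1 a).1 d r).1, h2, Nat.cast_mul, Nat.cast_mul,
    (ZMod.natCast_eq_natCast_iff _ _ _).2 (relIndex_modEq h.syl (mem_IrrS.1 a).2), h4]
  rcases h3 with h3 | h3 <;> simp [h3]

theorem not_dvd (h1 : INR p K P χ ξ) : ¬ p ∣ charDegree ξ := fun h2 => by
  have h3 := h.degree h1
  obtain ⟨θ, a, η, b, c, d, e, r, r'⟩ := h1
  rw [(ZMod.natCast_eq_zero_iff _ _).2 h2, zero_eq_neg, eq_comm, or_self,
    ZMod.natCast_eq_zero_iff] at h3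
  exact h.hr χ (mem_over.1 d).1 r h3

end INS

theorem ins_of_sol [Fact p.Prime]
    (hr : ∀ χ ∈ Irr (⊤ : Subgroup G), star χ = χ → ¬ p ∣ charDegree χ)
    (hs : Group.IsSolvable (gp p G)) (hP : Syl(p, P, ⊤)) : INS p (gp 2 G) (gp 2 G ⊓ P) P := by
  have h1 := hP.inf_normal' le_top (le_top.trans gp_norm : P ≤ 𝒩(gp 2 G))
  have h2 := norm_syl_of_real hr hs gp_norm h1 le_sup_left ⊥ H15.norm_bot.ge
  rw [bot_sup_eq] at h2
  exact ⟨gp_norm, h2, odd_gp, hP, inf_le_right, h1.not_dvd_idx Fact.out rfl, hr⟩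

end H21
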