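/-
Tools for the McKay count in `p`-solvable groups: restriction bijection, orbit decomposition,
Clifford reduction.
-/
import Cfsg.Agent.H21.RC3
import Cfsg.Agent.H21.Isa1
import Cfsg.Agent.H21.CD4

set_option autoImplicit false
set_option linter.unusedSectionVars false
open H17 Cfsg H15 CF Subgroup
open scoped ComplexConjugate

namespace H21

universe u
variable {G : Type u} [Group G] [Finite G] {K H X L N T S W A B : Subgroup G}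
  {θ ν χ ψ ξ φ : G → ℂ} {p : ℕ}

/-- `ξ` extends from `W` to `A` -/
def Ex (A W : Subgroup G) (ξ : G → ℂ) : Prop := ∃ ζ ∈ Irr A, Res (W : Set G) ζ = ξ

theorem Ex.mono (h : Ex A W ξ) (hξ : ξ ∈ Irr W) (h1 : W ≤ B) (h2 : B ≤ A) : Ex B W ξ := by
  obtain ⟨ζ, a, b⟩ := h
  have e : Res (W : Set G) (Res (B : Set G) ζ) = ξ := by rw [Res_Res_of_le h1, b]
  exact ⟨_, ((irr_char a).Res h2).mem_Irr_of_Res h1 (e ▸ hξ), e⟩

theorem Ex.trans (h : Ex A B ψ) (h1 : W ≤ B) (e : Res (W : Set G) ψ = ξ) : Ex A W ξ := by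
  obtain ⟨ζ, a, b⟩ := h
  exact ⟨ζ, a, by rw [← e, ← b, Res_Res_of_le h1]⟩

theorem ex_of_cop (hn : T ≤ 𝒩(W)) (hξ : ξ ∈ Irr W) (hs : T ≤ stab ξ) (h1 : W ≤ A) (h2 : A ≤ T)
    (h3 : W ≤ B) (h4 : B ≤ T) (hc : (A.relIndex T).Coprime (B.relIndex T)) (hA : Ex A W ξ)
    (hB : Ex B W ξ) : Ex T W ξ := by
  refine amb_ext (h1.trans h2) hn hξ hs fun a b => ?_
  obtain ⟨Γ, _, E, c, d, -⟩ := exists_ret a b
  have key : ∀ {A}, W ≤ A → A ≤ T → Ex A W ξ → E.Ret (A.relIndex T) := fun {A} h1 h2 ⟨ζ, e, f⟩ =>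
    d (A.subgroupOf T) (subgroupOf_mono T h1) (fun x => ζ x)
      ((irr_res e).comp_equiv (subgroupOfEquivOfLe h2)).isCharacter fun n => by
        rw [← f]; exact (Res_of_mem ζ (A := (W : Set G)) n.2).symm
  exact c ((key h1 h2 hA).one_of_coprime (key h3 h4 hB) hc)

section rb
variable (hs : K ⊔ H = X) (hn : X ≤ 𝒩(K)) (hθ : θ ∈ Irr K) (hi : X ≤ stab θ)
  (hL : K ⊓ H = L) (hν : ν ∈ Irr L) (e : Res (L : Set G) θ = ν)
include hs hn hθ hi hL hν e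

theorem rb_sum (hξ : ξ ∈ Irr H) :
    dot L ξ ν = ∑ ψ ∈ IrrO X K θ, dot H ξ ψ * dot K ψ θ := by
  have hK : K ≤ X := hs ▸ le_sup_left
  have hH : H ≤ X := hs ▸ le_sup_right
  rw [← e, dot_Res_right, ← hL, ← dot_Ind_left inf_le_left ξ (irr_cf hθ),
    ← Res_Ind_of_mul hH hK (fun k hk => by
      obtain ⟨a, b, c, d, rfl⟩ := (H16.mem_sup_l (hH.trans hn)).1 (hs ▸ hk)
      exact ⟨a, b, c, d, rfl⟩) (irr_cf hξ), dot_Res_left,
    dot_eq_sum_under hK (Res_mem_cf le_rfl (Ind_mem_cf hH ξ)),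
    ← Finset.sum_subset (over_subset X K θ) fun ψ a b => by
      rw [not_not.1 fun h => b (mem_over.2 ⟨a, h⟩), mul_zero]]
  exact Finset.sum_congr rfl fun ψ a => by rw [dot_Ind_left hH ξ (irr_cf (mem_over.1 a).1)]

theorem rb_key (hχ : χ ∈ IrrO X K θ) (hξ : ξ ∈ Irr H) (h : dot H χ ξ ≠ 0) :
    Res (H : Set G) χ = ξ ∧ ξ ∈ IrrO H L ν ∧ ∀ ψ ∈ IrrO X K θ, dot H ψ ξ ≠ 0 → ψ = χ := by
  classical
  have hK : K ≤ X := hs ▸ le_sup_left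
  have hH : H ≤ X := hs ▸ le_sup_right
  have hLK : L ≤ K := hL ▸ inf_le_left
  have hLH : L ≤ H := hL ▸ inf_le_right
  have hHL : H ≤ 𝒩(L) := hL ▸ le_norm_inf (hH.trans hn) (le_norm_self H)
  have hst : H ≤ stab ν := fun g hg => by
    rw [mem_stab, ← e, cfj_Res_norm (hHL hg), mem_stab.1 (hi (hH hg))]
  have hd : charDegree θ = charDegree ν := deg_congr (by rw [← e, Res_one])
  have h1 := (mem_over.1 hχ).1
  have hm : ∀ ψ ∈ IrrO X K θ, ∃ m : ℕ × ℕ, dot H ξ ψ = m.1 ∧ 0 < m.2 ∧ dot K ψ θ = m.2 ∧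
      charDegree ψ = m.2 * charDegree θ := fun ψ a => by
    obtain ⟨m, b⟩ := (irr_char (mem_over.1 a).1).dot_nat_of_le hH (irr_char hξ)
    obtain ⟨n, c, d, f⟩ := deg_clifford hK hn hθ a
    rw [relIndex_eq_one.2 hi, mul_one] at f
    exact ⟨(m, n), dot_symm_nat b, c, d, f⟩
  choose! m a b c d using hm
  have h2 := rb_sum hs hn hθ hi hL hν e hξ
  rw [Finset.sum_congr rfl fun ψ hψ => by rw [a ψ hψ, c ψ hψ, ← Nat.cast_mul], ← Nat.cast_sum,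
    ← Finset.add_sum_erase _ _ hχ] at h2
  have h3 : 0 < (m χ).1 := Nat.pos_of_ne_zero fun h0 => h (dot_symm_zero (by rw [a χ hχ, h0]; simp))
  have h4 := Nat.le_mul_of_pos_left (m χ).2 h3
  have h5 : ξ ∈ IrrO H L ν := mem_over.2 ⟨hξ, by
    rw [h2, Nat.cast_ne_zero]; have := b χ hχ; omega⟩
  obtain ⟨f, -, h6, h7⟩ := deg_clifford hLH hHL hν h5
  rw [relIndex_eq_one.2 hst, mul_one] at h7
  rw [h6, Nat.cast_inj] at h2
  have h8 := deg_le_over hH hξ (mem_over.2 ⟨h1, h⟩)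
  rw [h7, d χ hχ, hd, Nat.mul_le_mul_right_iff (deg_pos hν)] at h8
  refine ⟨Res_eq_of_deg hH hξ (mem_over.2 ⟨h1, h⟩) (by rw [h7, d χ hχ, hd]; congr 1; omega), h5,
    fun ψ hψ h0 => by_contra fun hne => h0 (dot_symm_zero ?_)⟩
  have h9 := Finset.sum_eq_zero_iff.1 (show ∑ x ∈ (IrrO X K θ).erase χ, (m x).1 * (m x).2 = 0 by
    omega) ψ (Finset.mem_erase.2 ⟨hne, hψ⟩)
  rw [a ψ hψ, (mul_eq_zero.1 h9).resolve_right (b ψ hψ).ne', Nat.cast_zero]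

theorem rb_mem (hχ : χ ∈ IrrO X K θ) : Res (H : Set G) χ ∈ IrrO H L ν := by
  obtain ⟨ξ, a, b⟩ := exists_under (hs ▸ le_sup_right : H ≤ X) (mem_over.1 hχ).1
  obtain ⟨c, d, -⟩ := rb_key hs hn hθ hi hL hν e hχ a b
  rwa [c]

theorem rb_inj (hχ : χ ∈ IrrO X K θ) (hψ : ψ ∈ IrrO X K θ)
    (h : Res (H : Set G) χ = Res (H : Set G) ψ) : χ = ψ := by
  have a := (mem_over.1 (rb_mem hs hn hθ hi hL hν e hψ)).1
  refine (rb_key hs hn hθ hi hL hν e hψ a ?_).2.2 χ hχ ?_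
  · rw [← dot_Res_left, dot_irr_self a]; exact one_ne_zero
  · rw [← dot_Res_left, h, dot_irr_self a]; exact one_ne_zero

theorem rb_surj (hξ : ξ ∈ IrrO H L ν) : ∃ χ ∈ IrrO X K θ, Res (H : Set G) χ = ξ := by
  obtain ⟨a, b⟩ := mem_over.1 hξ
  rw [rb_sum hs hn hθ hi hL hν e a] at b
  obtain ⟨χ, c, d⟩ := Finset.exists_ne_zero_of_sum_ne_zero b
  exact ⟨χ, c, (rb_key hs hn hθ hi hL hν e c a
    (mt dot_symm_zero (left_ne_zero_of_mul d))).1⟩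

theorem rb_ex : Ex X K θ ↔ Ex H L ν := by
  have hLH : L ≤ H := hL ▸ inf_le_right
  refine ⟨fun h => (h.trans (hL ▸ inf_le_left) e).mono hν hLH ?_, fun ⟨ζ, a, b⟩ => ?_⟩
  · exact hs ▸ le_sup_right
  obtain ⟨χ, c, rfl⟩ := rb_surj hs hn hθ hi hL hν e (mem_over_of_Res a hν b)
  refine ⟨χ, (mem_over.1 c).1, Res_eq_of_deg (hs ▸ le_sup_left) hθ c (deg_congr ?_)⟩
  rw [← Res_one L θ, e, ← b, Res_one, Res_one]

/-- counting form of the restriction bijection -/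
theorem rb_card (P Q : (G → ℂ) → Prop) [DecidablePred P] [DecidablePred Q]
    (h : ∀ χ ∈ IrrO X K θ, P χ ↔ Q (Res (H : Set G) χ)) :
    ((IrrO X K θ).filter P).card = ((IrrO H L ν).filter Q).card := by
  refine Finset.card_bij (fun χ _ => Res (H : Set G) χ) (fun χ a => ?_) (fun χ a ψ b => ?_)
    fun ξ a => ?_
  · obtain ⟨b, c⟩ := Finset.mem_filter.1 a
    exact Finset.mem_filter.2 ⟨rb_mem hs hn hθ hi hL hν e b, (h χ b).1 c⟩
  · exact rb_inj hs hn hθ hi hL hν e (Finset.mem_filter.1 a).1 (Finset.mem_filter.1 b).1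
  · obtain ⟨b, c⟩ := Finset.mem_filter.1 a
    obtain ⟨χ, d, rfl⟩ := rb_surj hs hn hθ hi hL hν e b
    exact ⟨χ, Finset.mem_filter.2 ⟨d, (h χ d).2 c⟩, rfl⟩

end rb

/-- counting form of the Clifford correspondence -/
theorem cliff_card (hKX : K ≤ X) (hn : X ≤ 𝒩(K)) (hθ : θ ∈ Irr K) (hT : T = X ⊓ stab θ)
    (P Q : (G → ℂ) → Prop) [DecidablePred P] [DecidablePred Q]
    (h : ∀ ψ ∈ IrrO T K θ, P (Ind X T ψ) ↔ Q ψ) :
    ((IrrO X K θ).filter P).card = ((IrrO T K θ).filter Q).card := by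
  rw [Finset.card_filter, Finset.card_filter, sum_over hKX hn hθ hT]
  exact Finset.sum_congr rfl fun ψ a => if_congr (h ψ a) rfl rfl

variable [hp : Fact p.Prime]

theorem exists_inv_under (hKX : K ≤ X) (hn : X ≤ 𝒩(K)) (hS : Syl(p, S, X)) (hχ : χ ∈ Irr X)
    (hd : ¬ p ∣ charDegree χ) : ∃ θ ∈ IrrS K S, dot K χ θ ≠ 0 := by
  obtain ⟨θ, a, b⟩ := exists_under hKX hχ
  obtain ⟨e, -, -, c⟩ := deg_clifford hKX hn a (mem_over.2 ⟨hχ, b⟩)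
  obtain ⟨R, hR⟩ := exists_syl p (X ⊓ stab θ)
  have hR' : Syl(p, R, X) := hR.trans_idx inf_le_left fun q hq h0 h1 => hd (by
    rw [c, ← (h1 : q = p)]
    rw [inf_relIndex_left] at h0
    exact (h0.mul_left _).mul_right _)
  obtain ⟨g, d, rfl⟩ := hR'.exists_cj_eq hS
  refine ⟨cfj g θ, mem_IrrS.2 ⟨cfj_mem_Irr_norm (hn d) a, ?_⟩, ?_⟩
  · rw [stab_cfj]; exact cj_mono (hR.le.trans inf_le_right)
  · rwa [← cfj_of_mem (irr_cf hχ) d, dot_cfj_norm (hn d)]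

theorem exists_norm_cfj' (hS : Syl(p, S, X)) {g : G} (hg : g ∈ X) (h1 : S ≤ stab θ)
    (h2 : S ≤ stab (cfj g θ)) : cfj g θ ∈ orb (X ⊓ 𝒩(S)) θ := by
  rw [stab_cfj, le_cj_iff] at h2
  have a : Syl(p, S, X ⊓ stab θ) := hS.of_le (le_inf hS.le h1) inf_le_left
  have b : Syl(p, cj(g⁻¹, S), X ⊓ stab θ) := (hS.cj_of_mem (inv_mem hg)).of_le
    (le_inf (cj_le_of_mem (inv_mem hg) hS.le) h2) inf_le_left
  obtain ⟨t, ht, e⟩ := a.exists_cj_eq b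
  refine CF.mem_orb.2 ⟨g * t, ⟨mul_mem hg ht.1, mem_norm_iff_cj.2 ?_⟩, ?_⟩
  · rw [cj_mul, e, cj_cj_inv]
  · rw [cfj_mul, mem_stab.1 ht.2]

/-- decomposition of a set of characters of `p'`-degree along a normal subgroup -/
theorem card_eq_sum_orb (hKX : K ≤ X) (hn : X ≤ 𝒩(K)) (hS : Syl(p, S, X)) (F : Finset (G → ℂ))
    (hF : ∀ χ ∈ F, χ ∈ Irr X ∧ ¬ p ∣ charDegree χ) :
    (F.card : ℚ) = ∑ θ ∈ IrrS K S, ((F.filter fun χ => dot K χ θ ≠ 0).card : ℚ) /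
      (stab θ).relIndex (X ⊓ 𝒩(S)) := by
  classical
  simp only [Finset.card_filter, Nat.cast_sum, Finset.sum_div]
  rw [Finset.sum_comm, Finset.card_eq_sum_ones, Nat.cast_sum]
  refine Finset.sum_congr rfl fun χ hχ => ?_
  obtain ⟨a, b⟩ := hF χ hχ
  obtain ⟨θ, c, d⟩ := exists_inv_under hKX hn hS a b
  obtain ⟨c1, c2⟩ := mem_IrrS.1 c
  have h1 : orb (X ⊓ 𝒩(S)) θ ⊆ IrrS K S := fun φ h => by
    obtain ⟨g, e, rfl⟩ := CF.mem_orb.1 h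
    exact cfj_mem_IrrS c (hn e.1) e.2
  rw [← Finset.sum_subset h1 fun φ e f => ?_, Finset.sum_congr rfl
    (g := fun _ => 1 / ((orb (X ⊓ 𝒩(S)) θ).card : ℚ)) fun φ e => ?_, Finset.sum_const,
    nsmul_eq_mul, mul_one_div_cancel (Nat.cast_ne_zero.2 (Finset.card_ne_zero_of_mem
      (self_mem_orb _ θ))), Nat.cast_one]
  · rw [← card_orb, orb_eq_of_mem e, if_pos, Nat.cast_one]
    obtain ⟨g, e1, rfl⟩ := CF.mem_orb.1 e
    rwa [← cfj_of_mem (irr_cf a) e1.1, dot_cfj_norm (hn e1.1)]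
  · rw [if_neg, Nat.cast_zero, zero_div]
    intro h
    obtain ⟨g, e1, rfl⟩ := CF.mem_orb.1 (clifford_mem_orb hKX hn a c1 (mem_IrrS.1 e).1 d h)
    exact f (exists_norm_cfj' hS e1 c2 (mem_IrrS.1 e).2)

end H21
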