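/-
Gallagher's count of the irreducible characters lying over an invariant character.
-/
import Cfsg.Agent.H21.MK1

set_option autoImplicit false
set_option linter.unusedSectionVars false
open H17 Cfsg H15 CF Subgroup
open scoped ComplexConjugate

namespace H21

universe u
variable {G : Type u} [Group G] [Finite G] {K H X L N T S W A B V : Subgroup G}
  {θ ν χ ψ ξ ξ' φ η : G → ℂ} {x y : G}

theorem sum_eq_of_mul (a : G → ℂ) (h : ∀ y ∈ A, ∀ z ∈ A, a (y * z) = a y * a z)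
    (P : Prop) [Decidable P] (hP : P ↔ ∀ y ∈ A, a y = 1) :
    ∑ y ∈ fs (A : Set G), a y = if P then (Nat.card A : ℂ) else 0 := by
  split_ifs with h1
  · rw [sum_fs_congr (hP.1 h1), sum_sub_const, mul_one]
  · rw [hP] at h1
    push Not at h1
    obtain ⟨y, a1, a2⟩ := h1
    have := sum_mul_left a1 a
    rw [sum_fs_congr (h y a1), ← Finset.mul_sum] at this
    by_contra h0
    exact a2 (mul_right_cancel₀ h0 (by rw [this, one_mul]))

section coset
variable (hn : x ∈ 𝒩(W)) (hη : Ext W x η) (e : Res (W : Set G) η = ξ)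
include hn hη e

theorem Ext.over_val (h : φ ∈ IrrO (W ⊔ zpowers x) W ξ) :
    ∃ β ∈ IrrQ (W ⊔ zpowers x) W, β * η = φ ∧ ∀ w ∈ W, φ (w * x) = β x * η (w * x) := by
  obtain ⟨β, a, rfl⟩ := (gall1_mem le_sup_left (supz_le_norm hn) hη.1 hη.2).1 (e ▸ h)
  exact ⟨β, a, rfl, fun w hw => by rw [Pi.mul_apply, cfker_mul_left ((mem_IrrQ.1 a).2 hw)]⟩

theorem Ext.dot_of_val {c : ℂ} (h : ∀ w ∈ W, φ (w * x) = c * η (w * x)) :
    dot W (sh x φ) (sh x η) = c := by
  rw [dot_congr (φ := sh x φ) (φ' := c • sh x η) (ψ' := sh x η) h fun _ _ => rfl, dot_smul_left,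
    hη.self hn, mul_one]

theorem Ext.val_over (hW : W ≤ H) (hx : x ∈ H) (hH : H ≤ 𝒩(W)) (hs : H ≤ stab ξ)
    (h : χ ∈ IrrO H W ξ) : ∀ w ∈ W, χ (w * x) = dot W (sh x χ) (sh x η) * η (w * x) := by
  have hE : W ⊔ zpowers x ≤ H := sup_le hW (zpowers_le.2 hx)
  have : ∃ c, ∀ w ∈ W, χ (w * x) = c * η (w * x) := by
    have h1 : ∀ φ ∈ Irr (W ⊔ zpowers x), ∃ c, dot (W ⊔ zpowers x) χ φ ≠ 0 →
        ∀ w ∈ W, φ (w * x) = c * η (w * x) := fun φ hφ => by
      by_cases h0 : dot (W ⊔ zpowers x) χ φ = 0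
      · exact ⟨0, fun h => absurd h0 h⟩
      obtain ⟨β, -, -, a⟩ := hη.over_val hn e
        (over_of_under le_sup_left hE hH (e ▸ hη.2) hs h hφ h0)
      exact ⟨_, fun _ => a⟩
    choose! c hc using h1
    refine ⟨∑ φ ∈ Irr (W ⊔ zpowers x), dot (W ⊔ zpowers x) χ φ * c φ, fun w hw => ?_⟩
    rw [← Res_of_mem χ (A := ((W ⊔ zpowers x : Subgroup G) : Set G))
      (mul_mem_sup hw (mem_zpowers x)), cf_apply_eq_sum (Res_mem_cf hE (irr_cf (mem_over.1 h).1)),
      Finset.sum_mul]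
    refine Finset.sum_congr rfl fun φ hφ => ?_
    rw [dot_Res_left]
    by_cases h0 : dot (W ⊔ zpowers x) χ φ = 0
    · rw [h0, zero_mul, zero_mul, zero_mul]
    · rw [hc φ hφ h0 w hw, mul_assoc]
  obtain ⟨c, hc⟩ := this
  rwa [hη.dot_of_val hn e hc]

theorem Ext.dot_not_over (hW : W ≤ H) (hx : x ∈ H) (h : χ ∈ Irr H) (h' : χ ∉ IrrO H W ξ) :
    dot W (sh x χ) (sh x η) = 0 := by
  have hE : W ⊔ zpowers x ≤ H := sup_le hW (zpowers_le.2 hx)
  rw [dot_congr (φ := sh x χ) (φ' := sh x (Res ((W ⊔ zpowers x : Subgroup G) : Set G) χ))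
    (ψ' := sh x η)
    (fun w hw => (Res_of_mem χ (mul_mem_sup hw (mem_zpowers x))).symm) fun _ _ => rfl,
    dot_sh_eq le_sup_left (supz_le_norm hn) (Res_mem_cf hE (irr_cf h)) hη.1.cf]
  refine Finset.sum_eq_zero fun β hβ => mul_eq_zero_of_left (by_contra fun h0 => h' ?_) _
  obtain ⟨a, b⟩ := mem_over.1 ((gall1_mem le_sup_left (supz_le_norm hn) hη.1 hη.2).2 ⟨β, hβ, rfl⟩)
  rw [dot_Res_left] at h0
  exact mem_over.2 ⟨h, dot_ne_trans le_sup_left hE (irr_char h) a (irr_char (e ▸ hη.2)) h0 (e ▸ b)⟩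

end coset

/-- `x` is `ξ`-good in `H` -/
def Good (H W : Subgroup G) (ξ : G → ℂ) (x : G) : Prop :=
  ∀ y ∈ H ⊓ rc1 W x, Ex (W ⊔ zpowers x ⊔ zpowers y) W ξ

theorem rc1_conj (hy : y ∈ rc1 W x) {w : G} (hw : w ∈ W) : ∃ v ∈ W, y * (w * x) * y⁻¹ = v * x :=
  ⟨y * w * y⁻¹ * (x * y * x⁻¹ * y⁻¹)⁻¹, mul_mem (H16.conj_mem hy.1 hw) (inv_mem hy.2), by group⟩

theorem rc1_norm (hn : x ∈ 𝒩(W)) : rc1 W x ≤ 𝒩(W ⊔ zpowers x) :=
  le_norm_of_cj_le fun y hy => by
    rw [cj_sup, cj_of_mem_norm hy.1, cj_zpowers]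
    refine sup_le le_sup_left (zpowers_le.2 ?_)
    obtain ⟨v, a, b⟩ := rc1_conj hy (one_mem W)
    rw [one_mul] at b
    exact b ▸ mul_mem_sup a (mem_zpowers x)

theorem coset_sum (hW : W ≤ H) (hH : H ≤ 𝒩(W)) (hξ : ξ ∈ Irr W) (hs : H ≤ stab ξ) (hx : x ∈ H)
    [Decidable (Good H W ξ x)] :
    ∑ χ ∈ IrrO H W ξ, ∑ w ∈ fs (W : Set G), χ (w * x) * conj (χ (w * x)) =
      if Good H W ξ x then (Nat.card ↥(H ⊓ rc1 W x) : ℂ) else 0 := by
  classical
  have hn := hH hx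
  have hE : W ⊔ zpowers x ≤ H := sup_le hW (zpowers_le.2 hx)
  obtain ⟨η, hη, e⟩ := exists_Ext hn (mem_IrrS.2 ⟨hξ, zpowers_le.2 (hs hx)⟩)
  have hη' := hη.1.mem_Irr_of_Res le_sup_left hη.2
  have hsum := sum_coset_normSq le_sup_left (supz_le_norm hn) hη.1 hη.2
    (mem_sup_right (mem_zpowers x))
  set f : G → ℂ := fun g => if g * x⁻¹ ∈ W then η g else 0 with hf
  have h1 : ∀ φ, dot H φ f = (Nat.card H : ℂ)⁻¹ * Nat.card W * dot W (sh x φ) (sh x η) := fun φ => by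
    rw [dot_def, dot_def, mul_assoc, mul_inv_cancel_left₀ (card_ne W), ← sum_mul_right hx,
      ← sum_fs_subset (A := (W : Set G)) (B := (H : Set G)) hW fun g _ hg => ?_]
    · exact congrArg _ (sum_fs_congr fun w hw => by
        simp only [sh, hf, mul_inv_cancel_right, if_pos (show w ∈ W from hw)])
    · simp only [hf, mul_inv_cancel_right, if_neg (show g ∉ W from hg), map_zero, mul_zero]
  have h2 : ∀ y ∈ H ⊓ rc1 W x, ∃ β ∈ IrrQ (W ⊔ zpowers x) W, β * η = cfj y η ∧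
      ∀ w ∈ W, cfj y η (w * x) = β x * η (w * x) := fun y hy =>
    hη.over_val hn e (mem_over_of_Res (cfj_mem_Irr_norm (rc1_norm hn hy.2) hη') hξ (by
      rw [← cfj_Res_norm (hH hy.1), e, mem_stab.1 (hs hy.1)]))
  have h3 : ∑ y ∈ fs (H : Set G), dot W (sh x (cfj y f)) (sh x η) =
      if Good H W ξ x then (Nat.card ↥(H ⊓ rc1 W x) : ℂ) else 0 := by
    rw [← sum_fs_subset (A := ((H ⊓ rc1 W x : Subgroup G) : Set G)) (B := (H : Set G))
      (fun _ h => h.1) fun y a b => ?_,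
      sum_fs_congr (g := fun y => dot W (sh x (cfj y η)) (sh x η)) fun y hy => ?_]
    · refine sum_eq_of_mul _ (fun y hy z hz => ?_) _ (forall₂_congr fun y hy => ?_)
      · obtain ⟨β, -, -, a⟩ := h2 y hy
        obtain ⟨γ, -, -, b⟩ := h2 z hz
        rw [hη.dot_of_val hn e a, hη.dot_of_val hn e b]
        refine hη.dot_of_val hn e fun w hw => ?_
        obtain ⟨v, c, d⟩ := rc1_conj (inv_mem hy.2) hw
        rw [inv_inv] at d
        rw [cfj_mul, cfj_apply, d, b v c, ← d, ← cfj_apply y η, a w hw]; ring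
      · obtain ⟨β, a, b, c⟩ := h2 y hy
        rw [hη.dot_of_val hn e c]
        have hl := isLin_of_IrrQ (der_supz_le hn) a
        refine ⟨fun ⟨ζ, a1, a2⟩ => ?_, fun h => ?_⟩
        · have a3 : Res (W : Set G) (Res ((W ⊔ zpowers x : Subgroup G) : Set G) ζ) = ξ := by
            rw [Res_Res_of_le le_sup_left, a2]
          obtain ⟨γ, a4, -, a5⟩ := hη.over_val hn e (mem_over_of_Res
            (((irr_char a1).Res le_sup_left).mem_Irr_of_Res le_sup_left (a3 ▸ hξ)) hξ a3)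
          rw [← hη.dot_of_val hn e c]
          refine hη.dot_of_val hn e fun w hw => ?_
          obtain ⟨v, c, d⟩ := rc1_conj (inv_mem hy.2) hw
          rw [inv_inv] at d
          refine mul_left_cancel₀ ((isLin_of_IrrQ (der_supz_le hn) a4).ne_zero
            (mem_sup_right (mem_zpowers x))) ?_
          rw [one_mul, cfj_apply, d, ← a5 v c, ← a5 w hw,
            Res_of_mem _ (mul_mem_sup c (mem_zpowers x)),
            Res_of_mem _ (mul_mem_sup hw (mem_zpowers x)), ← d,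
            cf_conj' (irr_cf a1) _ (mem_sup_right (mem_zpowers y))]
        · rw [irr_eq_one_of_le_cfker hl.mem_Irr (sup_le (mem_IrrQ.1 a).2
            (zpowers_le.2 (hl.mem_cfker.2 h))), one_mul_cf hη.1.cf] at b
          have hz := zpowers_le.2 (rc1_norm hn hy.2)
          exact Ex.trans (exists_ext_cyclic le_sup_left (sup_le_norm hz) hη'
            (sup_le (le_stab hη.1.cf) (zpowers_le.2 b.symm)) (H16.cyclic_zpowers y) rfl)
            le_sup_left e
    · refine dot_congr (fun w hw => ?_) fun _ _ => rfl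
      obtain ⟨v, c, d⟩ := rc1_conj (inv_mem hy.2) hw
      rw [inv_inv] at d
      simp only [sh, cfj_apply, d, hf, mul_inv_cancel_right, if_pos c]
    · rw [dot_congr (φ := sh x (cfj y f)) (φ' := 0) (ψ' := sh x η) (fun w hw => ?_) fun _ _ => rfl,
        dot_zero_left]
      refine if_neg fun h => b ⟨a, hH a, ?_⟩
      convert mul_mem (inv_mem hw) (H16.conj_mem (hH a) h) using 1
      group
  have hF : ∑ y ∈ fs (H : Set G), cfj y f ∈ cf H := by
    have : f ∈ supp (H : Set G) := fun g hg => if_neg fun h => hg (by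
      simpa using mul_mem (hW h) hx)
    have h := (cf H).smul_mem (Nat.card H : ℂ) (Ind_mem_cf (le_refl H) f)
    rwa [Ind_eq_sum_cfj this, smul_inv_smul₀ (card_ne H)] at h
  have h4 := dot_eq_sum hF f
  have h0 : (Nat.card H : ℂ)⁻¹ * Nat.card W ≠ 0 := mul_ne_zero (inv_ne_zero (card_ne H)) (card_ne W)
  rw [dot_sum_left, Finset.sum_congr rfl fun y _ => h1 _, ← Finset.mul_sum, h3,
    ← Finset.sum_subset (over_subset H W ξ) fun χ a b => by
      rw [dot_conj_symm, h1, hη.dot_not_over hn e hW hx a b, mul_zero, mul_zero]] at h4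
  refine mul_left_cancel₀ h0 ?_
  rw [h4, Finset.mul_sum]
  refine Finset.sum_congr rfl fun χ hχ => ?_
  rw [sum_fs_congr (g := fun w => dot W (sh x χ) (sh x η) * conj (dot W (sh x χ) (sh x η)) *
    (η (w * x) * conj (η (w * x)))) fun w hw => by
      rw [hη.val_over hn e hW hx hH hs hχ w hw, map_mul]; ring, ← Finset.mul_sum, hsum, dot_sum_left,
    sum_fs_congr (g := fun _ => dot H f χ) fun y hy => by
      rw [dot_cfj_left (le_norm_self H hy), cfj_of_mem (irr_cf (mem_over.1 hχ).1) (inv_mem hy)],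
    sum_sub_const, ← dot_conj_symm χ f, Complex.conj_conj, h1, map_mul, map_mul, map_inv₀,
    map_natCast, map_natCast]
  field_simp [card_ne H]

open Classical in
/-- Gallagher's formula -/
theorem card_over_good (hW : W ≤ H) (hH : H ≤ 𝒩(W)) (hξ : ξ ∈ Irr W) (hs : H ≤ stab ξ) :
    (Nat.card W : ℂ) * (IrrO H W ξ).card =
      dot H (fun x => if Good H W ξ x then (Nat.card ↥(H ⊓ rc1 W x) : ℂ) else 0) 1 := by
  rw [dot_def, sum_fs_congr fun x hx => by
    rw [← coset_sum hW hH hξ hs hx, Pi.one_apply, map_one, mul_one], Finset.sum_comm,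
    Finset.mul_sum, Finset.card_eq_sum_ones, Nat.cast_sum, Finset.mul_sum]
  refine Finset.sum_congr rfl fun χ hχ => ?_
  rw [Finset.sum_comm, sum_fs_congr fun w hw => sum_mul_left (hW hw) fun g => χ g * conj (χ g),
    sum_sub_const, mul_left_comm, ← dot_def, dot_irr_self (mem_over.1 hχ).1, Nat.cast_one]

theorem rc1_mul {w : G} (hw : w ∈ W) : rc1 W (w * x) = rc1 W x := by
  ext k
  refine and_congr_right fun hk => ?_
  rw [show w * x * k * (w * x)⁻¹ * k⁻¹ = w * (x * k * x⁻¹ * k⁻¹) * (k * w⁻¹ * k⁻¹) by group,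
    W.mul_mem_cancel_right (H16.conj_mem hk (inv_mem hw)), W.mul_mem_cancel_left hw]

theorem sup_zpowers_mul {w : G} (hw : w ∈ W) : W ⊔ zpowers (w * x) = W ⊔ zpowers x :=
  le_antisymm (sup_le le_sup_left (zpowers_le.2 (mul_mem_sup hw (mem_zpowers x))))
    (sup_le le_sup_left (zpowers_le.2 ((mul_mem_cancel_left (mem_sup_left hw)).1
      (mem_sup_right (mem_zpowers _)))))

theorem le_rc1 (hx : x ∈ 𝒩(W)) : W ≤ rc1 W x := fun _ hw =>
  ⟨le_norm_self W hw, mul_mem (H16.conj_mem hx hw) (inv_mem hw)⟩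

theorem der_two (hx : x ∈ 𝒩(W)) (hy : y ∈ rc1 W x) :
    ⁅W ⊔ zpowers x ⊔ zpowers y, W ⊔ zpowers x ⊔ zpowers y⁆ ≤ W := by
  have h1 := zpowers_le.2 hx
  have h2 := zpowers_le.2 hy.1
  have h3 : ⁅zpowers y, zpowers x⁆ ≤ W := commutator_le.2 fun b hb a ha =>
    (zpowers_le.2 (show x ∈ rc1 W b from ⟨hx, by
      simpa [mul_assoc] using inv_mem (zpowers_le.2 hy hb).2⟩) ha).2
  have h4 : ∀ z : G, ⁅zpowers z, zpowers z⁆ ≤ W := fun z =>
    (H16.der_eq_bot.2 inferInstance).le.trans bot_le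
  rw [sup_assoc]
  exact (H16.der_sup_le (sup_le h1 h2)).trans (sup_le le_rfl (H16.sup_comm_le
    (H16.comm_sup_le (h4 x) (commutator_comm (zpowers y) _ ▸ h3) h1 h2)
    (H16.comm_sup_le h3 (h4 y) h1 h2) h1 h2))

/-- comparison of two character triples with the same quotient -/
theorem card_over_eq (hH : W ⊔ N = H) (hn : H ≤ 𝒩(W)) (hV : W ⊓ N = V) (hξ : ξ ∈ Irr W)
    (hs : H ≤ stab ξ) (hξ' : ξ' ∈ Irr V) (hs' : N ≤ stab ξ')
    (h : ∀ A, V ≤ A → A ≤ N → ⁅A, A⁆ ≤ V → (Ex (W ⊔ A) W ξ ↔ Ex A V ξ')) :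
    (IrrO H W ξ).card = (IrrO N V ξ').card := by
  classical
  have hW : W ≤ H := hH ▸ le_sup_left
  have hN : N ≤ H := hH ▸ le_sup_right
  have hVW : V ≤ W := hV ▸ inf_le_left
  have hVN : V ≤ N := hV ▸ inf_le_right
  have hn' : N ≤ 𝒩(V) := hV ▸ le_norm_inf (hN.trans hn) (le_norm_self N)
  have h1 := card_over_good hW hn hξ hs
  have h2 := card_over_good hVN hn' hξ' hs'
  rw [← dot_of_sup hn hH (fun w hw g => if_congr (by
      simp only [Good, rc1_mul hw, sup_zpowers_mul hw]) (by rw [rc1_mul hw]) rfl)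
    fun _ _ _ => rfl] at h1
  have key : ∀ x ∈ N, N ⊓ rc1 V x = N ⊓ rc1 W x ∧ H ⊓ rc1 W x = W ⊔ N ⊓ rc1 W x := fun x hx => by
    refine ⟨Subgroup.ext fun y => and_congr_right fun hy => ⟨fun a => ⟨hn (hN hy), hVW a.2⟩,
      fun a => ⟨hn' hy, hV.le ⟨a.2,
        N.mul_mem (H16.conj_mem (le_norm_self N hx) hy) (N.inv_mem hy)⟩⟩⟩, ?_⟩
    rw [← hH, H16.modl (le_rc1 (hn (hN hx))) (Or.inr (hN.trans hn))]
  have h3 : ∀ x ∈ N, Good H W ξ x ↔ Good N V ξ' x := fun x hx => by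
    have h4 : ∀ y ∈ N ⊓ rc1 V x, Ex (W ⊔ zpowers x ⊔ zpowers y) W ξ ↔
        Ex (V ⊔ zpowers x ⊔ zpowers y) V ξ' := fun y hy => by
      rw [← h _ (le_sup_left.trans le_sup_left) (sup_le (sup_le hVN (zpowers_le.2 hx))
        (zpowers_le.2 hy.1)) (der_two (hn' hx) hy.2), ← sup_assoc, ← sup_assoc, sup_eq_left.2 hVW]
    refine ⟨fun a y hy => (h4 y hy).1 (a y ?_), fun a y hy => ?_⟩
    · rw [(key x hx).1] at hy
      exact ⟨hN hy.1, hy.2⟩
    · rw [(key x hx).2, ← (key x hx).1] at hy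
      obtain ⟨w, b, z, c, rfl⟩ := (H16.mem_sup_l (inf_le_left.trans (hN.trans hn))).1 hy
      rw [sup_zpowers_mul (mem_sup_left b)]
      exact (h4 z c).2 (a z c)
  have h5 : ∀ x ∈ N, (Nat.card V : ℂ) * Nat.card ↥(H ⊓ rc1 W x) =
      Nat.card W * Nat.card ↥(N ⊓ rc1 V x) := fun x hx => by
    rw [(key x hx).1, (key x hx).2, ← Nat.cast_mul, ← Nat.cast_mul, ← H16.card_sup_mul_inf
      (Or.inr (inf_le_left.trans (hN.trans hn))), ← inf_assoc, hV,
      inf_eq_left.2 (hVW.trans (le_rc1 (hn (hN hx)))), mul_comm]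
  have : (Nat.card V : ℂ) * (Nat.card W * (IrrO H W ξ).card) =
      Nat.card W * (Nat.card V * (IrrO N V ξ').card) := by
    rw [h1, h2, ← dot_smul_left, ← dot_smul_left]
    refine dot_congr (fun x hx => ?_) fun _ _ => rfl
    simp only [Pi.smul_apply, smul_eq_mul, h3 x hx, mul_ite, mul_zero, h5 x hx]
  rw [mul_left_comm] at this
  exact_mod_cast mul_left_cancel₀ (card_ne V) (mul_left_cancel₀ (card_ne W) this)

end H21
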