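/-
The Okuyama-Wajima argument.
-/
import Cfsg.Agent.H21.MK2
import Cfsg.Agent.H1.Coprime2

set_option autoImplicit false
set_option linter.unusedSectionVars false
open H17 Cfsg H15 CF Subgroup
open scoped ComplexConjugate

namespace H21

universe u
variable {G : Type u} [Group G] [Finite G] {K H P U B C A : Subgroup G}
  {θ θ' η η' : G → ℂ} {p : ℕ} [hp : Fact p.Prime]

theorem cop_of_pg (hP : IsPGroup p P) {n : ℕ} (h : ¬ p ∣ n) : n.Coprime (Nat.card P) := by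
  obtain ⟨k, hk⟩ := hP.exists_card_eq
  exact hk ▸ (hp.1.coprime_iff_not_dvd.2 h).symm.pow_right k

theorem not_dvd_sup (h : H ≤ 𝒩(K)) (h1 : ¬ p ∣ Nat.card K) (h2 : ¬ p ∣ Nat.card H) :
    ¬ p ∣ Nat.card ↥(K ⊔ H) := fun h3 =>
  (hp.1.dvd_mul.1 (h3.trans (H16.card_sup_dvd (Or.inr h)))).elim h1 h2

theorem GR.le_stab (h : GR p C θ θ') (hn : U ≤ 𝒩(C)) (hs : U ≤ stab θ) : U ≤ stab θ' :=
  fun g hg => mem_stab.2 ((mem_stab.1 (hs hg) ▸ h.cfj (hn hg) :).unique hp.1 h)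

theorem GB.le_stab {S : Subgroup G} (h : GB p C (IrrS K S) (Irr C)) (hθ : θ ∈ IrrS K S)
    (hg : GR p C θ θ') (hn : U ≤ 𝒩(C)) (hK : U ≤ 𝒩(K)) (hS : U ≤ 𝒩(S)) (hs : U ≤ stab θ') :
    U ≤ stab θ := fun g hu =>
  mem_stab.2 (h.inj _ (cfj_mem_IrrS hθ (hK hu) (hS hu)) _ hθ _
    (mem_stab.1 (hs hu) ▸ hg.cfj (hn hu) :) hg)

/-- the setting of the Okuyama-Wajima argument -/
structure OW (p : ℕ) (K P U : Subgroup G) : Prop where
  pP : IsPGroup p P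
  pK : ¬ p ∣ Nat.card K
  pU : ¬ p ∣ Nat.card U
  nK : P ≤ 𝒩(K)
  uK : U ≤ 𝒩(K)
  uP : U ≤ 𝒩(P)
  le : K ⊓ 𝒞(P) ≤ U
  der : ⁅U, U⁆ ≤ K ⊓ 𝒞(P)

theorem OW.base (h : OW p K P U) (hB : K ⊓ 𝒞(P) ≤ B) (hBP : B ≤ 𝒞(P)) {a : G}
    (hU : B ⊔ zpowers a = U) (hθ : θ ∈ IrrS K P) (hs : U ≤ stab θ) (hg : GR p (K ⊓ 𝒞(P)) θ θ') :
    Ex (K ⊔ U) K θ ↔ Ex U (K ⊓ 𝒞(P)) θ' := by
  have hBU : B ≤ U := hU ▸ le_sup_left
  have hBK := hBU.trans h.uK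
  have hθ1 := (mem_IrrS.1 hθ).1
  have e1 : (K ⊔ B) ⊓ 𝒞(P) = B := by rw [sup_comm, H16.modl hBP (Or.inl hBK), sup_eq_left.2 hB]
  have p1 := not_dvd_sup hBK h.pK fun h0 => h.pU (h0.trans (H16.card_dvd hBU))
  have n1 : P ≤ 𝒩(K ⊔ B) := le_norm_sup h.nK (le_norm_of_le_cent (cent_comm hBP))
  have n2 : K ⊔ B ≤ 𝒩(K) := sup_le_norm hBK
  have n3 : U ≤ 𝒩(B) := H16.norm_of_der_le (h.der.trans hB) hBU
  have n4 : U ≤ 𝒩(K ⊓ 𝒞(P)) := le_norm_inf h.uK (le_norm_cent h.uP)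
  have n5 : U ≤ 𝒩(K ⊔ B) := le_norm_sup h.uK n3
  have s1 : K ⊔ B ≤ stab θ := sup_le (CF.le_stab (irr_cf hθ1)) (hBU.trans hs)
  have s2 := hg.le_stab n4 hs
  have gb := gb_pgroup hp.1 P h.pP h.nK (cop_of_pg h.pP h.pK)
  have gb' := gb_pgroup hp.1 P h.pP n1 (cop_of_pg h.pP p1)
  rw [e1] at gb'
  have link : ∀ η ∈ IrrS (K ⊔ B) P, ∀ η', GR p B η η' →
      (η ∈ IrrO (K ⊔ B) K θ ↔ η' ∈ IrrO B (K ⊓ 𝒞(P)) θ') := fun η a η' b => by
    have key : ∀ θ ∈ IrrS K P, ∀ θ', GR p (K ⊓ 𝒞(P)) θ θ' → dot (K ⊓ 𝒞(P)) η' θ' ≠ 0 →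
        dot K η θ ≠ 0 := fun θ c θ' d =>
      dot_ne_of_gr hp.1 h.pP p1 le_sup_left n2 h.nK a c (e1.symm ▸ b) d
    refine ⟨fun c => ?_, fun c => mem_over.2 ⟨(mem_IrrS.1 a).1, key θ hθ θ' hg (mem_over.1 c).2⟩⟩
    obtain ⟨φ', d, e⟩ := exists_under hB b.1
    obtain ⟨φ, f, g⟩ := gb.surj φ' d
    have := clifford_mem_orb le_sup_left n2 (mem_IrrS.1 a).1 hθ1 (mem_IrrS.1 f).1 (mem_over.1 c).2
      (key φ f φ' g e)
    rw [orb_of_le_stab s1, Finset.mem_singleton] at this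
    subst this
    exact mem_over.2 ⟨b.1, g.unique hp.1 hg ▸ e⟩
  have inv : ∀ η ∈ IrrO (K ⊔ B) K θ, η ∈ IrrS (K ⊔ B) P := fun η a =>
    mem_IrrS.2 ⟨(mem_over.1 a).1, le_stab_of_over le_sup_left n2 h.nK
      (H16.comm_sup_le (comm_le_right h.nK) ((le_cent_iff_comm.1 (cent_comm hBP)).le.trans bot_le)
        (le_norm_self K) hBK) (cop_of_pg h.pP p1).symm hθ s1 a⟩
  have hc : (IrrO (K ⊔ B) K θ).card = (IrrO B (K ⊓ 𝒞(P)) θ').card :=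
    card_eq_of_rel _ _ (GR p B) (fun η a => by
      obtain ⟨η', -, b⟩ := gb'.ex η (inv η a)
      exact ⟨η', (link η (inv η a) η' b).1 a, b⟩) (fun η' a => by
      obtain ⟨η, b, c⟩ := gb'.surj η' (mem_over.1 a).1
      exact ⟨η, (link η b η' c).2 a, c⟩) (fun _ _ _ _ _ _ a b => a.unique hp.1 b)
      fun _ _ η a η₁ b => gb'.inj η (inv η a) η₁ (inv η₁ b) _
  have d1 : ⁅B, B⁆ ≤ K ⊓ 𝒞(P) := (commutator_mono hBU hBU).trans h.der
  obtain ⟨e, -, a1, a2, -⟩ := central_inertia le_sup_left n2 hθ1 (inf_eq_left.2 s1).symm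
    ((H16.der_sup_le hBK).trans (sup_le le_rfl (d1.trans inf_le_left)))
  obtain ⟨e', -, b1, b2, -⟩ := central_inertia hB (hBU.trans n4) hg.1
    (inf_eq_left.2 (hBU.trans s2)).symm d1
  have he : e = e' := by
    rw [H16.relIndex_sup_l hBK, ← inf_relIndex_right, show K ⊓ B = K ⊓ 𝒞(P) from
      le_antisymm (inf_le_inf_left _ hBP) (le_inf inf_le_left hB), ← b2, hc] at a2
    exact Nat.pow_left_injective two_ne_zero (Nat.eq_of_mul_eq_mul_right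
      (over_nonempty hB hg.1).card_pos a2)
  have one : ∀ {X : Subgroup G} {θ : G → ℂ} {e : ℕ}, θ ∈ Irr X → θ = (e : ℂ) • θ → e = 1 :=
    fun a b => by
      have := congrFun b 1
      rw [Pi.smul_apply, smul_eq_mul, eq_comm, mul_eq_right₀ (irr_one_ne a)] at this
      exact_mod_cast this
  have hKU : K ⊔ B ⊔ zpowers a = K ⊔ U := by rw [sup_assoc, hU]
  constructor
  · rintro ⟨ζ, c1, c2⟩
    have c3 : Res (K : Set G) (Res ((K ⊔ B : Subgroup G) : Set G) ζ) = θ := by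
      rw [Res_Res_of_le le_sup_left, c2]
    have c4 := mem_over_of_Res (((irr_char c1).Res (sup_le_sup_left hBU K)).mem_Irr_of_Res
      le_sup_left (c3 ▸ hθ1)) hθ1 c3
    obtain ⟨η', -, c5⟩ := gb'.ex _ (inv _ c4)
    have c6 := b1 _ ((link _ (inv _ c4) η' c5).1 c4)
    rw [← he, one hθ1 (c3.symm.trans (a1 _ c4)), Nat.cast_one, one_smul] at c6
    exact Ex.trans (exists_ext_cyclic hBU n3 c5.1 (c5.le_stab n3 (le_sup_right.trans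
      (le_stab_Res (sup_le (le_norm_of_le le_sup_left) n5) (irr_cf c1)))) (H16.cyclic_zpowers a) hU)
      hB c6
  · rintro ⟨ζ, c1, c2⟩
    have c3 : Res ((K ⊓ 𝒞(P) : Subgroup G) : Set G) (Res (B : Set G) ζ) = θ' := by
      rw [Res_Res_of_le hB, c2]
    have c4 := mem_over_of_Res (((irr_char c1).Res hBU).mem_Irr_of_Res hB (c3 ▸ hg.1)) hg.1 c3
    obtain ⟨η, c5, c6⟩ := gb'.surj _ (mem_over.1 c4).1
    have c7 := a1 _ ((link η c5 _ c6).2 c4)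
    rw [he, one hg.1 (c3.symm.trans (b1 _ c4)), Nat.cast_one, one_smul] at c7
    have c8 := (mem_IrrS.1 c5).1
    exact Ex.trans (exists_ext_cyclic (sup_le_sup_left hBU K) (sup_le (le_norm_of_le le_sup_left) n5)
      c8 (sup_le (le_sup_left.trans (CF.le_stab (irr_cf c8)))
        (gb'.le_stab c5 c6 n3 n5 h.uP (le_stab_Res n3 (irr_cf c1)))) (H16.cyclic_zpowers a) hKU)
      le_sup_left c7

theorem exists_cocyclic (hC : C ≤ U) (hd : ⁅U, U⁆ ≤ C) (hA : A ≠ ⊥) (hn : U ≤ 𝒩(A))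
    (hCA : C ≤ 𝒞(A)) (hc : (Nat.card U).Coprime (Nat.card A)) :
    ∃ B a, C ≤ B ∧ B ⊔ zpowers a = U ∧ A ⊓ 𝒞(B) ≠ ⊥ := by
  have h1 : U ≤ U ⊔ A := le_sup_left
  have h2 : A ≤ U ⊔ A := le_sup_right
  obtain ⟨Q, _, _, f, hf, -⟩ := H18.exists_quot (hC.trans h1) (sup_le
    (H16.norm_of_der_le hd hC) (le_norm_of_le_cent (cent_comm hCA)))
  have h3 : A ⊓ U = ⊥ := H1.inf_eq_bot_of_coprime' hc.symm
  haveI : IsMulCommutative (img f U) := H16.der_eq_bot.1 (by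
    rw [← H18.img_comm f h1 h1, H18.img_eq_bot f ((hd.trans hC).trans h1), hf]; exact hd)
  by_contra! h
  refine hA (eq_bot_iff.2 (h3 ▸ le_inf le_rfl (le_trans ?_ hC)))
  rw [← hf, ← H18.img_eq_bot f h2, eq_bot_iff]
  refine H1.le_of_forall_cocyclic_centralizer_le (img_le_norm f hn) ((hc.coprime_dvd_left
    (Dvd.intro_left _ (card_img_mul f h1))).coprime_dvd_right (Dvd.intro_left _ (card_img_mul f h2)))
    ?_
  rintro B hB ⟨_, ⟨a, ha, rfl⟩, e⟩ _ ⟨⟨x, hx, rfl⟩, hc⟩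
  have := h (U ⊓ (B.comap f).map (U ⊔ A).subtype) a (le_inf hC fun c hc =>
    ⟨⟨c, h1 (hC hc)⟩, by
      rw [SetLike.mem_coe, mem_comap, (mem_kerf f).1 (hf.ge hc)]; exact one_mem _, rfl⟩) (by
    refine le_antisymm (sup_le inf_le_left (zpowers_le.2 ha)) fun u hu => ?_
    obtain ⟨b, b1, _, ⟨n, rfl⟩, b2⟩ := (H16.mem_sup_l ((le_sup_right.trans e.le).trans
      (le_norm_of_le_cent ((le_cent_self ‹_›).trans (cent_anti hB))))).1
      (e.ge (apply_mem_img f (x := ⟨u, h1 hu⟩) hu))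
    have b3 : u * ((a : G) ^ n)⁻¹ ∈ U ⊓ (B.comap f).map (U ⊔ A).subtype :=
      ⟨U.mul_mem hu (U.inv_mem (U.zpow_mem ha n)), ⟨u, h1 hu⟩ * (a ^ n)⁻¹, by
        rw [SetLike.mem_coe, mem_comap, map_mul, map_inv, map_zpow, ← b2]; simpa using b1, rfl⟩
    simpa using mul_mem_sup b3 (zpow_mem (mem_zpowers (a : G)) n))
  have h4 : (x : G) ∈ A ⊓ 𝒞(U ⊓ (B.comap f).map (U ⊔ A).subtype) := ⟨hx, mem_cent.2 (by
    rintro _ ⟨b1, b, b2, rfl⟩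
    have b3 : ((b * x * b⁻¹ * x⁻¹ : ↥(U ⊔ A)) : G) ∈ A ⊓ U :=
      ⟨A.mul_mem (H16.conj_mem (hn b1) hx) (A.inv_mem hx), hC (hf.le ((mem_kerf f).2 (by
        rw [map_mul, map_mul, map_mul, map_inv, map_inv, mem_cent.1 hc _ b2]; simp)))⟩
    rw [h3, mem_bot] at b3
    exact mul_inv_eq_iff_eq_mul.1 (mul_inv_eq_one.1 b3))⟩
  rw [this, mem_bot, OneMemClass.coe_eq_one] at h4
  rw [h4, map_one]; exact one_mem _

section quot
variable {Q : Type u} [Group Q] [Finite Q] {D : Subgroup G} (f : D →* Q) {t t' : Q → ℂ}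

theorem ex_infl (hHA : H ≤ A) (hA : A ≤ D) (hk : A ⊓ kerf f = ⊥) (ht : t ∈ Irr (img f H)) :
    Ex A H (infl f H t) ↔ Ex (img f A) (img f H) t := by
  refine ⟨fun ⟨ζ, a, b⟩ => ?_, fun ⟨ζ, a, b⟩ =>
    ⟨infl f A ζ, infl_mem_Irr f hA a, by rw [Res_infl f hHA, ← b, infl_Res]⟩⟩
  obtain ⟨ζ, c, rfl⟩ := exists_infl_eq f hA a (hk.le.trans bot_le)
  exact ⟨ζ, c, infl_injOn f (Res_mem_supp _ _) (cf_le_supp _ (irr_cf ht)) (by
    rw [infl_Res, ← b, Res_infl f hHA])⟩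

theorem gr_infl (hC : C ≤ K) (hK : K ≤ D) (h : GR p (img f C) t t') :
    GR p C (infl f K t) (infl f C t') := by
  obtain ⟨a, ε, b, φ, c, d⟩ := h
  exact ⟨infl_mem_Irr f (hC.trans hK) a, ε, b, _, infl_mem_vchar f (hC.trans hK) c, by
    rw [Res_infl f hC, ← infl_Res, d, map_add, map_smul, map_smul]⟩

theorem card_img_dvd (hH : H ≤ D) : Nat.card (img f H) ∣ Nat.card H :=
  Dvd.intro_left _ (card_img_mul f hH)

end quot

/-- the Okuyama-Wajima theorem -/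
theorem ow_aux (n : ℕ) : ∀ (G : Type u) [Group G] [Finite G] (K P U : Subgroup G) (θ θ' : G → ℂ),
    Nat.card P = n → OW p K P U → θ ∈ IrrS K P → U ≤ stab θ → GR p (K ⊓ 𝒞(P)) θ θ' →
    (Ex (K ⊔ U) K θ ↔ Ex U (K ⊓ 𝒞(P)) θ') := by
  induction n using Nat.strong_induction_on with | _ n ih => ?_
  intro G _ _ K P U θ θ' hn h hθ hs hg
  by_cases h0 : P = ⊥
  · subst h0
    exact h.base h.le (le_top.trans cent_bot.ge) (a := 1) (by simp) hθ hs hg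
  have hZ : U ≤ 𝒩(P ⊓ 𝒞(P)) := le_norm_center h.uP
  obtain ⟨B, a, b1, b2, b3⟩ := exists_cocyclic h.le h.der
    (center_ne_bot h.pP.isNilpotent h0) hZ (inf_le_right.trans (cent_anti inf_le_left))
    ((cop_of_pg h.pP h.pU).coprime_dvd_right (H16.card_dvd inf_le_left))
  have hBU : B ≤ U := b2 ▸ le_sup_left
  set R := P ⊓ 𝒞(P) ⊓ 𝒞(B) with hR
  have hRP : R ≤ P := inf_le_left.trans inf_le_left
  have hPR : P ≤ 𝒞(R) := cent_comm (inf_le_left.trans inf_le_right)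
  have n1 : U ≤ 𝒩(R) := le_norm_inf hZ (le_norm_cent (H16.norm_of_der_le (h.der.trans b1) hBU))
  set C := K ⊓ 𝒞(R) with hC
  have n2 : U ≤ 𝒩(C) := le_norm_inf h.uK (le_norm_cent n1)
  have n3 : P ≤ 𝒩(C) := le_norm_inf h.nK (le_norm_cent (hPR.trans (cent_le_norm R)))
  have c1 : K ⊓ 𝒞(P) ≤ C := inf_le_inf_left _ (cent_anti hRP)
  have c2 : C ⊓ 𝒞(P) = K ⊓ 𝒞(P) := by rw [inf_assoc, inf_eq_right.2 (cent_anti hRP)]
  have pC : ¬ p ∣ Nat.card C := fun h0 => h.pK (h0.trans (H16.card_dvd inf_le_left))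
  have pU := not_dvd_sup n2 pC h.pU
  have pR := h.pP.to_le hRP
  have nC : C ≤ 𝒩(K) := le_norm_of_le inf_le_left
  have h1 : OW p K R (C ⊔ U) := ⟨pR, h.pK, pU, hRP.trans h.nK, sup_le nC h.uK,
    sup_le (le_norm_of_le_cent inf_le_right) n1, le_sup_left,
    (H16.der_sup_le n2).trans (sup_le le_rfl (h.der.trans c1))⟩
  obtain ⟨hθ1, hθ2⟩ := mem_IrrS.1 hθ
  have hθ3 := IrrS_mono hRP hθ
  obtain ⟨φ, -, g1⟩ := (gb_pgroup hp.1 R pR h1.nK (cop_of_pg pR h.pK)).ex θ hθ3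
  have := h1.base (B := C ⊔ B) le_sup_left (sup_le inf_le_right (cent_comm inf_le_right)) (a := a)
    (by rw [sup_assoc, b2]) hθ3 (sup_le (inf_le_left.trans (CF.le_stab (irr_cf hθ1))) hs) g1
  rw [← sup_assoc, sup_eq_left.2 (inf_le_left : C ≤ K)] at this
  rw [this]
  have d1 : C ≤ C ⊔ U ⊔ P := le_sup_left.trans le_sup_left
  have d2 : U ≤ C ⊔ U ⊔ P := le_sup_right.trans le_sup_left
  have d3 : P ≤ C ⊔ U ⊔ P := le_sup_right
  obtain ⟨Q, _, _, f, hf, -⟩ := H18.exists_quot (hRP.trans d3)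
    (sup_le h1.uP (hPR.trans (cent_le_norm R)))
  have k1 : (C ⊔ U) ⊓ kerf f = ⊥ := hf ▸ H1.inf_eq_bot_of_coprime' (cop_of_pg pR pU)
  have k2 : ∀ {X}, X ≤ C ⊔ U → X ⊓ kerf f = ⊥ := fun h =>
    eq_bot_iff.2 ((inf_le_inf_right _ h).trans k1.le)
  have e1 : img f C ⊓ 𝒞(img f P) = img f (K ⊓ 𝒞(P)) := by
    refine le_antisymm ?_ (le_inf (img_mono f c1) (le_cent_iff_comm.2 ?_))
    · rintro _ ⟨⟨c, a1, rfl⟩, a2⟩
      refine apply_mem_img f (c2.le ⟨a1, mem_cent.2 fun x hx => ?_⟩)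
      have b3 : ((⟨x, d3 hx⟩ * c * ⟨x, d3 hx⟩⁻¹ * c⁻¹ : ↥(C ⊔ U ⊔ P)) : G) ∈ C ⊓ kerf f :=
        ⟨C.mul_mem (H16.conj_mem (n3 hx) a1) (C.inv_mem a1), (mem_kerf f).2 (by
          rw [map_mul, map_mul, map_mul, map_inv, map_inv,
            mem_cent.1 a2 _ (apply_mem_img f (x := ⟨x, d3 hx⟩) hx)]; simp)⟩
      rw [k2 le_sup_left, mem_bot] at b3
      exact mul_inv_eq_iff_eq_mul.1 (mul_inv_eq_one.1 b3)
    · rw [← H18.img_comm f (c1.trans d1) d3, le_cent_iff_comm.1 inf_le_right,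
        H18.img_eq_bot f bot_le]
      exact bot_le
  have pP : IsPGroup p (img f P) := h.pP.of_surjective _ (imgHom_surjective f d3)
  have h2 : OW p (img f C) (img f P) (img f U) := ⟨pP, fun a => pC (a.trans (card_img_dvd f d1)),
    fun a => h.pU (a.trans (card_img_dvd f d2)), img_le_norm f n3, img_le_norm f n2,
    img_le_norm f h.uP, e1 ▸ img_mono f h.le, by
      rw [e1, ← H18.img_comm f d2 d2]; exact img_mono f h.der⟩
  obtain ⟨t, t1, rfl⟩ := exists_infl_eq f d1 g1.1 ((k2 le_sup_left).le.trans bot_le)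
  have st : ∀ {X}, X ≤ 𝒩(C) → X ≤ stab θ → img f X ≤ stab t := fun a b => by
    rintro _ ⟨x, hx, rfl⟩
    exact (mem_stab_infl f x (a hx) (cf_le_supp _ (irr_cf t1))).1 (g1.le_stab a b hx)
  have t2 := mem_IrrS.2 ⟨t1, st n3 hθ2⟩
  obtain ⟨t', -, g2⟩ := (gb_pgroup hp.1 _ pP h2.nK (cop_of_pg pP h2.pK)).ex t t2
  have := ih _ ?_ Q _ _ _ t t' rfl h2 t2 (st n2 hs) g2
  · rw [e1] at this g2
    rw [hg.unique hp.1 (g1.trans c1 (gr_infl f c1 d1 g2)),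
      ex_infl f le_sup_left le_sup_left k1 t1, ex_infl f h.le d2 (k2 le_sup_right) g2.1,
      H18.img_sup f d1 d2, this]
  · rw [← hn, ← card_img_mul f d3, hf, inf_eq_right.2 hRP]
    exact lt_mul_left Nat.card_pos ((Subgroup.one_lt_card_iff_ne_bot R).2 b3)

theorem OW.ex_iff (h : OW p K P U) (hθ : θ ∈ IrrS K P) (hs : U ≤ stab θ)
    (hg : GR p (K ⊓ 𝒞(P)) θ θ') : Ex (K ⊔ U) K θ ↔ Ex U (K ⊓ 𝒞(P)) θ' :=
  ow_aux _ G K P U θ θ' rfl h hθ hs hg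

end H21
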