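/-
The McKay count for groups `G = O_{p'}(G) N_G(S)`, relative to a central character.
-/
import Cfsg.Agent.H21.MK3

set_option autoImplicit false
set_option linter.unusedSectionVars false
open H17 Cfsg H15 CF Subgroup
open scoped ComplexConjugate Classical

namespace H21

universe u
variable {G : Type u} [Group G] [Finite G] {K H D S Z T X A B L : Subgroup G}
  {θ θ' χ ψ ψ' φ lam ν : G → ℂ} {p : ℕ} [hp : Fact p.Prime]

theorem over_iff (hL : L ≤ T) (hT : T ≤ X) (hn : X ≤ 𝒩(L)) (hν : ν ∈ Irr L) (hs : X ≤ stab ν)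
    (hχ : χ ∈ Irr X) (hψ : ψ ∈ Irr T) (h : dot T χ ψ ≠ 0) : dot L χ ν ≠ 0 ↔ dot L ψ ν ≠ 0 :=
  ⟨fun a => (mem_over.1 (over_of_under hL hT hn hν hs (mem_over.2 ⟨hχ, a⟩) hψ h)).2,
    dot_ne_trans hL hT (irr_char hχ) hψ (irr_char hν) h⟩

theorem relIndex_sup_pow (hS : IsPGroup p S) (hn : S ≤ 𝒩(D)) {m : ℕ} (h : m ∣ D.relIndex (D ⊔ S))
    (hm : ¬ p ∣ m) : m = 1 :=
  (cop_of_pg hS hm).eq_one_of_dvd (h.trans (sup_comm D S ▸ relIndex_sup_dvd' hn))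

theorem inf_norm_eq_cent (hS : IsPGroup p S) (hn : S ≤ 𝒩(D)) (hD : ¬ p ∣ Nat.card D) :
    D ⊓ 𝒩(S) = D ⊓ 𝒞(S) :=
  le_antisymm (le_inf inf_le_left (le_cent_of_comm_le_bot ((le_inf
    ((commutator_mono inf_le_left le_rfl).trans (comm_le_left hn)) (comm_le_right inf_le_right)).trans
      (H1.inf_eq_bot_of_coprime' (cop_of_pg hS hD)).le))) (inf_le_inf_left _ (cent_le_norm S))

/-- the setting `H = D N_H(S)` with an invariant character of `D` -/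
structure DS (p : ℕ) (H D S Z : Subgroup G) (θ lam : G → ℂ) : Prop where
  syl : Syl(p, S, H)
  le : D ≤ H
  nD : H ≤ 𝒩(D)
  pD : ¬ p ∣ Nat.card D
  sup : D ⊔ H ⊓ 𝒩(S) = H
  zM : Z ≤ D ⊔ S
  zc : H ≤ 𝒞(Z)
  lin : IsLin Z lam
  irr : θ ∈ Irr D
  inv : H ≤ stab θ

/-- extensions of `θ` lying over `lam` -/
def EL (D S Z : Subgroup G) (θ lam ψ : G → ℂ) : Prop :=
  ψ ∈ Irr (D ⊔ S) ∧ Res (D : Set G) ψ = θ ∧ dot Z ψ lam ≠ 0

/-- characters of `p'`-degree over `θ` and `lam` -/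
noncomputable def FL (p : ℕ) (H D Z : Subgroup G) (θ lam : G → ℂ) : Finset (G → ℂ) :=
  (IrrO H D θ).filter fun χ => dot Z χ lam ≠ 0 ∧ ¬ p ∣ charDegree χ

namespace DS
variable (h : DS p H D S Z θ lam)
include h

theorem leM : D ⊔ S ≤ H := sup_le h.le h.syl.le
theorem nS : S ≤ 𝒩(D) := h.syl.le.trans h.nD
theorem nZ : H ≤ 𝒩(Z) := h.zc.trans (cent_le_norm Z)
theorem sl : H ≤ stab lam := h.zc.trans (cent_le_stab (cf_le_supp _ h.lin.cf))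
theorem nM : H ≤ 𝒩(D ⊔ S) := h.sup.ge.trans (sup_le (le_norm_of_le le_sup_left)
  (le_norm_sup (inf_le_left.trans h.nD) inf_le_right))
theorem nW : H ≤ 𝒩(D ⊔ (Z ⊔ ⁅S, S⁆)) := h.sup.ge.trans (sup_le (le_norm_of_le le_sup_left)
  (le_norm_sup (inf_le_left.trans h.nD) (le_norm_sup (inf_le_left.trans h.nZ)
    (le_norm_comm inf_le_right inf_le_right))))
theorem leW : D ⊔ (Z ⊔ ⁅S, S⁆) ≤ D ⊔ S :=
  sup_le le_sup_left (sup_le h.zM ((commutator_le_of_le le_rfl le_rfl).trans le_sup_right))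
theorem der : ⁅D ⊔ S, D ⊔ S⁆ ≤ D ⊔ (Z ⊔ ⁅S, S⁆) :=
  (H16.der_sup_le h.nS).trans (sup_le_sup_left le_sup_right D)

theorem res_eq (a : EL D S Z θ lam ψ) (b : EL D S Z θ lam ψ') :
    Res ((D ⊔ (Z ⊔ ⁅S, S⁆) : Subgroup G) : Set G) ψ =
      Res ((D ⊔ (Z ⊔ ⁅S, S⁆) : Subgroup G) : Set G) ψ' := by
  have hc := cent_comm (h.leM.trans h.zc)
  obtain ⟨β, c, d, rfl⟩ := exists_lin_of_Res_eq le_sup_left (h.leM.trans h.nD) (irr_char b.1)
    (b.2.1 ▸ h.irr) (irr_char a.1) (a.2.1.trans b.2.1.symm)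
  have e1 := eqv_of_over h.lin h.zM hc (mem_over.2 ⟨a.1, a.2.2⟩)
  have e2 := eqv_of_over h.lin h.zM hc (mem_over.2 ⟨b.1, b.2.2⟩)
  have : D ⊔ (Z ⊔ ⁅S, S⁆) ≤ cfker β := sup_le (mem_IrrQ.1 c).2 (sup_le (fun z hz => by
    have := e1 z hz 1
    rw [Pi.mul_apply, Pi.mul_apply, e2 z hz, d.one_apply, one_mul, mul_one,
      mul_eq_right₀ (mul_ne_zero (h.lin.ne_zero hz) (irr_one_ne b.1))] at this
    exact d.mem_cfker.2 this) ((commutator_mono le_sup_right le_sup_right).trans d.commutator_le))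
  exact Res_congr fun x hx => by rw [Pi.mul_apply, d.mem_cfker.1 (this hx), one_mul]

theorem exists_el (a : χ ∈ FL p H D Z θ lam) : ∃ ψ, EL D S Z θ lam ψ ∧ dot (D ⊔ S) χ ψ ≠ 0 := by
  obtain ⟨b, c, d⟩ := Finset.mem_filter.1 a
  have b1 := (mem_over.1 b).1
  obtain ⟨ψ, e1, e2, e3⟩ := exists_under_not_dvd h.leM b1 d
  have e4 := over_of_under le_sup_left h.leM h.nD h.irr h.inv b e1 e2
  obtain ⟨m, e5, e6⟩ := deg_over le_sup_left (h.leM.trans h.nD) h.irr e4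
  rw [relIndex_sup_pow h.syl.isPGroup h.nS e5 fun h0 => e3 (e6 ▸ h0.mul_right _), one_mul] at e6
  exact ⟨ψ, ⟨e1, Res_eq_of_deg le_sup_left h.irr e4 e6,
    (over_iff h.zM h.leM h.nZ h.lin.mem_Irr h.sl b1 e1 e2).1 c⟩, e2⟩

variable (a : EL D S Z θ lam ψ)
include a

theorem resD : Res (D : Set G) (Res ((D ⊔ (Z ⊔ ⁅S, S⁆) : Subgroup G) : Set G) ψ) = θ := by
  rw [Res_Res_of_le le_sup_left, a.2.1]

theorem irrW : Res ((D ⊔ (Z ⊔ ⁅S, S⁆) : Subgroup G) : Set G) ψ ∈ Irr (D ⊔ (Z ⊔ ⁅S, S⁆)) :=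
  ((irr_char a.1).Res h.leW).mem_Irr_of_Res le_sup_left (h.resD a ▸ h.irr)

theorem invW : H ≤ stab (Res ((D ⊔ (Z ⊔ ⁅S, S⁆) : Subgroup G) : Set G) ψ) := fun g hg => by
  rw [mem_stab, cfj_Res_norm (h.nW hg)]
  refine h.res_eq ⟨cfj_mem_Irr_norm (h.nM hg) a.1, ?_, ?_⟩ a
  · rw [← cfj_Res_norm (h.nD hg), a.2.1, mem_stab.1 (h.inv hg)]
  · rw [← mem_stab.1 (h.sl hg), dot_cfj_norm (h.nZ hg)]; exact a.2.2

theorem fl_eq : FL p H D Z θ lam =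
    IrrO H (D ⊔ (Z ⊔ ⁅S, S⁆)) (Res ((D ⊔ (Z ⊔ ⁅S, S⁆) : Subgroup G) : Set G) ψ) := by
  have hW := h.irrW a
  have hWH := h.leW.trans h.leM
  ext χ
  refine ⟨fun b => ?_, fun b => ?_⟩
  · obtain ⟨ψ', c, d⟩ := h.exists_el b
    have b1 := (mem_over.1 (Finset.mem_filter.1 b).1).1
    exact mem_over.2 ⟨b1, dot_ne_trans h.leW h.leM (irr_char b1) c.1 (irr_char hW) d
      (mem_over.1 (mem_over_of_Res c.1 hW (h.res_eq c a))).2⟩
  obtain ⟨b1, b2⟩ := mem_over.1 b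
  refine Finset.mem_filter.2 ⟨mem_over.2 ⟨b1, dot_ne_trans le_sup_left hWH (irr_char b1) hW
    (irr_char h.irr) b2 (mem_over.1 (mem_over_of_Res hW h.irr (h.resD a))).2⟩,
    dot_ne_trans (le_sup_left.trans le_sup_right) hWH (irr_char b1) hW h.lin.char b2
      (by rw [dot_Res_left_of_le (le_sup_left.trans le_sup_right)]; exact a.2.2), fun h0 => ?_⟩
  obtain ⟨φ, c, d⟩ := exists_under h.leM b1
  obtain ⟨β, e, rfl⟩ := (gall1_mem h.leW (h.leM.trans h.nW) (irr_char a.1) hW).1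
    (over_of_under h.leW h.leM h.nW hW (h.invW a) b c d)
  obtain ⟨m, e1, e2⟩ := deg_over h.leM h.nM c (mem_over.2 ⟨b1, d⟩)
  rw [e2, deg_mul (mem_IrrQ.1 e).1 a.1, deg_lin (isLin_of_IrrQ h.der e), one_mul,
    show charDegree ψ = charDegree θ from deg_congr (by rw [← a.2.1, Res_one])] at h0
  exact (hp.1.dvd_mul.1 h0).elim (fun h1 => h.syl.idx_of_le le_sup_right p hp.1 (h1.trans e1) rfl)
    fun h1 => h.pD (h1.trans (deg_dvd_card h.irr))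

open FT in
theorem ex_iff (hA : A ≤ H ⊓ 𝒩(S)) (hd : ⁅A, A⁆ ≤ D ⊔ (Z ⊔ ⁅S, S⁆)) (hS : Syl(p, A ⊓ S, A))
    (hB : IsComplIn (A ⊓ S) B A) :
    Ex (D ⊔ (Z ⊔ ⁅S, S⁆) ⊔ A) (D ⊔ (Z ⊔ ⁅S, S⁆))
      (Res ((D ⊔ (Z ⊔ ⁅S, S⁆) : Subgroup G) : Set G) ψ) ↔ Ex (D ⊔ B) D θ := by
  have hW := h.irrW a
  have hi := h.invW a
  have hn := h.nW
  have hl := h.leW
  have hr := h.resD a
  have hD : D ≤ D ⊔ (Z ⊔ ⁅S, S⁆) := le_sup_left
  generalize D ⊔ (Z ⊔ ⁅S, S⁆) = W at *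
  have hAH : A ≤ H := hA.trans inf_le_left
  have hBH := hB.le2.trans hAH
  have hWH := hl.trans h.leM
  have pB : ¬ p ∣ Nat.card B := hB.relIndex1 ▸ hS.not_dvd_idx hp.1 rfl
  refine ⟨fun b => (b.trans hD hr).mono h.irr le_sup_left (sup_le_sup hD hB.le2), fun b => ?_⟩
  have i1 : ∀ {Y}, Y ≤ A → (W ⊔ Y).relIndex (W ⊔ A) ∣ Y.relIndex A := fun {Y} hY => by
    rw [show W ⊔ A = W ⊔ Y ⊔ A by rw [sup_assoc, sup_eq_right.2 hY], H16.relIndex_sup_l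
      (le_sup_right.trans (H16.norm_of_der_le ((H16.der_sup_le (hAH.trans hn)).trans
        ((sup_le le_rfl hd).trans le_sup_left)) (sup_le_sup_left hY W)))]
    exact relIndex_dvd_of_le_left A le_sup_right
  refine ex_of_cop (A := W ⊔ B) (B := W ⊔ A ⊓ S) ((sup_le hWH hAH).trans hn) hW
    ((sup_le hWH hAH).trans hi) le_sup_left (sup_le_sup_left hB.le2 W) le_sup_left
    (sup_le_sup_left inf_le_left W) ((((cop_of_pg hS.isPGroup pB).symm.coprime_dvd_left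
      (hB.relIndex2 ▸ i1 hB.le2))).coprime_dvd_right (hB.relIndex1 ▸ i1 inf_le_left))
    ((rb_ex (by rw [← sup_assoc, sup_eq_left.2 hD]) ((sup_le hWH hBH).trans hn) hW
      ((sup_le hWH hBH).trans hi) ?_ h.irr hr).2 b)
    (Ex.mono ⟨ψ, a.1, rfl⟩ hW le_sup_left (sup_le hl (inf_le_right.trans le_sup_right)))
  refine le_antisymm (le_of_isPi_of_idx (π := {p}ᶜ) (isPi_compl_of_not_dvd fun h0 =>
    not_dvd_sup (hBH.trans h.nD) h.pD pB (h0.trans (H16.card_dvd inf_le_right)))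
    (inf_le_left.trans hl) (h.leM.trans h.nD) ?_) (le_inf hD le_sup_left)
  rw [compl_compl]
  exact fun q hq h0 => h.syl.isPi q hq (h0.trans (sup_comm D S ▸ relIndex_sup_dvd' h.nS))

omit a

theorem down (hg : GR p (D ⊓ 𝒞(S)) θ θ') : DS p (H ⊓ 𝒩(S)) (D ⊓ 𝒞(S)) S Z θ' lam := by
  have h1 : S ≤ H ⊓ 𝒩(S) := le_inf h.syl.le (le_norm_self S)
  have h2 : H ⊓ 𝒩(S) ≤ 𝒩(D ⊓ 𝒞(S)) :=
    le_norm_inf (inf_le_left.trans h.nD) (le_norm_cent inf_le_right)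
  have h3 : D ⊓ 𝒞(S) ≤ H ⊓ 𝒩(S) := inf_le_inf h.le (cent_le_norm S)
  refine ⟨h.syl.of_le h1 inf_le_left, h3, h2, fun h0 => h.pD (h0.trans (H16.card_dvd inf_le_left)),
    by rw [inf_assoc, inf_idem, sup_eq_right.2 h3], ?_, inf_le_left.trans h.zc, h.lin, hg.1,
    hg.le_stab h2 (inf_le_left.trans h.inv)⟩
  rw [← inf_norm_eq_cent h.syl.isPGroup h.nS h.pD, sup_comm, ← H16.modl (le_norm_self S)
    (Or.inl h.nS), sup_comm]
  exact le_inf h.zM (le_norm_of_le_cent (cent_comm (h.syl.le.trans h.zc)))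

theorem link (hg : GR p (D ⊓ 𝒞(S)) θ θ') (hψ : ψ ∈ Irr (D ⊔ S)) (e : Res (D : Set G) ψ = θ) :
    ∃ φ ∈ Irr (D ⊓ 𝒞(S) ⊔ S), Res ((D ⊓ 𝒞(S) : Subgroup G) : Set G) φ = θ' ∧
      dot (D ⊓ 𝒞(S) ⊔ S) ψ φ ≠ 0 := by
  have k := h.down hg
  have h1 : D ⊓ 𝒞(S) ⊔ S ≤ D ⊔ S := sup_le_sup_right inf_le_left S
  obtain ⟨m, a, b⟩ := hg.exists_nat hp.1 inf_le_left h.irr
  rw [← e, dot_Res_left_of_le inf_le_left, dot_eq_sum_under le_sup_left (Res_mem_cf h1 (irr_cf hψ)),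
    Finset.sum_congr rfl fun φ hφ => by rw [← mi_cast h1 (irr_char hψ) (irr_char hφ),
      ← mi_cast le_sup_left (irr_char hφ) (irr_char hg.1), ← Int.cast_mul], ← Int.cast_sum] at a
  by_contra! h0
  refine b (Int.natCast_dvd_natCast.1 ((show _ = (m : ℤ) by exact_mod_cast a) ▸
    Finset.dvd_sum fun φ hφ => ?_))
  by_cases c : dot (D ⊓ 𝒞(S) ⊔ S) ψ φ = 0
  · rw [mi_eq (n := 0) (by simpa using c), zero_mul]; exact dvd_zero _
  by_cases d : dot (D ⊓ 𝒞(S)) φ θ' = 0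
  · rw [mi_eq (n := 0) (C := D ⊓ 𝒞(S)) (by simpa using d), mul_zero]; exact dvd_zero _
  have d' := mem_over.2 ⟨hφ, d⟩
  obtain ⟨n, -, f, g⟩ := deg_clifford le_sup_left (k.leM.trans k.nD) hg.1 d'
  rw [mi_eq (n := n) (C := D ⊓ 𝒞(S)) (by simpa using f)]
  refine Dvd.dvd.mul_left (Int.natCast_dvd_natCast.2 (by_contra fun h2 => c (h0 φ hφ ?_))) _
  rw [relIndex_sup_pow h.syl.isPGroup k.nS (dot_dvd_relIndex_of_stab le_sup_left (k.leM.trans k.nD)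
    hg.1 (k.leM.trans k.inv) d' f) h2, relIndex_eq_one.2 (k.leM.trans k.inv), one_mul, one_mul] at g
  exact Res_eq_of_deg le_sup_left hg.1 d' g

theorem exists_el_iff (hg : GR p (D ⊓ 𝒞(S)) θ θ') :
    (∃ ψ, EL D S Z θ lam ψ) ↔ ∃ φ, EL (D ⊓ 𝒞(S)) S Z θ' lam φ := by
  have k := h.down hg
  have h1 : D ⊓ 𝒞(S) ⊔ S ≤ D ⊔ S := sup_le_sup_right inf_le_left S
  have key := fun ψ φ => over_iff (χ := ψ) (ψ := φ) k.zM h1 (h.leM.trans h.nZ) h.lin.mem_Irr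
    (h.leM.trans h.sl)
  refine ⟨fun ⟨ψ, a, b, c⟩ => ?_, fun ⟨φ, a, b, c⟩ => ?_⟩
  · obtain ⟨φ, d, e, f⟩ := h.link hg a b
    exact ⟨φ, d, e, (key ψ φ a d f).1 c⟩
  have hn := h.leM.trans h.nD
  obtain ⟨ψ, a1, a2⟩ := exists_ext_hall le_sup_left hn h.irr (h.leM.trans h.inv)
    (coprime_relIndex_sup h.nS (cop_of_pg h.syl.isPGroup h.pD))
  obtain ⟨φ', d, e, f⟩ := h.link hg a1 a2
  obtain ⟨β, b1, b2, rfl⟩ := exists_lin_of_Res_eq le_sup_left (k.leM.trans k.nD) (irr_char d)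
    (e ▸ hg.1) (irr_char a) (b.trans e.symm)
  rw [← over_one le_sup_left (k.leM.trans k.nD)] at b1
  obtain ⟨γ, c1, rfl⟩ := rb_surj (K := D) (by
      rw [← sup_assoc, sup_eq_left.2 (inf_le_left : D ⊓ 𝒞(S) ≤ D)]) hn
    (one_mem_Irr D) (hn.trans (norm_le_stab_one D)) (by
      rw [H16.modl' inf_le_left (Or.inr k.nS), H1.inf_eq_bot_of_coprime'
        (cop_of_pg h.syl.isPGroup h.pD), sup_bot_eq]) (one_mem_Irr _) (Res_one_of_le inf_le_left) b1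
  rw [over_one le_sup_left hn] at c1
  have c2 : IsLin (D ⊔ S) γ := isLin_of_irr (mem_IrrQ.1 c1).1 (by rw [← b2.one_apply, Res_one])
  have c3 := lin_mul_mem_Irr c2 a1
  refine ⟨γ * ψ, c3, ?_, (key _ _ c3 a ?_).2 c⟩
  · rw [Res_mul, Res_of_le_cfker (mem_IrrQ.1 c1).2, c2.one_apply, one_smul, a2,
      one_mul_cf (irr_cf h.irr)]
  · rwa [← Res_mul_left, dot_Res_right, mul_comm γ, mul_comm γ, c2.dot_mul_mul h1]

open FT in
theorem card_eq (hg : GR p (D ⊓ 𝒞(S)) θ θ') :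
    (FL p H D Z θ lam).card = (FL p (H ⊓ 𝒩(S)) (D ⊓ 𝒞(S)) Z θ' lam).card := by
  have k := h.down hg
  by_cases h0 : ∃ ψ, EL D S Z θ lam ψ
  swap
  · rw [Finset.eq_empty_of_forall_notMem fun χ a => h0 ((h.exists_el a).imp fun _ => And.left),
      Finset.eq_empty_of_forall_notMem fun χ a => h0 ((h.exists_el_iff hg).2
        ((k.exists_el a).imp fun _ => And.left))]
  obtain ⟨φ, b⟩ := (h.exists_el_iff hg).1 h0
  obtain ⟨ψ, a⟩ := h0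
  have hY : Z ⊔ ⁅S, S⁆ ≤ H ⊓ 𝒩(S) := le_sup_right.trans (k.leW.trans k.leM)
  have e1 := inf_norm_eq_cent h.syl.isPGroup h.nS h.pD
  rw [h.fl_eq a, k.fl_eq b]
  refine card_over_eq (by rw [sup_assoc, sup_eq_right.2 hY, h.sup]) h.nW (by
    rw [sup_comm, H16.modl hY (Or.inl (hY.trans (inf_le_left.trans h.nD))), ← inf_assoc,
      inf_eq_left.2 h.le, e1, sup_comm]) (h.irrW a) (h.invW a) (k.irrW b) (k.invW b)
    fun A h1 h2 h3 => ?_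
  have hS : Syl(p, A ⊓ S, A) := syl_iff.2 ⟨inf_le_left, h.syl.isPGroup.to_inf_right, fun h0 =>
    k.syl.not_dvd_idx hp.1 rfl ((inf_relIndex_left A S ▸ h0).trans
      (relIndex_dvd_of_le_right h2 inf_le_right))⟩
  obtain ⟨B, hB⟩ := exists_compl inf_le_left (le_norm_inf (le_norm_self A) (h2.trans inf_le_right))
    hS.coprime_idx
  have pB : ¬ p ∣ Nat.card B := hB.relIndex1 ▸ hS.not_dvd_idx hp.1 rfl
  have hC : D ⊓ 𝒞(S) ≤ B := (hB.hall2 (π := {p}ᶜ) hS.isPi.compl_compl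
    (isPi_compl_of_not_dvd pB)).le_of_norm' (isPi_compl_of_not_dvd k.pD) (le_sup_left.trans h1)
    (hB.le2.trans (h2.trans k.nD))
  have hBN := hB.le2.trans h2
  have := k.ex_iff b (le_inf h2 (h2.trans inf_le_right)) h3 hS hB
  rw [sup_eq_right.2 h1, sup_eq_right.2 hC] at this
  rw [this, h.ex_iff a h2 (h3.trans (sup_le_sup_right inf_le_left _)) hS hB]
  refine OW.ex_iff ⟨h.syl.isPGroup, h.pD, pB, h.nS, hBN.trans (inf_le_left.trans h.nD),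
    hBN.trans inf_le_right, hC, ?_⟩ (mem_IrrS.2 ⟨h.irr, h.syl.le.trans h.inv⟩)
    (hBN.trans (inf_le_left.trans h.inv)) hg
  refine (le_inf (((commutator_mono hB.le2 hB.le2).trans h3).trans k.leW)
    (commutator_le_of_le le_rfl le_rfl)).trans ?_
  rw [H16.modl hC (Or.inr k.nS), inf_comm S, ← inf_eq_left.2 hB.le2, inf_assoc, inf_comm B, hB.inf,
    sup_bot_eq]

end DS

/-- irreducible characters of `p'`-degree over `θ` -/
noncomputable def IrP (p : ℕ) (K N : Subgroup G) (θ : G → ℂ) : Finset (G → ℂ) :=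
  (IrrO K N θ).filter fun χ => ¬ p ∣ charDegree χ

theorem not_dvd_Ind (hT : T ≤ X) (hS : Syl(p, S, X)) (h : S ≤ T) (hψ : ψ ∈ Irr T) :
    ¬ p ∣ charDegree (Ind X T ψ) ↔ ¬ p ∣ charDegree ψ := by
  rw [deg_Ind hT hψ, hp.1.dvd_mul, not_or, and_iff_right fun h0 => hS.idx_of_le h p hp.1 h0 rfl]

theorem fl_cliff (hS : Syl(p, S, X)) (hD : D ≤ X) (hn : X ≤ 𝒩(D)) (hθ : θ ∈ IrrS D S) (hZ : Z ≤ X)
    (hc : X ≤ 𝒞(Z)) (hl : IsLin Z lam) :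
    ((IrP p X Z lam).filter fun χ => dot D χ θ ≠ 0).card = (FL p (X ⊓ stab θ) D Z θ lam).card := by
  obtain ⟨h1, h2⟩ := mem_IrrS.1 hθ
  rw [FL, ← cliff_card hD hn h1 rfl (fun χ => dot Z χ lam ≠ 0 ∧ ¬ p ∣ charDegree χ)]
  · congr 1
    ext χ
    simp only [IrP, Finset.mem_filter, mem_over]
    tauto
  intro ψ hψ
  have a := (mem_over.1 hψ).1
  have b := (mem_over.1 (Ind_mem_over hD hn h1 rfl hψ)).1
  refine and_congr (over_iff (le_inf hZ fun z hz => mem_stab_iff.2 fun x => ?_) inf_le_left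
    (hc.trans (cent_le_norm Z)) hl.mem_Irr (hc.trans (cent_le_stab (cf_le_supp _ hl.cf))) b a ?_)
    (not_dvd_Ind inf_le_left hS (le_inf hS.le h2) a)
  · exact mem_stab_iff.1 (cent_le_stab (cf_le_supp _ (irr_cf h1)) (cent_comm (hD.trans hc) hz)) x
  · rw [← dot_Ind_right inf_le_left ψ (irr_cf b), dot_irr_self b]; exact one_ne_zero

theorem card_IrP_of_sup (hS : Syl(p, S, H)) (hD : D ≤ H) (hn : H ≤ 𝒩(D)) (pD : ¬ p ∣ Nat.card D)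
    (hs : D ⊔ H ⊓ 𝒩(S) = H) (hZ : Z ≤ D ⊔ S) (hc : H ≤ 𝒞(Z)) (hl : IsLin Z lam) :
    (IrP p H Z lam).card = (IrP p (H ⊓ 𝒩(S)) Z lam).card := by
  have h1 : S ≤ H ⊓ 𝒩(S) := le_inf hS.le (le_norm_self S)
  have h2 : H ⊓ 𝒩(S) ≤ 𝒩(D ⊓ 𝒞(S)) := le_norm_inf (inf_le_left.trans hn) (le_norm_cent inf_le_right)
  have h3 : D ⊓ 𝒞(S) ≤ H ⊓ 𝒩(S) := inf_le_inf hD (cent_le_norm S)
  have hS' := hS.of_le h1 inf_le_left
  have hZH := hZ.trans (sup_le hD hS.le)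
  have hZN : Z ≤ H ⊓ 𝒩(S) := le_inf hZH (le_norm_of_le_cent (cent_comm (hS.le.trans hc)))
  have hF : ∀ X, ∀ χ ∈ IrP p X Z lam, χ ∈ Irr X ∧ ¬ p ∣ charDegree χ := fun X χ a =>
    ⟨(mem_over.1 (Finset.mem_filter.1 a).1).1, (Finset.mem_filter.1 a).2⟩
  have gb := gb_pgroup hp.1 S hS.isPGroup (hS.le.trans hn) (cop_of_pg hS.isPGroup pD)
  rw [← IrrS_of_cent (cent_comm inf_le_right : S ≤ 𝒞(D ⊓ 𝒞(S)))] at gb
  choose! g g1 g2 using gb.ex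
  rw [← Nat.cast_inj (R := ℚ), card_eq_sum_orb hD hn hS _ (hF H), card_eq_sum_orb h3 h2 hS' _ (hF _)]
  refine Finset.sum_bij (fun θ _ => g θ) g1 (fun θ a θ' b e => gb.inj θ a θ' b _ (g2 θ a)
    (e ▸ g2 θ' b)) (fun β a => ?_) fun θ a => ?_
  · obtain ⟨θ, b, c⟩ := gb.surj β a
    exact ⟨θ, b, (g2 θ b).unique hp.1 c⟩
  obtain ⟨a1, a2⟩ := mem_IrrS.1 a
  have e : H ⊓ 𝒩(S) ⊓ stab (g θ) = H ⊓ stab θ ⊓ 𝒩(S) := by
    rw [inf_right_comm H (stab θ)]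
    rw [IrrS_of_cent (cent_comm inf_le_right : S ≤ 𝒞(D ⊓ 𝒞(S)))] at gb
    exact le_antisymm (le_inf inf_le_left (gb.le_stab a (g2 θ a) (inf_le_left.trans h2)
      (inf_le_left.trans (inf_le_left.trans hn)) (inf_le_left.trans inf_le_right) inf_le_right))
      (le_inf inf_le_left ((g2 θ a).le_stab (inf_le_left.trans h2) inf_le_right))
  have hDT : D ≤ H ⊓ stab θ := le_inf hD (CF.le_stab (irr_cf a1))
  rw [fl_cliff hS hD hn a hZH hc hl, fl_cliff hS' h3 h2 (g1 θ a) hZN (inf_le_left.trans hc) hl, e,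
    DS.card_eq ⟨hS.of_le (le_inf hS.le a2) inf_le_left, hDT, inf_le_left.trans hn, pD, ?_, hZ,
      inf_le_left.trans hc, hl, a1, inf_le_right⟩ (g2 θ a), inf_assoc H 𝒩(S), inf_idem,
    ← inf_relIndex_left _ (stab (g θ)), e, inf_right_comm H (stab θ), inf_relIndex_left]
  rw [inf_right_comm H (stab θ), ← H16.modl (CF.le_stab (irr_cf a1)) (Or.inr (inf_le_left.trans hn)), hs]

end H21
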