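/-
The relative McKay count for `p`-solvable groups.
-/
import Cfsg.Agent.H21.MK4
import Cfsg.Agent.H1.PSolv

set_option autoImplicit false
set_option linter.unusedSectionVars false
open H17 Cfsg H15 CF Subgroup
open scoped ComplexConjugate Classical

namespace H21

universe u
variable {G : Type u} [Group G] [Finite G] {K H D S Z T X A B L : Subgroup G}
  {θ θ' χ ψ ψ' φ lam ν : G → ℂ} {p : ℕ} [hp : Fact p.Prime]

theorem red_cliff (Q : (G → ℂ) → Prop) [DecidablePred Q] (hL : L ≤ H) (hn : H ≤ 𝒩(L)) (hν : ν ∈ Irr L) (hS : S ≤ H)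
    (hQ : ∀ X, X ≤ H → L ≤ X → S ≤ X → ∀ ψ ∈ IrrO (X ⊓ stab ν) L ν,
      Q (Ind X (X ⊓ stab ν) ψ) ↔ Q ψ)
    (ih : ((IrrO (H ⊓ stab ν) L ν).filter Q).card =
      ((IrrO (L ⊔ H ⊓ stab ν ⊓ 𝒩(S)) L ν).filter Q).card) :
    ((IrrO H L ν).filter Q).card = ((IrrO (L ⊔ H ⊓ 𝒩(S)) L ν).filter Q).card := by
  have h1 : L ⊔ H ⊓ 𝒩(S) ≤ H := sup_le hL inf_le_left
  rw [cliff_card hL hn hν rfl Q Q (hQ H le_rfl hL hS), ih, cliff_card le_sup_left (h1.trans hn) hν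
    rfl Q Q (hQ _ h1 le_sup_left ((le_inf hS (le_norm_self S)).trans le_sup_right)),
    H16.modl (CF.le_stab (irr_cf hν)) (Or.inr (inf_le_left.trans hn)), inf_right_comm]

theorem red_norm (Q : (G → ℂ) → Prop) [DecidablePred Q] (hL : L ≤ K) (hK : K ≤ H) (hn : H ≤ 𝒩(L))
    (hn' : H ≤ 𝒩(K))
    (hν : ν ∈ Irr L) (hs : H ≤ stab ν) (hS : Syl(p, S, H)) (hQ : ∀ χ, Q χ → ¬ p ∣ charDegree χ)
    (ih : ∀ θ ∈ IrrS K S, θ ∈ IrrO K L ν → ((IrrO H K θ).filter Q).card =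
      ((IrrO (K ⊔ H ⊓ 𝒩(S)) K θ).filter Q).card) :
    ((IrrO H L ν).filter Q).card = ((IrrO (K ⊔ H ⊓ 𝒩(S)) L ν).filter Q).card := by
  have h1 : K ⊔ H ⊓ 𝒩(S) ≤ H := sup_le hK inf_le_left
  have hF : ∀ X, ∀ χ ∈ (IrrO X L ν).filter Q, χ ∈ Irr X ∧ ¬ p ∣ charDegree χ := fun X χ a =>
    ⟨(mem_over.1 (Finset.mem_filter.1 a).1).1, hQ χ (Finset.mem_filter.1 a).2⟩
  have key : ∀ X, K ≤ X → X ≤ H → ∀ θ ∈ Irr K, (((IrrO X L ν).filter Q).filter
      fun χ => dot K χ θ ≠ 0) = if dot L θ ν ≠ 0 then (IrrO X K θ).filter Q else ∅ :=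
    fun X a b θ c => by
      ext χ
      have := fun d => over_iff (χ := χ) hL a (b.trans hn) hν (b.trans hs) d c
      split_ifs with h <;> simp only [Finset.mem_filter, mem_over, Finset.notMem_empty] <;> tauto
  rw [← Nat.cast_inj (R := ℚ), card_eq_sum_orb hK hn' hS _ (hF H), card_eq_sum_orb le_sup_left
    (h1.trans hn') (hS.of_le ((le_inf hS.le (le_norm_self S)).trans le_sup_right) h1) _ (hF _),
    show (K ⊔ H ⊓ 𝒩(S)) ⊓ 𝒩(S) = H ⊓ 𝒩(S) from
      le_antisymm (inf_le_inf_right _ h1) (le_inf le_sup_right inf_le_right)]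
  refine Finset.sum_congr rfl fun θ a => ?_
  have b := (mem_IrrS.1 a).1
  rw [key H hK le_rfl θ b, key _ le_sup_left h1 θ b]
  split_ifs with h
  · rw [ih θ a (mem_over.2 ⟨b, h⟩)]
  · rfl

theorem inf_norm_sup (hL : L ≤ H) (hn : H ≤ 𝒩(L)) (hS : Syl(p, S, H)) :
    H ⊓ 𝒩(L ⊔ S) = L ⊔ H ⊓ 𝒩(S) := by
  have h1 : L ⊔ S ≤ H := sup_le hL hS.le
  refine le_antisymm ?_ (sup_le (le_inf hL (le_norm_of_le le_sup_left)) (le_inf inf_le_left
    (le_norm_sup (inf_le_left.trans hn) inf_le_right)))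
  exact ((hS.of_le le_sup_right h1).frattini (le_inf h1 (le_norm_self _)) inf_le_right).ge.trans
    (sup_le (sup_le_sup_left (le_inf hS.le (le_norm_self S)) L)
      ((inf_le_inf_right _ inf_le_left).trans le_sup_right))

theorem relIndex_lt_of_lt (hL : L ≤ T) (h : T < H) : L.relIndex T < L.relIndex H := by
  rw [← relIndex_mul_relIndex L T H hL h.le]
  exact lt_mul_of_one_lt_right (H15.relIndex_pos _ _) (lt_of_le_of_ne (H15.relIndex_pos _ _)
    fun e => h.not_ge (relIndex_eq_one.1 e.symm))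

theorem relIndex_lt_of_lt' (hL : L < K) (h : K ≤ H) : K.relIndex H < L.relIndex H := by
  rw [← relIndex_mul_relIndex L K H hL.le h]
  exact lt_mul_of_one_lt_left (H15.relIndex_pos _ _) (lt_of_le_of_ne (H15.relIndex_pos _ _)
    fun e => hL.not_ge (relIndex_eq_one.1 e.symm))

/-- the statement of the relative McKay count for index `n` -/
def MK (p n : ℕ) : Prop := ∀ (G : Type u) [Group G] [Finite G] (H L S : Subgroup G) (ν : G → ℂ),
  IsPSolvable p G → L ≤ H → H ≤ 𝒩(L) → Syl(p, S, H) → ν ∈ Irr L → S ≤ stab ν → L.relIndex H = n →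
    (IrP p H L ν).card = (IrP p (L ⊔ H ⊓ 𝒩(S)) L ν).card

theorem mk_central (hG : IsPSolvable p G) (hZ : Z ≤ center G) (hS : Syl(p, S, ⊤)) (hl : IsLin Z lam)
    (ih : ∀ m < Z.relIndex ⊤, MK.{u} p m) : (IrP p ⊤ Z lam).card = (IrP p 𝒩(S) Z lam).card := by
  have hc : ∀ X : Subgroup G, X ≤ 𝒞(Z) := fun X => cent_comm (hZ.trans (center_le_centralizer _))
  have hn : ∀ X : Subgroup G, X ≤ 𝒩(Z) := fun X => (hc X).trans (cent_le_norm Z)
  have hs : ∀ X : Subgroup G, X ≤ stab lam := fun X =>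
    (hc X).trans (cent_le_stab (cf_le_supp _ hl.cf))
  have hZN : Z ≤ 𝒩(S) := le_norm_of_le_cent (cent_comm (hc S))
  haveI := normal_of_top (hn ⊤)
  by_cases h0 : Z = ⊤
  · rw [top_le_iff.1 (h0.ge.trans hZN)]
  haveI : Nontrivial (G ⧸ Z) := QuotientGroup.nontrivial_iff.2 h0
  obtain ⟨K, h1, h2, h3⟩ : ∃ K : Subgroup G, Z < K ∧ K.Normal ∧
      ((∃ k, Z.relIndex K = p ^ k) ∨ ¬ p ∣ Z.relIndex K) := by
    have key : ∀ M : Subgroup (G ⧸ Z), M ≠ ⊥ → Z < M.comap (QuotientGroup.mk' Z) ∧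
        Z.relIndex (M.comap (QuotientGroup.mk' Z)) = Nat.card M := fun M hM => by
      refine ⟨lt_of_le_of_ne (QuotientGroup.le_comap_mk' Z M) fun e => hM ?_, ?_⟩
      · rw [← map_comap_eq_self_of_surjective (QuotientGroup.mk'_surjective Z) M, ← e,
          QuotientGroup.map_mk'_self]
      · have := relIndex_ker (M.comap (QuotientGroup.mk' Z)) (QuotientGroup.mk' Z)
        rwa [map_comap_eq_self_of_surjective (QuotientGroup.mk'_surjective Z),
          QuotientGroup.ker_mk'] at this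
    rcases H1.IsPSolvable.core_ne_bot (H1.IsPSolvable.quotient hG Z) with h | h
    · exact ⟨_, (key _ h).1, inferInstance, Or.inl ((key _ h).2 ▸ (H1.isPGroup_pCore p).exists_card_eq)⟩
    · exact ⟨_, (key _ h).1, inferInstance, Or.inr ((key _ h).2 ▸ H1.not_dvd_card_pPrimeCore hp.1)⟩
  have e1 := red_norm (fun χ => ¬ p ∣ charDegree χ) h1.le le_top (hn ⊤) (top_le_norm K) hl.mem_Irr
    (hs ⊤) hS (fun _ h => h) fun θ a _ => ih _ (relIndex_lt_of_lt' h1 le_top) G ⊤ K S θ hG le_top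
      (top_le_norm K) hS (mem_IrrS.1 a).1 (mem_IrrS.1 a).2 rfl
  rw [top_inf_eq] at e1
  by_cases h4 : K ⊔ 𝒩(S) = ⊤
  swap
  · have h5 := h1.le.trans (le_sup_left : K ≤ K ⊔ 𝒩(S))
    have := ih _ (relIndex_lt_of_lt h5 (lt_top_iff_ne_top.2 h4)) G _ Z S lam hG h5 (hn _)
      (hS.of_le ((le_norm_self S).trans le_sup_right) le_top) hl.mem_Irr (hs S) rfl
    rwa [inf_eq_right.2 le_sup_right, sup_eq_right.2 hZN, IrP, ← e1] at this
  rcases h3 with ⟨k, h3⟩ | h3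
  · have : K ≤ 𝒩(S) := by
      refine le_trans ?_ (sup_le (inf_le_left.trans (le_norm_self S)) hZN : S ⊓ K ⊔ Z ≤ _)
      refine ((hS.inf_normal le_top (le_top.trans (top_le_norm K))).sup_eq_of_idx h1.le ?_).ge
      exact h3 ▸ fun q hq h => (Nat.prime_dvd_prime_iff_eq hq hp.1).1 (hq.dvd_of_dvd_pow h)
    rw [← h4, sup_eq_right.2 this]
  obtain ⟨D, B, d1, d2, -, -, d3, k, d4⟩ := exists_split K Z h1.le hZ
  have hD : ∀ X : Subgroup G, X.Normal → ¬ p ∣ Nat.card X → X ≤ pPrimeCore p G := fun X a b =>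
    H1.le_pPrimeCore ((hp.1.coprime_iff_not_dvd.2 b).symm)
  have := card_IrP_of_sup hS le_top (top_le_norm (pPrimeCore p G)) (H1.not_dvd_card_pPrimeCore hp.1)
    (top_le_iff.1 (h4.ge.trans (sup_le (fun x hx => ?_) (by simp)))) ?_ (hc ⊤) hl
  · rwa [top_inf_eq] at this
  · obtain ⟨y, a, b⟩ := d3 x hx
    simpa using mul_mem_sup (hD D d1 (fun h => by
      obtain ⟨z, c, d⟩ := exists_mem_orderOf_eq hp.1 h
      exact h3 (hp.1.dvd_of_dvd_pow (d ▸ orderOf_dvd_of_pow_eq_one (d4 z c)))) a)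
      (show y⁻¹ * x ∈ ⊤ ⊓ 𝒩(S) from ⟨trivial, hZN (d2 b)⟩)
  · have h6 : ∀ π, (piCoreOf π Z).Normal := fun π => normal_of_top (le_norm_piCoreOf π (hn ⊤))
    rw [← piCoreOf_sup_compl (nilpotent_of_comm (comm_of_le_cent (hc Z))) {p}, sup_comm]
    exact sup_le_sup (hD _ (h6 _) ((isPi_piCoreOf _ Z).not_dvd hp.1 (by simp)))
      (hS.le_of_norm' (isPi_piCoreOf _ Z) le_top (le_norm_piCoreOf _ (hn S)))

theorem TIso.card_IrP {Δ Q : Type u} [Group Δ] [Finite Δ] [Group Q] [Finite Q] {f : H →* Q}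
    {ρ : Δ →* Q} {lam : Δ → ℂ} {Ψ : (Δ → ℂ) →ₗ[ℂ] (G → ℂ)} (h : TIso K L ν f ρ lam Ψ)
    (hν : ν ∈ Irr L) (hd : ¬ p ∣ charDegree ν) (h1 : L ≤ X) (h2 : X ≤ K) :
    (IrP p (up f ρ X) ρ.ker lam).card = (IrP p X L ν).card := by
  have key : ∀ β ∈ IrrO (up f ρ X) ρ.ker lam, ¬ p ∣ charDegree (Ψ β) ↔ ¬ p ∣ charDegree β :=
    fun β a => by
      have : charDegree (Ψ β) = charDegree β * charDegree ν := by
        rw [← Nat.cast_inj (R := ℂ), Nat.cast_mul, deg_cast (over_subset _ _ _ (h.mem_over hν h1 h2 a)),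
          deg_cast (over_subset _ _ _ a), deg_cast hν, h.base β (h.eqv (ker_le_up X) a) 1 (one_mem L)]
      rw [this, hp.1.dvd_mul, not_or, and_iff_left hd]
  refine Finset.card_bij (fun β _ => Ψ β) (fun β a => ?_) (fun β a γ b => ?_) fun ξ a => ?_
  · obtain ⟨b, c⟩ := Finset.mem_filter.1 a
    exact Finset.mem_filter.2 ⟨h.mem_over hν h1 h2 b, (key β b).2 c⟩
  · exact h.inj h1 h2 (Finset.mem_filter.1 a).1 (Finset.mem_filter.1 b).1
  · obtain ⟨b, c⟩ := Finset.mem_filter.1 a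
    obtain ⟨β, d, rfl⟩ := h.surj X h1 h2 ξ b
    exact ⟨β, Finset.mem_filter.2 ⟨d, (key β d).1 c⟩, rfl⟩

theorem mk_all (n : ℕ) : MK.{u} p n := by
  induction n using Nat.strong_induction_on with | _ n ih => ?_
  intro G _ _ H L S ν hG hL hn hS hν hs e
  by_cases h0 : H ≤ stab ν
  swap
  · have h1 : L ≤ H ⊓ stab ν := le_inf hL (CF.le_stab (irr_cf hν))
    exact red_cliff _ hL hn hν hS.le (fun X a b c ψ d => not_dvd_Ind inf_le_left (hS.of_le c a)
      (le_inf c hs) (mem_over.1 d).1) (ih _ (e ▸ relIndex_lt_of_lt h1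
        (lt_of_le_of_ne inf_le_left fun h => h0 (h ▸ inf_le_right))) G _ L S ν hG h1
        (inf_le_left.trans hn) (hS.of_le (le_inf hS.le hs) inf_le_left) hν hs rfl)
  have h1 : L ⊔ H ⊓ 𝒩(S) ≤ H := sup_le hL inf_le_left
  by_cases hd : p ∣ charDegree ν
  · have : ∀ X, L ≤ X → X ≤ H → IrP p X L ν = ∅ := fun X a b =>
      Finset.filter_eq_empty_iff.2 fun χ c h => by
        obtain ⟨m, -, d⟩ := deg_over a (b.trans hn) hν c
        exact h (d ▸ hd.mul_left m)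
    rw [this H hL le_rfl, this _ le_sup_left h1]
  obtain ⟨Δ, Q, _, _, _, _, f, ρ, lam, Ψ, h, -⟩ := exists_trip hL le_rfl hn (le_norm_self H) hν h0
  have h2 : L ⊔ S ≤ H := sup_le hL hS.le
  obtain ⟨R, hR⟩ := exists_syl p (up f ρ (L ⊔ S))
  have e1 : R ⊔ ρ.ker = up f ρ (L ⊔ S) := hR.sup_eq_of_idx (ker_le_up _) (by
    rw [h.relIndex_ker le_sup_left h2]
    exact fun q hq h => hS.isPi q hq (h.trans (sup_comm L S ▸ relIndex_sup_dvd' (hS.le.trans hn))))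
  have hR' : Syl(p, R, ⊤) := hR.trans_idx le_top (by
    rw [← h.up_L, h.relIndex_up le_sup_left h2 le_rfl]; exact hS.idx_of_le le_sup_right)
  have e2 : up f ρ (L ⊔ H ⊓ 𝒩(S)) = 𝒩(R) := by
    have := inf_norm_sup le_top (top_le_norm ρ.ker) hR'
    rw [top_inf_eq, top_inf_eq, sup_eq_right.2 (le_norm_of_le_cent (h.cent' R)), sup_comm, e1] at this
    rw [← this, ← inf_norm_sup hL hn hS]
    refine le_antisymm (up_le_norm inf_le_right) fun d hd => ?_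
    obtain ⟨g, a⟩ := h.exists_lift d
    refine (h.mem_up (le_inf hL (le_norm_of_le le_sup_left)) a).2 ⟨g.2, mem_normalizer_fintype
      fun x hx => ?_⟩
    obtain ⟨y, b⟩ := h.exists_lift' ⟨x, h2 hx⟩
    exact (h.mem_up le_sup_left (g := g * ⟨x, h2 hx⟩ * g⁻¹) (d := d * y * d⁻¹) (by
      simp only [map_mul, map_inv, a, b])).1 (H16.conj_mem hd ((h.mem_up le_sup_left b).2 hx))
  rw [← h.card_IrP hν hd hL le_rfl, ← h.card_IrP hν hd le_sup_left h1, e2, h.up_L]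
  refine mk_central (H1.IsPSolvable.of_normal_quotient ρ.ker (H1.isPSolvable_of_isSolvable p
    (solvable_of_comm (comm_of_le_cent (h.cent' _)))) (H1.IsPSolvable.of_equiv
      (H1.IsPSolvable.of_surjective (H1.IsPSolvable.subgroup hG H) f h.fsurj)
      (QuotientGroup.quotientKerEquivOfSurjective ρ h.rsurj).symm)) h.cent hR' h.lin ?_
  rwa [← h.up_L, h.relIndex_ker hL le_rfl, e]

/-- the relative McKay count for `p`-solvable groups -/
theorem mckay_rel (hG : IsPSolvable p G) (hL : L ≤ H) (hn : H ≤ 𝒩(L)) (hS : Syl(p, S, H))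
    (hν : ν ∈ Irr L) (hs : S ≤ stab ν) :
    (IrP p H L ν).card = (IrP p (H ⊓ 𝒩(L ⊔ S)) L ν).card :=
  inf_norm_sup hL hn hS ▸ mk_all _ G H L S ν hG hL hn hS hν hs rfl

end H21
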