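/-
Sylow subgroups whose abelianization has order `p ^ 2`.
-/
import Cfsg.Agent.H21.RU1
import Cfsg.Agent.H21.An1
import Cfsg.Agent.H25.ONS
import Cfsg.Agent.H10.SylowIn
import Cfsg.Agent.H12.Norm
import Cfsg.Agent.H1.Frattini
import Cfsg.Agent.S0081

set_option autoImplicit false
set_option linter.unusedSectionVars false
open Cfsg H15 Subgroup
open scoped Classical commutatorElement

namespace H21.NS

variable {G : Type*} [Group G] [Finite G] {p : ℕ} [hp : Fact p.Prime] {A K L N P Q R : Subgroup G}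
  {x y : G}

theorem eq_of_dvd (h1 : K ≤ L) (h2 : L ≤ R) (h : K.relIndex R ∣ p) (hn : ¬ L ≤ K) : L = R := by
  have e := relIndex_mul_relIndex K L R h1 h2
  have h3 : K.relIndex L ≠ 1 := fun e' => hn (relIndex_eq_one.1 e')
  have h4 : K.relIndex L = p :=
    ((Nat.dvd_prime hp.out).1 ((Dvd.intro _ e).trans h)).resolve_left h3
  rw [← e, h4] at h
  have h5 : L.relIndex R ∣ 1 := Nat.dvd_of_mul_dvd_mul_left hp.out.pos (by simpa using h)
  exact le_antisymm h2 (relIndex_eq_one.1 (Nat.dvd_one.1 h5))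

theorem sup_zpowers_eq (h1 : K ≤ R) (h : K.relIndex R ∣ p) (hy : y ∈ R) (hn : y ∉ K) :
    K ⊔ zpowers y = R :=
  eq_of_dvd le_sup_left (sup_le h1 (zpowers_le.2 hy)) h fun e =>
    hn (e (mem_sup_right (mem_zpowers y)))

theorem comm_le_frat (hR : IsPGroup p R) : ⁅R, R⁆ ≤ (frattini R).map R.subtype := by
  have := hR.isNilpotent
  rw [← H12.map_commutator_subtype]
  exact map_mono (H1.isNilpotent_iff_commutator_le_frattini.1 this)

theorem comm_zpowers_self (y : G) : ⁅zpowers y, zpowers y⁆ = ⊥ :=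
  le_cent_iff_comm.1 (le_cent_self inferInstance)

theorem comm_le_of_dvd (hR : IsPGroup p R) (hQ : Q ≤ R) (hN : R ≤ 𝒩(Q))
    (h : (Q ⊔ ⁅R, R⁆).relIndex R ∣ p) : ⁅R, R⁆ ≤ Q := by
  have h0 : ⁅R, R⁆ ≤ R := commutator_le_of_le le_rfl le_rfl
  obtain ⟨y, hy, e⟩ : ∃ y ∈ R, Q ⊔ ⁅R, R⁆ ⊔ zpowers y = R := by
    by_cases hc : R ≤ Q ⊔ ⁅R, R⁆
    · exact ⟨1, R.one_mem, by simpa using le_antisymm (sup_le hQ h0) hc⟩
    · obtain ⟨y, hy, hn⟩ := SetLike.not_le_iff_exists.1 hc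
      exact ⟨y, hy, sup_zpowers_eq (sup_le hQ h0) h hy hn⟩
  have hz := zpowers_le.2 hy
  have e' : Q ⊔ zpowers y = R :=
    H1.eq_of_sup_frattiniOf (sup_le hQ hz) (comm_le_frat hR) (by rw [sup_right_comm, e])
  have h1 : ⁅R, zpowers y⁆ ≤ Q := by
    nth_rewrite 1 [← e']
    exact comm_sup_left_le (comm_le_left (hz.trans hN)) (by rw [comm_zpowers_self]; exact bot_le)
      (le_norm_self Q) (hz.trans hN)
  nth_rewrite 1 [← e']
  exact comm_sup_left_le (comm_le_left hN) (by rw [commutator_comm]; exact h1)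
    (le_norm_self Q) (hz.trans hN)

theorem npc_of_inf_le (P : Sylow p G) (hN : (P : Subgroup G) ≤ 𝒩(A))
    (h : (P : Subgroup G) ⊓ A ≤ ⁅(P : Subgroup G), (P : Subgroup G)⁆) :
    HasNormalPComplement p A := by
  have hP : (P : Subgroup G) ≤ A ⊔ P := le_sup_right
  have hn : (A.subgroupOf (A ⊔ P)).Normal := normal_subgroupOf (sup_le (le_norm_self A) hN)
  refine (H3.hasNormalPComplement_subgroupOf (le_sup_left : A ≤ A ⊔ P)).1
    (Cfsg.Agent.S0081.result (P.subtype hP) _ ?_)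
  refine le_trans ?_ (comm_le_frat (P.subtype hP).isPGroup')
  rw [Sylow.coe_subtype, ← subgroupOf_comm hP hP]
  exact fun x hx => h ⟨hx.2, hx.1⟩

theorem key (hP : IsPGroup p P) (h2 : (⁅P, P⁆).relIndex P = p ^ 2) (hN : P ≤ 𝒩(A))
    (h : ¬ P ⊓ A ≤ ⁅P, P⁆) : ⁅P, P⁆ ≤ A ∧ (P ⊓ A).relIndex P ∣ p := by
  have h0 : ⁅P, P⁆ ≤ P := commutator_le_of_le le_rfl le_rfl
  have e := relIndex_mul_relIndex ⁅P, P⁆ (P ⊓ A ⊔ ⁅P, P⁆) P le_sup_right (sup_le inf_le_left h0)
  have h3 : (P ⊓ A ⊔ ⁅P, P⁆).relIndex P ∣ p := by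
    obtain ⟨i, hi, ei⟩ := (Nat.dvd_prime_pow hp.out).1 (Dvd.intro_left _ (e.trans h2))
    rw [ei]
    rcases (by omega : i = 2 ∨ i ≤ 1) with rfl | hi
    · rw [ei, h2] at e
      exact absurd (le_sup_left.trans (relIndex_eq_one.1
        ((Nat.mul_eq_right (pow_pos hp.out.pos 2).ne').1 e))) h
    · simpa using pow_dvd_pow p hi
  have h4 := comm_le_of_dvd hP inf_le_left (le_norm_inf (le_norm_self P) hN) h3
  exact ⟨h4.trans inf_le_right, by rwa [sup_eq_left.2 h4] at h3⟩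

theorem card_cent (h2 : (⁅P, P⁆).relIndex P = p ^ 2) (hQ : Q ≤ P) (hN : P ≤ 𝒩(Q))
    (hc : IsMulCommutative Q) (hi : Q.relIndex P = p) (hy : y ∈ P) (hn : y ∉ Q) :
    Nat.card ↥(P ⊓ 𝒞₁(y)) = p ^ 2 := by
  have h0 : ⁅P, P⁆ ≤ P := commutator_le_of_le le_rfl le_rfl
  obtain ⟨M, hM, hcard⟩ := exists_delta hc (hN hy)
  have e := sup_zpowers_eq hQ hi.dvd hy hn
  have hMQ : M ≤ Q := fun z hz => by
    obtain ⟨w, hw, rfl⟩ := (hM z).1 hz
    exact Q.mul_mem (H1.conj_mem_of_mem_normalizer (hN hy) hw) (Q.inv_mem hw)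
  have hQM : Q ≤ 𝒩(M) := le_norm_of_le_cent ((le_cent_self hc).trans (cent_anti hMQ))
  have hyM : y ∈ 𝒩(M) := mem_norm_of_cj_le fun z hz => by
    obtain ⟨u, hu, rfl⟩ := hz
    obtain ⟨w, hw, rfl⟩ := (hM u).1 hu
    exact (hM _).2 ⟨y * w * y⁻¹, H1.conj_mem_of_mem_normalizer (hN hy) hw, by simp [mul_assoc]⟩
  have hzM := zpowers_le.2 hyM
  have h1 : ⁅zpowers y, Q⁆ ≤ M := by
    refine commutator_le.2 fun g hg w hw => ?_
    obtain ⟨n, rfl⟩ := (mem_powers_iff_mem_zpowers.2 hg)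
    induction n with
    | zero => simp
    | succ n ih =>
      have : ⁅y ^ (n + 1), w⁆ = y * ⁅y ^ n, w⁆ * y⁻¹ * (y * w * y⁻¹ * w⁻¹) := by
        simp only [commutatorElement_def, pow_succ']; group
      simp only at ih ⊢
      rw [this]
      exact M.mul_mem (H1.conj_mem_of_mem_normalizer hyM (ih (pow_mem (mem_zpowers y) n)))
        ((hM _).2 ⟨w, hw, rfl⟩)
  have h3 : ⁅P, Q⁆ ≤ M := by
    rw [← e]
    exact comm_sup_left_le (by rw [le_cent_iff_comm.1 (le_cent_self hc)]; exact bot_le) h1 hQM hzM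
  have h4 : ⁅P, zpowers y⁆ ≤ M := by
    rw [← e]
    exact comm_sup_left_le (by rw [commutator_comm]; exact h1)
      (by rw [comm_zpowers_self]; exact bot_le) hQM hzM
  have h5 : M = ⁅P, P⁆ := by
    refine le_antisymm (fun z hz => ?_) ?_
    · obtain ⟨w, hw, rfl⟩ := (hM z).1 hz
      exact commutator_mem_commutator hy (hQ hw)
    · nth_rewrite 1 [← e]
      exact comm_sup_left_le (by rw [commutator_comm]; exact h3)
        (by rw [commutator_comm]; exact h4) hQM hzM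
  have e1 := H1.card_mul_relIndex h0
  have e2 := H1.card_mul_relIndex hQ
  have e3 := H1.card_inf_mul_relIndex Q (P ⊓ 𝒞₁(y))
  have e4 : Q.relIndex (P ⊓ 𝒞₁(y)) = p := by
    rw [← H1.relIndex_sup_of_le_normalizer (inf_le_left.trans hN), ← hi]
    congr 1
    exact eq_of_dvd le_sup_right (sup_le inf_le_left hQ) hi.dvd fun h =>
      hn (h (mem_sup_left ⟨hy, mem_cent1_self y⟩))
  rw [← inf_assoc, inf_eq_left.2 hQ, e4] at e3
  rw [h5] at hcard
  rw [h2, ← e2, hi, ← hcard] at e1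
  have hpos : 0 < Nat.card ↥(⁅P, P⁆) := Nat.card_pos
  rw [← e3]
  exact (Nat.eq_of_mul_eq_mul_left hpos (by rw [e1, mul_assoc])).symm

theorem relIndex_le_card_cent (hy : y ∈ P) :
    (⁅P, P⁆).relIndex P ≤ Nat.card ↥(P ⊓ 𝒞₁(y)) := by
  have h := card_centralizer_mk_le (commutator P) ⟨y, hy⟩
  have e1 : centralizer ({((⟨y, hy⟩ : P) : P ⧸ commutator P)} : Set (P ⧸ commutator P)) = ⊤ := by
    refine eq_top_iff.2 fun q _ => mem_cent1.2 ?_
    induction q using QuotientGroup.induction_on with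
    | H a => exact mul_comm (G := Abelianization P) _ _
  have e2 : centralizer ({(⟨y, hy⟩ : P)} : Set P) = 𝒞₁(y).subgroupOf P := by
    ext a
    rw [mem_subgroupOf, mem_cent1, mem_cent1, Subtype.ext_iff]
    rfl
  rw [e1, e2, card_top, H1.card_subgroupOf, inf_comm] at h
  rwa [← H12.map_commutator_subtype, relIndex, subgroupOf_map]

theorem back (P : Sylow p G) (hbig : p ^ 2 ∣ Nat.card G) {k : ℕ} (hx : orderOf x = p ^ k)
    (h : (Nat.card 𝒞₁(x)).factorization p = 2) :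
    (⁅(P : Subgroup G), (P : Subgroup G)⁆).relIndex (P : Subgroup G) = p ^ 2 := by
  have hS := H10.isSylowIn_top P
  obtain ⟨g, -, hg⟩ := hS.exists_cj_le (H10.isPGroup_zpowers_of_orderOf hx) le_top
  have hy : g * x * g⁻¹ ∈ (P : Subgroup G) := hg (conj_mem_cj (mem_zpowers x))
  have h1 := relIndex_le_card_cent hy
  obtain ⟨R, hR, hle⟩ := H10.exists_isSylowIn_ge
    (P.isPGroup'.to_inf_left (K := 𝒞₁(g * x * g⁻¹))) inf_le_right
  have h2 := hR.card_eq_pow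
  rw [← cj_cent1, card_cj, h] at h2
  have h3 := (h1.trans (card_le_of_le hle)).trans h2.le
  have h0 : ⁅(P : Subgroup G), (P : Subgroup G)⁆ ≤ P := commutator_le_of_le le_rfl le_rfl
  have e1 := H1.card_mul_relIndex h0
  obtain ⟨n, hn⟩ := IsPGroup.iff_card.1 P.isPGroup'
  obtain ⟨i, -, ei⟩ := (Nat.dvd_prime_pow hp.out).1 (Dvd.intro_left _ (e1.trans hn))
  rw [ei] at h3
  have hi := (Nat.pow_le_pow_iff_right hp.out.one_lt).1 h3
  rcases (by omega : i = 2 ∨ i ≤ 1) with rfl | hi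
  · exact ei
  · have h4 : (⁅(P : Subgroup G), (P : Subgroup G)⁆).relIndex (P : Subgroup G) ∣ p := by
      rw [ei]; simpa using pow_dvd_pow p hi
    have h5 := comm_le_of_dvd P.isPGroup' bot_le (by rw [norm_bot]; exact le_top)
      (by rwa [bot_sup_eq])
    rw [le_bot_iff.1 h5, relIndex_bot_left] at h4
    have h6 := (P.pow_dvd_card_of_pow_dvd_card hbig).trans h4
    have := Nat.le_of_dvd hp.out.pos h6
    nlinarith [hp.out.one_lt]

theorem fwd_of_comm (P : Sylow p G) [hN : N.Normal]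
    (h2 : (⁅(P : Subgroup G), (P : Subgroup G)⁆).relIndex (P : Subgroup G) = p ^ 2)
    (hc : IsMulCommutative ↥((P : Subgroup G) ⊓ N))
    (hi : ((P : Subgroup G) ⊓ N).relIndex P = p) :
    ∃ x : G, (∃ k : ℕ, orderOf x = p ^ k) ∧ (Nat.card 𝒞₁(x)).factorization p = 2 := by
  have hn : ¬ (P : Subgroup G) ≤ (P : Subgroup G) ⊓ N := fun h =>
    hp.out.one_lt.ne' (hi.symm.trans (relIndex_eq_one.2 h))
  obtain ⟨x, hx, hxn⟩ := SetLike.not_le_iff_exists.1 hn
  have hcc : ∀ y ∈ (P : Subgroup G), y ∉ N → Nat.card ↥((P : Subgroup G) ⊓ 𝒞₁(y)) = p ^ 2 :=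
    fun y hy hyn => card_cent h2 inf_le_left
      (le_norm_inf (le_norm_self _) le_normalizer_of_normal) hc hi hy fun h => hyn h.2
  have hxN : x ∉ N := fun h => hxn ⟨hx, h⟩
  refine ⟨x, H10.orderOf_eq_pow_of_mem P.isPGroup' hx, ?_⟩
  obtain ⟨R, hR, hle⟩ := H10.exists_isSylowIn_ge
    (P.isPGroup'.to_inf_left (K := 𝒞₁(x))) inf_le_right
  obtain ⟨g, -, hg⟩ := (H10.isSylowIn_top P).exists_cj_le hR.isPGroup le_top
  have hxR : x ∈ R := hle ⟨hx, mem_cent1_self x⟩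
  have h3 := hcc (g * x * g⁻¹) (hg (conj_mem_cj hxR)) fun h => hxN (by
    simpa [mul_assoc] using hN.conj_mem' _ h g)
  have h4 : cj(g, R) ≤ (P : Subgroup G) ⊓ 𝒞₁(g * x * g⁻¹) :=
    le_inf hg (by rw [← cj_cent1]; exact cj_mono hR.le)
  have h5 := card_le_of_le h4
  have h6 := card_le_of_le hle
  rw [card_cj, h3] at h5
  rw [hcc x hx hxN] at h6
  have h7 := hR.card_eq_pow
  rw [le_antisymm h5 h6] at h7
  exact (Nat.pow_right_injective hp.out.two_le h7).symm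

end H21.NS
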