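/-
Sylow subgroups whose abelianization has order `p ^ 2`: the minimal normal subgroup.
-/
import Cfsg.Agent.H21.NS1

set_option autoImplicit false
set_option linter.unusedSectionVars false
open Cfsg H15 Subgroup
open scoped Classical commutatorElement

namespace H21.NS

variable {G : Type*} [Group G] [Finite G] {p : ℕ} [hp : Fact p.Prime] {A K L N P Q R : Subgroup G}
  {x y : G}

theorem tr_one (hN : P ≤ 𝒩(Q)) {B : Type*} [CommGroup B] (f : G → B)
    (hf : ∀ a ∈ Q, ∀ b ∈ Q, f (a * b) = f a * f b) (hx : x ∈ Q) (hx' : x ∈ ⁅P, P⁆)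
    (h1 : ∀ g ∈ P, g ∉ Q → f (g⁻¹ * x * g) = 1) : f x = 1 := by
  have := Fintype.ofFinite (P ⧸ Q.subgroupOf P)
  let φ : Q.subgroupOf P →* B := MonoidHom.mk' (fun a => f a.1.1) fun a b => hf _ a.2 _ b.2
  have hxP : x ∈ P := commutator_le_of_le le_rfl le_rfl hx'
  have hcj : ∀ g : P, g⁻¹ * ⟨x, hxP⟩ * g ∈ Q.subgroupOf P := fun g =>
    mem_subgroupOf.2 (H1.conj_mem_of_mem_normalizer' (hN g.2) hx)
  have h2 := H12.transfer_eq_prod φ hcj
  have h3 : MonoidHom.transfer φ ⟨x, hxP⟩ = 1 := by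
    refine Abelianization.commutator_subset_ker _ ?_
    rw [← H12.map_commutator_subtype] at hx'
    obtain ⟨z, hz, rfl⟩ := hx'
    exact hz
  rw [h3, Finset.prod_eq_single ((1 : P) : P ⧸ Q.subgroupOf P) ?_ (by simp)] at h2
  · set g := ((1 : P) : P ⧸ Q.subgroupOf P).out
    have hg : g ∈ Q.subgroupOf P := by
      have := QuotientGroup.eq.1 (QuotientGroup.out_eq' ((1 : P) : P ⧸ Q.subgroupOf P)).symm
      simpa using this
    have e : φ ⟨g⁻¹ * ⟨x, hxP⟩ * g, hcj g⟩ = (φ ⟨g, hg⟩)⁻¹ * φ ⟨⟨x, hxP⟩, hx⟩ * φ ⟨g, hg⟩ := by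
      rw [← map_inv, ← map_mul, ← map_mul]; rfl
    rw [e, mul_right_comm, inv_mul_cancel, one_mul] at h2
    exact h2.symm
  · intro q _ hq
    refine h1 _ q.out.2 fun h => hq ?_
    rw [← QuotientGroup.out_eq' q]
    exact (QuotientGroup.eq.2 (by simpa using mem_subgroupOf.2 h)).symm

theorem not_npc [IsSimpleGroup A] (h : ¬ IsMulCommutative A) (hd : p ∣ Nat.card A) :
    ¬ HasNormalPComplement p A := fun hc => by
  rcases (H3.pResidual_normal (p := p) (G := A)).eq_bot_or_eq_top with e | e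
  · have := (H3.pResidual_eq_bot_iff.1 e).isNilpotent
    exact h ⟨⟨IsSimpleGroup.comm_iff_isSolvable.2 inferInstance⟩⟩
  · have h1 := H3.hasNormalPComplement_iff_coprime.1 hc
    rw [e, card_top] at h1
    exact hp.out.one_lt.ne' (Nat.Coprime.eq_one_of_dvd h1.symm hd)

variable {m : ℕ} {T : Fin m → Subgroup G}

theorem exists_proj (F : H25.Fac N T) (i : Fin m) : ∃ π : G → G, (∀ a, π a ∈ T i) ∧
    (∀ a ∈ N, (π a)⁻¹ * a ∈ 𝒞(T i)) ∧ (∀ a ∈ N, ∀ t ∈ T i, t⁻¹ * a ∈ 𝒞(T i) → π a = t) ∧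
    ∀ a ∈ N, ∀ b ∈ N, π (a * b) = π a * π b := by
  have h0 : ∀ a : G, ∃ t ∈ T i, a ∈ N → t⁻¹ * a ∈ 𝒞(T i) := fun a => by
    by_cases ha : a ∈ N
    · obtain ⟨t, h1, h2⟩ := F.split i a ha
      exact ⟨t, h1, fun _ => h2⟩
    · exact ⟨1, one_mem _, fun h => absurd h ha⟩
  choose π h1 h2 using h0
  have := F.simple i
  have h3 : ∀ a ∈ N, ∀ t ∈ T i, t⁻¹ * a ∈ 𝒞(T i) → π a = t := fun a ha t ht hc => by
    have h4 := H25.inf_centralizer_eq_bot (F.nonab i) (mul_mem (inv_mem (h1 a)) ht) (by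
      simpa [mul_assoc] using mul_mem (h2 a ha) (inv_mem hc))
    exact inv_mul_eq_one.1 h4
  refine ⟨π, h1, h2, h3, fun a ha b hb => h3 _ (mul_mem ha hb) _ (mul_mem (h1 a) (h1 b)) ?_⟩
  have h4 := mem_cent.1 (h2 a ha) _ (inv_mem (h1 b))
  have e : (π a * π b)⁻¹ * (a * b) = (π a)⁻¹ * a * ((π b)⁻¹ * b) := by
    rw [← mul_assoc ((π a)⁻¹ * a), ← h4]; group
  rw [e]
  exact mul_mem (h2 a ha) (h2 b hb)

theorem comm_of_fac (P : Sylow p G) [hN : N.Normal] (F : H25.Fac N T) (hC : 𝒞(N) = ⊥)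
    (h2 : (⁅(P : Subgroup G), (P : Subgroup G)⁆).relIndex (P : Subgroup G) = p ^ 2)
    (hle : ⁅(P : Subgroup G), (P : Subgroup G)⁆ ≤ N)
    (hi : ((P : Subgroup G) ⊓ N).relIndex P = p) (hT : ∀ i, ¬ (P : Subgroup G) ≤ 𝒩(T i)) :
    IsMulCommutative ↥((P : Subgroup G) ⊓ N) := by
  set Q := (P : Subgroup G) ⊓ N with hQ
  have h0 : ⁅(P : Subgroup G), (P : Subgroup G)⁆ ≤ P := commutator_le_of_le le_rfl le_rfl
  have hPQ : (P : Subgroup G) ≤ 𝒩(Q) := le_norm_inf (le_norm_self _) le_normalizer_of_normal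
  have hQp : IsPGroup p Q := P.isPGroup'.to_inf_left
  have hNT : ∀ i, N ≤ 𝒩(T i) := fun i => le_normalizer_iff.2 fun n hn t ht => F.norm i n hn t ht
  have h3 : (⁅(P : Subgroup G), (P : Subgroup G)⁆).relIndex Q = p := by
    have e := relIndex_mul_relIndex _ Q P (le_inf h0 hle) inf_le_left
    rw [hi, h2, sq] at e
    exact Nat.eq_of_mul_eq_mul_right hp.out.pos e
  refine H1.isMulCommutative_iff'.2 fun a ha b hb => ?_
  have main : ∀ i, (a * b)⁻¹ * (b * a) ∈ 𝒞(T i) := fun i => by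
    obtain ⟨π, p1, p2, p3, p4⟩ := exists_proj F i
    have hS : H10.IsSylowIn p (Q ⊓ T i) (T i) :=
      ((H10.isSylowIn_top P).inf_normal le_top le_normalizer_of_normal).inf_normal (F.le i) (hNT i)
    set R := Q ⊓ T i with hR
    have pfix : ∀ t ∈ T i, π t = t := fun t ht => p3 t (F.le i ht) t ht (by simp)
    have hπ : ∀ c ∈ Q, π c ∈ R := by
      let ψ : N →* G := MonoidHom.mk' (fun c => π c) fun c d => p4 _ c.2 _ d.2
      have e : (Q.subgroupOf N).map ψ = R := by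
        refine hS.eq_of_le ((hQp.comap_subtype).map ψ) (fun t ht => ?_) ?_
        · exact ⟨⟨t, F.le i ht.2⟩, ht.1, pfix t ht.2⟩
        · rintro _ ⟨c, -, rfl⟩
          exact p1 _
      intro c hc
      rw [← e]
      exact ⟨⟨c, hc.2⟩, hc, rfl⟩
    have h4 : ⁅(P : Subgroup G), (P : Subgroup G)⁆ ⊓ R ≤ ⁅R, R⁆ := fun x hx => by
      let f : G → Abelianization R := fun c =>
        if h : π c ∈ R then Abelianization.of ⟨π c, h⟩ else 1
      have h5 := tr_one hPQ f (fun c hc d hd => ?_) hx.2.1 hx.1 fun g hg hgn => ?_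
      · simp only [f, hπ x hx.2.1, dif_pos] at h5
        have h6 : (⟨π x, hπ x hx.2.1⟩ : R) ∈ commutator R := by
          rw [← Abelianization.ker_of]; exact h5
        rw [← H12.map_commutator_subtype, ← pfix x hx.2.2]
        exact mem_map_of_mem R.subtype h6
      · simp only [f, hπ c hc, hπ d hd, hπ _ (mul_mem hc hd), dif_pos]
        rw [← map_mul]
        exact congrArg _ (Subtype.ext (p4 c hc.2 d hd.2))
      · obtain ⟨j, hj⟩ := F.perm g⁻¹ i
        have hij : i ≠ j := by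
          rintro rfl
          refine hT i ?_
          rw [← sup_zpowers_eq inf_le_left hi.dvd hg hgn]
          refine sup_le (inf_le_right.trans (hNT i)) (zpowers_le.2 ?_)
          exact (inv_mem_iff (H := 𝒩(T i))).1 (mem_normalizer_iff.2 hj)
        have h6 : g⁻¹ * x * g ∈ T j := by simpa using (hj x).1 hx.2.2
        have h7 : π (g⁻¹ * x * g) = 1 :=
          p3 _ (F.le j h6) 1 (one_mem _) (by simpa using F.comm i j hij h6)
        simp only [f, h7, one_mem, dif_pos]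
        exact map_one _
    have h5 : (⁅R, R⁆).relIndex R ∣ p := by
      refine (relIndex_dvd_of_le_left R h4).trans (Dvd.dvd.trans ?_ h3.dvd)
      rw [inf_relIndex_right, ← H1.relIndex_sup_of_le_normalizer
        ((inf_le_left.trans inf_le_left).trans (le_norm_comm (le_norm_self _) (le_norm_self _)))]
      exact Dvd.intro _ (relIndex_mul_relIndex _ _ Q le_sup_right
        (sup_le inf_le_left (le_inf h0 hle)))
    have h6 := comm_le_of_dvd hS.isPGroup bot_le (by rw [norm_bot]; exact le_top)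
      (by rwa [bot_sup_eq])
    have h7 : π (a * b) = π (b * a) := by
      rw [p4 a ha.2 b hb.2, p4 b hb.2 a ha.2]
      exact (mem_cent.1 (le_cent_of_comm_le_bot h6 (hπ b hb)) _ (hπ a ha))
    have h8 := mul_mem (inv_mem (p2 _ (mul_mem ha.2 hb.2))) (p2 _ (mul_mem hb.2 ha.2))
    rw [h7] at h8
    simpa [mul_assoc] using h8
  have h9 : (a * b)⁻¹ * (b * a) ∈ 𝒞(N) :=
    le_cent1_iff.1 (F.gen _ fun i => le_cent1_iff.2 (main i))
  rw [hC] at h9
  exact inv_mul_eq_one.1 (mem_bot.1 h9)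

theorem not_inf_le (P : Sylow p G) (hcore : pPrimeCore p G = ⊥)
    (hcore' : (⁅(P : Subgroup G), (P : Subgroup G)⁆).normalCore = ⊥) [hN : N.Normal]
    (h0 : N ≠ ⊥) : ¬ (P : Subgroup G) ⊓ N ≤ ⁅(P : Subgroup G), (P : Subgroup G)⁆ := fun h => by
  have h1 := H3.hasNormalPComplement_iff_coprime.1 (npc_of_inf_le P le_normalizer_of_normal h)
  have := H1.normal_map_char N (pResidual p N)
  have h2 : (pResidual p N).map N.subtype ≤ ⊥ := by
    rw [← hcore]
    exact H1.le_pPrimeCore (by rwa [card_map_of_injective N.subtype_injective])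
  have h3 : IsPGroup p N := H3.pResidual_eq_bot_iff.1
    ((map_eq_bot_iff_of_injective _ N.subtype_injective).1 (le_bot_iff.1 h2))
  have h4 := (H10.isSylowIn_top P).le_of_NN h3 le_top le_normalizer_of_normal
  exact h0 (le_bot_iff.1 (hcore' ▸ normal_le_normalCore.2 ((le_inf h4 le_rfl).trans h)))

theorem fwd (P : Sylow p G) (hcore : pPrimeCore p G = ⊥)
    (hcore' : (⁅(P : Subgroup G), (P : Subgroup G)⁆).normalCore = ⊥)
    (hnas : ¬ ∃ S : Subgroup G, S.Normal ∧ IsSimpleGroup S ∧ ¬ IsMulCommutative S ∧ 𝒞(S) = ⊥)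
    (h2 : (⁅(P : Subgroup G), (P : Subgroup G)⁆).relIndex (P : Subgroup G) = p ^ 2) :
    ∃ x : G, (∃ k : ℕ, orderOf x = p ^ k) ∧ (Nat.card 𝒞₁(x)).factorization p = 2 := by
  by_cases hb : ⁅(P : Subgroup G), (P : Subgroup G)⁆ = ⊥
  · refine ⟨1, ⟨0, by simp⟩, ?_⟩
    rw [hb, relIndex_bot_left, P.card_eq_multiplicity] at h2
    have e : 𝒞₁((1 : G)) = ⊤ := eq_top_iff.2 fun g _ => mem_cent1.2 (by simp)
    rw [e, card_top]
    exact Nat.pow_right_injective hp.out.two_le h2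
  obtain ⟨N, hN, h0, -, hmin⟩ := H1.exists_minimal_normal_le (⊤ : Subgroup G) fun e =>
    hb (le_bot_iff.1 (e ▸ le_top))
  have hk : ∀ M : Subgroup G, M.Normal → M ≠ ⊥ → ⁅(P : Subgroup G), (P : Subgroup G)⁆ ≤ M ∧
      ((P : Subgroup G) ⊓ M).relIndex P ∣ p := fun M _ hM =>
    key P.isPGroup' h2 le_normalizer_of_normal (not_inf_le P hcore hcore' hM)
  obtain ⟨k1, k2⟩ := hk N hN h0
  have hi : ¬ (P : Subgroup G) ≤ N → ((P : Subgroup G) ⊓ N).relIndex P = p := fun h =>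
    ((Nat.dvd_prime hp.out).1 k2).resolve_left fun e => h ((relIndex_eq_one.1 e).trans inf_le_right)
  by_cases hc : IsMulCommutative N
  · exact fwd_of_comm P h2 (comm_of_le hc inf_le_right) (hi fun h =>
      hb (le_cent_iff_comm.1 (le_cent_self (comm_of_le hc h))))
  obtain ⟨m, T, F⟩ := H25.exists_fac N h0 hmin hc
  have hC : 𝒞(N) = ⊥ := by
    by_contra h
    have h3 := (hk _ inferInstance h).1
    rcases hmin (N ⊓ 𝒞(N)) inferInstance inf_le_left with e | e
    · exact hb (le_bot_iff.1 (e ▸ le_inf k1 h3))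
    · exact hc (comm_of_le_cent (inf_eq_left.1 e))
  have hd : ∀ i, p ∣ Nat.card (T i) := fun i => by
    refine hp.out.dvd_of_dvd_pow (n := m) ?_
    rw [← F.card i]
    by_contra h
    exact h0 (le_bot_iff.1 (hcore ▸ H1.le_pPrimeCore ((hp.out.coprime_iff_not_dvd.2 h).symm)))
  have hT : ∀ i, ¬ (P : Subgroup G) ≤ 𝒩(T i) := fun i h => by
    have := F.simple i
    have h3 := (key P.isPGroup' h2 h fun e =>
      not_npc (F.nonab i) (hd i) (npc_of_inf_le P h e)).1
    obtain ⟨j, hj⟩ : ∃ j, j ≠ i := by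
      by_contra! hh
      have e : T i = N := le_antisymm (F.le i) (F.gen _ fun j => by rw [hh j])
      exact hnas ⟨N, hN, e ▸ this, hc, hC⟩
    have := F.simple j
    have h4 := (key P.isPGroup' h2 (le_norm_cent h) fun e =>
      not_npc (F.nonab j) (hd j) (H3.hasNormalPComplement_of_le (F.comm i j hj.symm)
        (npc_of_inf_le P (le_norm_cent h) e))).1
    exact hb (eq_bot_iff.2 fun t ht =>
      mem_bot.2 (H25.inf_centralizer_eq_bot (F.nonab i) (h3 ht) (h4 ht)))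
  have hi' := hi fun h => hT ⟨0, F.pos⟩
    (h.trans (le_normalizer_iff.2 fun n hn t ht => F.norm _ n hn t ht))
  exact fwd_of_comm P h2 (comm_of_fac P F hC h2 k1 hi' hT) hi'

end H21.NS
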