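/-
Normal subgroups with two class sizes containing a noncentral Sylow subgroup.
-/
import Cfsg.Agent.H21.NS1
import Cfsg.Agent.H3.Cs
import Cfsg.Agent.H1.ActP
import Cfsg.Agent.H1.Coprime2
import Cfsg.Agent.H12.Tate
import Cfsg.Agent.H15.Pi

set_option autoImplicit false
set_option linter.unusedSectionVars false
open Cfsg H15 Subgroup H3.Pt
open scoped Classical commutatorElement

namespace H21.TC

theorem sec0 {G : Type*} [Group G] [Finite G] {s : ℕ} (hs : s.Prime) {B V D Z : Subgroup G}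
    [D.Normal] (hD : D ≤ B) (hBV : B ≤ 𝒩(V)) (hc : (Nat.card B).Coprime (Nat.card V))
    (h1 : ⁅B, B⁆ ≤ D) (h2 : ∀ b ∈ B, b ^ s ∈ D) (h3 : ∀ b ∈ B, b ∉ D → V ⊓ 𝒞₁(b) ≤ Z) :
    V ≤ Z ∨ D.relIndex B ∣ s := by
  set f := QuotientGroup.mk' D
  have hVD : V ⊓ D = ⊥ := H1.inf_eq_bot_of_coprime'
    (Nat.Coprime.coprime_dvd_right (card_dvd_of_le hD) hc.symm)
  have hone : ∀ v ∈ V, v ∈ D → v = 1 := fun v h h' => mem_bot.1 (hVD ▸ ⟨h, h'⟩)
  have hA : IsMulCommutative (B.map f) := H1.isMulCommutative_iff'.2 (by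
    rintro _ ⟨a, ha, rfl⟩ _ ⟨b, hb, rfl⟩
    rw [← commutatorElement_eq_one_iff_mul_comm, ← map_commutatorElement]
    exact (QuotientGroup.eq_one_iff _).2 (h1 (commutator_mem_commutator ha hb)))
  by_cases hcy : IsCyclic (B.map f)
  · right
    rw [← H1.card_map_mk'_eq_relIndex, ← IsCyclic.exponent_eq_card]
    refine Monoid.exponent_dvd_of_forall_pow_eq_one ?_
    rintro ⟨_, b, hb, rfl⟩
    exact Subtype.ext (by
      simpa using (QuotientGroup.eq_one_iff (N := D) _).2 (h2 b hb))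
  left
  have h4 : V.map f ≤ (V ⊓ Z).map f := by
    refine H1.le_of_forall_centralizer_le hcy (H1.le_normalizer_map hBV f)
      ((hc.coprime_dvd_left (card_map_dvd _ _)).coprime_dvd_right (card_map_dvd _ _)) ?_
    rintro _ ⟨b, hb, rfl⟩ hne _ ⟨⟨v, hv, rfl⟩, hvc⟩
    refine ⟨v, ⟨hv, h3 b hb (fun h => hne ((QuotientGroup.eq_one_iff _).2 h)) ⟨hv, ?_⟩⟩, rfl⟩
    have h5 : ⁅b, v⁆ ∈ D := by
      refine (QuotientGroup.eq_one_iff _).1 ?_
      change f _ = 1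
      rw [map_commutatorElement, commutatorElement_eq_one_iff_mul_comm]
      exact (mem_cent1.1 hvc).symm
    have h6 := hone _ (comm_le_right hBV (commutator_mem_commutator hb hv)) h5
    exact mem_cent1.2 (commutatorElement_eq_one_iff_mul_comm.1 h6).symm
  intro v hv
  obtain ⟨z, hz, e⟩ := h4 (mem_map_of_mem f hv)
  have h5 := hone _ (mul_mem (inv_mem hz.1) hv) (QuotientGroup.eq.1 e)
  exact inv_mul_eq_one.1 h5 ▸ hz.2

variable {G : Type*} [Group G] [Finite G] {N S S₀ : Subgroup G} {m r s t i j : ℕ} {x y u v : G}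

theorem sec {B V D Z : Subgroup G} (hs : s.Prime) (hD : D ≤ B) (hBD : B ≤ 𝒩(D)) (hVD : V ≤ 𝒩(D))
    (hBV : B ≤ 𝒩(V)) (hc : (Nat.card B).Coprime (Nat.card V))
    (h1 : ⁅B, B⁆ ≤ D) (h2 : ∀ b ∈ B, b ^ s ∈ D) (h3 : ∀ b ∈ B, b ∉ D → V ⊓ 𝒞₁(b) ≤ Z) :
    V ≤ Z ∨ D.relIndex B ∣ s := by
  have hB : B ≤ B ⊔ V := le_sup_left
  have hV : V ≤ B ⊔ V := le_sup_right
  have := normal_subgroupOf (sup_le hBD hVD)
  have h := sec0 hs (B := B.subgroupOf (B ⊔ V)) (V := V.subgroupOf (B ⊔ V))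
    (D := D.subgroupOf (B ⊔ V)) (Z := Z.subgroupOf (B ⊔ V)) (comap_mono hD)
    (H1.le_normalizer_subgroupOf hBV _)
    (by rwa [H1.card_subgroupOf_of_le hB, H1.card_subgroupOf_of_le hV])
    (by rw [← subgroupOf_comm hB hB]; exact comap_mono h1) (fun b hb => h2 b hb)
    fun b hb hn v hv => h3 b hb hn ⟨hv.1, mem_cent1.2 (congrArg Subtype.val (mem_cent1.1 hv.2))⟩
  rwa [subgroupOf_le_iff hV, relIndex_subgroupOf hB] at h

/-- All noncentral elements of `N` have class size `m`. -/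
def Two (N : Subgroup G) (m : ℕ) : Prop := ∀ x ∈ N, x ∉ center G → 𝒞₁(x).index = m

theorem cop_ord (hs : s.Prime) (ht : t.Prime) (hne : s ≠ t) (ox : orderOf x = s ^ i)
    (oy : orderOf y = t ^ j) : (orderOf x).Coprime (orderOf y) := by
  rw [ox, oy]; exact Nat.Coprime.pow _ _ ((Nat.coprime_primes hs ht).2 hne)

theorem exists_u [hs : Fact s.Prime] [N.Normal] (hS : H10.IsSylowIn s S ⊤) (hy : y ∈ N)
    (hz : y ∉ center G) (oy : orderOf y = s ^ j) : ∃ u ∈ S ⊓ N, u ∉ center G ∧ u ^ s ∈ center G ∧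
      ∀ g ∈ S, g * u * g⁻¹ * u⁻¹ ∈ center G := by
  have hn : S ≤ 𝒩(S ⊓ N) := le_norm_inf (le_norm_self S) le_normalizer_of_normal
  obtain ⟨g, -, hg⟩ := hS.exists_cj_le (H10.isPGroup_zpowers_of_orderOf oy) le_top
  have h1 : (center G).subgroupOf (S ⊓ N) ≠ ⊤ := fun e => hz (by
    have h2 := subgroupOf_eq_top.1 e ⟨hg (conj_mem_cj (mem_zpowers y)), Normal.conj_mem ‹_› y hy g⟩
    simpa [mul_assoc] using Normal.conj_mem' inferInstance _ h2 g)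
  obtain ⟨u, h2, h3, h4⟩ := H1.exists_fixed_aut_mod
    ((S ⊓ N).normalizerMonoidHom.comp (inclusion hn)) hS.isPGroup hS.isPGroup.to_inf_left
    ((center G).subgroupOf (S ⊓ N)) h1 fun g w hw =>
      Normal.conj_mem (inferInstance : (center G).Normal) _ hw g
  exact ⟨u, u.2, h2, h3, fun g hg => h4 ⟨g, hg⟩⟩

namespace Two
variable (h : Two N m)
include h

theorem card_eq (hx : x ∈ N) (hx' : x ∉ center G) (hy : y ∈ N) (hy' : y ∉ center G) :
    Nat.card 𝒞₁(x) = Nat.card 𝒞₁(y) :=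
  Nat.eq_of_mul_eq_mul_right (Nat.pos_of_ne_zero (index_ne_zero_of_finite (H := 𝒞₁(x))))
    (by rw [card_mul_index, h x hx hx', ← h y hy hy', card_mul_index])

theorem eq_of_le (hx : x ∈ N) (hx' : x ∉ center G) (hy : y ∈ N) (hy' : y ∉ center G)
    (hle : 𝒞₁(x) ≤ 𝒞₁(y)) : 𝒞₁(x) = 𝒞₁(y) :=
  eq_of_index hle (by rw [h x hx hx', h y hy hy'])

theorem cent_eq (hx : x ∈ N) (hx' : x ∉ center G) (hy : y ∈ N) (hy' : y ∉ center G)
    (c : y ∈ 𝒞₁(x)) (hc : (orderOf x).Coprime (orderOf y)) : 𝒞₁(x) = 𝒞₁(y) :=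
  h.eq_of_le hx hx' hy hy' (C₁_le_of_index (mem_C₁.1 c) hc (by
    rw [h x hx hx', h _ (mul_mem hx hy) (mul_not_mem (mem_C₁.1 c) hc hx')]))

theorem typeA (hs : s.Prime) (ht : t.Prime) (hne : s ≠ t) (hx : x ∈ N) (hx' : x ∉ center G)
    (ox : orderOf x = s ^ i) (hy : y ∈ N) (hy' : y ∉ center G) (oy : orderOf y = t ^ j)
    (c : y ∈ 𝒞₁(x)) {a : G} (ha : a ∈ N ⊓ 𝒞₁(x)) : 𝒞₁(x) ≤ 𝒞₁(a) := by
  refine le_cent1_iff.2 (by_contra fun hn => ?_)
  obtain ⟨n, q, k, hq, o, h1⟩ := exists_prim hn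
  have h2 : a ^ n ∉ center G := fun e => h1 (cent_anti le_top (cent_top (G := G) ▸ e))
  have h3 := pow_mem ha n
  refine h1 (le_cent1_iff.1 (le_of_eq ?_))
  by_cases e : s = q
  · have e1 := h.cent_eq hx hx' hy hy' c (cop_ord hs ht hne ox oy)
    rw [e1]
    exact h.cent_eq hy hy' h3.1 h2 (e1 ▸ h3.2) (cop_ord ht hq (e ▸ hne.symm) oy o)
  · exact h.cent_eq hx hx' h3.1 h2 h3.2 (cop_ord hs hq e ox o)

theorem card_dvd [hs : Fact s.Prime] (hx : x ∈ N) (hx' : x ∉ center G) (hu : u ∈ N)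
    (hu' : u ∉ center G) (h0 : H10.IsSylowIn s S₀ 𝒞₁(x)) (hS : IsPGroup s S) :
    Nat.card ↥(S ⊓ 𝒞₁(u)) ∣ Nat.card S₀ := by
  obtain ⟨T, hT, hle⟩ := H10.exists_isSylowIn_ge (hS.to_inf_left (K := 𝒞₁(u))) inf_le_right
  rw [h0.card_eq_pow, h.card_eq hx hx' hu hu', ← hT.card_eq_pow]
  exact card_dvd_of_le hle

theorem rel_dvd [hs : Fact s.Prime] (hx : x ∈ N) (hx' : x ∉ center G) (hu : u ∈ N)
    (hu' : u ∉ center G) (h0 : H10.IsSylowIn s S₀ 𝒞₁(x)) (hS : IsPGroup s S) (hle : S₀ ≤ S) :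
    S₀.relIndex S ∣ 𝒞₁(u).relIndex S := by
  obtain ⟨k, hk⟩ := h.card_dvd hx hx' hu hu' h0 hS
  have e1 := H1.card_mul_relIndex hle
  rw [← H1.card_inf_mul_relIndex 𝒞₁(u) S, inf_comm, hk, mul_assoc] at e1
  exact Dvd.intro_left _ (Nat.eq_of_mul_eq_mul_left Nat.card_pos e1)

theorem bound [hs : Fact s.Prime] [N.Normal] (hS : IsPGroup s S) (hu : u ∈ S ⊓ N)
    (hu' : u ∉ center G) (h1 : u ^ s ∈ center G) (h2 : ∀ g ∈ S, g * u * g⁻¹ * u⁻¹ ∈ center G)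
    (ht : t.Prime) (hne : s ≠ t) (hv : v ∈ N ⊓ 𝒞₁(u)) (hv' : v ∉ center G)
    (ov : orderOf v = t ^ j) : 𝒞₁(u).relIndex S ∣ s := by
  have := Fact.mk ht
  obtain ⟨i, ou⟩ := H10.orderOf_eq_pow_of_mem hS hu.1
  have hA := fun a => h.typeA hs.out ht hne hu.2 hu' ou hv.1 hv' ov hv.2 (a := a)
  set A := N ⊓ 𝒞₁(u)
  have hAc : A ≤ 𝒞(𝒞₁(u)) := fun a ha => le_cent1_iff.1 (hA a ha)
  have hAn := nilpotent_of_comm (comm_of_le_cent (hAc.trans (cent_anti inf_le_right)))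
  have hSC : S ≤ 𝒩(𝒞₁(u)) := fun g hg => mem_norm_of_cj_le (by
    rw [cj_cent1]
    intro c hc
    have e := mem_cent1.1 hc
    rw [← inv_mul_cancel_right (g * u * g⁻¹) u, ← mul_assoc, mem_center_iff.1 (h2 g hg) c,
      mul_assoc, mul_assoc _ u c] at e
    exact mem_cent1.2 (mul_left_cancel e))
  let φ : S →* center G := MonoidHom.mk' (fun g => ⟨_, h2 g g.2⟩) fun a b => Subtype.ext (by
    have e := mem_center_iff.1 (h2 b b.2)
    simp only [coe_mul]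
    calc _ = a.1 * (b.1 * u * b.1⁻¹ * u⁻¹ * (u * a.1⁻¹ * u⁻¹)) := by group
      _ = _ := by rw [← e]; group)
  have hφ : ∀ g : S, φ g = 1 → g.1 ∈ S ⊓ 𝒞₁(u) := fun g e => ⟨g.2, mem_cent1.2 (by
    have e' : g.1 * u * g.1⁻¹ * u⁻¹ = 1 := congrArg Subtype.val e
    rwa [mul_inv_eq_one, mul_inv_eq_iff_eq_mul] at e')⟩
  have hV := isPi_piCoreOf {t} A
  have hVA := piCoreOf_le {t} A
  have h3 := sec (B := S) (V := piCoreOf {t} A) (D := S ⊓ 𝒞₁(u)) (Z := center G) hs.out inf_le_left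
    (le_norm_inf (le_norm_self S) hSC)
    (le_norm_of_le_cent (hVA.trans (hAc.trans (cent_anti inf_le_right))))
    (le_norm_piCoreOf _ (le_norm_inf le_normalizer_of_normal hSC))
    ((IsPGroup.isPi hS).coprime (hV.compl_of_ne hne.symm)) ?_ (fun b hb => hφ (⟨b, hb⟩ ^ s) ?_)
    fun b hb hn w hw => by_contra fun hw' => hn ⟨hb, ?_⟩
  · rcases h3 with h3 | h3
    · exact absurd (zpowers_le.1 ((le_piCoreOf_of_nilpotent hAn (zpowers_le.2 hv)
        (IsPGroup.isPi (H10.isPGroup_zpowers_of_orderOf ov))).trans h3)) hv'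
    · rwa [inf_relIndex_left] at h3
  · exact commutator_le.2 fun a ha b hb => hφ ⁅(⟨a, ha⟩ : S), ⟨b, hb⟩⁆ (by
      rw [map_commutatorElement, commutatorElement_eq_one_iff_mul_comm]
      exact Subtype.ext (mem_center_iff.1 (φ _).2 _))
  · rw [map_pow]
    refine Subtype.ext ?_
    have e := (Commute.symm (mem_center_iff.1 (h2 b hb) u)).mul_pow s
    rw [inv_mul_cancel_right, conj_pow, mem_center_iff.1 h1 b, mul_inv_cancel_right] at e
    exact right_eq_mul.1 e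
  · rw [h.eq_of_le hu.2 hu' (hVA hw.1).1 hw' (hA w (hVA hw.1))]
    exact mem_cent1_comm.1 hw.2

end Two

end H21.TC
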