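/-
Sylow subgroups of maximal class and `p`-elements with small centralizers.
-/
import Cfsg.Agent.H21.NS2
import Cfsg.Agent.H21.TC1
import Cfsg.Agent.H13.MaxCl
import Cfsg.Agent.H1.CycSyl

set_option autoImplicit false
set_option linter.unusedSectionVars false
open Cfsg H15 Subgroup
open scoped Classical commutatorElement

namespace H21.Mx

variable {G : Type*} [Group G] [Finite G] {p : ℕ} [hp : Fact p.Prime]
  {E F K N P Q T X Y Z : Subgroup G} {x u : G}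

theorem comm_le_of_step (hT : IsPGroup p T) (h1 : X ≤ Y) (h2 : Y ≤ T) (hX : T ≤ 𝒩(X))
    (hY : T ≤ 𝒩(Y)) (h : X.relIndex Y ∣ p) : ⁅Y, T⁆ ≤ X := by
  have := hT.isNilpotent
  by_contra hn
  have e := NS.eq_of_dvd (L := ⁅Y, T⁆ ⊔ X) le_sup_right (sup_le (comm_le_left hY) h1) h
    fun e => hn (le_sup_left.trans e)
  exact hn ((comm_le_left hY).trans (H3.le_of_le_commutator_sup h2 (h1.trans h2) hX e.ge))

theorem rel_dvd_of_le_sq (hE : IsPGroup p E) (h1 : X ≤ F) (hF : F ≤ E) (hi : F.relIndex E = p)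
    (h : X.relIndex E ≤ p ^ 2) : X.relIndex F ∣ p := by
  have e := relIndex_mul_relIndex X F E h1 hF
  obtain ⟨n, hn⟩ := IsPGroup.iff_card.1 (hE.to_le hF)
  obtain ⟨i, -, ei⟩ := (Nat.dvd_prime_pow hp.out).1
    (Dvd.intro_left _ ((H1.card_mul_relIndex h1).trans hn))
  rw [← e, hi, ei, ← pow_succ, Nat.pow_le_pow_iff_right hp.out.one_lt] at h
  rw [ei]
  simpa using pow_dvd_pow p (show i ≤ 1 by omega)

theorem conj_of_flag {T₁ T₂ : Subgroup G} (hE : IsPGroup p E) (h2 : (⁅E, E⁆).relIndex E ≤ p ^ 2)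
    (hF : F ≤ E) (hi : F.relIndex E = p) (hN : 𝒩(E) ≤ 𝒩(F)) (h₁ : H10.IsSylowIn p T₁ 𝒩(E))
    (h₂ : H10.IsSylowIn p T₂ 𝒩(E)) : ∃ c ∈ 𝒞(E), cj(c, T₁) = T₂ := by
  have hc : ⁅E, E⁆ ≤ F := NS.comm_le_of_dvd hE hF ((le_norm_self E).trans hN)
    ((relIndex_dvd_of_le_left E le_sup_left).trans hi.dvd)
  have hN' : 𝒩(E) ≤ 𝒩(⁅E, E⁆) := le_norm_comm le_rfl le_rfl
  have h3 : ∀ T, H10.IsSylowIn p T 𝒩(E) → ⁅T, E⁆ ≤ F ∧ ⁅T, F⁆ ≤ ⁅E, E⁆ := fun T hT => by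
    have hET := hT.le_of_NN hE (le_norm_self E) hT.le
    rw [commutator_comm T E, commutator_comm T F]
    exact ⟨comm_le_of_step hT.isPGroup hF hET (hT.le.trans hN) hT.le hi.dvd,
      comm_le_of_step hT.isPGroup hc (hF.trans hET) (hT.le.trans hN') (hT.le.trans hN)
        (rel_dvd_of_le_sq hE hc hF hi h2)⟩
  have hL : T₁ ⊔ T₂ ≤ 𝒩(E) := sup_le h₁.le h₂.le
  have h4 := comm_sup_left_le (h3 _ h₁).1 (h3 _ h₂).1 (h₁.le.trans hN) (h₂.le.trans hN)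
  have h5 := comm_sup_left_le (h3 _ h₁).2 (h3 _ h₂).2 (h₁.le.trans hN') (h₂.le.trans hN')
  have h6 : H12.res p (T₁ ⊔ T₂) ≤ 𝒞(E) := H12.res_le_iff.2 fun g hg hcop => by
    have hA := zpowers_le.2 hg
    obtain ⟨n, hn⟩ := IsPGroup.iff_card.1 hE
    have hco : (Nat.card (zpowers g)).Coprime (Nat.card E) := by
      rw [Nat.card_zpowers, hn]; exact hcop.pow_right n
    refine zpowers_le.1 (H1.le_centralizer_of_commutator_le_frattini (hA.trans hL)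
      (hco.coprime_dvd_right (card_subgroup_dvd_card _)) (le_trans ?_ (NS.comm_le_frat hE)))
    rw [← H1.commutator_commutator_eq (hA.trans hL) hco (Or.inl (solvable_of_comm inferInstance)),
      commutator_comm]
    exact (commutator_mono hA (by rw [commutator_comm]; exact (commutator_mono hA le_rfl).trans h4)).trans h5
  have s₁ := h₁.of_le le_sup_left hL
  obtain ⟨l, hl, e⟩ := s₁.exists_cj (h₂.of_le le_sup_right hL)
  obtain ⟨c, hc, t, ht, rfl⟩ := H12.SylIn.exists_mul_res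
    (⟨s₁.le, s₁.isPGroup, s₁.not_dvd_relIndex⟩ : H12.SylIn p T₁ (T₁ ⊔ T₂)) hl
  refine ⟨c, h6 hc, ?_⟩
  change cj(c * t, T₁) = T₂ at e
  rwa [cj_mul, cj_of_mem ht] at e

/-- invariant maximal subgroups of the Sylow intersections through `x` -/
def Flag (p : ℕ) (x : G) : Prop := ∀ Q₁ Q₂ : Subgroup G, H10.IsSylowIn p Q₁ ⊤ → H10.IsSylowIn p Q₂ ⊤ →
  x ∈ Q₁ ⊓ Q₂ → Nat.card ↥(Q₁ ⊓ Q₂ ⊓ 𝒞₁(x)) ≤ p ^ 2 →
    ∃ F ≤ Q₁ ⊓ Q₂, F.relIndex (Q₁ ⊓ Q₂) = p ∧ 𝒩(Q₁ ⊓ Q₂) ≤ 𝒩(F)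

theorem tame (H : Flag p x) (E : Subgroup G) : ∀ Q₁ Q₂ : Subgroup G, H10.IsSylowIn p Q₁ ⊤ →
    H10.IsSylowIn p Q₂ ⊤ → E = Q₁ ⊓ Q₂ → x ∈ E → Nat.card ↥(Q₁ ⊓ 𝒞₁(x)) ≤ p ^ 2 →
      Nat.card ↥(Q₂ ⊓ 𝒞₁(x)) ≤ p ^ 2 := by
  induction E using WellFoundedGT.induction with
  | ind E ih =>
  intro Q₁ Q₂ h₁ h₂ e hx h
  by_cases hq : Q₁ = Q₂
  · exact hq ▸ h
  have hE : IsPGroup p E := e ▸ h₁.isPGroup.to_inf_left
  have h3 : Nat.card ↥(E ⊓ 𝒞₁(x)) ≤ p ^ 2 :=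
    (card_le_of_le (inf_le_inf_right _ (e ▸ inf_le_left))).trans h
  obtain ⟨F, f1, f2, f3⟩ := H Q₁ Q₂ h₁ h₂ (e ▸ hx) (e ▸ h3)
  rw [← e] at f1 f2 f3
  have h4 : ∀ Q, H10.IsSylowIn p Q ⊤ → E < Q → ∃ T R, H10.IsSylowIn p T 𝒩(E) ∧
      H10.IsSylowIn p R ⊤ ∧ T ≤ R ∧ E < T ⊓ Q := fun Q hQ hlt => by
    obtain ⟨T, hT, l1⟩ := H10.exists_isSylowIn_ge (hQ.isPGroup.to_inf_left (K := 𝒩(E))) inf_le_right
    obtain ⟨R, hR, l2⟩ := H10.exists_isSylowIn_ge hT.isPGroup le_top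
    exact ⟨T, R, hT, hR, l2,
      (lt_inf_norm hQ.isPGroup.isNilpotent hlt).trans_le (le_inf l1 inf_le_left)⟩
  obtain ⟨T₁, R₁, a1, a2, a3, a4⟩ := h4 Q₁ h₁ ((e ▸ inf_le_left : E ≤ Q₁).lt_of_ne fun e' =>
    hq (h₁.eq_of_le h₂.isPGroup (e'.ge.trans (e ▸ inf_le_right)) le_top).symm)
  obtain ⟨T₂, R₂, b1, b2, b3, b4⟩ := h4 Q₂ h₂ ((e ▸ inf_le_right : E ≤ Q₂).lt_of_ne fun e' =>
    hq (h₂.eq_of_le h₁.isPGroup (e'.ge.trans (e ▸ inf_le_left)) le_top))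
  obtain ⟨c, hc, ec⟩ := conj_of_flag hE ((NS.relIndex_le_card_cent hx).trans h3) f1 f2 f3 a1 b1
  have l1 : E < Q₁ ⊓ R₁ := a4.trans_le (le_inf inf_le_right (inf_le_left.trans a3))
  have k1 := ih _ l1 Q₁ R₁ h₁ a2 rfl (l1.le hx) h
  have k2 : Nat.card ↥(cj(c, R₁) ⊓ 𝒞₁(x)) ≤ p ^ 2 := by
    rwa [← cj_of_mem (cent_le_cent1 hx hc), ← cj_inf, card_cj]
  have l2 : E < cj(c, R₁) ⊓ R₂ :=
    b4.trans_le (inf_le_left.trans (le_inf (ec ▸ cj_mono a3) b3))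
  have k3 := ih _ l2 _ R₂ (a2.cj_top c) b2 rfl (l2.le hx) k2
  have l3 : E < R₂ ⊓ Q₂ := b4.trans_le (inf_le_inf_right _ b3)
  exact ih _ l3 R₂ Q₂ b2 h₂ rfl (l3.le hx) k3

theorem Flag.fact (H : Flag p x) (hP : H10.IsSylowIn p P ⊤) (hx : x ∈ P)
    (h : Nat.card ↥(P ⊓ 𝒞₁(x)) = p ^ 2) : (Nat.card 𝒞₁(x)).factorization p = 2 := by
  obtain ⟨R, hR, hle⟩ := H10.exists_isSylowIn_ge (hP.isPGroup.to_inf_left (K := 𝒞₁(x))) inf_le_right
  obtain ⟨Q, hQ, hle'⟩ := H10.exists_isSylowIn_ge hR.isPGroup le_top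
  have h1 := tame H _ P Q hP hQ rfl ⟨hx, hle' (hle ⟨hx, mem_cent1_self x⟩)⟩ h.le
  have h2 := hR.card_eq_pow
  rw [le_antisymm ((card_le_of_le (le_inf hle' hR.le)).trans h1) (h ▸ card_le_of_le hle)] at h2
  exact (Nat.pow_right_injective hp.out.two_le h2).symm

theorem flag_of_index [N.Normal] (hP : H10.IsSylowIn p P ⊤) (hi : N.relIndex P = p) (hx : x ∉ N) :
    Flag p x := fun Q₁ Q₂ h₁ _ hm _ => by
  refine ⟨Q₁ ⊓ Q₂ ⊓ N, inf_le_left, ?_, le_norm_inf le_rfl le_normalizer_of_normal⟩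
  obtain ⟨g, -, e⟩ := hP.exists_cj h₁
  have h1 : N.relIndex Q₁ = p := by
    rw [← e, ← hi, ← relIndex_cj g N P, cj_of_mem_norm (le_normalizer_of_normal (mem_top g))]
    rfl
  rw [inf_relIndex_left]
  refine ((Nat.dvd_prime hp.out).1 ?_).resolve_left fun e => hx (relIndex_eq_one.1 e hm)
  rw [← h1, ← H1.card_map_mk'_eq_relIndex, ← H1.card_map_mk'_eq_relIndex]
  exact card_dvd_of_le (map_mono inf_le_left)

theorem relIndex_cent_dvd (hZ : Z ≤ 𝒞(E)) (hu : u ∈ E) (h : ∀ g ∈ E, g * u * g⁻¹ * u⁻¹ ∈ Z) :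
    𝒞₁(u).relIndex E ∣ Nat.card Z := by
  let φ : E →* Z := MonoidHom.mk' (fun g => ⟨_, h g g.2⟩) fun a b => Subtype.ext (by
    have e := mem_cent.1 (hZ (h b b.2)) _ (mul_mem (mul_mem hu (inv_mem a.2)) (inv_mem hu))
    simp only [coe_mul]
    calc _ = a.1 * (b.1 * u * b.1⁻¹ * u⁻¹ * (u * a.1⁻¹ * u⁻¹)) := by group
      _ = _ := by rw [← e]; group)
  have e : φ.ker = 𝒞₁(u).subgroupOf E := by
    ext g
    rw [MonoidHom.mem_ker, mem_subgroupOf, mem_cent1, Subtype.ext_iff]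
    change g.1 * u * g.1⁻¹ * u⁻¹ = 1 ↔ _
    rw [mul_inv_eq_one, mul_inv_eq_iff_eq_mul]
  rw [relIndex, ← e, index_ker]
  exact card_subgroup_dvd_card _

theorem card_dvd_of_lt (hY : IsPGroup p Y) (h : X < Y) (hc : Nat.card Y ≤ p ^ 2) : Nat.card X ∣ p := by
  obtain ⟨i, hi⟩ := IsPGroup.iff_card.1 (hY.to_le h.le)
  have h1 := (H1.card_lt_of_lt h).trans_le hc
  rw [hi, Nat.pow_lt_pow_iff_right hp.out.one_lt] at h1
  rw [hi]
  simpa using pow_dvd_pow p (show i ≤ 1 by omega)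

theorem flag_of_cent [hK : K.Normal] (hp' : IsPGroup p K) (hC : 𝒞(K) ≤ K) (hx : x ∉ K) :
    Flag p x := fun Q₁ Q₂ h₁ h₂ hm hc => by
  have hKE : K ≤ Q₁ ⊓ Q₂ := le_inf (h₁.le_of_NN hp' le_top le_normalizer_of_normal)
    (h₂.le_of_NN hp' le_top le_normalizer_of_normal)
  have hE : IsPGroup p ↥(Q₁ ⊓ Q₂) := h₁.isPGroup.to_inf_left
  generalize Q₁ ⊓ Q₂ = E at *
  have h0 : K ≠ ⊥ := fun e => hx (hC (by rw [e, cent_bot]; exact mem_top x))
  have h1 : Nat.card ↥(K ⊓ 𝒞₁(x)) ∣ p := card_dvd_of_lt hE.to_inf_left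
    ((inf_le_inf_right _ hKE).lt_of_ne fun e => hx (e.ge ⟨hm, mem_cent1_self x⟩).1) hc
  have h3 : K ⊓ 𝒞(E) ≤ K ⊓ 𝒞₁(x) := inf_le_inf_left _ (cent_le_cent1 hm)
  have h4 : Nat.card ↥(K ⊓ 𝒞(E)) = p := ((Nat.dvd_prime hp.out).1 ((card_dvd_of_le h3).trans
    h1)).resolve_left fun e => H1.inf_centralizer_ne_bot_of_isPGroup hp' hE le_normalizer_of_normal
      h0 (card_eq_one.1 e)
  have h5 : K ⊓ 𝒞(E) = K ⊓ 𝒞₁(x) := eq_of_le_of_card_ge h3 (h4 ▸ Nat.le_of_dvd hp.out.pos h1)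
  set Z := K ⊓ 𝒞(E) with hZ
  have hZc : Z ≤ 𝒞(E) := inf_le_right
  have hn : E ≤ 𝒩(K) := le_normalizer_of_normal
  have hNZ : 𝒩(E) ≤ 𝒩(Z) := le_norm_inf le_normalizer_of_normal (norm_le_norm_cent E)
  have := normal_subgroupOf (hKE.trans ((le_norm_self E).trans hNZ))
  obtain ⟨⟨u, huK⟩, u1, -, u2⟩ := H1.exists_fixed_aut_mod (K.normalizerMonoidHom.comp (inclusion hn))
    hE hp' (Z.subgroupOf K) (fun e => hx (hC (cent_comm ((subgroupOf_eq_top.1 e).trans hZc) hm)))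
    fun g w hw => H1.conj_mem_of_mem_normalizer (hNZ (le_norm_self E g.2)) hw
  have u3 : ∀ g ∈ E, g * u * g⁻¹ * u⁻¹ ∈ Z := fun g hg => u2 ⟨g, hg⟩
  have u4 : x ∉ 𝒞₁(u) := fun e => u1 (h5.ge ⟨huK, mem_cent1_comm.1 e⟩)
  have h6 : ∀ v ∈ K, x * v * x⁻¹ * v⁻¹ ∈ Z → 𝒞₁(u) ⊓ E ≤ 𝒞₁(v) := fun v hv hv' g hg => by
    have := Fact.mk (h4 ▸ hp.out : (Nat.card Z).Prime)
    obtain ⟨k, hk⟩ := mem_zpowers_of_prime_card (p := Nat.card Z) rfl (g := ⟨_, u3 x hm⟩)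
      (fun e => u4 (mem_cent1.2 (by
        have e' : x * u * x⁻¹ * u⁻¹ = 1 := congrArg Subtype.val e
        rwa [mul_inv_eq_one, mul_inv_eq_iff_eq_mul] at e'))) (g' := ⟨_, hv'⟩)
    have e1 : (x * u * x⁻¹ * u⁻¹) ^ k = x * v * x⁻¹ * v⁻¹ := congrArg Subtype.val hk
    have c1 : Commute (x * u * x⁻¹ * u⁻¹) u := (mem_cent.1 (hZc (u3 x hm)) u (hKE huK)).symm
    have e2 := c1.mul_zpow k
    rw [inv_mul_cancel_right, conj_zpow, e1] at e2
    have h7 : v⁻¹ * u ^ k ∈ Z := h5.ge ⟨K.mul_mem (inv_mem hv) (zpow_mem huK k), mem_cent1.2 (by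
      calc _ = x * v⁻¹ * x⁻¹ * (x * v * x⁻¹ * v⁻¹ * u ^ k) * x := by group
        _ = _ := by rw [← e2]; group)⟩
    have h8 := mul_mem (zpow_mem (mem_cent1_comm.1 hg.1) k) (inv_mem (cent_le_cent1 hg.2 (hZc h7)))
    exact mem_cent1_comm.1 (by simpa using h8)
  refine ⟨𝒞₁(u) ⊓ E, inf_le_right, ?_, fun g hg => mem_norm_of_cj_le ?_⟩
  · rw [inf_relIndex_right]
    exact ((Nat.dvd_prime hp.out).1 (h4 ▸ relIndex_cent_dvd hZc (hKE huK) u3)).resolve_left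
      fun e => u4 (relIndex_eq_one.1 e hm)
  · rw [cj_le_iff, cj_inf, cj_of_mem_norm (inv_mem hg), cj_cent1]
    refine le_inf (h6 _ (hK.conj_mem u huK _) ?_) inf_le_right
    have h7 := H1.conj_mem_of_mem_normalizer' (hNZ hg) (u3 _ (H1.conj_mem_of_mem_normalizer hg hm))
    simpa [mul_assoc] using h7

theorem exists_unif {H : Type*} [Group H] [Finite H] (h : H13.MC p H) {M : Subgroup H} (hM : M ≠ ⊤) :
    ∃ s, s ∉ M ∧ Nat.card 𝒞₁(s) ≤ p ^ 2 := by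
  have := h.pg.isNilpotent
  have h2 := hp.out.two_le
  obtain ⟨s, hs, hu⟩ : ∃ s, s ∉ M ∧ H13.Unif s := by
    by_cases hc : H13.lc H 2 = ⊥
    · obtain ⟨s, hs⟩ := H13.exists_avoid h.pg (Finset.range 2) (by simpa using h2)
        fun j => if j = 0 then M else H13.Cs H 0
      refine ⟨s, hs 0 (by simp) hM, fun i hi => ?_⟩
      rcases Nat.eq_zero_or_pos i with rfl | h1
      · exact hs 1 (by simp) (H13.cs_ne_top hi)
      · exact absurd (eq_bot_iff.2 (hc ▸ H13.lc_anti (by omega))) hi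
    obtain ⟨s, hs⟩ := H13.exists_avoid h.pg (Finset.range p) (by simp)
      fun j => if j = 0 then M else H13.Cs H j
    refine ⟨s, hs 0 (by simp; omega) hM, fun i hi => ?_⟩
    rcases Nat.eq_zero_or_pos i with rfl | h1
    · exact fun e => hs 1 (by simp; omega) (H13.cs_ne_top hc) (H13.cs_zero_le e)
    obtain ⟨j, j1, j2, j3, j4⟩ := h.exists_cs_le i h1 hi
    have h3 := hs j (by simp; omega)
    rw [if_neg (by omega)] at h3
    exact fun e => h3 (H13.cs_ne_top fun e' => hi (eq_bot_iff.2 (e' ▸ H13.lc_anti (by omega)))) (j4 e)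
  refine ⟨s, hs, ?_⟩
  choose g _ hg using fun z : H13.lc H 1 => h.exists_conj 0 hu z.2
  have h3 := Nat.card_le_card_of_injective (fun z => (g z : H ⧸ 𝒞₁(s))) fun z w e => by
    have e1 := mem_cent1.1 (QuotientGroup.eq.1 e)
    refine Subtype.ext (mul_left_cancel (a := s) ?_)
    rw [← hg, ← hg]
    calc _ = g z * (s * ((g z)⁻¹ * g w)) * (g w)⁻¹ := by group
      _ = _ := by rw [← e1]; group
  have h4 := h.top
  rw [← 𝒞₁(s).card_mul_index] at h4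
  exact Nat.le_of_mul_le_mul_right (h4.trans (Nat.mul_le_mul_left _ h3))
    (Nat.pos_of_ne_zero index_ne_zero_of_finite)

theorem main (P : Sylow p G) {n : ℕ} (hP : Nat.card P = p ^ n) (hn : 2 ≤ n)
    (hmax : Group.nilpotencyClass ↥(P : Subgroup G) = n - 1) (hcore : pPrimeCore p G = ⊥)
    (hres : ∀ N : Subgroup G, N.Normal → (N.index).Coprime p → N = ⊤) :
    (∃ x ∈ (P : Subgroup G), (Nat.card 𝒞₁(x)).factorization p = 2) ∨
      (IsQuasisimple G ∧ Nat.card (center G) ≤ p) := by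
  rcases hn.eq_or_lt with rfl | hn
  · refine Or.inl ⟨1, one_mem _, ?_⟩
    rw [P.card_eq_multiplicity] at hP
    have e : 𝒞₁((1 : G)) = ⊤ := eq_top_iff.2 fun g _ => mem_cent1.2 (by simp)
    rw [e, card_top]
    exact Nat.pow_right_injective hp.out.two_le hP
  have := P.isPGroup'.isNilpotent
  have hS := H10.isSylowIn_top P
  obtain ⟨h, hc⟩ := H13.MC.of_class hP hn.le fun e => by
    have := Subgroup.lowerCentralSeries_eq_bot_iff_nilpotencyClass_le.1 e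
    omega
  have h2 : (⁅(P : Subgroup G), (P : Subgroup G)⁆).relIndex (P : Subgroup G) = p ^ 2 := by
    have e := (commutator (P : Subgroup G)).card_mul_index
    rw [show Nat.card (commutator (P : Subgroup G)) = _ from hc 1 le_rfl, hP,
      show p ^ n = p ^ (n - 1 - 1) * p ^ 2 by rw [← pow_add]; congr 1; omega] at e
    rw [← H12.map_commutator_subtype, relIndex, subgroupOf_map]
    exact Nat.eq_of_mul_eq_mul_left (pow_pos hp.out.pos _) e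
  have hna : ¬ IsMulCommutative (P : Subgroup G) := fun e => by
    rw [le_cent_iff_comm.1 (le_cent_self e), relIndex_bot_left, hP] at h2
    exact hn.ne' (Nat.pow_right_injective hp.out.two_le h2)
  have hx : ∀ M : Subgroup G, ¬ (P : Subgroup G) ≤ M → ∃ x ∈ (P : Subgroup G), x ∉ M ∧
      Nat.card ↥((P : Subgroup G) ⊓ 𝒞₁(x)) = p ^ 2 := fun M hM => by
    obtain ⟨s, h3, h4⟩ := exists_unif h (M := M.subgroupOf P) (mt subgroupOf_eq_top.1 hM)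
    refine ⟨s, s.2, h3, le_antisymm ?_ (h2 ▸ NS.relIndex_le_card_cent s.2)⟩
    have e : 𝒞₁(s) = 𝒞₁((s : G)).subgroupOf P := by
      ext a
      rw [mem_subgroupOf, mem_cent1, mem_cent1, Subtype.ext_iff]
      rfl
    rwa [e, H1.card_subgroupOf, inf_comm] at h4
  refine or_iff_not_imp_left.2 fun hl => ?_
  have htop : ∀ N : Subgroup G, N.Normal → (P : Subgroup G) ≤ N → N = ⊤ := fun N hN e =>
    hres N hN ((H3.sylow_index_coprime P).coprime_dvd_left (index_dvd_of_le e))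
  have h3 : ∀ N : Subgroup G, N.Normal → N ≠ ⊤ → N ≤ pCore p G := fun N hN hne => by
    have h4 := mt (htop N hN) hne
    refine H1.le_pCore (H1.isPGroup_of_hasNormalPComplement hcore N
      (NS.npc_of_inf_le P le_normalizer_of_normal (by_contra fun e => hl ?_)))
    have h5 := (NS.key P.isPGroup' h2 le_normalizer_of_normal e).2
    rw [inf_relIndex_left] at h5
    obtain ⟨x, x1, x2, x3⟩ := hx N h4
    exact ⟨x, x1, (flag_of_index hS (((Nat.dvd_prime hp.out).1 h5).resolve_left fun e =>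
      h4 (relIndex_eq_one.1 e)) x2).fact hS x1 x3⟩
  have hK := H1.isPGroup_pCore (G := G) p
  have h4 : ¬ (P : Subgroup G) ≤ pCore p G := fun e => by
    have h5 := hS.le_of_NN hK le_top le_normalizer_of_normal
    rw [htop _ inferInstance e] at h5
    obtain ⟨x, x1, -, x3⟩ := hx ⊥ fun e => hna (comm_of_le inferInstance e)
    rw [top_le_iff.1 h5, top_inf_eq] at x3
    exact hl ⟨x, x1, by rw [x3, hp.out.factorization_pow]; simp⟩
  obtain ⟨x, x1, x2, x3⟩ := hx _ h4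
  have h5 : 𝒞(pCore p G) = ⊤ := by_contra fun e =>
    hl ⟨x, x1, (flag_of_cent hK (h3 _ inferInstance e) x2).fact hS x1 x3⟩
  have h6 : center G ≠ ⊤ := fun e => hna (comm_of_le inferInstance (e ▸ le_top : _ ≤ center G))
  have h7 : center G = pCore p G :=
    le_antisymm (h3 _ inferInstance h6) (by rw [← cent_top]; exact cent_comm h5.ge)
  have h8 : center G ≤ P := h7 ▸ hS.le_of_NN hK le_top le_normalizer_of_normal
  refine ⟨⟨⟨by_contra fun e => h4 (h3 _ (Normal.of_commutator_le _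
    ((h3 _ inferInstance e).trans (h7 ▸ h8))) fun e => h4 ?_)⟩, ?_⟩, Nat.le_of_dvd hp.out.pos
      (card_dvd_of_lt P.isPGroup'.to_inf_left ((le_inf h8 (H3.Pt.center_le_C₁ x)).lt_of_ne
        fun e => x2 (h7 ▸ e.ge ⟨x1, mem_cent1_self x⟩)) x3.le)⟩
  · exact H1.le_pCore (hN := e ▸ inferInstance) P.isPGroup'
  · have := QuotientGroup.nontrivial_iff.2 h6
    refine ⟨fun N hN => ?_⟩
    by_cases e : N.comap (QuotientGroup.mk' (center G)) = ⊤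
    · exact Or.inr (comap_injective (QuotientGroup.mk'_surjective _) (e.trans (comap_top _).symm))
    · refine Or.inl (comap_injective (QuotientGroup.mk'_surjective _) ?_)
      rw [MonoidHom.comap_bot, QuotientGroup.ker_mk']
      exact le_antisymm ((h3 _ (hN.comap _) e).trans h7.ge) (QuotientGroup.le_comap_mk' _ _)

end H21.Mx
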