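import Cfsg.Agent.H21.Nv0

set_option autoImplicit false

open Subgroup Equiv H7J

namespace H21.Nv

variable {G : Type*} [Group G] {ψ : P →* G}

theorem hk (h : Hy ψ) : ψ k0 = 1 := (h.ker k0).2 (Or.inr rfl)

theorem eqm (h : Hy ψ) {p q : P} (e : p = q ∨ p = q * k0) : ψ p = ψ q := by
  rcases e with e | e
  · rw [e]
  · rw [e, map_mul, hk h, mul_one]

theorem zc (h : Hy ψ) (p : P) : ψ p * ψ z0 = ψ z0 * ψ p := (h.cz _).2 ⟨p, rfl⟩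

theorem pc (h : Hy ψ) (i j : Fin 5) : ψ (pt i) * ψ (pt j) = ψ (pt j) * ψ (pt i) := by
  rw [← map_mul, ← map_mul]; exact eqm h (dH i j)

theorem p2 (h : Hy ψ) (i : Fin 5) : ψ (pt i) * ψ (pt i) = 1 := by
  rw [← map_mul]; exact (h.ker _).2 (dI i).1

theorem p1 (h : Hy ψ) (i : Fin 5) : ψ (pt i) ≠ 1 := fun e => (dI i).2 ((h.ker _).1 e)

theorem pinj (h : Hy ψ) {i j : Fin 5} (e : ψ (pt i) = ψ (pt j)) : i = j := by
  apply dG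
  apply (h.ker _).1
  rw [map_mul, map_inv, e, inv_mul_cancel]

theorem fix0 (h : Hy ψ) (σ : Perm (Fin 5)) (s : Perm.sign σ = 1) (f : σ 0 = 0) :
    ∃ n : G, n * ψ z0 * n⁻¹ = ψ z0 ∧ ∀ i, n * ψ (pt i) * n⁻¹ = ψ (pt (σ i)) := by
  obtain ⟨x, y, e⟩ := dD σ s f
  refine ⟨ψ ⟨x, y, false⟩, ?_, fun i => ?_⟩
  · rw [zc h, mul_inv_cancel_right]
  · rw [← map_inv, ← map_mul, ← map_mul]; exact eqm h (e i)

theorem cj (h : Hy ψ) (i : Fin 5) (hi : i ≠ 0) :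
    IsConj (ψ (pt 1)) (ψ (pt i)) ∧ IsConj (ψ (pt 1 * z0)) (ψ (pt i * z0)) := by
  obtain ⟨α, s, f, e⟩ := dE i hi 1 (by decide)
  obtain ⟨n, hz, hn⟩ := fix0 h α s f
  refine ⟨isConj_iff.2 ⟨n, by rw [hn, e]⟩, isConj_iff.2 ⟨n, ?_⟩⟩
  rw [map_mul, map_mul, ← e, ← hn 1]
  conv_rhs => rw [← hz]
  group

theorem zp (h : Hy ψ) (c : IsConj (ψ z0) (ψ (pt 1))) (i : Fin 5) : IsConj (ψ z0) (ψ (pt i)) := by
  by_cases hi : i = 0
  · subst hi; exact IsConj.refl _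
  · exact c.trans (cj h i hi).1

theorem ca {p : P} {x y : S} (e : (⟨x, y, false⟩ : P) * p * (⟨x, y, false⟩ : P)⁻¹ = a0) :
    IsConj (ψ p) (ψ a0) :=
  isConj_iff.2 ⟨ψ ⟨x, y, false⟩, by rw [← map_inv, ← map_mul, ← map_mul, e]⟩

theorem exm (h : Hy ψ) (na : ¬ IsConj (ψ z0) (ψ a0)) (c : IsConj (ψ z0) (ψ (pt 1))) :
    ∃ m : G, m * ψ (pt 1) * m⁻¹ = ψ z0 ∧ ∀ i, (∃ j, m * ψ (pt i) * m⁻¹ = ψ (pt j)) ∨
      (∃ j, j ≠ 0 ∧ m * ψ (pt i) * m⁻¹ = ψ (pt j * z0)) := by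
  obtain ⟨g, hg⟩ := isConj_iff.1 c.symm
  have hc : ∀ (m : G) (i j : Fin 5), m * ψ (pt i) * m⁻¹ * (m * ψ (pt j) * m⁻¹) =
      m * ψ (pt j) * m⁻¹ * (m * ψ (pt i) * m⁻¹) := by
    intro m i j
    calc _ = m * (ψ (pt i) * ψ (pt j)) * m⁻¹ := by group
      _ = m * (ψ (pt j) * ψ (pt i)) * m⁻¹ := by rw [pc h]
      _ = _ := by group
  have h2 : ∀ (m : G) (i : Fin 5), m * ψ (pt i) * m⁻¹ * (m * ψ (pt i) * m⁻¹) = 1 := by
    intro m i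
    calc _ = m * (ψ (pt i) * ψ (pt i)) * m⁻¹ := by group
      _ = 1 := by rw [p2 h]; group
  have h1 : ∀ (m : G) (i : Fin 5), m * ψ (pt i) * m⁻¹ ≠ 1 := by
    intro m i e
    apply p1 h i
    calc ψ (pt i) = m⁻¹ * (m * ψ (pt i) * m⁻¹) * m := by group
      _ = 1 := by rw [e]; group
  have hz : ∀ (m : G) (i : Fin 5), IsConj (ψ z0) (m * ψ (pt i) * m⁻¹) := fun m i =>
    (zp h c i).trans (isConj_iff.2 ⟨m, rfl⟩)
  obtain ⟨x, hx⟩ : g * ψ (pt 0) * g⁻¹ ∈ ψ.range := by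
    apply (h.cz _).1
    rw [← hg]; exact hc g 0 1
  have x2 : x * x = 1 ∨ x * x = k0 := (h.ker _).1 (by rw [map_mul, hx]; exact h2 g 0)
  have xs : x.s = true := by
    by_contra hs
    have hs' : x.s = false := by simpa using hs
    have nz : ψ x ≠ ψ z0 := by
      intro e
      rw [hx, ← hg] at e
      have e' : ψ (pt 0) = ψ (pt 1) := by simpa using e
      exact absurd (pinj h e') (by decide)
    rcases dC x hs' x2 with e | e | e | e | ⟨u, v, e⟩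
    · exact h1 g 0 (by rw [← hx, e, map_one])
    · exact h1 g 0 (by rw [← hx, e, hk h])
    · exact nz (by rw [e])
    · exact nz (eqm h (Or.inr e))
    · exact na ((hx ▸ hz g 0).trans (ca e))
  obtain ⟨r, hr⟩ : ∃ r : P, r * x * r⁻¹ = pt 1 ∨ r * x * r⁻¹ = pt 1 * z0 * k0 := ⟨_, dB x xs x2⟩
  obtain ⟨m, hm⟩ : ∃ m, m = ψ r * g := ⟨_, rfl⟩
  have m1 : m * ψ (pt 1) * m⁻¹ = ψ z0 := by
    calc _ = ψ r * (g * ψ (pt 1) * g⁻¹) * (ψ r)⁻¹ := by rw [hm]; group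
      _ = _ := by rw [hg, zc h, mul_inv_cancel_right]
  have m0 : m * ψ (pt 0) * m⁻¹ = ψ (r * x * r⁻¹) := by
    rw [map_mul, map_mul, map_inv, hx, hm]; group
  refine ⟨m, m1, fun i => ?_⟩
  have cz : m * ψ (pt i) * m⁻¹ * ψ z0 = ψ z0 * (m * ψ (pt i) * m⁻¹) := by
    rw [← m1]; exact hc m i 1
  obtain ⟨y, hy⟩ : m * ψ (pt i) * m⁻¹ ∈ ψ.range := (h.cz _).1 cz
  have y2 : y * y = 1 ∨ y * y = k0 := (h.ker _).1 (by rw [map_mul, hy]; exact h2 m i)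
  have c0 := hc m i 0
  rw [m0, ← hy] at c0
  have c1 : ψ y * ψ (pt 1) = ψ (pt 1) * ψ y := by
    rcases hr with e | e
    · rwa [e] at c0
    · rw [e, map_mul, hk h, mul_one, map_mul, mul_assoc, ← zc h y, ← mul_assoc, ← mul_assoc] at c0
      exact mul_right_cancel c0
  have c2 : y * pt 1 * y⁻¹ * (pt 1)⁻¹ = 1 ∨ y * pt 1 * y⁻¹ * (pt 1)⁻¹ = k0 := by
    apply (h.ker _).1
    rw [map_mul, map_mul, map_mul, map_inv, map_inv, c1]; group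
  rcases dA y y2 c2 with e | e | ⟨j, e⟩ | ⟨j, hj, e⟩ | ⟨u, v, e⟩
  · exact absurd (by rw [← hy, e, map_one]) (h1 m i)
  · exact absurd (by rw [← hy, e, hk h]) (h1 m i)
  · exact Or.inl ⟨j, by rw [← hy]; exact eqm h e⟩
  · exact Or.inr ⟨j, hj, by rw [← hy]; exact eqm h e⟩
  · exact absurd ((hy ▸ hz m i).trans (ca e)) na

theorem nb (h : Hy ψ) (na : ¬ IsConj (ψ z0) (ψ a0)) (c : IsConj (ψ z0) (ψ (pt 1))) :
    ¬ IsConj (ψ z0) (ψ (pt 1 * z0)) := by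
  intro b
  obtain ⟨m, m1, hm⟩ := exm h na c
  have ea : m * ψ a0 * m⁻¹ = ψ z0 * (m * ψ (pt 2) * m⁻¹) := by
    rw [← m1, a0, map_mul]; group
  have ac : IsConj (ψ a0) (ψ z0 * (m * ψ (pt 2) * m⁻¹)) := isConj_iff.2 ⟨m, ea⟩
  have zz : ψ z0 * ψ z0 = 1 := p2 h 0
  rcases hm 2 with ⟨j, e⟩ | ⟨j, hj, e⟩
  · rw [e] at ac
    by_cases hj : j = 0
    · subst hj
      have : ψ z0 * ψ (pt 0) = 1 := zz
      rw [this] at ac
      exact dJ ((h.ker _).1 (isConj_one_left.1 ac))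
    · rw [← zc h, ← map_mul] at ac
      exact na ((b.trans (cj h j hj).2).trans ac.symm)
  · rw [e, map_mul, zc h, ← mul_assoc, zz, one_mul] at ac
    exact na ((zp h c j).trans ac.symm)

theorem nv (h : Hy ψ) (na : ¬ IsConj (ψ z0) (ψ a0)) (c : IsConj (ψ z0) (ψ (pt 1))) : H2 ψ := by
  have hb := nb h na c
  refine ⟨h, na, hb, ?_⟩
  obtain ⟨m, m1, hm⟩ := exm h na c
  have hm' : ∀ i, ∃ j, m * ψ (pt i) * m⁻¹ = ψ (pt j) := by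
    intro i
    rcases hm i with e | ⟨j, hj, e⟩
    · exact e
    · exact absurd (((zp h c i).trans (isConj_iff.2 ⟨m, e⟩)).trans (cj h j hj).2.symm) hb
  choose f hf using hm'
  have finj : Function.Injective f := by
    intro i j e
    have : m * ψ (pt i) * m⁻¹ = m * ψ (pt j) * m⁻¹ := by rw [hf, hf, e]
    exact pinj h (by simpa using this)
  obtain ⟨τ, hτ⟩ : ∃ τ : Perm (Fin 5), ∀ i, τ i = f i :=
    ⟨Equiv.ofBijective f (Finite.injective_iff_bijective.1 finj), fun _ => rfl⟩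
  have t1 : τ 1 = 0 := by
    rw [hτ]; apply pinj h; rw [← hf, m1]; rfl
  have mulK : ∀ α β : Perm (Fin 5), (∃ n : G, ∀ i, n * ψ (pt i) * n⁻¹ = ψ (pt (α i))) →
      (∃ n : G, ∀ i, n * ψ (pt i) * n⁻¹ = ψ (pt (β i))) →
      ∃ n : G, ∀ i, n * ψ (pt i) * n⁻¹ = ψ (pt ((α * β) i)) := by
    rintro α β ⟨a, ha⟩ ⟨b, hb⟩
    refine ⟨a * b, fun i => ?_⟩
    rw [Perm.mul_apply, ← ha, ← hb]; group
  have f0 : ∀ σ : Perm (Fin 5), Perm.sign σ = 1 → σ 0 = 0 →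
      ∃ n : G, ∀ i, n * ψ (pt i) * n⁻¹ = ψ (pt (σ i)) := fun σ s f => by
    obtain ⟨n, -, hn⟩ := fix0 h σ s f
    exact ⟨n, hn⟩
  have kτ : ∃ n : G, ∀ i, n * ψ (pt i) * n⁻¹ = ψ (pt (τ i)) := ⟨m, fun i => by rw [hτ, hf]⟩
  have kτ' : ∃ n : G, ∀ i, n * ψ (pt i) * n⁻¹ = ψ (pt (τ⁻¹ i)) := by
    refine ⟨m⁻¹, fun i => ?_⟩
    have := hf (τ⁻¹ i)
    rw [← hτ] at this
    simp only [Perm.coe_inv, Equiv.apply_symm_apply] at this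
    rw [← this]; simp only [Perm.coe_inv]; group
  have f1 : ∀ σ : Perm (Fin 5), Perm.sign σ = 1 → σ 1 = 1 →
      ∃ n : G, ∀ i, n * ψ (pt i) * n⁻¹ = ψ (pt (σ i)) := fun σ s f => by
    have e : σ = τ⁻¹ * (τ * σ * τ⁻¹) * τ := by group
    rw [e]
    refine mulK _ _ (mulK _ _ kτ' (f0 _ ?_ ?_)) kτ
    · rw [map_mul, map_mul, s, map_inv, mul_one, mul_inv_cancel]
    · have : τ⁻¹ 0 = 1 := by rw [← t1]; simp
      rw [Perm.mul_apply, Perm.mul_apply, this, f, t1]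
  intro σ s
  by_cases s0 : σ 0 = 0
  · exact f0 σ s s0
  · obtain ⟨α, sα, α0, α2⟩ := dE (σ 0) s0 2 (by decide)
    obtain ⟨β, sβ, β1, β0⟩ := dF
    have e : σ = α * β * ((α * β)⁻¹ * σ) := by group
    rw [e]
    refine mulK _ _ (mulK _ _ (f0 α sα α0) (f1 β sβ β1)) (f0 _ ?_ ?_)
    · rw [map_mul, map_inv, map_mul, sα, sβ, s]; simp
    · rw [Perm.mul_apply, ← α2, ← β0, ← Perm.mul_apply α β]; simp

end H21.Nv
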