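import Cfsg.Agent.H7.Jh

set_option autoImplicit false

open H7J

namespace H21.Nv

theorem dA : ∀ p : P, (p * p = 1 ∨ p * p = k0) →
    (p * pt 1 * p⁻¹ * (pt 1)⁻¹ = 1 ∨ p * pt 1 * p⁻¹ * (pt 1)⁻¹ = k0) →
    p = 1 ∨ p = k0 ∨ (∃ i, p = pt i ∨ p = pt i * k0) ∨
      (∃ i, i ≠ 0 ∧ (p = pt i * z0 ∨ p = pt i * z0 * k0)) ∨
      (∃ x y : S, (⟨x, y, false⟩ : P) * p * (⟨x, y, false⟩ : P)⁻¹ = a0) := by
  decide +kernel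

theorem dB : ∀ p : P, p.s = true → (p * p = 1 ∨ p * p = k0) →
    ((⟨1, p.a, false⟩ : P) * p * (⟨1, p.a, false⟩ : P)⁻¹ = pt 1 ∨
      (⟨1, p.a, false⟩ : P) * p * (⟨1, p.a, false⟩ : P)⁻¹ = pt 1 * z0 * k0) := by
  decide +kernel

theorem dC : ∀ p : P, p.s = false → (p * p = 1 ∨ p * p = k0) →
    p = 1 ∨ p = k0 ∨ p = z0 ∨ p = z0 * k0 ∨
      (∃ x y : S, (⟨x, y, false⟩ : P) * p * (⟨x, y, false⟩ : P)⁻¹ = a0) := by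
  decide +kernel

theorem dD : ∀ σ : Equiv.Perm (Fin 5), Equiv.Perm.sign σ = 1 → σ 0 = 0 →
    ∃ x y : S, ∀ i, ((⟨x, y, false⟩ : P) * pt i * (⟨x, y, false⟩ : P)⁻¹ = pt (σ i) ∨
      (⟨x, y, false⟩ : P) * pt i * (⟨x, y, false⟩ : P)⁻¹ = pt (σ i) * k0) := by
  decide +kernel

theorem dE : ∀ j : Fin 5, j ≠ 0 → ∀ k : Fin 5, k ≠ 0 → ∃ α : Equiv.Perm (Fin 5),
    Equiv.Perm.sign α = 1 ∧ α 0 = 0 ∧ α k = j := by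
  decide +kernel

theorem dF : ∃ β : Equiv.Perm (Fin 5), Equiv.Perm.sign β = 1 ∧ β 1 = 1 ∧ β 0 = 2 := by
  decide +kernel

theorem dG : ∀ i j : Fin 5, ((pt i)⁻¹ * pt j = 1 ∨ (pt i)⁻¹ * pt j = k0) → i = j := by
  decide +kernel

theorem dH : ∀ i j : Fin 5, (pt i * pt j = pt j * pt i ∨ pt i * pt j = pt j * pt i * k0) := by
  decide +kernel

theorem dI : ∀ i : Fin 5, (pt i * pt i = 1 ∨ pt i * pt i = k0) ∧ ¬ (pt i = 1 ∨ pt i = k0) := by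
  decide +kernel

theorem dJ : ¬ (a0 = 1 ∨ a0 = k0) := by
  decide +kernel

end H21.Nv
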