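/-
Groups whose `p`-by-cyclic subgroups are cyclic or dihedral.
-/
import Cfsg.Agent.H21.TC1
import Cfsg.Agent.H6.Dihedral

set_option autoImplicit false
set_option linter.unusedSectionVars false
open Cfsg H15 Subgroup
open scoped Classical commutatorElement

namespace H21.Pbc

variable {G : Type*} [Group G] [Finite G] {p : ℕ} [hp : Fact p.Prime] {Q S H : Subgroup G}
  {x y : G}

/-- The restriction on `p`-by-cyclic subgroups. -/
def RPC (p : ℕ) (G : Type*) [Group G] : Prop :=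
  ∀ H : Subgroup G, (∀ S : Sylow p ↥H, (S : Subgroup ↥H).Normal) →
    (∀ (S : Sylow p ↥H) [(S : Subgroup ↥H).Normal], IsCyclic (↥H ⧸ (S : Subgroup ↥H))) →
    IsCyclic H ∨ (∃ n : ℕ, Nonempty (H ≃* DihedralGroup (p ^ n)))

theorem eq_one (h2 : p ≠ 2) (hQ : IsPGroup p Q) (hx : x ∈ Q) (h : x * x = 1) : x = 1 := by
  obtain ⟨k, o⟩ := H10.orderOf_eq_pow_of_mem hQ hx
  refine orderOf_eq_one_iff.1 (Nat.Coprime.eq_one_of_dvd (m := 2) ?_
    (orderOf_dvd_of_pow_eq_one (by rwa [sq])))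
  rw [o]
  exact ((Nat.coprime_primes hp.out Nat.prime_two).2 h2).pow_left k

theorem RPC.sup (h : RPC p G) (hQ : IsPGroup p Q) (hx : x ∈ 𝒩(Q)) : IsCyclic ↥(Q ⊔ zpowers x) ∨
    ∃ n : ℕ, Nonempty (↥(Q ⊔ zpowers x) ≃* DihedralGroup (p ^ n)) := by
  have hz := zpowers_le.2 hx
  have hN : Q ⊔ zpowers x ≤ 𝒩(Q) := sup_le (le_norm_self Q) hz
  have h1 : ⁅Q ⊔ zpowers x, Q ⊔ zpowers x⁆ ≤ Q :=
    comm_sup_left_le (comm_le_left hN) (by
      rw [commutator_comm]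
      exact comm_sup_left_le (comm_le_left hz) (by rw [NS.comm_zpowers_self]; exact bot_le)
        (le_norm_self Q) hz) (le_norm_self Q) hz
  have h2 : ∀ S : Sylow p ↥(Q ⊔ zpowers x), Q.subgroupOf (Q ⊔ zpowers x) ≤ S := fun S =>
    (H10.isSylowIn_top S).le_of_NN hQ.comap_subtype le_top
      (have := normal_subgroupOf hN; le_normalizer_of_normal)
  refine h _ (fun S => Normal.of_commutator_le _ fun g hg => h2 S (h1 ?_)) fun S _ => ?_
  · rw [← H12.map_commutator_subtype]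
    exact mem_map_of_mem _ hg
  · refine ⟨((⟨x, mem_sup_right (mem_zpowers x)⟩ : ↥(Q ⊔ zpowers x)) : _ ⧸ _), fun q => ?_⟩
    obtain ⟨⟨g, hg⟩, rfl⟩ := QuotientGroup.mk_surjective q
    obtain ⟨_, ⟨k, rfl⟩, a, ha, rfl⟩ := (H1.mem_sup_of_le_normalizer_right hz).1 (sup_comm Q _ ▸ hg)
    refine ⟨k, ?_⟩
    simp only [← QuotientGroup.mk_zpow]
    exact QuotientGroup.eq.2 (h2 S (by simpa [mem_subgroupOf] using ha))

theorem RPC.inv (h : RPC p G) (h2 : p ≠ 2) (hQ : IsPGroup p Q) (hx : x ∈ 𝒩(Q)) (hx' : x ∉ 𝒞(Q)) :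
    x * x = 1 ∧ ∀ q ∈ Q, x * q * x⁻¹ = q⁻¹ := by
  rcases h.sup hQ hx with hc | ⟨n, ⟨e⟩⟩
  · exact absurd (cent_anti le_sup_left (le_cent_self (comm_of_cyclic hc)
      (mem_sup_right (mem_zpowers x)))) hx'
  obtain ⟨a, b, -, -, -, hb, hab, -, hall⟩ := H6.exists_gens_of_dihedral_subgroup e
  have h3 : ∀ k : ℤ, b * a ^ k * b⁻¹ = (a ^ k)⁻¹ := fun k => by
    rw [← conj_zpow, hab, inv_zpow]
  have h4 : ∀ k : ℤ, a ^ k * b * (a ^ k * b) = 1 := fun k => by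
    rw [mul_assoc, ← mul_assoc b, mul_inv_eq_iff_eq_mul.1 (h3 k), mul_assoc, hb, mul_one,
      mul_inv_cancel]
  have h5 : ∀ q ∈ Q, ∃ k : ℤ, q = a ^ k := fun q hq => by
    obtain ⟨k, e | e⟩ := hall q (mem_sup_left hq)
    · exact ⟨k, e⟩
    · exact ⟨0, by rw [eq_one h2 hQ hq (e ▸ h4 k), zpow_zero]⟩
  obtain ⟨k, e | e⟩ := hall x (mem_sup_right (mem_zpowers x))
  · refine absurd (mem_cent.2 fun q hq => ?_) hx'
    obtain ⟨l, rfl⟩ := h5 q hq
    rw [e, ← zpow_add, ← zpow_add, add_comm]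
  · refine ⟨e ▸ h4 k, fun q hq => ?_⟩
    obtain ⟨l, rfl⟩ := h5 q hq
    calc _ = a ^ k * (b * a ^ l * b⁻¹) * (a ^ k)⁻¹ := by rw [e]; group
      _ = _ := by rw [h3]; group

theorem RPC.main (h : RPC p G) (h2 : p ≠ 2) (P : Sylow p G) : IsCyclic P ∧
    (𝒩((P : Subgroup G)) = 𝒞((P : Subgroup G)) ∨
      ((𝒞((P : Subgroup G))).relIndex 𝒩((P : Subgroup G)) = 2 ∧
        ∀ Q : Subgroup G, Q ≤ P → Nat.card Q = p → IsMulCommutative 𝒞(Q) ∧
          ∀ x : G, x ∈ 𝒩(Q) → x ∉ 𝒞(Q) → orderOf x = 2 ∧ ∀ c : G, c ∈ 𝒞(Q) → x * c * x⁻¹ = c⁻¹)) := by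
  refine ⟨?_, ?_⟩
  · have h1 := h.sup P.isPGroup' (one_mem _)
    rw [zpowers_one_eq_bot, sup_bot_eq] at h1
    rcases h1 with hc | ⟨n, ⟨e⟩⟩
    · exact hc
    obtain ⟨a, b, -, hb0, -, hb, -, hn, -⟩ := H6.exists_gens_of_dihedral_subgroup e
    exact absurd (eq_one h2 P.isPGroup' hb0 hb ▸ one_mem _) hn
  by_cases hc : 𝒩((P : Subgroup G)) ≤ 𝒞((P : Subgroup G))
  · exact Or.inl (le_antisymm hc (cent_le_norm _))
  obtain ⟨y, hy, hy'⟩ := SetLike.not_le_iff_exists.1 hc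
  have hi := (h.inv h2 P.isPGroup' hy hy').2
  refine Or.inr ⟨relIndex_eq_two_iff.2 ⟨y, hy, fun b hb => ?_⟩, fun Q hQ hcard => ?_⟩
  · by_cases hb' : b ∈ 𝒞((P : Subgroup G))
    · exact Or.inr ⟨hb', fun e => hy' ((mul_mem_cancel_left hb').1 e)⟩
    · refine Or.inl ⟨mem_cent.2 fun q hq => ?_, hb'⟩
      have e := (h.inv h2 P.isPGroup' hb hb').2 _ (inv_mem hq)
      rw [inv_inv] at e
      nth_rewrite 1 [← hi q hq] at e
      nth_rewrite 1 [← e]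
      group
  have hQp : IsPGroup p Q := P.isPGroup'.to_le hQ
  have h3 : ∀ x : G, x ∈ 𝒩(Q) → x ∉ 𝒞(Q) →
      orderOf x = 2 ∧ ∀ c : G, c ∈ 𝒞(Q) → x * c * x⁻¹ = c⁻¹ := fun x hx hx' => by
    have e1 := (h.inv h2 hQp hx hx').1
    refine ⟨orderOf_eq_prime (by rwa [sq]) fun e => hx' (e ▸ one_mem _), fun c hc => ?_⟩
    have e2 := (h.inv h2 hQp (mul_mem hx (cent_le_norm _ hc))
      fun e => hx' ((mul_mem_cancel_right hc).1 e)).1
    rw [inv_eq_of_mul_eq_one_right e1]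
    exact eq_inv_of_mul_eq_one_left (by rw [← e2, mul_assoc])
  refine ⟨?_, h3⟩
  have h4 : y ∈ 𝒩(Q) := mem_norm_of_cj_le (by
    rintro _ ⟨q, hq, rfl⟩
    exact (show y * q * y⁻¹ ∈ Q from (hi q (hQ hq)).symm ▸ inv_mem hq))
  have h5 : y ∉ 𝒞(Q) := fun e => by
    obtain ⟨q, hq, o⟩ := H10.exists_orderOf_eq_of_dvd hcard.symm.dvd
    have e1 := hi q (hQ hq)
    rw [← mem_cent.1 e q hq, mul_inv_cancel_right] at e1
    exact H10.ne_one_of_orderOf_eq o (eq_one h2 hQp hq (mul_eq_one_iff_eq_inv.2 e1))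
  refine H1.isMulCommutative_iff'.2 fun c hc d hd => ?_
  have e := (h3 y h4 h5).2 _ (mul_mem hc hd)
  rw [← conj_mul, (h3 y h4 h5).2 c hc, (h3 y h4 h5).2 d hd, ← mul_inv_rev] at e
  exact (inv_injective e).symm

theorem rpc (P : Sylow p G) (hc : IsCyclic P)
    (h : 𝒩((P : Subgroup G)) = 𝒞((P : Subgroup G)) ∨
      ∀ Q : Subgroup G, Q ≤ P → Nat.card Q = p → IsMulCommutative 𝒞(Q) ∧
        ∀ x : G, x ∈ 𝒩(Q) → x ∉ 𝒞(Q) → orderOf x = 2 ∧ ∀ c : G, c ∈ 𝒞(Q) → x * c * x⁻¹ = c⁻¹) :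
    RPC p G := fun H h1 h2 => by
  obtain ⟨T⟩ : Nonempty (Sylow p H) := inferInstance
  have hT := h1 T
  have hS := H10.isSylowIn_map_subtype T
  have hN : H ≤ 𝒩((T : Subgroup H).map H.subtype) := H1.le_normalizer_map_subtype_iff.2 hT
  obtain ⟨q, hq⟩ := (h2 T).exists_generator
  obtain ⟨y, rfl⟩ := QuotientGroup.mk_surjective q
  have h3 : H ≤ (T : Subgroup H).map H.subtype ⊔ zpowers (y : G) := fun g hg => by
    obtain ⟨k, hk⟩ := hq (⟨g, hg⟩ : H)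
    simp only [← QuotientGroup.mk_zpow] at hk
    have h4 := mul_mem (mem_sup_right (zpow_mem (mem_zpowers (y : G)) k))
      (mem_sup_left (mem_map_of_mem H.subtype (QuotientGroup.eq.1 hk)))
    simpa using h4
  set S := (T : Subgroup H).map H.subtype
  obtain ⟨a, b, ⟨k, o1⟩, o2, e⟩ := H3.exists_pPart_mul_pPrimePart (p := p) (y : G)
    (orderOf_pos _).ne'
  have h4 : (y : G) ^ a ∈ S := zpowers_le.1 (hS.le_of_le_NN (H10.isPGroup_zpowers_of_orderOf o1)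
    (zpowers_le.2 (pow_mem y.2 a)) (zpowers_le.2 (hN (pow_mem y.2 a))))
  have hw : (y : G) ^ b ∈ H := pow_mem y.2 b
  set w := (y : G) ^ b
  have h5 : H = S ⊔ zpowers w := le_antisymm (h3.trans (sup_le le_sup_left (zpowers_le.2
    (e ▸ mul_mem (mem_sup_left h4) (mem_sup_right (mem_zpowers w)))))) (sup_le hS.le (zpowers_le.2 hw))
  obtain ⟨g, -, hg⟩ := (H10.isSylowIn_top P).exists_cj_le hS.isPGroup le_top
  change cj(g, S) ≤ P at hg
  have hcy : IsCyclic cj(g, S) := isCyclic_of_injective (inclusion hg) (inclusion_injective hg)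
  have hcy' : IsCyclic S := isCyclic_of_surjective _ (cjEquiv g S).symm.surjective
  obtain ⟨s, hs⟩ := S.isCyclic_iff_exists_zpowers_eq_top.1 hcy'
  have hsS : s ∈ S := hs ▸ mem_zpowers s
  obtain ⟨n, os⟩ := H10.orderOf_eq_pow_of_mem hS.isPGroup hsS
  by_cases hwc : w ∈ 𝒞(S)
  · left
    have c : Commute s w := mem_cent.1 hwc s hsS
    have hco : (orderOf s).Coprime (orderOf w) := os ▸ o2.symm.pow_left n
    refine H.isCyclic_iff_exists_zpowers_eq_top.2 ⟨s * w, le_antisymm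
      (zpowers_le.2 (mul_mem (hS.le hsS) hw)) ?_⟩
    rw [h5, ← hs]
    exact sup_le (zpowers_le.2 (H8.mem_zpowers_mul_of_coprime c hco))
      (zpowers_le.2 (c.eq ▸ H8.mem_zpowers_mul_of_coprime c.symm hco.symm))
  rcases h with h | h
  · exact absurd (H3.mem_centralizer_of_hasNormalPComplement
      (H3.hasNormalPComplement_of_normalizer_le_centralizer P h.le) hS.isPGroup (hN hw) o2) hwc
  have h0 : S ≠ ⊥ := fun e => hwc (by rw [e, cent_bot]; exact mem_top w)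
  obtain ⟨u, hu, ou⟩ := H10.exists_orderOf_eq_of_ne_bot hS.isPGroup h0
  have hu' := zpowers_le.2 hu
  obtain ⟨k1, k2⟩ := h cj(g, zpowers u) ((cj_mono hu').trans hg)
    (by rw [card_cj, Nat.card_zpowers, ou])
  have h6 : S ≤ 𝒞(zpowers u) := (le_cent_self (comm_of_cyclic hcy')).trans (cent_anti hu')
  have h7 : w ∈ 𝒩(zpowers u) := mem_norm_of_cj_le (by
    rw [cj_zpowers, zpowers_le]
    obtain ⟨l, rfl⟩ : u ∈ zpowers s := hs ▸ hu
    obtain ⟨j, hj⟩ : w * s * w⁻¹ ∈ zpowers s := hs ▸ H1.conj_mem_of_mem_normalizer (hN hw) hsS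
    simp only at hj ⊢
    rw [← conj_zpow, ← hj, ← zpow_mul, mul_comm, zpow_mul]
    exact zpow_mem (mem_zpowers _) j)
  rw [← cj_norm, ← cj_cent] at k2
  rw [← cj_cent] at k1
  have h8 : w ∉ 𝒞(zpowers u) := fun e => hwc (cent_anti h6 (cj_le_cj.1
    (by rw [cj_cent g 𝒞(zpowers u)]; exact le_cent_self k1) e))
  obtain ⟨k3, k4⟩ := k2 _ (conj_mem_cj h7) (mt conj_mem_cj_iff.1 h8)
  have k5 := k4 _ (conj_mem_cj (h6 hsS))
  have k6 : (g * w * g⁻¹) ^ 2 = 1 := k3 ▸ pow_orderOf_eq_one _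
  refine Or.inr ⟨n, H6.subgroup_equiv_dihedral (a := s) (b := w) os ?_ ?_
    (fun e => hwc (le_cent_self (comm_of_cyclic hcy') (hs ▸ e))) ?_⟩
  · rwa [conj_pow, conj_eq_one_iff, sq] at k6
  · refine (MulAut.conj g).injective ?_
    rw [map_mul, map_mul, map_inv, map_inv]
    exact k5
  · rw [h5, ← hs, zpowers_eq_closure, zpowers_eq_closure, ← Subgroup.closure_union]
    rfl

end H21.Pbc
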