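/-
Characters of groups with derived group of prime order; Galois conjugacy in `p`-groups.
-/
import Cfsg.Agent.H21.CD7
import Cfsg.Agent.H3.Critical
import Cfsg.Agent.H2.FrobCompl

set_option autoImplicit false
set_option linter.unusedSectionVars false
open H17 Cfsg H15 CF
open scoped ComplexConjugate commutatorElement

namespace H21

variable {G : Type*} [Group G] [Finite G] {χ ψ : G → ℂ} {p : ℕ} {M : Subgroup G}

theorem sum_deg_sq_IrrQ (M : Subgroup G) [M.Normal] :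
    ∑ χ ∈ IrrQ ⊤ M, charDegree χ ^ 2 = M.index := by
  have := sum_IrrQ_sq (H := ⊤) (N := M) le_top (by simp [Subgroup.normalizer_eq_top])
  rw [Subgroup.relIndex_top_right] at this
  rw [← Nat.cast_inj (R := ℂ), ← this, Nat.cast_sum]
  exact Finset.sum_congr rfl fun χ h => by rw [Nat.cast_pow, deg_cast (IrrQ_subset _ _ h)]

theorem deg_eq_one_iff (hχ : χ ∈ Irr ⊤) : charDegree χ = 1 ↔ commutator G ≤ cfker χ :=
  (charDegree_eq_one_iff (isChar_top.1 (irr_char hχ))).trans (irr_one_eq_one_iff hχ)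

theorem pow_mem_center (hM : M ≤ Subgroup.center G) {w : G} (hw : ∀ y, ⁅w, y⁆ ∈ M) :
    w ^ Nat.card M ∈ Subgroup.center G := Subgroup.mem_center_iff.2 fun y => by
  refine (commutatorElement_eq_one_iff_mul_comm.1 ?_).symm
  rw [H9.commutator_pow_left (H9.commute_of_mem_center (hM (hw y)) w)]
  exact congrArg Subtype.val (pow_card_eq_one' (x := (⟨_, hw y⟩ : M)))

theorem card_der_quot (M : Subgroup G) [M.Normal] (h : M ≤ commutator G) :
    Nat.card M * Nat.card (commutator (G ⧸ M)) = Nat.card (commutator G) := by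
  rw [← card_mul_relIndex h, commutator_def (G ⧸ M), ← QuotientGroup.range_mk' M,
    ← map_commutator_eq, ← Subgroup.relIndex_ker, QuotientGroup.ker_mk']

section pd
variable [hp : Fact p.Prime] (hD : Nat.card (commutator G) = p) (hχ : χ ∈ Irr ⊤)
  (h1 : charDegree χ ≠ 1)
include hD hχ h1

theorem pd_inf : cfker χ ⊓ commutator G = ⊥ :=
  (H9.eq_or_eq_of_card_eq_mul (p := p) bot_le inf_le_right (by simp [hD])).resolve_right fun e =>
    h1 ((deg_eq_one_iff hχ).2 (inf_eq_right.1 e))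

theorem pd_vanish (hZ : commutator G ≤ Subgroup.center G) {x : G} (hx : x ∉ Subgroup.center G) :
    χ x = 0 := by
  obtain ⟨l, hl⟩ := (mem_Irr_top.1 hχ).exists_linear_center
  by_contra h0
  refine hx (Subgroup.mem_center_iff.2 fun y => commutatorElement_eq_one_iff_mul_comm.1 ?_)
  have h2 : ⁅y, x⁆ ∈ commutator G := Subgroup.commutator_mem_commutator trivial trivial
  have h3 := hl ⟨_, hZ h2⟩ x
  rw [show ⁅y, x⁆ * x = y * x * y⁻¹ by simp [commutatorElement_def],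
    cf_conj (irr_cf hχ) x trivial, right_eq_mul₀ h0] at h3
  exact (pd_inf hD hχ h1).le ⟨mem_cfker.2 fun w => by rw [hl ⟨_, hZ h2⟩ w, h3, one_mul], h2⟩

theorem pd_deg (hZ : commutator G ≤ Subgroup.center G) :
    charDegree χ ^ 2 = (Subgroup.center G).index :=
  le_antisymm ((mem_Irr_top.1 hχ).sq_le_index_center (deg_cast hχ).symm) (by
    simpa using relIndex_le_of_supp le_top hχ fun x hx => pd_vanish hD hχ h1 hZ hx)

end pd

theorem exists_nonlin (h : commutator G ≠ ⊥) :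
    ∃ χ ∈ Irr (⊤ : Subgroup G), charDegree χ ≠ 1 := by
  obtain ⟨χ, h1, h2⟩ := exists_Irr_not_le (H := ⊤) h
  exact ⟨χ, h1, fun e => h2 ((deg_eq_one_iff h1).1 e)⟩

/-- nonlinear irreducible characters of the same degree are Galois conjugate -/
def GC (p : ℕ) (G : Type*) [Group G] [Finite G] : Prop :=
  ∀ χ ∈ Irr (⊤ : Subgroup G), ∀ ψ ∈ Irr (⊤ : Subgroup G), charDegree χ ≠ 1 →
    charDegree χ = charDegree ψ → ∃ k : ℕ, k.Coprime p ∧ ∀ g, ψ g = χ (g ^ k)

theorem GC.quot (h : GC p G) (M : Subgroup G) [M.Normal] : GC p (G ⧸ M) := fun χ hχ ψ hψ h1 h2 => by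
  obtain ⟨k, h3, h4⟩ := h _ (mem_Irr_top.2 (mem_Irr_top.1 hχ).inflate) _
    (mem_Irr_top.2 (mem_Irr_top.1 hψ).inflate) h1 h2
  exact ⟨k, h3, fun g => QuotientGroup.induction_on g h4⟩

theorem GC.ker_le (h : GC p G) (hχ : χ ∈ Irr ⊤) (hψ : ψ ∈ Irr ⊤) (h1 : charDegree χ ≠ 1)
    (h2 : charDegree χ = charDegree ψ) : cfker χ ≤ cfker ψ := fun g hg => by
  obtain ⟨k, -, h4⟩ := h χ hχ ψ hψ h1 h2
  rw [irr_mem_cfker hψ, h4, h4, one_pow, cfker_apply (pow_mem hg k)]

theorem GC.cyc [Fact p.Prime] (h : GC p G) (hD : Nat.card (commutator G) = p) :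
    IsCyclic (Subgroup.center G) := by
  obtain ⟨χ, hχ, h1⟩ := exists_nonlin (G := G) fun e => (Fact.out : p.Prime).ne_one (by simp [← hD, e])
  refine (mem_Irr_top.1 hχ).isCyclic_center (((inf_eq_left.2 fun g hg => ?_).symm.trans
    (pd_inf hD hχ h1) : cfker χ = ⊥))
  refine mem_of_forall_IrrQ (H := ⊤) le_top (by simp [Subgroup.normalizer_eq_top]) fun l hl => ?_
  have h2 := isLin_iff_IrrQ.2 hl
  have h3 := cfker_apply (h.ker_le hχ (mul_lin_mem_Irr hχ h2) h1
    (deg_congr (by simp [h2.one_apply])) hg)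
  rwa [Pi.mul_apply, Pi.mul_apply, cfker_apply hg, mul_right_inj' (irr_one_ne hχ)] at h3

theorem GC.card_le (h : GC p G) {n : ℕ} (hn : ∀ g : G, g ^ p ^ n = 1) (hp : p ≠ 0)
    {S : Finset (G → ℂ)} (hS : ∀ χ ∈ S, χ ∈ Irr ⊤ ∧ charDegree χ ≠ 1) (d : ℕ) :
    (S.filter (charDegree · = d)).card ≤ (p ^ n).totient := by
  rcases (S.filter (charDegree · = d)).eq_empty_or_nonempty with e | ⟨χ, hχ⟩
  · simp [e]
  rw [Finset.mem_filter] at hχ
  refine Finset.card_le_card_of_surjOn (fun k g => χ (g ^ k)) fun ψ hψ => ?_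
  rw [Finset.mem_coe, Finset.mem_filter] at hψ
  obtain ⟨k, h1, h2⟩ := h χ (hS χ hχ.1).1 ψ (hS ψ hψ.1).1 (hS χ hχ.1).2 (hχ.2.trans hψ.2.symm)
  refine ⟨k % p ^ n, Finset.mem_coe.2 (Finset.mem_filter.2 ⟨Finset.mem_range.2
    (Nat.mod_lt _ (by positivity)), ?_⟩), funext fun g => by
      rw [h2, pow_eq_pow_mod k (hn g)]⟩
  rw [Nat.coprime_comm, Nat.Coprime, ← Nat.gcd_rec]
  exact (h1.pow_right n).symm

theorem geom_lt (hp : 2 ≤ p) (m : ℕ) : p * ∑ i ∈ Finset.range m, (p ^ i) ^ 2 < (p ^ m) ^ 2 := by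
  induction m with
  | zero => simp
  | succ m ih =>
    rw [Finset.sum_range_succ, pow_succ p m, mul_pow]
    have : 1 + p ≤ p ^ 2 := by nlinarith
    nlinarith [Nat.mul_le_mul_left ((p ^ m) ^ 2) this]

theorem GC.not_sq [hp : Fact p.Prime] (hG : IsPGroup p G) (h : GC p G)
    (hD : Nat.card (commutator G) = p ^ 2) : False := by
  classical
  have h2p := hp.out.two_le
  obtain ⟨M, _, -, hM, hc⟩ := H9.exists_normal_card_eq_pow hG (M := commutator G) bot_le (k := 1)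
    (by simp [hp.out.one_le]) (by rw [hD]; gcongr <;> omega)
  rw [pow_one] at hc
  have hZ := H9.le_center_of_card_le_prime hG hc.le
  have hD' : Nat.card (commutator (G ⧸ M)) = p := by
    have := card_der_quot M hM
    rwa [hc, hD, sq, mul_right_inj' hp.out.ne_zero] at this
  have hZ' := H9.le_center_of_card_le_prime (hG.to_quotient M) hD'.le
  obtain ⟨φ, hφ, h1⟩ := exists_nonlin (G := G ⧸ M) fun e => hp.out.ne_one (by simp [← hD', e])
  have h2 := pd_deg hD' hφ h1 hZ'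
  have hφ' := mem_Irr_top.2 (mem_Irr_top.1 hφ).inflate
  obtain ⟨n, hn⟩ := IsPGroup.iff_card.1 hG
  have hd : ∀ χ ∈ Irr (⊤ : Subgroup G), ∃ i, charDegree χ = p ^ i := fun χ hχ => by
    obtain ⟨i, -, hi⟩ := (Nat.dvd_prime_pow hp.out).1 (by simpa [hn] using deg_dvd_card hχ)
    exact ⟨i, hi⟩
  obtain ⟨m, hm⟩ := hd _ hφ'
  set W := (Subgroup.center (G ⧸ M)).comap (QuotientGroup.mk' M) with hW
  have h3 : W.index = (p ^ m) ^ 2 := by
    rw [hW, Subgroup.index_comap_of_surjective _ (QuotientGroup.mk'_surjective M), ← h2, ← hm]; rfl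
  obtain ⟨c, h4⟩ := H9.card_eq_pow hG W
  have h5 : ∀ g : G, g ^ p ^ (c + 1) = 1 := fun g => by
    have : g ^ p ∈ W := by
      have := pow_mem_center hZ' (w := (g : G ⧸ M)) fun y =>
        Subgroup.commutator_mem_commutator trivial trivial
      rwa [hD'] at this
    rw [pow_succ', pow_mul, ← h4]
    exact congrArg Subtype.val (pow_card_eq_one' (x := (⟨_, this⟩ : W)))
  have h6 : (Subgroup.center G).index ≤ p * (p ^ m) ^ 2 := by
    obtain ⟨⟨w, hw⟩, h7⟩ := (h.quot M).cyc hD' |>.exists_generator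
    obtain ⟨w, rfl⟩ := QuotientGroup.mk_surjective w
    have h8 : W ≤ Subgroup.center G ⊔ Subgroup.zpowers w := fun x hx => by
      obtain ⟨k, hk⟩ := h7 ⟨x, hx⟩
      have : (w ^ k)⁻¹ * x ∈ M := QuotientGroup.eq.1 (congrArg Subtype.val hk)
      simpa using mul_mem (Subgroup.mem_sup_right (Subgroup.zpow_mem_zpowers w k))
        (Subgroup.mem_sup_left (hZ this))
    have h9 := Nat.le_of_dvd (Nat.pos_of_ne_zero W.index_ne_zero_of_finite)
      (Subgroup.index_dvd_of_le h8)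
    rw [← Subgroup.relIndex_mul_index (le_sup_left : _ ≤ Subgroup.center G ⊔ Subgroup.zpowers w),
      ← h3]
    refine Nat.mul_le_mul ?_ h9
    by_cases e : w ∈ Subgroup.center G
    · rw [sup_eq_left.2 (Subgroup.zpowers_le.2 e), Subgroup.relIndex_self]; omega
    refine (H9.relIndex_sup_zpowers hp.out (by simp [Subgroup.normalizer_eq_top]) e ?_).le
    rw [← hc]
    refine pow_mem_center hZ fun y => (QuotientGroup.eq_one_iff _).1 ?_
    exact commutatorElement_eq_one_iff_mul_comm.2 (Subgroup.mem_center_iff.1 hw (y : G ⧸ M)).symm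
  set S := Irr (⊤ : Subgroup G) \ IrrQ ⊤ M with hS
  have h7 : ∀ χ ∈ S, χ ∈ Irr ⊤ ∧ charDegree χ ≠ 1 := fun χ hχ =>
    ⟨(Finset.mem_sdiff.1 hχ).1, fun e => (Finset.mem_sdiff.1 hχ).2 (mem_IrrQ.2
      ⟨(Finset.mem_sdiff.1 hχ).1, hM.trans ((deg_eq_one_iff (Finset.mem_sdiff.1 hχ).1).1 e)⟩)⟩
  have h8 : ∑ χ ∈ S, charDegree χ ^ 2 ≤
      ∑ i ∈ Finset.range m, (p ^ (c + 1)).totient * (p ^ i) ^ 2 := by
    refine le_trans (Finset.sum_le_sum (g := fun χ => ∑ i ∈ Finset.range m,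
      if charDegree χ = p ^ i then (p ^ i) ^ 2 else 0) fun χ hχ => ?_) ?_
    · obtain ⟨i, hi⟩ := hd χ (h7 χ hχ).1
      refine le_trans (by simp [hi]) (Finset.single_le_sum (a := i) (fun _ _ => Nat.zero_le _) ?_)
      have h9 := ((mem_Irr_top.1 (h7 χ hχ).1).sq_le_index_center (deg_cast (h7 χ hχ).1).symm).trans h6
      rw [hi, ← pow_mul, ← pow_mul, ← pow_succ', Nat.pow_le_pow_iff_right hp.out.one_lt] at h9
      refine Finset.mem_range.2 (lt_of_le_of_ne (by omega) ?_)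
      rintro rfl
      exact (Finset.mem_sdiff.1 hχ).2 (mem_IrrQ.2 ⟨(h7 χ hχ).1, (le_charKer_inflate φ).trans
        (h.ker_le hφ' (h7 χ hχ).1 h1 (hm.trans hi.symm))⟩)
    · rw [Finset.sum_comm]
      refine Finset.sum_le_sum fun i _ => ?_
      rw [← Finset.sum_filter, Finset.sum_const, smul_eq_mul]
      exact Nat.mul_le_mul_right _ (h.card_le h5 hp.out.ne_zero h7 _)
  have h9 := Finset.sum_sdiff (f := fun χ => charDegree χ ^ 2) (IrrQ_subset (⊤ : Subgroup G) M)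
  rw [sum_deg_sq_IrrQ, sum_deg_sq', Subgroup.card_top, ← hS] at h9
  have h10 := M.card_mul_index
  have h11 := W.card_mul_index
  have h12 := geom_lt h2p m
  rw [← Finset.mul_sum, Nat.totient_prime_pow_succ hp.out] at h8
  rw [hc] at h10
  rw [h3, h4] at h11
  obtain ⟨q, rfl⟩ : ∃ q, p = q + 1 := ⟨p - 1, by omega⟩
  have h13 : 0 < (q + 1) ^ c * q := Nat.mul_pos (by positivity) (by omega)
  rw [Nat.add_sub_cancel] at h8
  nlinarith [Nat.mul_lt_mul_of_pos_left h12 h13, Nat.mul_le_mul_left (q + 1) h8]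

theorem gc_iff [hp : Fact p.Prime] (hG : IsPGroup p G) (h0 : commutator G ≠ ⊥) :
    GC p G ↔ IsCyclic (Subgroup.center G) ∧ Nat.card (commutator G) = p := by
  refine ⟨fun h => ?_, fun ⟨hc, hD⟩ χ hχ ψ hψ h1 h2 => ?_⟩
  · suffices Nat.card (commutator G) = p from ⟨h.cyc this, this⟩
    obtain ⟨n, hn⟩ := H9.card_eq_pow hG (commutator G)
    obtain _ | _ | n := n
    · exact absurd (Subgroup.eq_bot_of_card_eq _ hn) h0
    · simpa using hn
    obtain ⟨M, _, -, hM, hc⟩ := H9.exists_normal_card_eq_pow hG (M := commutator G) bot_le (k := n)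
      (by simpa using Nat.one_le_pow _ _ hp.out.pos) (by rw [hn]; gcongr; exacts [hp.out.one_le, by omega])
    refine ((h.quot M).not_sq (hG.to_quotient M) ?_).elim
    have := card_der_quot M hM
    rwa [hc, hn, add_assoc, pow_add, mul_right_inj' (pow_ne_zero _ hp.out.ne_zero)] at this
  have hZ := H9.le_center_of_card_le_prime hG hD.le
  have key : ∀ χ ∈ Irr (⊤ : Subgroup G), charDegree χ ≠ 1 → ∃ l : Subgroup.center G →* ℂˣ,
      Function.Injective l ∧ ∀ z : Subgroup.center G, χ z = l z * charDegree χ := fun χ hχ h1 => by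
    obtain ⟨l, hl⟩ := (mem_Irr_top.1 hχ).exists_linear_center
    refine ⟨l, (MonoidHom.ker_eq_bot_iff l).1 (by_contra fun e => ?_), fun z => by
      simpa [deg_cast hχ] using hl z 1⟩
    obtain ⟨K, _, -, h3, h4⟩ := H9.exists_normal_card_eq_pow (hG.to_subgroup _) (M := l.ker) bot_le
      (k := 1) (by simp [hp.out.one_le]) (by
        obtain ⟨_ | k, hk⟩ := H9.card_eq_pow (hG.to_subgroup _) l.ker
        · exact absurd (Subgroup.eq_bot_of_card_eq _ hk) e
        · rw [hk]; gcongr; exacts [hp.out.one_le, by omega])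
    have h5 : K = (commutator G).subgroupOf _ := H2.eq_of_card_eq_of_isCyclic' (by
      rw [h4, pow_one, Nat.card_congr (Subgroup.subgroupOfEquivOfLe hZ).toEquiv, hD])
    refine h0 (eq_bot_iff.2 fun x hx => (pd_inf hD hχ h1).le ⟨mem_cfker.2 fun w => ?_, hx⟩)
    have h6 : l ⟨x, hZ hx⟩ = 1 := h3 (h5.ge hx)
    simpa [h6] using hl ⟨x, hZ hx⟩ w
  obtain ⟨l, l1, l2⟩ := key χ hχ h1
  obtain ⟨m, m1, m2⟩ := key ψ hψ (h2 ▸ h1)
  obtain ⟨z, hz⟩ := hc.exists_monoid_generator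
  haveI : NeZero (orderOf z) := ⟨(orderOf_pos z).ne'⟩
  obtain ⟨k, -, h3, h4⟩ := (orderOf_injective l l1 z ▸ IsPrimitiveRoot.orderOf (l z)).isPrimitiveRoot_iff'.1
    (orderOf_injective m m1 z ▸ IsPrimitiveRoot.orderOf (m z))
  have h5 : k.Coprime p := h3.coprime_dvd_right (by
    rw [orderOf_eq_card_of_forall_mem_powers hz, ← hD]; exact Subgroup.card_dvd_of_le hZ)
  refine ⟨k, h5, fun g => ?_⟩
  by_cases hg : g ∈ Subgroup.center G
  · obtain ⟨j, hj⟩ := hz ⟨g, hg⟩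
    have := l2 (⟨g, hg⟩ ^ k)
    rw [m2 ⟨g, hg⟩, ← h2]
    refine Eq.trans ?_ this.symm
    rw [← hj, map_pow, map_pow, map_pow, ← h4, ← pow_mul, ← pow_mul, mul_comm j]
  · obtain ⟨j, hj⟩ := hG g
    rw [pd_vanish hD hψ (h2 ▸ h1) hZ hg, pd_vanish hD hχ h1 hZ fun e =>
      hg (H9.mem_of_pow_mem_of_coprime e (hj ▸ one_mem _) (h5.pow_right j))]

end H21
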