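/-
Determinants of characters in ambient style; the decomposition of a character of `p'`-degree as
the product of a linear `p`-character and a character with determinant of `p'`-order.
-/
import Cfsg.Agent.H21.CD3

set_option autoImplicit false
set_option linter.unusedSectionVars false
open H17 Cfsg H15 CF Subgroup
open scoped Classical ComplexConjugate

namespace H21.RD

variable {G : Type*} [Group G] [Finite G] {H K N D : Subgroup G} {χ ψ θ l μ ν κ : G → ℂ} {x g : G}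

theorem detChar_add (h : IsCharacter G χ) (h' : IsCharacter G ψ) (g : G) :
    detChar (χ + ψ) g = detChar χ g * detChar ψ g := by
  obtain ⟨n, ρ, rfl⟩ := h
  obtain ⟨m, σ, rfl⟩ := h'
  rw [← char_prod, detChar_character, detChar_character, detChar_character]
  exact LinearMap.det_prodMap _ _

/-- the determinant of a character of `H` -/
noncomputable def dt (H : Subgroup G) (χ : G → ℂ) : G → ℂ := extendByZero H (detChar (res H χ))

theorem dt_apply (χ : G → ℂ) (hx : x ∈ H) : dt H χ x = detChar (res H χ) ⟨x, hx⟩ :=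
  extendByZero_of_mem _ hx

theorem isLin_dt (h : IsChar H χ) : IsLin H (dt H χ) := by
  obtain ⟨δ, e⟩ := exists_detChar h.2
  rw [dt, e]; exact isLin_ofHom δ

theorem dt_add (h : IsChar H χ) (h' : IsChar H ψ) (hx : x ∈ H) :
    dt H (χ + ψ) x = dt H χ x * dt H ψ x := by
  simp only [dt_apply _ hx, res_add, detChar_add h.2 h'.2]

theorem dt_zero (hx : x ∈ H) : dt H 0 x = 1 := by
  have := dt_add (isChar_zero (H := H)) isChar_zero hx
  rw [add_zero] at this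
  exact (mul_eq_left₀ ((isLin_dt isChar_zero).ne_zero hx)).1 this.symm

theorem dt_smul (h : IsChar H χ) (hx : x ∈ H) (e : ℕ) : dt H ((e : ℂ) • χ) x = dt H χ x ^ e := by
  induction e with
  | zero => simpa using dt_zero hx
  | succ e ih => rw [Nat.cast_succ, add_smul, one_smul, dt_add (h.natCast_smul e) h hx, ih, pow_succ]

theorem dt_sum {ι : Type*} (s : Finset ι) (f : ι → G → ℂ) (h : ∀ i ∈ s, IsChar H (f i))
    (hx : x ∈ H) : dt H (∑ i ∈ s, f i) x = ∏ i ∈ s, dt H (f i) x := by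
  induction s using Finset.induction_on with
  | empty => simpa using dt_zero hx
  | insert a s ha ih =>
    have h' := fun i hi => h i (Finset.mem_insert_of_mem hi)
    rw [Finset.sum_insert ha, Finset.prod_insert ha,
      dt_add (h a (Finset.mem_insert_self _ _)) (isChar_sum _ _ h') hx, ih h']

theorem dt_lin (h : IsLin H l) : dt H l = l := by
  rw [dt, detChar_linear h.1.2 h.2, ext0_res, Res_cf h.cf]

theorem dt_mul (hl : IsLin H l) (h : χ ∈ Irr H) (hx : x ∈ H) :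
    dt H (l * χ) x = l x ^ charDegree χ * dt H χ x := by
  obtain ⟨lam, rfl⟩ := hl.exists_hom
  rw [dt_apply _ hx, dt_apply _ hx, res_mul, res_ofHom, ofHom_apply _ hx]
  exact detChar_twist (irr_char h).2 lam (deg_cast h).symm _

theorem dt_Res (hNK : N ≤ K) (h : IsChar K χ) (hx : x ∈ N) :
    dt N (Res (N : Set G) χ) x = dt K χ x := by
  rw [dt_apply _ hx, dt_apply _ (hNK hx), res_Res]
  exact detChar_comp h.2 (inclusion hNK) ⟨x, hx⟩

theorem dt_cfj (hg : g ∈ 𝒩(H)) (h : IsChar H χ) (hx : x ∈ H) :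
    dt H (cfj g χ) x = dt H χ (g⁻¹ * x * g) := by
  rw [dt_apply _ hx, dt_apply _ (H1.conj_mem_of_mem_normalizer' hg hx)]
  let f : H →* H := MonoidHom.mk' (fun y => ⟨g⁻¹ * y * g, H1.conj_mem_of_mem_normalizer' hg y.2⟩)
    fun a b => Subtype.ext (by simp [mul_assoc])
  exact detChar_comp h.2 f ⟨x, hx⟩

theorem dt_of_Res_eq (hNK : N ≤ K) (h : IsChar K χ) (hμ : IsLin N μ) {e : ℕ}
    (he : Res (N : Set G) χ = (e : ℂ) • μ) (hx : x ∈ N) : dt K χ x = μ x ^ e := by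
  rw [← dt_Res hNK h hx, he, dt_smul hμ.char hx, dt_lin hμ]

theorem dt_over (hNK : N ≤ K) (hn : K ≤ 𝒩(N)) (hθ : θ ∈ Irr N) (hχ : χ ∈ IrrO K N θ)
    (hx : x ∈ N) {c : ℂ} {n : ℕ} (h : ∀ g ∈ K, dt N (cfj g θ) x ^ n = c ^ charDegree θ) :
    dt K χ x ^ n = c ^ charDegree χ := by
  obtain ⟨e, -, h1, h2⟩ := deg_clifford hNK hn hθ hχ
  obtain ⟨h3, h4⟩ := mem_over.1 hχ
  have h5 := fun ψ (h : ψ ∈ orb K θ) => irr_char (orb_subset_Irr hn hθ h)
  rw [← dt_Res hNK (irr_char h3) hx, clifford hNK hn h3 hθ h4, h1, dt_smul (isChar_sum _ _ h5) hx,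
    dt_sum _ _ h5 hx, ← pow_mul, mul_comm, pow_mul, ← Finset.prod_pow, Finset.prod_congr rfl
      (g := fun _ => c ^ charDegree θ) fun ψ hψ => by
        obtain ⟨g, hg, rfl⟩ := mem_orb.1 hψ; exact h g hg,
    Finset.prod_const, card_orb, h2, ← pow_mul, ← pow_mul]
  congr 1; ring

theorem lin_comm (h : IsLin K l) (hx : x ∈ ⁅K, K⁆) : l x = 1 := h.mem_cfker.1 (h.commutator_le hx)

theorem exists_ne_one (h : IsLin N μ) (h1 : μ ≠ CF.one N) : ∃ x ∈ N, μ x ≠ 1 := by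
  by_contra! h2
  exact h1 (cf_ext h.cf (one_mem_cf N) fun x hx => by rw [h2 x hx, one_of_mem hx])

theorem pow_eq_one_of_coprime {z : ℂ} {a b k : ℕ} (hab : a.Coprime b) (h1 : z ^ b = 1)
    (h2 : (z ^ a) ^ k = 1) : orderOf z ∣ k :=
  (Nat.Coprime.coprime_dvd_left (orderOf_dvd_of_pow_eq_one h1) hab.symm).dvd_of_dvd_mul_left
    (orderOf_dvd_of_pow_eq_one (by rwa [pow_mul]))

theorem deg_lin_mul (hl : IsLin N l) : charDegree (l * θ) = charDegree θ :=
  deg_congr (by rw [Pi.mul_apply, hl.one_apply, one_mul])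

theorem deg_cfj (g : G) (θ : G → ℂ) : charDegree (cfj g θ) = charDegree θ :=
  deg_congr (cfj_at_one g θ)

theorem star_mul_cancel (hl : IsLin N l) (h : θ ∈ cf N) : star l * (l * θ) = θ := by
  rw [← mul_assoc, hl.star_mul, one_mul_cf h]

/-- linear characters of order dividing `A` -/
def LA (N : Subgroup G) (A : ℕ) (μ : G → ℂ) : Prop := IsLin N μ ∧ ∀ x ∈ N, μ x ^ A = 1

/-- characters of degree prime to `A` with determinant of order dividing `B` -/
def Sp (N : Subgroup G) (A B : ℕ) (θ : G → ℂ) : Prop :=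
  θ ∈ Irr N ∧ (charDegree θ).Coprime A ∧ ∀ x ∈ N, dt N θ x ^ B = 1

/-- `q` divides the degrees of all irreducible characters above `θ` -/
def Dv (N : Subgroup G) (θ : G → ℂ) (q : ℕ) : Prop := ∀ χ ∈ IrrO ⊤ N θ, q ∣ charDegree χ

variable {A B : ℕ}

theorem LA.one : LA N A (CF.one N) := ⟨isLin_one N, fun x hx => by rw [one_of_mem hx, one_pow]⟩

theorem LA.mul (h : LA N A μ) (h' : LA N A ν) : LA N A (μ * ν) :=
  ⟨h.1.mul h'.1, fun x hx => by rw [Pi.mul_apply, mul_pow, h.2 x hx, h'.2 x hx, mul_one]⟩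

theorem LA.cfj (h : LA N A μ) (hg : g ∈ 𝒩(N)) : LA N A (cfj g μ) :=
  ⟨h.1.cfj_norm hg, fun _ hx => h.2 _ (H1.conj_mem_of_mem_normalizer' hg hx)⟩

theorem Sp.one : Sp N A B (CF.one N) :=
  ⟨one_mem_Irr N, by rw [deg_one]; exact Nat.coprime_one_left A, fun x hx => by
    rw [dt_lin (isLin_one N), one_of_mem hx, one_pow]⟩

theorem Sp.cfj (h : Sp N A B θ) (hg : g ∈ 𝒩(N)) : Sp N A B (cfj g θ) :=
  ⟨cfj_mem_Irr_norm hg h.1, by rw [deg_cfj]; exact h.2.1, fun x hx => by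
    rw [dt_cfj hg (irr_char h.1) hx]; exact h.2.2 _ (H1.conj_mem_of_mem_normalizer' hg hx)⟩

theorem LA.sp (h : LA N B μ) : Sp N A B μ :=
  ⟨h.1.mem_Irr, by rw [deg_lin h.1]; exact Nat.coprime_one_left A, by rw [dt_lin h.1]; exact h.2⟩

theorem exists_exp {d : ℕ} (hab : A.Coprime B) (hd : d.Coprime A) :
    ∃ k, B ∣ k ∧ ∀ z : ℂ, z ^ A = 1 → z ^ (d * k) = z := by
  rcases Nat.eq_zero_or_pos A with rfl | hA
  · obtain rfl : d = 1 := by simpa using hd
    obtain rfl : B = 1 := by simpa using hab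
    exact ⟨1, dvd_rfl, fun z _ => by simp⟩
  obtain ⟨u, hu⟩ := Nat.exists_mul_mod_eq_of_coprime 1 (hd.mul_left hab.symm) hA.ne'
  refine ⟨B * u, dvd_mul_right _ _, fun z hz => ?_⟩
  rw [pow_eq_pow_mod _ hz, ← mul_assoc, hu.2, ← pow_eq_pow_mod _ hz, pow_one]

theorem exists_dec (hab : A.Coprime B) (hN : Nat.card N ∣ A * B) (hθ : θ ∈ Irr N)
    (hd : (charDegree θ).Coprime A) : ∃ μ θ₀, LA N A μ ∧ Sp N A B θ₀ ∧ θ = μ * θ₀ := by
  obtain ⟨k, ⟨j, rfl⟩, hk⟩ := exists_exp hab hd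
  have h1 := isLin_dt (irr_char hθ)
  have h2 : ∀ x ∈ N, dt N θ x ^ (A * B) = 1 := fun x hx =>
    cford_dvd_iff.1 (h1.cford_dvd_card.trans hN) x hx
  have h3 := h1.Res_pow (B * j)
  set μ := Res (N : Set G) (dt N θ ^ (B * j)) with hμ
  have h4 : ∀ x ∈ N, μ x = dt N θ x ^ (B * j) := fun x hx => Res_of_mem _ hx
  have h5 : ∀ x ∈ N, μ x ^ A = 1 := fun x hx => by
    rw [h4 x hx, ← pow_mul, show B * j * A = A * B * j by ring, pow_mul, h2 x hx, one_pow]
  refine ⟨μ, star μ * θ, ⟨h3, h5⟩, ⟨lin_mul_mem_Irr h3.star hθ, by rwa [deg_lin_mul h3.star],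
    fun x hx => ?_⟩, by rw [← mul_assoc, h3.mul_star, one_mul_cf (irr_cf hθ)]⟩
  have h6 := hk (dt N θ x ^ B) (by rw [← pow_mul, mul_comm, h2 x hx])
  have h7 : star μ x * μ x = 1 := (congrFun h3.star_mul x).trans (one_of_mem hx)
  rw [dt_mul h3.star hθ hx, mul_pow, ← h6]
  calc _ = (star μ x * dt N θ x ^ (B * j)) ^ (charDegree θ * B) := by ring
    _ = 1 := by rw [← h4 x hx, h7, one_pow]

theorem stab_mul_le (hab : A.Coprime B) (hμ : LA N A μ) (hθ : Sp N A B θ) (hg : g ∈ 𝒩(N))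
    (h : g ∈ stab (μ * θ)) : g ∈ stab μ ∧ g ∈ stab θ := by
  obtain ⟨k, ⟨j, rfl⟩, hk⟩ := exists_exp hab hθ.2.1
  have h1 : ∀ {μ θ : G → ℂ}, LA N A μ → Sp N A B θ → charDegree θ = _ → ∀ x ∈ N,
      μ x = dt N (μ * θ) x ^ (B * j) := fun hμ hθ e x hx => by
    rw [dt_mul hμ.1 hθ.1 hx, mul_pow, e, ← pow_mul, hk _ (hμ.2 x hx), pow_mul, hθ.2.2 x hx,
      one_pow, mul_one]
  have h2 : g ∈ stab μ := cf_ext (hμ.cfj hg).1.cf hμ.1.cf fun x hx => by
    rw [h1 (hμ.cfj hg) (hθ.cfj hg) (deg_cfj g θ) x hx, ← cfj_mul', mem_stab.1 h,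
      ← h1 hμ hθ rfl x hx]
  refine ⟨h2, ?_⟩
  rw [← star_mul_cancel hμ.1 (irr_cf hθ.1), mem_stab, cfj_mul', cfj_star, mem_stab.1 h,
    mem_stab.1 h2]

theorem Dv.ne_one {q : ℕ} (h : Dv N θ q) (hq : q.Prime) : θ ≠ CF.one N := fun e => by
  have := h (CF.one ⊤) (mem_over_of_Res (one_mem_Irr _) (e ▸ one_mem_Irr _)
    (e ▸ Res_one_of_le le_top))
  rw [deg_one] at this
  exact hq.ne_one (Nat.dvd_one.1 this)

variable [hN : N.Normal]

theorem dv_deg (hθ : θ ∈ Irr N) : Dv N θ ((stab θ).index * charDegree θ) := fun χ hχ => by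
  obtain ⟨e, -, -, h⟩ := deg_clifford le_top (top_le_norm N) hθ hχ
  rw [h, relIndex_top_right, mul_assoc]
  exact dvd_mul_left _ _

theorem Dv.of_dvd {q r : ℕ} (h : Dv N θ q) (hr : r ∣ q) : Dv N θ r := fun χ hχ => hr.trans (h χ hχ)

theorem mem_nrm (N : Subgroup G) [N.Normal] (g : G) : g ∈ 𝒩(N) := top_le_norm N (mem_top g)

variable (hNG : N ≤ commutator G) (hab : A.Coprime B)
include hNG hab

theorem Sp.exists_prime (hθ : Sp N A B θ) (h1 : θ ≠ CF.one N) :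
    ∃ q, q.Prime ∧ ∀ μ, LA N A μ → Dv N (μ * θ) q := by
  by_cases h2 : (stab θ).index * charDegree θ = 1
  · have h3 := lin_of_deg hθ.1 (Nat.eq_one_of_mul_eq_one_left h2)
    have h4 := index_eq_one.1 (Nat.eq_one_of_mul_eq_one_right h2)
    obtain ⟨x, hx, h5⟩ := exists_ne_one h3 h1
    obtain ⟨q, hq, h6⟩ := Nat.exists_prime_and_dvd (mt orderOf_eq_one_iff.1 h5)
    refine ⟨q, hq, fun μ hμ χ hχ => h6.trans ?_⟩
    have h7 := dt_over le_top (top_le_norm N) (lin_mul_mem_Irr hμ.1 hθ.1) hχ hx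
      (c := θ x ^ A) (n := A) fun g _ => by
        have h8 := hμ.cfj (mem_nrm N g)
        rw [cfj_mul', mem_stab.1 (h4.ge (mem_top g)), dt_lin (h8.1.mul h3), Pi.mul_apply, mul_pow,
          h8.2 x hx, one_mul, deg_lin (hμ.1.mul h3), pow_one]
    rw [lin_comm (isLin_dt (irr_char (mem_over.1 hχ).1)) (hNG hx), one_pow] at h7
    exact pow_eq_one_of_coprime hab (dt_lin h3 ▸ hθ.2.2 x hx) h7.symm
  · obtain ⟨q, hq, h3⟩ := Nat.exists_prime_and_dvd h2
    refine ⟨q, hq, fun μ hμ => (dv_deg (lin_mul_mem_Irr hμ.1 hθ.1)).of_dvd (h3.trans ?_)⟩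
    rw [deg_lin_mul hμ.1]
    exact Nat.mul_dvd_mul_right (index_dvd_of_le fun g hg =>
      (stab_mul_le hab hμ hθ (mem_nrm N g) hg).2) _

theorem LA.exists_prime (hμ : LA N A μ) (h1 : μ ≠ CF.one N) :
    ∃ q, q.Prime ∧ ∀ θ, Sp N A B θ → Dv N (μ * θ) q := by
  by_cases h2 : (stab μ).index = 1
  · have h4 := index_eq_one.1 h2
    obtain ⟨x, hx, h5⟩ := exists_ne_one hμ.1 h1
    obtain ⟨q, hq, h6⟩ := Nat.exists_prime_and_dvd (mt orderOf_eq_one_iff.1 h5)
    refine ⟨q, hq, fun θ hθ χ hχ => h6.trans ?_⟩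
    have h7 := dt_over le_top (top_le_norm N) (lin_mul_mem_Irr hμ.1 hθ.1) hχ hx
      (c := μ x ^ B) (n := B) fun g _ => by
        have h8 := hθ.cfj (mem_nrm N g)
        rw [cfj_mul', mem_stab.1 (h4.ge (mem_top g)), dt_mul hμ.1 h8.1 hx, mul_pow,
          h8.2.2 x hx, mul_one, deg_lin_mul hμ.1, deg_cfj, ← pow_mul, ← pow_mul, mul_comm]
    rw [lin_comm (isLin_dt (irr_char (mem_over.1 hχ).1)) (hNG hx), one_pow] at h7
    exact pow_eq_one_of_coprime hab.symm (hμ.2 x hx) h7.symm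
  · obtain ⟨q, hq, h3⟩ := Nat.exists_prime_and_dvd h2
    refine ⟨q, hq, fun θ hθ => (dv_deg (lin_mul_mem_Irr hμ.1 hθ.1)).of_dvd (h3.trans ?_)⟩
    exact (index_dvd_of_le fun g hg => (stab_mul_le hab hμ hθ (mem_nrm N g) hg).1).mul_right _

end H21.RD
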