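/-
Linear `p`-characters of a normal subgroup lying under characters of `p'`-degree.
-/
import Cfsg.Agent.H21.RD1

set_option autoImplicit false
set_option linter.unusedSectionVars false
open H17 Cfsg H15 CF Subgroup
open scoped Classical ComplexConjugate

namespace H21.RD

variable {G : Type*} [Group G] [Finite G] {H K N D : Subgroup G} {χ ψ θ l μ ν κ : G → ℂ} {x g : G}
  {p a : ℕ} [hp : Fact p.Prime]

/-- a subset of a finite group closed under multiplication -/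
def subOfMul (P : G → Prop) (h1 : P 1) (hm : ∀ a b, P a → P b → P (a * b)) : Subgroup G where
  carrier := {g | P g}
  one_mem' := h1
  mul_mem' := hm _ _
  inv_mem' := fun {g} hg => by
    have : ∀ n : ℕ, P (g ^ n) := fun n => by
      induction n with
      | zero => simpa using h1
      | succ n ih => rw [pow_succ]; exact hm _ _ ih hg
    have h2 := this (orderOf g - 1)
    rwa [eq_inv_of_mul_eq_one_left (show g ^ (orderOf g - 1) * g = 1 by
      rw [← pow_succ, Nat.sub_add_cancel (orderOf_pos g), pow_orderOf_eq_one])] at h2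

theorem dvd_card_of_orb {r : ℕ} (X : Finset (G → ℂ)) (h1 : ∀ φ ∈ X, orb K φ ⊆ X)
    (h2 : ∀ φ ∈ X, (orb K φ).card = r) : r ∣ X.card := by
  rw [Finset.card_eq_sum_card_image (orb K) X]
  refine Finset.dvd_sum fun O hO => ?_
  obtain ⟨φ, hφ, rfl⟩ := Finset.mem_image.1 hO
  rw [← h2 φ hφ, show X.filter (fun ψ => orb K ψ = orb K φ) = orb K φ from Finset.ext fun ψ =>
    Finset.mem_filter.trans ⟨fun h => h.2 ▸ self_mem_orb K ψ,
      fun h => ⟨h1 φ hφ h, orb_eq_of_mem h⟩⟩]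

theorem index_inf_of_coprime (h : H.index.Coprime K.index) :
    (H ⊓ K).index = H.index * K.index :=
  le_antisymm index_inf_le (Nat.le_of_dvd (Nat.pos_of_ne_zero index_ne_zero_of_finite)
    (h.mul_dvd_of_dvd_of_dvd (index_dvd_of_le inf_le_left) (index_dvd_of_le inf_le_right)))

theorem ext_of_Res (hNK : N ≤ K) (h : IsChar K χ) (hμ : LA N (p ^ a) μ) {e : ℕ}
    (he : Res (N : Set G) χ = (e : ℂ) • μ) (hpe : ¬ p ∣ e) :
    ∃ κ, IsLin K κ ∧ ∀ x ∈ N, κ x = μ x := by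
  obtain ⟨k, -, hk⟩ := exists_exp (B := 1) (Nat.coprime_one_right (p ^ a))
    (((Nat.Prime.coprime_iff_not_dvd hp.out).2 hpe).symm.pow_right a)
  refine ⟨_, (isLin_dt h).Res_pow k, fun x hx => ?_⟩
  rw [Res_of_mem _ (hNK hx), Pi.pow_apply, dt_of_Res_eq hNK h hμ.1 he hx, ← pow_mul,
    hk _ (hμ.2 x hx)]

variable [hN : N.Normal]

theorem ext_up (hND : N ≤ D) (hDK : D ≤ K) (hK : K ≤ stab μ) (hμ : LA N (p ^ a) μ)
    (hκ : IsLin D κ) (e : ∀ x ∈ N, κ x = μ x) (hd : ¬ p ∣ D.relIndex K) :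
    ∃ κ, IsLin K κ ∧ ∀ x ∈ N, κ x = μ x := by
  refine ext_of_Res (hND.trans hDK) (hκ.char.Ind hDK) hμ (e := D.relIndex K) (funext fun x => ?_) hd
  by_cases hx : x ∈ N
  · rw [Res_of_mem _ hx, Ind_apply', sum_fs_congr (g := fun _ => μ x) fun y hy => by
      rw [Res_of_mem _ (hND (hN.conj_mem x hx y)), e _ (hN.conj_mem x hx y),
        mem_stab_iff.1 (hK hy)], sum_sub_const, relIndex_cast hDK, Pi.smul_apply, smul_eq_mul,
      mul_assoc]
  · rw [Res_of_not_mem _ hx, Pi.smul_apply, cf_zero hμ.1.cf hx, smul_zero]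

/-- linear `p`-characters extending to a subgroup of `p'`-index -/
def Good (p a : ℕ) (N : Subgroup G) (μ : G → ℂ) : Prop :=
  LA N (p ^ a) μ ∧ ¬ p ∣ (stab μ).index ∧ ∃ κ, IsLin (stab μ) κ ∧ ∀ x ∈ N, κ x = μ x

theorem good_of (hND : N ≤ D) (hD : ¬ p ∣ D.index) (hμ : LA N (p ^ a) μ)
    (hκ : IsLin D κ) (e : ∀ x ∈ N, κ x = μ x) : Good p a N μ := by
  have h1 : D ≤ stab μ := fun g hg => mem_stab_iff.2 fun x => by
    by_cases hx : x ∈ N
    · rw [← e _ (hN.conj_mem x hx g), ← e x hx, cf_conj hκ.cf x hg]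
    · rw [cf_zero hμ.1.cf hx, cf_zero hμ.1.cf fun h => hx (by
        simpa [mul_assoc] using hN.conj_mem _ h g⁻¹)]
  exact ⟨hμ, fun h => hD (h.trans (index_dvd_of_le h1)), ext_up hND h1 le_rfl hμ hκ e fun h =>
    hD (h.trans (relIndex_dvd_index_of_le h1))⟩

theorem good_of_over (hμ : LA N (p ^ a) μ) (hχ : χ ∈ IrrO ⊤ N μ) (hd : ¬ p ∣ charDegree χ) :
    Good p a N μ := by
  have h1 : N ≤ stab μ := le_stab hμ.1.cf
  have h2 : stab μ ≤ 𝒩(N) := fun g _ => mem_nrm N g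
  obtain ⟨ψ, hψ, rfl⟩ := exists_Ind_eq_over le_top (top_le_norm N) hμ.1.mem_Irr
    (top_inf_eq (stab μ)).symm hχ
  obtain ⟨e, -, h3, h4⟩ := deg_clifford h1 h2 hμ.1.mem_Irr hψ
  have h5 : charDegree (Ind ⊤ (stab μ) ψ) = (stab μ).index * charDegree ψ :=
    charDegree_eq_of_one (by
      rw [Ind_one le_top, ← deg_cast (mem_over.1 hψ).1, relIndex_top_right]; push_cast; rfl)
  rw [h5, h4] at hd
  refine ⟨hμ, fun h => hd (h.mul_right _), ext_of_Res h1 (irr_char (mem_over.1 hψ).1) hμ (e := e)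
    ?_ fun h => hd (((h.mul_right _).mul_right _).mul_left _)⟩
  rw [← h3]
  exact Res_eq_smul_of_le_stab h1 h2 (mem_over.1 hψ).1 hμ.1.mem_Irr le_rfl (mem_over.1 hψ).2

theorem Good.cfj (h : Good p a N μ) (g : G) : Good p a N (cfj g μ) := by
  obtain ⟨h1, h2, κ, h3, h4⟩ := h
  refine ⟨h1.cfj (mem_nrm N g), ?_, CF.cfj g κ, ?_, fun x hx => ?_⟩
  · rwa [stab_cfj, index_map_of_bijective (cj_bij g)]
  · rw [stab_cfj]; exact h3.cfj g
  · rw [cfj_apply, cfj_apply, h4 _ (H1.conj_mem_of_mem_normalizer' (mem_nrm N g) hx)]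

theorem Good.mul (h : Good p a N μ) (h' : Good p a N ν)
    (hc : (stab μ).index.Coprime (stab ν).index) : Good p a N (μ * ν) := by
  obtain ⟨h1, h2, κ, h3, h4⟩ := h
  obtain ⟨h5, h6, κ', h7, h8⟩ := h'
  have h9 : N ≤ stab μ ⊓ stab ν := le_inf (le_stab h1.1.cf) (le_stab h5.1.cf)
  refine good_of h9 ?_ (h1.mul h5) ((h3.Res inf_le_left).mul (h7.Res inf_le_right)) fun x hx => ?_
  · rw [index_inf_of_coprime hc]
    exact fun h => ((Nat.Prime.dvd_mul hp.out).1 h).elim h2 h6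
  · rw [Pi.mul_apply, Res_of_mem _ (h9 hx), Res_of_mem _ (h9 hx), h4 x hx, h8 x hx, Pi.mul_apply]

theorem Good.index_ne (hNG : N ≤ commutator G) (h : Good p a N μ) (h1 : μ ≠ CF.one N) :
    (stab μ).index ≠ 1 := fun e => by
  obtain ⟨h2, -, κ, h3, h4⟩ := h
  obtain ⟨x, hx, h5⟩ := exists_ne_one h2.1 h1
  rw [index_eq_one.1 e] at h3
  exact h5 (h4 x hx ▸ lin_comm h3 (hNG hx))

theorem mem_stab_mul (h1 : g ∈ stab μ) (h2 : g ∈ stab ν) : g ∈ stab (μ * ν) := by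
  rw [mem_stab, cfj_mul', mem_stab.1 h1, mem_stab.1 h2]

theorem mem_stab_cancel (hμ : IsLin N μ) (hν : ν ∈ cf N) (h1 : g ∈ stab μ)
    (h2 : g ∈ stab (μ * ν)) : g ∈ stab ν := by
  rw [← star_mul_cancel hμ hν]
  exact mem_stab_mul (by rwa [stab_star]) h2

theorem index_mul_eq (hμ : IsLin N μ) (hν : IsLin N ν) (hc : (stab μ).index.Coprime (stab ν).index)
    (hlt : (stab ν).index < (stab μ).index)
    (h : (stab (μ * ν)).index.Coprime (stab μ).index ∨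
      (stab (μ * ν)).index.Coprime (stab ν).index) : (stab (μ * ν)).index = (stab μ).index := by
  have e1 : stab (μ * ν) ⊓ stab μ = stab μ ⊓ stab ν := le_antisymm
    (fun g hg => ⟨hg.2, mem_stab_cancel hμ hν.cf hg.2 hg.1⟩)
    fun g hg => ⟨mem_stab_mul hg.1 hg.2, hg.1⟩
  have e2 : stab (μ * ν) ⊓ stab ν = stab μ ⊓ stab ν := le_antisymm
    (fun g hg => ⟨mem_stab_cancel hν hμ.cf hg.2 (mul_comm μ ν ▸ hg.1), hg.2⟩)
    fun g hg => ⟨mem_stab_mul hg.1 hg.2, hg.2⟩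
  have e3 := index_inf_of_coprime hc
  have p1 : 0 < (stab ν).index := Nat.pos_of_ne_zero index_ne_zero_of_finite
  rcases h with h | h
  · have e4 := index_inf_of_coprime h
    have e5 := index_inf_le (H := stab (μ * ν)) (K := stab ν)
    rw [e1, e3, mul_comm] at e4
    rw [e2, e3, ← Nat.eq_of_mul_eq_mul_right (by omega) e4] at e5
    exact absurd (Nat.le_of_mul_le_mul_right e5 p1) (by omega)
  · have e4 := index_inf_of_coprime h
    rw [e2, e3] at e4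
    exact (Nat.eq_of_mul_eq_mul_right p1 e4).symm

theorem exists_cfj_ofHom (g : G) (u : N →* ℂˣ) :
    ∃ v : N →* ℂˣ, ofHom N v = cfj g (ofHom N u) ∧ ∀ n : ℕ, u ^ n = 1 → v ^ n = 1 := by
  obtain ⟨v, hv⟩ := ((isLin_ofHom u).cfj_norm (mem_nrm N g)).exists_hom
  refine ⟨v, hv.symm, fun n h => MonoidHom.ext fun x => Units.ext ?_⟩
  rw [MonoidHom.pow_apply, Units.val_pow_eq_pow_val, ← ofHom_coe, ← hv, cfj_apply,
    ofHom_apply _ (H1.conj_mem_of_mem_normalizer' (mem_nrm N g) x.2), ← Units.val_pow_eq_pow_val,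
    ← MonoidHom.pow_apply, h]
  rfl

theorem Good.pair_aux (hNG : N ≤ commutator G) (hμ : Good p a N μ) (hν : Good p a N ν)
    (h1 : ν ≠ CF.one N) (hc : (stab μ).index.Coprime (stab ν).index)
    (hlt : (stab ν).index < (stab μ).index) : ∃ l, LA N (p ^ a) l ∧
      ¬ (stab l).index.Coprime (stab μ).index ∧ ¬ (stab l).index.Coprime (stab ν).index := by
  by_contra! h
  haveI := finite_monoidHom_units (G := N)
  have hi : ∀ (g : G) (φ : G → ℂ), (stab (CF.cfj g φ)).index = (stab φ).index := fun g φ => by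
    rw [stab_cfj, index_map_of_bijective (cj_bij g)]
  let S : (G → ℂ) → Prop := fun φ => Good p a N φ ∧ (stab φ).index = (stab μ).index
  have hS : ∀ g φ, S φ → S (CF.cfj g φ) := fun g φ h => ⟨h.1.cfj g, (hi g φ).trans h.2⟩
  let U : Subgroup (N →* ℂˣ) := subOfMul (fun u => u ^ p ^ a = 1 ∧ ∀ φ, S φ → S (φ * ofHom N u))
    ⟨one_pow _, fun φ h => by rwa [ofHom_one, mul_one_cf h.1.1.1.cf]⟩
    fun u v hu hv => ⟨by rw [mul_pow, hu.1, hv.1]; ext; simp, fun φ h => by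
      rw [ofHom_mul, ← mul_assoc]; exact hv.2 _ (hu.2 φ h)⟩
  have hU : ∀ g, ∀ u ∈ U, ∃ v ∈ U, ofHom N v = CF.cfj g (ofHom N u) := fun g u hu => by
    obtain ⟨v, h2, h3⟩ := exists_cfj_ofHom g u
    refine ⟨v, ⟨h3 _ hu.1, fun φ hφ => ?_⟩, h2⟩
    rw [h2, ← cfj_cfj_inv g φ, ← cfj_mul']
    exact hS g _ (hu.2 _ (hS _ _ hφ))
  obtain ⟨v, rfl⟩ := hν.1.1.exists_hom
  have hv : v ∈ U := ⟨MonoidHom.ext fun x => Units.ext (by
      rw [MonoidHom.pow_apply, Units.val_pow_eq_pow_val, ← ofHom_coe]; exact hν.1.2 x x.2),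
    fun φ hφ => ⟨hφ.1.mul hν (hφ.2 ▸ hc), (index_mul_eq hφ.1.1.1 hν.1.1 (hφ.2 ▸ hc) (hφ.2 ▸ hlt)
      (hφ.2 ▸ or_iff_not_imp_left.2 (h _ (hφ.1.1.mul hν.1)))).trans hφ.2⟩⟩
  set X := (fs (U : Set (N →* ℂˣ))).image fun u => μ * ofHom N u with hX
  have mX : ∀ φ, φ ∈ X ↔ ∃ u ∈ U, μ * ofHom N u = φ := fun φ => by simp [hX, mem_fs]
  have h2 : X.card = Nat.card U := by
    rw [hX, Finset.card_image_of_injective _ fun u w e => ofHom_injective
      (hμ.1.1.mul_left_cancel (cf_le_supp _ (isLin_ofHom u).cf) (cf_le_supp _ (isLin_ofHom w).cf) e),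
      card_fs_sub]
  let A : Subgroup G := subOfMul (fun g => ∀ φ ∈ X, CF.cfj g φ ∈ X) (fun φ h => by rwa [cfj_one])
    fun g k hg hk φ h => by rw [cfj_mul]; exact hg _ (hk φ h)
  have h3 : ∀ φ ∈ X, stab φ ≤ A := fun φ hφ g hg ψ hψ => by
    obtain ⟨u, hu, rfl⟩ := (mX φ).1 hφ
    obtain ⟨w, hw, rfl⟩ := (mX ψ).1 hψ
    obtain ⟨z, hz, e⟩ := hU g _ (mul_mem (inv_mem hu) hw)
    refine (mX _).2 ⟨u * z, mul_mem hu hz, ?_⟩
    rw [ofHom_mul, ← mul_assoc, e, ← mem_stab.1 hg, ← cfj_mul', mul_assoc, ← ofHom_mul,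
      mul_inv_cancel_left]
  have h4 : ∀ φ ∈ X, (stab φ).index = (stab μ).index := fun φ hφ => by
    obtain ⟨u, hu, rfl⟩ := (mX φ).1 hφ
    exact (hu.2 μ ⟨hμ, rfl⟩).2
  have m1 : μ ∈ X := (mX _).2 ⟨1, one_mem _, by rw [ofHom_one, mul_one_cf hμ.1.1.cf]⟩
  have h5 : ∀ φ ∈ X, (stab φ).relIndex A = (stab μ).relIndex A := fun φ hφ =>
    Nat.eq_of_mul_eq_mul_right (Nat.pos_of_ne_zero (index_ne_zero_of_finite (H := A))) (by
      rw [relIndex_mul_index (h3 φ hφ), relIndex_mul_index (h3 μ m1), h4 φ hφ])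
  have h6 := dvd_card_of_orb (K := A) X (fun φ hφ ψ hψ => by
    obtain ⟨g, hg, rfl⟩ := mem_orb.1 hψ; exact hg φ hφ) fun φ hφ => (card_orb A φ).trans (h5 φ hφ)
  obtain ⟨k, hk⟩ := IsPGroup.iff_card.1 (show IsPGroup p U from fun u => ⟨a, Subtype.ext u.2.1⟩)
  rw [h2, hk] at h6
  have h7 : (stab μ).relIndex A = 1 := Nat.eq_one_of_dvd_coprimes
    (((Nat.Prime.coprime_iff_not_dvd hp.out).2 hμ.2.1).pow_left k) h6
    (relIndex_dvd_index_of_le (h3 μ m1))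
  have m2 := (mX _).2 ⟨v, hv, rfl⟩
  have h8 : stab μ ≤ stab (ofHom N v) := fun g hg => mem_stab_cancel hμ.1.1 hν.1.1.cf hg
    (relIndex_eq_one.1 ((h5 _ m2).trans h7) (h3 μ m1 hg))
  exact hν.index_ne hNG h1 (Nat.eq_one_of_dvd_coprimes hc (index_dvd_of_le h8) dvd_rfl)

theorem Good.pair (hNG : N ≤ commutator G) (hμ : Good p a N μ) (hν : Good p a N ν)
    (h1 : μ ≠ CF.one N) (h2 : ν ≠ CF.one N) : ∃ l, LA N (p ^ a) l ∧
      ¬ (stab l).index.Coprime (stab μ).index ∧ ¬ (stab l).index.Coprime (stab ν).index := by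
  by_cases hc : (stab μ).index.Coprime (stab ν).index
  · rcases lt_trichotomy (stab μ).index (stab ν).index with h | h | h
    · obtain ⟨l, h3, h4, h5⟩ := hν.pair_aux hNG hμ h1 hc.symm h
      exact ⟨l, h3, h5, h4⟩
    · rw [← h, Nat.coprime_self] at hc
      exact (hμ.index_ne hNG h1 hc).elim
    · exact hμ.pair_aux hNG hν h2 hc h
  · exact ⟨μ, hμ.1, by rw [Nat.coprime_self]; exact hμ.index_ne hNG h1, hc⟩

end H21.RD
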