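/-
The common divisor graph on the relative character degrees `cd(G | N)`.
-/
import Cfsg.Agent.H21.RD2
import Cfsg.Prelude.Def_DegreeGraph

set_option autoImplicit false
set_option linter.unusedSectionVars false
open H17 Cfsg H15 CF Subgroup
open scoped Classical ComplexConjugate

namespace H21.RD

variable {G : Type*} [Group G] [Finite G] {H K N D : Subgroup G}
  {χ ψ θ φ l μ ν κ : G → ℂ} {x g : G} {p q a b c A B : ℕ}

/-- `d` is the degree of an irreducible character over `θ` -/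
def Ov (N : Subgroup G) (θ : G → ℂ) (d : ℕ) : Prop := ∃ χ ∈ IrrO ⊤ N θ, charDegree χ = d

/-- distance at most two -/
def D2 (N : Subgroup G) (a b : ℕ) : Prop :=
  ∃ c ∈ relCharDegrees N, ¬ a.Coprime c ∧ ¬ c.Coprime b

theorem not_coprime_of (hq : q.Prime) (h1 : q ∣ a) (h2 : q ∣ b) : ¬ a.Coprime b := fun h =>
  hq.ne_one (Nat.eq_one_of_dvd_coprimes h h1 h2)

theorem not_coprime_symm (h : ¬ a.Coprime b) : ¬ b.Coprime a := fun h' => h h'.symm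

theorem not_coprime_mono {d : ℕ} (h : ¬ a.Coprime b) (h1 : a ∣ c) (h2 : b ∣ d) : ¬ c.Coprime d :=
  fun h' => h ((h'.coprime_dvd_left h1).coprime_dvd_right h2)

theorem D2.symm (h : D2 N a b) : D2 N b a := by
  obtain ⟨c, h1, h2, h3⟩ := h
  exact ⟨c, h1, not_coprime_symm h3, not_coprime_symm h2⟩

theorem Ov.dvd (h : Ov N θ a) (h' : Dv N θ q) : q ∣ a := by
  obtain ⟨χ, h1, rfl⟩ := h; exact h' χ h1

theorem exists_ov (h : θ ∈ Irr N) : ∃ c, Ov N θ c := by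
  obtain ⟨χ, hχ⟩ := over_nonempty le_top h
  exact ⟨_, χ, hχ, rfl⟩

theorem subgroupOf_der (N : Subgroup G) : ⁅N, N⁆.subgroupOf N = commutator N := by
  rw [subgroupOf_comm le_rfl le_rfl, subgroupOf_self]; rfl

theorem lin_pow_rel (hl : IsLin N l) (hx : x ∈ N) : l x ^ ⁅N, N⁆.relIndex N = 1 := by
  refine cford_dvd_iff.1 ?_ x hx
  rw [hl.cford_eq]
  exact relIndex_dvd_of_le_left _ hl.commutator_le

theorem exists_lin_prime (hq : q.Prime) (h : q ∣ ⁅N, N⁆.relIndex N) :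
    ∃ l, LA N q l ∧ l ≠ CF.one N := by
  haveI := Fact.mk hq
  haveI := finite_monoidHom_units (G := N)
  rw [relIndex, subgroupOf_der, ← card_monoidHom_units] at h
  obtain ⟨u, hu⟩ := exists_prime_orderOf_dvd_card' q h
  refine ⟨ofHom N u, ⟨isLin_ofHom u, fun x hx => ?_⟩, fun e => hq.ne_one ?_⟩
  · rw [ofHom_apply _ hx, ← Units.val_pow_eq_pow_val, ← MonoidHom.pow_apply, ← hu,
      pow_orderOf_eq_one]
    rfl
  · rw [← hu, ofHom_injective (e.trans ofHom_one.symm), orderOf_one]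

theorem LA.mono (h : LA N A l) (h' : A ∣ B) : LA N B l :=
  ⟨h.1, fun x hx => by obtain ⟨k, rfl⟩ := h'; rw [pow_mul, h.2 x hx, one_pow]⟩

theorem rel_dvd_card (N : Subgroup G) : ⁅N, N⁆.relIndex N ∣ Nat.card N := relIndex_dvd_card _ _

theorem exists_split (hp : p.Prime) (N : Subgroup G) :
    ∃ k B, Nat.card N = p ^ k * B ∧ ¬ p ∣ B ∧ (p ^ k).Coprime B := by
  obtain ⟨k, B, h1, h2⟩ := Nat.exists_eq_pow_mul_and_not_dvd (Nat.card_pos (α := N)).ne' p hp.ne_one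
  exact ⟨k, B, h2, h1, ((Nat.Prime.coprime_iff_not_dvd hp).2 h1).pow_left k⟩

theorem reach_of (ha : a ∈ relCharDegrees N) (hb : b ∈ relCharDegrees N) (h : ¬ a.Coprime b) :
    a = b ∨ (commonDivisorGraph.induce (relCharDegrees N)).Adj ⟨a, ha⟩ ⟨b, hb⟩ := by
  refine or_iff_not_imp_left.2 fun h1 => ⟨h1, ?_⟩
  obtain ⟨χ, -, rfl⟩ := ha
  have := Nat.gcd_pos_of_pos_left b (charDegree_pos χ.2)
  change 1 < Nat.gcd (charDegree (χ : G → ℂ)) b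
  rw [Nat.Coprime] at h
  omega

theorem reach (ha : a ∈ relCharDegrees N) (hb : b ∈ relCharDegrees N) (h : ¬ a.Coprime b) :
    (commonDivisorGraph.induce (relCharDegrees N)).Reachable ⟨a, ha⟩ ⟨b, hb⟩ := by
  rcases reach_of ha hb h with rfl | h
  · rfl
  · exact h.reachable

theorem D2.reach (h : D2 N a b) (ha : a ∈ relCharDegrees N) (hb : b ∈ relCharDegrees N) :
    (commonDivisorGraph.induce (relCharDegrees N)).Reachable ⟨a, ha⟩ ⟨b, hb⟩ := by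
  obtain ⟨c, hc, h1, h2⟩ := h
  exact (RD.reach ha hc h1).trans (RD.reach hc hb h2)

variable [hN : N.Normal]

theorem mem_rel : a ∈ relCharDegrees N ↔ ∃ θ ∈ Irr N, θ ≠ CF.one N ∧ Ov N θ a := by
  constructor
  · rintro ⟨χ, ⟨x, hx, h1⟩, rfl⟩
    have h2 := mem_Irr_top.2 χ.2
    obtain ⟨θ, hθ, hd⟩ := exists_under (H := N) le_top h2
    refine ⟨θ, hθ, fun e => h1 ((irr_mem_cfker h2).1 ((le_cfker_iff_dot_one le_top (top_le_norm N)
      h2).2 (e ▸ hd) hx)), χ, mem_over.2 ⟨h2, hd⟩, rfl⟩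
  · rintro ⟨θ, hθ, h1, χ, hχ, rfl⟩
    obtain ⟨h2, h3⟩ := mem_over.1 hχ
    refine ⟨⟨χ, mem_Irr_top.1 h2⟩, ?_, rfl⟩
    by_contra! h4
    exact h1 (irr_eq_one_of_le_cfker hθ ((le_cfker_over_iff le_top le_rfl (top_le_norm N) h2 hθ
      h3).1 ((irr_char h2).le_cfker.2 h4)))

theorem Ov.deg_dvd (h : Ov N θ a) (hθ : θ ∈ Irr N) : charDegree θ ∣ a :=
  h.dvd ((dv_deg hθ).of_dvd (dvd_mul_left _ _))

theorem Ov.index_dvd (h : Ov N θ a) (hθ : θ ∈ Irr N) : (stab θ).index ∣ a :=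
  h.dvd ((dv_deg hθ).of_dvd (dvd_mul_right _ _))

variable (hNG : N ≤ commutator G)
include hNG

theorem d2_mixed (hab : A.Coprime B) (hμ : LA N A μ) (hθ : Sp N A B θ) (hν : LA N A ν)
    (hφ : Sp N A B φ) (h1 : θ ≠ CF.one N) (h2 : ν ≠ CF.one N) (ha : Ov N (μ * θ) a)
    (hb : Ov N (ν * φ) b) : D2 N a b := by
  obtain ⟨q, hq, h3⟩ := hθ.exists_prime hNG hab h1
  obtain ⟨r, hr, h4⟩ := hν.exists_prime hNG hab h2
  have h5 := lin_mul_mem_Irr hν.1 hθ.1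
  obtain ⟨c, hc⟩ := exists_ov h5
  exact ⟨c, mem_rel.2 ⟨_, h5, (h3 ν hν).ne_one hq, hc⟩,
    not_coprime_of hq (ha.dvd (h3 μ hμ)) (hc.dvd (h3 ν hν)),
    not_coprime_of hr (hc.dvd (h4 θ hθ)) (hb.dvd (h4 φ hφ))⟩

theorem d2_good [Fact p.Prime] {k : ℕ} (hμ : LA N (p ^ k) μ) (hν : LA N (p ^ k) ν)
    (h1 : μ ≠ CF.one N) (h2 : ν ≠ CF.one N) (ha : Ov N μ a) (hb : Ov N ν b) (pa : ¬ p ∣ a)
    (pb : ¬ p ∣ b) : D2 N a b := by
  have h3 := ha.index_dvd hμ.1.mem_Irr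
  have h4 := hb.index_dvd hν.1.mem_Irr
  obtain ⟨χ, hχ, rfl⟩ := ha
  obtain ⟨ψ, hψ, rfl⟩ := hb
  obtain ⟨l, h5, h6, h7⟩ := (good_of_over hμ hχ pa).pair hNG (good_of_over hν hψ pb) h1 h2
  obtain ⟨c, hc⟩ := exists_ov h5.1.mem_Irr
  have h8 := hc.index_dvd h5.1.mem_Irr
  refine ⟨c, mem_rel.2 ⟨l, h5.1.mem_Irr, fun e => h6 ?_, hc⟩,
    not_coprime_mono (not_coprime_symm h6) h3 h8, not_coprime_mono h7 h8 h4⟩
  rw [e, index_eq_one.2 (eq_top_iff.2 ((top_le_norm N).trans (norm_le_stab_one N)))]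
  exact Nat.coprime_one_left _

omit hNG in
theorem Ov.dec (hp : p.Prime) {k : ℕ} (hc : Nat.card N = p ^ k * B) (hab : (p ^ k).Coprime B)
    (hθ : θ ∈ Irr N) (ha : Ov N θ a) (pa : ¬ p ∣ a) :
    ∃ μ θ₀, LA N (p ^ k) μ ∧ Sp N (p ^ k) B θ₀ ∧ θ = μ * θ₀ :=
  exists_dec hab hc.dvd hθ (((Nat.Prime.coprime_iff_not_dvd hp).2 fun h =>
    pa (h.trans (ha.deg_dvd hθ))).symm.pow_right k)

/-- a vertex over `μ * θ` with `μ ≠ 1` is near every vertex prime to `p` -/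
theorem d2_of_ne (hp : p.Prime) {k : ℕ} (hc : Nat.card N = p ^ k * B) (hab : (p ^ k).Coprime B)
    (hμ : LA N (p ^ k) μ) (hθ : Sp N (p ^ k) B θ) (h1 : μ ≠ CF.one N) (ha : Ov N (μ * θ) a)
    (pa : θ = CF.one N → ¬ p ∣ a) (hb : b ∈ relCharDegrees N) (pb : ¬ p ∣ b) : D2 N a b := by
  haveI := Fact.mk hp
  obtain ⟨φ, h2, h3, h4⟩ := mem_rel.1 hb
  obtain ⟨ν, φ, h5, h6, rfl⟩ := h4.dec hp hc hab h2 pb
  by_cases h7 : φ = CF.one N
  · subst h7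
    rw [mul_one_cf h5.1.cf] at h3 h4
    by_cases h8 : θ = CF.one N
    · rw [h8, mul_one_cf hμ.1.cf] at ha
      exact d2_good hNG hμ h5 h1 h3 ha h4 (pa h8) pb
    · exact d2_mixed hNG hab hμ hθ h5 Sp.one h8 h3 ha (by rwa [mul_one_cf h5.1.cf])
  · exact (d2_mixed hNG hab h5 h6 hμ hθ h7 h1 h4 ha).symm

theorem reach_of_not_dvd (hp : p.Prime) (hm : p ∣ ⁅N, N⁆.relIndex N) (ha : a ∈ relCharDegrees N)
    (hb : b ∈ relCharDegrees N) (pa : ¬ p ∣ a) (pb : ¬ p ∣ b) :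
    (commonDivisorGraph.induce (relCharDegrees N)).Reachable ⟨a, ha⟩ ⟨b, hb⟩ := by
  obtain ⟨k, B, hc, hB, hab⟩ := exists_split hp N
  obtain ⟨θ, h2, h3, h4⟩ := mem_rel.1 ha
  obtain ⟨μ, θ, h5, h6, rfl⟩ := h4.dec hp hc hab h2 pa
  by_cases h7 : μ = CF.one N
  · obtain ⟨l, h8, h9⟩ := exists_lin_prime hp hm
    have h10 := h8.mono (B := p ^ k) (((Nat.Prime.coprime_iff_not_dvd hp).2 hB).dvd_of_dvd_mul_right
      (hc ▸ hm.trans (rel_dvd_card N)))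
    have h11 : θ ≠ CF.one N := by rwa [h7, one_mul_cf (irr_cf h6.1)] at h3
    obtain ⟨q, hq, h12⟩ := h6.exists_prime hNG hab h11
    obtain ⟨c, hc'⟩ := exists_ov (lin_mul_mem_Irr h10.1 h6.1)
    have h13 := mem_rel.2 ⟨_, lin_mul_mem_Irr h10.1 h6.1, (h12 l h10).ne_one hq, hc'⟩
    exact (reach ha h13 (not_coprime_of hq (h4.dvd (h12 μ h5)) (hc'.dvd (h12 l h10)))).trans
      ((d2_of_ne hNG hp hc hab h10 h6 h9 hc' (fun e => (h11 e).elim) hb pb).reach h13 hb)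
  · exact (d2_of_ne hNG hp hc hab h5 h6 h7 h4 (fun _ => pa) hb pb).reach ha hb

theorem d2_two_primes (hp : p.Prime) (hq : q.Prime) (hpq : p ≠ q) (hm : p ∣ ⁅N, N⁆.relIndex N)
    (hm' : q ∣ ⁅N, N⁆.relIndex N) (hμ : LA N p μ) (hν : LA N q ν) (h1 : μ ≠ CF.one N)
    (h2 : ν ≠ CF.one N) (ha : Ov N (μ * ν) a) (hb : b ∈ relCharDegrees N) (pb : ¬ p ∣ b) :
    D2 N a b := by
  obtain ⟨k, B, hc, hB, hab⟩ := exists_split hp N
  refine d2_of_ne hNG hp hc hab (hμ.mono (((Nat.Prime.coprime_iff_not_dvd hp).2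
    hB).dvd_of_dvd_mul_right (hc ▸ hm.trans (rel_dvd_card N)))) (hν.mono ?_).sp h1 ha
    (fun e => (h2 e).elim) hb pb
  exact (((Nat.coprime_primes hq hp).2 hpq.symm).pow_right k).dvd_of_dvd_mul_left
    (hc ▸ hm'.trans (rel_dvd_card N))

theorem reach_two_primes (hp : p.Prime) (hq : q.Prime) (hm : p ∣ ⁅N, N⁆.relIndex N)
    (hm' : q ∣ ⁅N, N⁆.relIndex N) (ha : a ∈ relCharDegrees N) (hb : b ∈ relCharDegrees N)
    (pa : ¬ p ∣ a) (pb : ¬ q ∣ b) :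
    (commonDivisorGraph.induce (relCharDegrees N)).Reachable ⟨a, ha⟩ ⟨b, hb⟩ := by
  rcases eq_or_ne p q with rfl | hpq
  · exact reach_of_not_dvd hNG hp hm ha hb pa pb
  obtain ⟨μ, h1, h2⟩ := exists_lin_prime hp hm
  obtain ⟨ν, h3, h4⟩ := exists_lin_prime hq hm'
  obtain ⟨c, hc⟩ := exists_ov (h1.1.mul h3.1).mem_Irr
  obtain ⟨r, hr, h5⟩ := h1.exists_prime hNG ((Nat.coprime_primes hp hq).2 hpq) h2
  have h6 := mem_rel.2 ⟨_, (h1.1.mul h3.1).mem_Irr, (h5 ν h3.sp).ne_one hr, hc⟩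
  exact ((d2_two_primes hNG hp hq hpq hm hm' h1 h3 h2 h4 hc ha pa).symm.reach ha h6).trans
    ((d2_two_primes hNG hq hp hpq.symm hm' hm h3 h1 h4 h2 (mul_comm μ ν ▸ hc) hb pb).reach h6 hb)

theorem not_reach (ha : a ∈ relCharDegrees N) (hb : b ∈ relCharDegrees N)
    (h : ¬ (commonDivisorGraph.induce (relCharDegrees N)).Reachable ⟨a, ha⟩ ⟨b, hb⟩) :
    (a.Coprime (⁅N, N⁆.relIndex N) ∧ ∀ r : ℕ, r.Prime → r ∣ ⁅N, N⁆.relIndex N → r ∣ b) ∨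
      (b.Coprime (⁅N, N⁆.relIndex N) ∧ ∀ r : ℕ, r.Prime → r ∣ ⁅N, N⁆.relIndex N → r ∣ a) := by
  have key : ∀ {a b : ℕ} (ha : a ∈ relCharDegrees N) (hb : b ∈ relCharDegrees N),
      ¬ (commonDivisorGraph.induce (relCharDegrees N)).Reachable ⟨a, ha⟩ ⟨b, hb⟩ →
      (∀ r : ℕ, r.Prime → r ∣ ⁅N, N⁆.relIndex N → r ∣ b) → a.Coprime (⁅N, N⁆.relIndex N) :=
    fun ha hb h h1 => Nat.coprime_of_dvd fun r hr h2 h3 =>
      h (reach ha hb (not_coprime_of hr h2 (h1 r hr h3)))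
  by_cases h1 : ∀ r : ℕ, r.Prime → r ∣ ⁅N, N⁆.relIndex N → r ∣ b
  · exact Or.inl ⟨key ha hb h h1, h1⟩
  · push Not at h1
    obtain ⟨q, hq, h2, h3⟩ := h1
    have h4 : ∀ r : ℕ, r.Prime → r ∣ ⁅N, N⁆.relIndex N → r ∣ a := fun r hr h4 => by
      by_contra h5
      exact h (reach_two_primes hNG hr hq h4 h2 ha hb h5 h3)
    exact Or.inr ⟨key hb ha (fun h' => h h'.symm) h4, h4⟩

theorem d2_of_lin (hμ : IsLin N μ) (h1 : μ ≠ CF.one N) (ha : Ov N μ a)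
    (hb : b ∈ relCharDegrees N) (pa : a.Coprime (⁅N, N⁆.relIndex N))
    (pb : b.Coprime (⁅N, N⁆.relIndex N)) : D2 N a b := by
  obtain ⟨x, hx, h2⟩ := exists_ne_one hμ h1
  obtain ⟨p, hp, h3⟩ := Nat.exists_prime_and_dvd (mt orderOf_eq_one_iff.1 h2)
  have hm := h3.trans (orderOf_dvd_of_pow_eq_one (lin_pow_rel hμ hx))
  obtain ⟨k, B, hc, hB, hab⟩ := exists_split hp N
  have h4 : ¬ p ∣ a := fun h => not_coprime_of hp h hm pa
  obtain ⟨ν, θ, h5, h6, rfl⟩ := ha.dec hp hc hab hμ.mem_Irr h4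
  refine d2_of_ne hNG hp hc hab h5 h6 (fun e => hB (h3.trans (orderOf_dvd_of_pow_eq_one ?_))) ha
    (fun _ => h4) hb fun h => not_coprime_of hp h hm pb
  rw [e, one_mul_cf (irr_cf h6.1)] at hμ ⊢
  exact dt_lin hμ ▸ h6.2.2 x hx

omit hN hNG in
theorem exists_K [Group.IsSolvable N] (m : ℕ) : ∃ K, K ≤ N ∧ N ≤ 𝒩(K) ∧
    (∀ q, q.Prime → q ∣ K.relIndex N → q ∣ m) ∧
      (K = ⊥ ∨ ∃ r, r.Prime ∧ ¬ r ∣ m ∧ r ∣ ⁅K, K⁆.relIndex K) := by
  obtain ⟨K, ⟨h1, h2, h3⟩, -, h4⟩ := H1.exists_minimal_le (fun K : Subgroup G => K ≤ N ∧ N ≤ 𝒩(K) ∧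
    ∀ q, q.Prime → q ∣ K.relIndex N → q ∣ m) (N := N) ⟨le_rfl, le_normalizer, fun q hq h => by
      rw [relIndex_self] at h; exact (hq.ne_one (Nat.dvd_one.1 h)).elim⟩
  refine ⟨K, h1, h2, h3, or_iff_not_imp_left.2 fun h5 => ?_⟩
  by_contra! h6
  have h7 : ⁅K, K⁆ ≤ K := commutator_le_of_le le_rfl le_rfl
  haveI := H1.isSolvable_of_le ‹_› h1
  haveI := (nontrivial_iff_ne_bot K).2 h5
  have h8 := h4 ⁅K, K⁆ ⟨h7.trans h1, le_norm_comm h2 h2, fun q hq h => by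
    rw [← relIndex_mul_relIndex _ _ _ h7 h1] at h
    refine ((Nat.Prime.dvd_mul hq).1 h).elim (fun h => ?_) (h3 q hq)
    by_contra h9
    exact h6 q hq h9 h⟩ h7
  refine (Group.IsSolvable.commutator_lt_top_of_nontrivial K).ne ?_
  rw [← subgroupOf_der, h8, subgroupOf_self]

omit hNG in
theorem dvd_or_near (h1 : K ≤ N) (h2 : N ≤ 𝒩(K))
    (h3 : ∀ q, q.Prime → q ∣ K.relIndex N → q ∣ ⁅N, N⁆.relIndex N) {r : ℕ} (hr : r.Prime)
    (h4 : ¬ r ∣ ⁅N, N⁆.relIndex N) (h5 : r ∣ ⁅K, K⁆.relIndex K) (hθ : θ ∈ Irr N)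
    (hd : (charDegree θ).Coprime (⁅N, N⁆.relIndex N)) (hd1 : charDegree θ ≠ 1) :
    r ∣ charDegree θ ∨ ∃ c ∈ relCharDegrees N, ¬ c.Coprime (⁅N, N⁆.relIndex N) ∧
      charDegree θ ∣ c := by
  refine or_iff_not_imp_left.2 fun h6 => ?_
  have h7 := Res_irr_of_coprime h1 h2 hθ (Nat.coprime_of_dvd fun q hq h h' =>
    not_coprime_of hq h (h3 q hq h') hd)
  have h8 : charDegree (Res (K : Set G) θ) = charDegree θ := deg_congr (Res_one K θ)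
  obtain ⟨k, B, hc, hB, hab⟩ := exists_split hr K
  obtain ⟨β, η, hβ, h9, h10⟩ := exists_dec hab hc.dvd h7 (by
    rw [h8]; exact ((Nat.Prime.coprime_iff_not_dvd hr).2 h6).symm.pow_right k)
  obtain ⟨l, h11, h12⟩ := exists_lin_prime hr h5
  have h13 := h11.mono (B := r ^ k) (((Nat.Prime.coprime_iff_not_dvd hr).2 hB).dvd_of_dvd_mul_right
    (hc ▸ h5.trans (rel_dvd_card K)))
  have h14 := lin_mul_mem_Irr h13.1 h9.1
  obtain ⟨φ, hφ⟩ := over_nonempty h1 h14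
  obtain ⟨e, -, -, h15⟩ := deg_clifford h1 h2 h14 hφ
  have h16 : charDegree (l * η) = charDegree θ := by
    rw [deg_lin_mul h13.1, ← h8, h10, deg_lin_mul hβ.1]
  have h17 : (stab (l * η)).relIndex N ≠ 1 := fun e => by
    obtain ⟨κ, h18, h19⟩ := exists_ext_lin h1 h2 h11.1 (fun g hg => (stab_mul_le hab h13 h9 (h2 hg)
      (relIndex_eq_one.1 e hg)).1) (Nat.Coprime.coprime_dvd_left (cford_dvd_iff.2 h11.2)
        ((Nat.Prime.coprime_iff_not_dvd hr).2 fun h => h4 (h3 r hr h)))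
    obtain ⟨x, hx, h20⟩ := exists_ne_one h11.1 h12
    have h21 := lin_pow_rel h18 (h1 hx)
    rw [← Res_of_mem κ (A := (K : Set G)) hx, h19] at h21
    exact h20 (orderOf_eq_one_iff.1 (Nat.eq_one_of_dvd_coprimes ((Nat.Prime.coprime_iff_not_dvd
      hr).2 h4) (orderOf_dvd_of_pow_eq_one (h11.2 x hx)) (orderOf_dvd_of_pow_eq_one h21)))
  obtain ⟨q, hq, h18⟩ := Nat.exists_prime_and_dvd h17
  have h19 := (mem_over.1 hφ).1
  obtain ⟨c, hc'⟩ := exists_ov h19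
  have h20 := hc'.deg_dvd h19
  rw [h15, h16] at h20
  refine ⟨c, mem_rel.2 ⟨φ, h19, fun e => hd1 ?_, hc'⟩, not_coprime_of hq
    (((h18.mul_left _).mul_right _).trans h20) (h3 q hq (h18.trans (relIndex_dvd_of_le_left _
      (le_stab (irr_cf h14))))), (dvd_mul_left _ _).trans h20⟩
  rw [e, deg_one, h16] at h15
  exact Nat.eq_one_of_mul_eq_one_left h15.symm

theorem d2_or_near [Group.IsSolvable N] (ha : a ∈ relCharDegrees N) (hb : b ∈ relCharDegrees N)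
    (pa : a.Coprime (⁅N, N⁆.relIndex N)) (pb : b.Coprime (⁅N, N⁆.relIndex N)) :
    D2 N a b ∨ ∃ c ∈ relCharDegrees N, ¬ c.Coprime (⁅N, N⁆.relIndex N) ∧
      (¬ a.Coprime c ∨ ¬ b.Coprime c) := by
  obtain ⟨θ, h1, h2, h3⟩ := mem_rel.1 ha
  obtain ⟨φ, h4, h5, h6⟩ := mem_rel.1 hb
  by_cases h7 : charDegree θ = 1
  · exact Or.inl (d2_of_lin hNG (lin_of_deg h1 h7) h2 h3 hb pa pb)
  by_cases h8 : charDegree φ = 1
  · exact Or.inl (d2_of_lin hNG (lin_of_deg h4 h8) h5 h6 ha pb pa).symm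
  have h9 := h3.deg_dvd h1
  have h10 := h6.deg_dvd h4
  obtain ⟨K, k1, k2, k3, rfl | ⟨r, hr, k4, k5⟩⟩ := exists_K (N := N) (⁅N, N⁆.relIndex N)
  · obtain ⟨q, hq, h11⟩ := Nat.exists_prime_and_dvd h7
    exact (not_coprime_of hq (h11.trans h9) (k3 q hq (by
      rw [relIndex_bot_left]; exact h11.trans (deg_dvd_card h1))) pa).elim
  rcases dvd_or_near k1 k2 k3 hr k4 k5 h1 (pa.coprime_dvd_left h9) h7 with h11 | ⟨c, hc, h11, h12⟩
  · rcases dvd_or_near k1 k2 k3 hr k4 k5 h4 (pb.coprime_dvd_left h10) h8 with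
      h12 | ⟨c, hc, h12, h13⟩
    · exact Or.inl ⟨a, ha, not_coprime_of hr (h11.trans h9) (h11.trans h9),
        not_coprime_of hr (h11.trans h9) (h12.trans h10)⟩
    · exact Or.inr ⟨c, hc, h12, Or.inr (not_coprime_mono (by simpa using h8) h10 h13)⟩
  · exact Or.inr ⟨c, hc, h11, Or.inl (not_coprime_mono (by simpa using h7) h9 h12)⟩

end H21.RD
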