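/-
Characters fixed by a field automorphism, over and under a normal subgroup.
-/
import Cfsg.Agent.H21.Glau4
import Cfsg.Agent.H17.FT

set_option autoImplicit false
set_option linter.unusedSectionVars false
open H17 Cfsg H15 CF
open scoped ComplexConjugate

namespace H21

theorem exists_fixed_of_iter {α : Type*} {p e : ℕ} (hp : p.Prime) (X : Finset α) (T : α → α)
    (hT : ∀ x ∈ X, T x ∈ X) (h : ∀ x ∈ X, T^[p ^ e] x = x) (hX : ¬ p ∣ X.card) :
    ∃ x ∈ X, T x = x := by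
  classical
  haveI := Fact.mk hp
  let f : Function.End X := fun x => ⟨T x, hT x x.2⟩
  have h1 : ∀ (n : ℕ) (x : X), ((f ^ n) x : α) = T^[n] x := fun n => by
    induction n with
    | zero => intro x; rfl
    | succ n ih => intro x; rw [pow_succ, Function.iterate_succ_apply]; exact ih (f x)
  have h2 := Equiv.Perm.card_fixedPoints_modEq (f := f) (p := p) (n := e)
    (funext fun x => Subtype.ext ((h1 _ x).trans (h x x.2)))
  rw [Fintype.card_coe] at h2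
  have h3 : Fintype.card (Function.fixedPoints f) ≠ 0 := fun h3 => hX (by
    rw [h3] at h2; exact (Nat.modEq_zero_iff_dvd).1 h2)
  obtain ⟨x, hx⟩ := Fintype.card_pos_iff.1 (Nat.pos_of_ne_zero h3)
  exact ⟨x, x.2, congrArg Subtype.val hx⟩

universe u
variable {G : Type u} [Group G] [Finite G] {K M N H T : Subgroup G} {k : ℕ} {θ χ : G → ℂ}

/-- precomposition with the `k`-th power map -/
def pw (k : ℕ) (φ : G → ℂ) : G → ℂ := fun x => φ (x ^ k)

theorem pw_iter (k n : ℕ) (φ : G → ℂ) : (pw k)^[n] φ = pw (k ^ n) φ := by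
  induction n generalizing φ with
  | zero => funext x; simp [pw]
  | succ n ih => rw [Function.iterate_succ_apply, ih]; funext x; simp [pw, pow_succ, pow_mul]

theorem pw_of_modEq (h : k ≡ 1 [MOD Nat.card G]) (φ : G → ℂ) : pw k φ = φ := by
  funext x
  rw [pw, pow_eq_pow_iff_modEq.2 (h.of_dvd (orderOf_dvd_natCard x)), pow_one]

theorem cfj_pw (g : G) (φ : G → ℂ) : cfj g (pw k φ) = pw k (cfj g φ) := by
  funext x
  simp only [cfj_apply, pw]
  congr 1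
  have := conj_pow (a := g⁻¹) (b := x) (i := k)
  rwa [inv_inv] at this

theorem mem_of_pow_mem (hk : k.Coprime (Nat.card G)) {x : G} (h : x ^ k ∈ H) : x ∈ H := by
  obtain ⟨m, hm⟩ := exists_pow_eq_self_of_coprime (hk.coprime_dvd_right (orderOf_dvd_natCard x))
  exact hm ▸ H.pow_mem h m

theorem exists_aut_pw (hk : k.Coprime (Nat.card G)) :
    ∃ u : ℂ →+* ℂ, ∀ (H : Subgroup G), ∀ φ ∈ vchar H, aut u φ = pw k φ := by
  obtain ⟨u, hu, -⟩ := exists_aut_pi (G := G) Nat.card_pos.ne' hk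
  refine ⟨u, fun H φ hφ => funext fun x => ?_⟩
  by_cases hx : x ∈ H
  · exact vchar_aut_apply u hφ hu hx pow_card_eq_one'
  · rw [aut_apply, pw, cf_zero (vchar_cf hφ) hx,
      cf_zero (vchar_cf hφ) fun h => hx (mem_of_pow_mem hk h), map_zero]

theorem pw_mem_Irr (hk : k.Coprime (Nat.card G)) (h : χ ∈ Irr H) : pw k χ ∈ Irr H := by
  obtain ⟨u, hu⟩ := exists_aut_pw hk
  rw [← hu H χ (irr_vchar h)]
  exact aut_mem_Irr u h

theorem dot_pw (hk : k.Coprime (Nat.card G)) (φ ψ : G → ℂ) :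
    dot H (pw k φ) (pw k ψ) = dot H φ ψ := by
  rw [dot_def, dot_def]
  congr 1
  exact sum_pow_eq_of_stable _ hk (fun g hg => mem_fs.2 (H.pow_mem (mem_fs.1 hg) k))
    fun x => φ x * conj (ψ x)

theorem pw_Ind (hk : k.Coprime (Nat.card G)) (hHK : H ≤ K) {φ : G → ℂ} (h : φ ∈ vchar H) :
    pw k (Ind K H φ) = Ind K H (pw k φ) := by
  obtain ⟨u, hu⟩ := exists_aut_pw hk
  rw [← hu _ _ h, ← hu _ _ (Ind_mem_vchar hHK h), aut_Ind]

theorem pw_mem_over (hk : k.Coprime (Nat.card G)) (h : χ ∈ IrrO K N θ) (hθ : pw k θ = θ) :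
    pw k χ ∈ IrrO K N θ :=
  mem_over.2 ⟨pw_mem_Irr hk (mem_over.1 h).1, by rw [← hθ, dot_pw hk]; exact (mem_over.1 h).2⟩

theorem pw_mem_IrrQ (hk : k.Coprime (Nat.card G)) (h : χ ∈ IrrQ K N) : pw k χ ∈ IrrQ K N := by
  obtain ⟨u, hu⟩ := exists_aut_pw hk
  obtain ⟨h1, h2⟩ := mem_IrrQ.1 h
  rw [← hu K χ (irr_vchar h1)]
  exact mem_IrrQ.2 ⟨aut_mem_Irr u h1, by rwa [cfker_aut]⟩

theorem pw_under {p e : ℕ} (hp : p.Prime) (hNK : N ≤ K) (hn : K ≤ 𝒩(N))
    (hi : ¬ p ∣ N.relIndex K) (hk : k.Coprime (Nat.card G)) (hke : k ^ p ^ e ≡ 1 [MOD Nat.card G])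
    (hθ : θ ∈ Irr N) (hχ : χ ∈ IrrO K N θ) (h : pw k χ = χ) : pw k θ = θ := by
  obtain ⟨h1, h2⟩ := mem_over.1 hχ
  have h3 : pw k θ ∈ orb K θ :=
    clifford_mem_orb hNK hn h1 hθ (pw_mem_Irr hk hθ) h2 (by rwa [← h, dot_pw hk])
  obtain ⟨φ, hφ, e⟩ := exists_fixed_of_iter (e := e) hp (orb K θ) (pw k) (fun φ hφ => by
      obtain ⟨g, hg, rfl⟩ := mem_orb.1 hφ
      rw [← cfj_pw]
      exact orb_trans h3 (cfj_mem_orb _ hg))
    (fun φ _ => by rw [pw_iter, pw_of_modEq hke]) (fun h4 => hi (h4.trans (by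
      rw [card_orb]
      exact Subgroup.relIndex_dvd_of_le_left _ (le_stab (irr_cf hθ)))))
  obtain ⟨g, hg, rfl⟩ := mem_orb.1 hφ
  rw [← cfj_pw] at e
  exact cfj_injective g e

theorem IrrQ_eq_one_of_real (hNK : N ≤ K) (hn : K ≤ 𝒩(N)) (ho : Odd (N.relIndex K))
    {β : G → ℂ} (hβ : β ∈ IrrQ K N) (h : star β = β) : β = one K := by
  obtain ⟨h1, h2⟩ := mem_IrrQ.1 hβ
  haveI := normal_subgroupOf hn
  obtain ⟨ψ, hψ, e⟩ := (irr_res h1).exists_quotient (N.subgroupOf K) fun x hx =>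
    (irr_res h1).mem_charKer.2 (cfker_apply (φ := β) (h2 hx))
  have h3 := hψ.eq_one_of_conj_eq ho (funext fun q => by
    obtain ⟨x, rfl⟩ := QuotientGroup.mk_surjective q
    exact (congrArg conj (congrFun e x)).symm.trans ((congrFun h x).trans (congrFun e x)))
  refine cf_ext (irr_cf h1) (one_mem_cf K) fun x hx => ?_
  rw [one_of_mem hx]
  exact (congrFun e ⟨x, hx⟩).trans (congrFun h3 _)

theorem pw_eq_star (hn : K ≤ 𝒩(N)) (ho : Odd (N.relIndex K)) (hk : k.Coprime (Nat.card G))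
    (hk₂ : ∀ g : G, Odd (orderOf g) → g ^ k = g⁻¹) {β : G → ℂ} (hβ : β ∈ IrrQ K N) :
    pw k β = star β := by
  obtain ⟨h1, h2⟩ := mem_IrrQ.1 hβ
  refine cf_ext (irr_cf (pw_mem_Irr hk h1)) (irr_cf (star_mem_Irr h1)) fun x hx => ?_
  obtain ⟨a, b, hb, hab⟩ := Nat.exists_eq_two_pow_mul_odd (orderOf_pos x).ne'
  have h3 : (x ^ (k + 1)) ^ 2 ^ a = 1 := by
    have h4 := hk₂ (x ^ 2 ^ a) (by
      rw [orderOf_pow_of_dvd (by positivity) (hab ▸ dvd_mul_right _ _), hab,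
        Nat.mul_div_cancel_left _ (by positivity)]
      exact hb)
    rw [← pow_mul, mul_comm, pow_mul, pow_succ, h4, inv_mul_cancel]
  have h4 : x ^ (k + 1) ∈ N := by
    have h5 := pow_relIndex_mem hn (K.pow_mem hx (k + 1))
    have h6 : (N.relIndex K).Coprime (orderOf (x ^ (k + 1))) :=
      ((Nat.coprime_two_right.2 ho).pow_right a).coprime_dvd_right (orderOf_dvd_of_pow_eq_one h3)
    obtain ⟨m, hm⟩ := exists_pow_eq_self_of_coprime h6
    exact hm ▸ N.pow_mem h5 m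
  rw [Pi.star_apply, RCLike.star_def, (irr_char h1).conj_apply, ← cfker_mul_left (h2 h4) x⁻¹, pw,
    pow_succ, mul_inv_cancel_right]

theorem pw_over {e : ℕ} (hk : k.Coprime (Nat.card G)) (hke : k ^ 2 ^ e ≡ 1 [MOD Nat.card G])
    (hk₂ : ∀ g : G, Odd (orderOf g) → g ^ k = g⁻¹) (hθ : θ ∈ Irr N) (h : pw k θ = θ)
    (K : Subgroup G) : N ≤ K → K ≤ 𝒩(N) → Odd (N.relIndex K) →
    ∃ χ ∈ IrrO K N θ, pw k χ = χ ∧ (K ≤ stab θ → Res (N : Set G) χ = θ) ∧
      ∀ χ' ∈ IrrO K N θ, pw k χ' = χ' → χ' = χ := by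
  induction K using WellFoundedLT.induction with
  | _ K ih =>
  intro hNK hn ho
  have hsub : ∀ M, N ≤ M → M ≤ K → Odd (N.relIndex M) := fun M h1 h2 =>
    ho.of_dvd_nat (H16.relIndex_dvd_of_le_right h1 h2)
  by_cases hs : K ≤ stab θ
  swap
  · have hNT : N ≤ K ⊓ stab θ := le_inf hNK (le_stab (irr_cf hθ))
    obtain ⟨ψ, h1, h2, -, h3⟩ := ih (K ⊓ stab θ)
      (lt_of_le_of_ne inf_le_left fun e => hs (e ▸ inf_le_right)) hNT (inf_le_left.trans hn)
      (hsub _ hNT inf_le_left)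
    refine ⟨_, Ind_mem_over hNK hn hθ rfl h1, by
      rw [pw_Ind hk inf_le_left (irr_vchar (mem_over.1 h1).1), h2], fun h => absurd h hs,
      fun χ' h4 h5 => ?_⟩
    obtain ⟨ψ', h6, rfl⟩ := exists_Ind_eq_over hNK hn hθ rfl h4
    rw [pw_Ind hk inf_le_left (irr_vchar (mem_over.1 h6).1)] at h5
    rw [h3 ψ' h6 (Ind_injOn_over hNK hn hθ rfl (pw_mem_over hk h6 h) h6 h5)]
  suffices H : ∃ χ ∈ Irr K, pw k χ = χ ∧ Res (N : Set G) χ = θ by
    obtain ⟨χ, h1, h2, h3⟩ := H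
    refine ⟨χ, mem_over_of_Res h1 hθ h3, h2, fun _ => h3, fun χ' h4 h5 => ?_⟩
    rw [← h3] at h4 hθ
    obtain ⟨β, hβ, rfl⟩ := (gall1_mem hNK hn (irr_char h1) hθ).1 h4
    have h6 : pw k β * χ = β * χ := by
      rw [← h5]
      conv_lhs => rw [← h2]
      rfl
    have h7 := gall1_inj hNK hn (irr_char h1) hθ (pw_mem_IrrQ hk hβ) hβ h6
    rw [pw_eq_star hn ho hk hk₂ hβ] at h7
    rw [IrrQ_eq_one_of_real hNK hn ho hβ h7, one_mul_cf (irr_cf h1)]
  rcases hNK.eq_or_lt with rfl | hlt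
  · exact ⟨θ, hθ, h, Res_cf (irr_cf hθ)⟩
  haveI := normal_subgroupOf hn
  have h1 := (qsol_of_quot (odd_solvable (G := K ⧸ N.subgroupOf K) ho)).not_le hn hlt
  obtain ⟨M, hM, hmax⟩ := (wellFounded_gt (α := Subgroup G)).has_min
    {M | ⁅K, K⁆ ⊔ N ≤ M ∧ M < K}
    ⟨_, le_rfl, lt_of_le_of_ne (sup_le (H16.der_le K) hNK) fun e => h1 e.ge⟩
  have hNM : N ≤ M := le_sup_right.trans hM.1
  have hd : ⁅K, K⁆ ≤ M := le_sup_left.trans hM.1
  have hnM : K ≤ 𝒩(M) := H16.norm_of_der_le hd hM.2.le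
  obtain ⟨η, h2, h3, h4, h5⟩ := ih M hM.2 hNM (hM.2.le.trans hn) (hsub M hNM hM.2.le)
  have h6 : K ≤ stab η := fun g hg => mem_stab.2 (h5 _ (cfj_mem_over (hnM hg) (hn hg) (hs hg) h2)
    (by rw [← cfj_pw, h3]))
  obtain ⟨x, hxK, hxM⟩ := SetLike.exists_of_lt hM.2
  have h7 : M ⊔ Subgroup.zpowers x = K := by
    have h8 : M ⊔ Subgroup.zpowers x ≤ K := sup_le hM.2.le ((Subgroup.zpowers_le).2 hxK)
    by_contra h9
    exact hmax _ ⟨hM.1.trans le_sup_left, lt_of_le_of_ne h8 h9⟩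
      (lt_of_le_of_ne le_sup_left fun e =>
        hxM (e ▸ Subgroup.mem_sup_right (Subgroup.mem_zpowers x)))
  have hη := (mem_over.1 h2).1
  obtain ⟨h8, h9, -⟩ := ext_central_inertia hM.2.le hnM hη (inf_eq_left.2 h6).symm hd
    (exists_ext_cyclic hM.2.le hnM hη h6 (H16.cyclic_zpowers x) h7)
  obtain ⟨χ, h10, h11⟩ := exists_fixed_of_iter (e := e) Nat.prime_two (IrrO K M η) (pw k)
    (fun φ hφ => pw_mem_over hk hφ h3) (fun φ _ => by rw [pw_iter, pw_of_modEq hke]) (by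
      rw [h9]
      exact (ho.of_dvd_nat (Subgroup.relIndex_dvd_of_le_left K hNM)).not_two_dvd_nat)
  exact ⟨χ, (mem_over.1 h10).1, h11, by
    rw [← Res_Res_of_le hNM, h8 χ h10, h4 (hM.2.le.trans hs)]⟩

theorem pw_ext0 (hk : k.Coprime (Nat.card G)) {θ : N → ℂ} :
    pw k (extendByZero N θ) = extendByZero N θ ↔ ∀ n : N, θ (n ^ k) = θ n := by
  refine ⟨fun h n => ?_, fun h => funext fun x => ?_⟩
  · have := congrFun h n
    rwa [pw, ← Subgroup.coe_pow, extendByZero_coe, extendByZero_coe] at this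
  · by_cases hx : x ∈ N
    · rw [pw, extendByZero_of_mem _ hx, extendByZero_of_mem _ (N.pow_mem hx k)]
      exact h ⟨x, hx⟩
    · rw [pw, extendByZero_of_not_mem _ hx,
        extendByZero_of_not_mem _ fun h => hx (mem_of_pow_mem hk h)]

end H21
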