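/-
Normal subgroups with two class sizes containing a noncentral Sylow subgroup are nilpotent.
-/
import Cfsg.Agent.H21.TC1

set_option autoImplicit false
set_option linter.unusedSectionVars false
open Cfsg H15 Subgroup H3.Pt
open scoped Classical commutatorElement

namespace H21.TC

variable {G : Type*} [Group G] [Finite G] {N S S₀ : Subgroup G} {m r s t i j : ℕ} {x y u v : G}
  [hr : Fact r.Prime] (R : Sylow r G)

theorem mem_of_ord [N.Normal] (hRN : (R : Subgroup G) ≤ N) (ox : orderOf x = r ^ i) : x ∈ N := by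
  obtain ⟨g, -, hg⟩ := (H10.isSylowIn_top R).exists_cj_le (H10.isPGroup_zpowers_of_orderOf ox) le_top
  simpa [mul_assoc] using Normal.conj_mem' ‹_› _ (hRN (hg (conj_mem_cj (mem_zpowers x)))) g

namespace Two
variable (h : Two N m) [hN : N.Normal] (hR : ¬ (R : Subgroup G) ≤ center G)
  (hRN : (R : Subgroup G) ≤ N)
include h hR hRN

theorem exists_r (hx : x ∈ N) (hx' : x ∉ center G) :
    ∃ w ∈ N ⊓ 𝒞₁(x), w ∉ center G ∧ ∃ j, orderOf w = r ^ j := by
  obtain ⟨y, hy, hy'⟩ := SetLike.not_le_iff_exists.1 hR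
  obtain ⟨k, oy⟩ := H10.orderOf_eq_pow_of_mem R.isPGroup' hy
  obtain ⟨w, h1, h2, j, h3⟩ := exists_nc_of_index (x := x) hr.out hy' oy (Nat.coprime_one_left r)
    (m := 1) (by rw [h x hx hx', h y (hRN hy) hy'])
  exact ⟨w, ⟨mem_of_ord R hRN h3, h1⟩, h2, j, h3⟩

theorem of_normal [hn : (R : Subgroup G).Normal] : Group.IsNilpotent N := by
  have hS := H10.isSylowIn_top R
  have hmem : ∀ {w : G} {k : ℕ}, orderOf w = r ^ k → w ∈ (R : Subgroup G) := fun o =>
    mem_of_ord R le_rfl o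
  by_cases hc : N ≤ (R : Subgroup G) ⊔ center G
  · exact H1.isNilpotent_of_le (H1.isNilpotent_sup_normal R.isPGroup'.isNilpotent
      (nilpotent_of_comm inferInstance)) hc
  obtain ⟨a, ha, ha'⟩ := SetLike.not_le_iff_exists.1 hc
  obtain ⟨n, q, k, hq, oy, h1⟩ := exists_prim ha'
  have hy := pow_mem ha n
  set y := a ^ n
  have hy' : y ∉ center G := fun e => h1 (mem_sup_right e)
  have hne : q ≠ r := by
    rintro rfl
    exact h1 (mem_sup_left (hmem oy))
  obtain ⟨x, hx, hx', l, ox⟩ := h.exists_r R hR hRN hy hy'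
  have e := h.cent_eq hy hy' hx.1 hx' hx.2 (cop_ord hq hr.out hne oy ox)
  have h2 := H1.thompson_PQ (P := (R : Subgroup G) ⊓ 𝒞₁(y)) (Q := zpowers y) R.isPGroup'.to_inf_left
    (by rw [Nat.card_zpowers, oy]; exact ((Nat.coprime_primes hq hr.out).2 hne).pow_left k)
    (by rw [cent_zpowers]; exact inf_le_right) R R.isPGroup' le_normalizer_of_normal
    le_normalizer_of_normal (by
      rw [cent_zpowers, e]
      exact inf_le_right.trans (cent_le_cent1 ⟨hmem ox, mem_cent1_self x⟩))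
  have h3 : (R : Subgroup G) ≤ 𝒞₁(y) := le_cent1_iff.2 (zpowers_le.1 h2)
  have h4 : N ≤ 𝒞₁(y) := fun b hb => by
    by_cases hb' : b ∈ center G
    · exact center_le_C₁ y hb'
    obtain ⟨T, hT⟩ := H10.exists_isSylowIn r 𝒞₁(b)
    have h5 := h.card_dvd hb hb' hy hy' hT R.isPGroup'
    rw [inf_eq_left.2 h3] at h5
    have h6 : T = R := eq_of_le_of_card_ge (hS.le_of_le_NN hT.isPGroup le_top le_normalizer_of_normal)
      (Nat.le_of_dvd Nat.card_pos h5)
    rw [e]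
    exact mem_cent1_comm.1 (hT.le (h6 ▸ hmem ox))
  exact nilpotent_of_comm (comm_of_le_cent fun b hb => le_cent1_iff.1
    (h4.trans (h.typeA hq hr.out hne hy hy' oy hx.1 hx' ox hx.2 ⟨hb, h4 hb⟩)))

omit h hR hRN in
theorem inf_center [hs : Fact s.Prime] (hres : H12.res s N = N) (hS : H10.IsSylowIn s S ⊤)
    (hc : IsMulCommutative ↥(S ⊓ N)) (hx : x ∈ S ⊓ N) (hx' : x ∈ center G) : x = 1 := by
  have h1 := hS.inf_normal le_top (le_normalizer_of_normal (H := N))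
  have h2 : H12.SylIn s (S ⊓ N) N := ⟨h1.le, h1.isPGroup, h1.not_dvd_relIndex⟩
  have h3 := h2.mem_commutator_of_central hx (h2.inf_res_le ⟨hx, hres.symm ▸ hx.2⟩)
    (cent_anti le_top (cent_top (G := G) ▸ hx'))
  rwa [le_cent_iff_comm.1 (le_cent_self hc)] at h3

theorem exists_s [hs : Fact s.Prime] (hne : s ≠ r) (hres : H12.res s N = N) (hy : y ∈ N)
    (hy' : y ∉ center G) (oy : orderOf y = s ^ j) (hx : x ∈ N) (hx' : x ∉ center G) :
    ∃ w ∈ N ⊓ 𝒞₁(x), w ∉ center G ∧ ∃ j, orderOf w = s ^ j := by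
  obtain ⟨S₀, h0⟩ := H10.exists_isSylowIn s 𝒞₁(x)
  obtain ⟨S, hS, hle⟩ := H10.exists_isSylowIn_ge h0.isPGroup le_top
  obtain ⟨u, hu, hu', h1, h2⟩ := exists_u hS hy hy' oy
  by_contra! hc
  have h3 : S₀ ⊓ N ≤ center G := fun w hw => by_contra fun hw' => by
    obtain ⟨k, o⟩ := H10.orderOf_eq_pow_of_mem h0.isPGroup hw.1
    exact hc w ⟨hw.2, h0.le hw.1⟩ hw' k o
  have hu0 : u ∉ S₀ := fun e => hu' (h3 ⟨e, hu.2⟩)
  obtain ⟨v, hv, hv', k, ov⟩ := h.exists_r R hR hRN hu.2 hu'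
  have h4 := h.rel_dvd hx hx' hu.2 hu' h0 hS.isPGroup hle
  have h5 := h4.trans (h.bound hS.isPGroup hu hu' h1 h2 hr.out hne hv hv' ov)
  have hne1 : S₀.relIndex S ≠ 1 := fun e => hu0 (relIndex_eq_one.1 e hu.1)
  have h6 := ((Nat.dvd_prime hs.out).1 h5).resolve_left hne1
  have h7 := H1.le_normalizer_of_relIndex_prime hS.isPGroup.isNilpotent hle (h6.symm ▸ hs.out)
  have h8 : (S₀ ⊓ N).relIndex (S ⊓ N) = s := by
    rw [← inf_relIndex_right, inf_assoc, inf_eq_right.2 (inf_le_right : S ⊓ N ≤ N),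
      inf_relIndex_right, ← H1.relIndex_sup_of_le_normalizer (inf_le_left.trans h7),
      NS.eq_of_dvd le_sup_right (sup_le inf_le_left hle) h5 fun e => hu0 (e (mem_sup_left hu)), h6]
  have h9 := H1.isMulCommutative_of_relIndex_prime (L := S ⊓ N)
    (cent_comm (h3.trans (by rw [← cent_top]; exact cent_anti le_top))) (h8.symm ▸ hs.out)
  have h10 : S ≤ 𝒞₁(u) := fun g hg => mem_cent1.2 (by
    have e := inf_center hres hS h9 ((S ⊓ N).mul_mem ⟨S.mul_mem (S.mul_mem hg hu.1) (S.inv_mem hg),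
      hN.conj_mem u hu.2 g⟩ (inv_mem hu)) (h2 g hg)
    rwa [mul_inv_eq_one, mul_inv_eq_iff_eq_mul] at e)
  rw [relIndex_eq_one.2 h10] at h4
  exact hne1 (Nat.dvd_one.1 h4)

theorem of_res (hres : ∀ q : ℕ, q.Prime → q ≠ r → H12.res q N = N) : Group.IsNilpotent N := by
  by_cases hc : ∀ q : ℕ, q.Prime → q ≠ r → ∀ y ∈ N, ∀ j, orderOf y = q ^ j → y ∈ center G
  · refine (isPi_of_forall_orderOf (π := {r}) fun y hy hq => by_contra fun hne => ?_).nilpotent
    have := Fact.mk hq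
    obtain ⟨S, hS, hle⟩ := H10.exists_isSylowIn_ge (H10.isPGroup_zpowers_of_orderOf_eq (x := y) rfl)
      le_top
    have h1 : S ⊓ N ≤ center G := fun w hw => by
      obtain ⟨k, o⟩ := H10.orderOf_eq_pow_of_mem hS.isPGroup hw.1
      exact hc _ hq hne w hw.2 k o
    have h2 : y ∈ S ⊓ N := ⟨hle (mem_zpowers y), hy⟩
    rw [inf_center (hres _ hq hne) hS (comm_of_le inferInstance h1) h2 (h1 h2), orderOf_one] at hq
    exact Nat.not_prime_one hq
  push Not at hc
  obtain ⟨q, hq, hqr, y, hy, k, oy, hy'⟩ := hc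
  have := Fact.mk hq
  have hall : ∀ s : ℕ, s.Prime → ∀ a ∈ N, a ∉ center G → ∀ j, orderOf a = s ^ j → ∀ x ∈ N,
      x ∉ center G → ∃ w ∈ N ⊓ 𝒞₁(x), w ∉ center G ∧ ∃ j, orderOf w = s ^ j :=
    fun s hs a ha ha' j oa x hx hx' => by
      have := Fact.mk hs
      by_cases e : s = r
      · exact e ▸ h.exists_r R hR hRN hx hx'
      · exact h.exists_s R hR hRN e (hres s hs e) ha ha' oa hx hx'
  have hA : ∀ x ∈ N, x ∉ center G → ∀ a ∈ N ⊓ 𝒞₁(x), 𝒞₁(x) ≤ 𝒞₁(a) := fun x hx hx' a ha => by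
    obtain ⟨w, hw, hw', l, ow⟩ := hall q hq y hy hy' k oy x hx hx'
    obtain ⟨v, hv, hv', i, ov⟩ := h.exists_r R hR hRN hw.1 hw'
    have h1 := fun a => h.typeA hq hr.out hqr hw.1 hw' ow hv.1 hv' ov hv.2 (a := a)
    have e := h.eq_of_le hw.1 hw' hx hx' (h1 x ⟨hx, mem_cent1_comm.1 hw.2⟩)
    rw [← e] at ha ⊢
    exact h1 a ha
  have hB : ∀ x ∈ N, x ∉ center G → N ≤ 𝒩(𝒞₁(x)) := fun x hx hx' => by
    refine relIndex_eq_one.1 (Nat.eq_one_iff_not_exists_prime_dvd.2 fun s hs hd => ?_)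
    have := Fact.mk hs
    obtain ⟨b, hb, hb1, l, ob⟩ := exists_noncentral hs hd
    have hb' : b ∉ center G := fun e => hb1 (le_norm_self _ (center_le_C₁ x e))
    obtain ⟨a, ha, ha', i, oa⟩ := hall s hs b hb hb' l ob x hx hx'
    obtain ⟨S₀, h0, ha0⟩ := H10.exists_isSylowIn_ge (H10.isPGroup_zpowers_of_orderOf oa)
      (zpowers_le.2 ha.2)
    obtain ⟨S, hS, hle⟩ := H10.exists_isSylowIn_ge h0.isPGroup le_top
    obtain ⟨u, hu, hu', h1, h2⟩ := exists_u hS hb hb' ob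
    obtain ⟨t, ht, hst, v, hv, hv', n, ov⟩ : ∃ t : ℕ, t.Prime ∧ s ≠ t ∧ ∃ v ∈ N ⊓ 𝒞₁(u),
        v ∉ center G ∧ ∃ j, orderOf v = t ^ j := by
      by_cases e : s = r
      · exact ⟨q, hq, e ▸ hqr.symm, hall q hq y hy hy' k oy u hu.2 hu'⟩
      · exact ⟨r, hr.out, e, h.exists_r R hR hRN hu.2 hu'⟩
    have h5 := (h.rel_dvd hx hx' hu.2 hu' h0 hS.isPGroup hle).trans
      (h.bound hS.isPGroup hu hu' h1 h2 ht hst hv hv' ov)
    have h7 : S ≤ 𝒩(S₀) := by
      rcases (Nat.dvd_prime hs).1 h5 with e | e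
      · exact (relIndex_eq_one.1 e).trans (le_norm_self _)
      · exact H1.le_normalizer_of_relIndex_prime hS.isPGroup.isNilpotent hle (e.symm ▸ hs)
    have h8 : S ≤ 𝒩(𝒞₁(x)) := fun g hg => mem_norm_iff_cj.2 (by
      have e1 := h.eq_of_le hx hx' ha.1 ha' (hA x hx hx' a ha)
      have h9 : g * a * g⁻¹ ∈ N ⊓ 𝒞₁(x) := ⟨hN.conj_mem a ha.1 g,
        h0.le (H1.conj_mem_of_mem_normalizer (h7 hg) (ha0 (mem_zpowers a)))⟩
      have e2 := h.eq_of_le hx hx' h9.1 (fun e => ha' (by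
        simpa [mul_assoc] using Normal.conj_mem' inferInstance _ e g)) (hA x hx hx' _ h9)
      rw [e1, cj_cent1, ← e2, e1])
    exact (hS.inf_normal le_top (le_normalizer_of_normal (H := N))).not_dvd_relIndex
      (hd.trans (relIndex_dvd_of_le_left N (inf_le_left.trans h8)))
  refine H1.isNilpotent_of_le (nilpotent_fittingOf N) fun x hx => ?_
  by_cases hx' : x ∈ center G
  · exact le_fittingOf (N := N ⊓ center G) inf_le_left le_normalizer_of_normal
      (nilpotent_of_comm (comm_of_le inferInstance inf_le_right)) ⟨hx, hx'⟩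
  · exact le_fittingOf (N := N ⊓ 𝒞₁(x)) inf_le_left (le_norm_inf (le_norm_self N) (hB x hx hx'))
      (nilpotent_of_comm (comm_of_le_cent fun a ha => le_cent1_iff.1
        (inf_le_right.trans (hA x hx hx' a ha)))) ⟨hx, mem_cent1_self x⟩

end Two

theorem main (hR : ¬ (R : Subgroup G) ≤ center G) (N : Subgroup G) (hN : N.Normal)
    (hRN : (R : Subgroup G) ≤ N) (h : Two N m) : Group.IsNilpotent N := by
  induction N using WellFoundedLT.induction with
  | ind N ih =>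
  by_cases hres : ∀ q : ℕ, q.Prime → q ≠ r → H12.res q N = N
  · exact h.of_res R hR hRN hres
  push Not at hres
  obtain ⟨q, hq, hne, hlt⟩ := hres
  have hM : (H12.res q N).Normal := normalizer_eq_top_iff.1 (eq_top_iff.2
    (le_normalizer_of_normal.trans (H12.normalizer_le_normalizer_res N)))
  have h1 : (R : Subgroup G) ≤ H12.res q N := fun x hx => by
    obtain ⟨k, o⟩ := H10.orderOf_eq_pow_of_mem R.isPGroup' hx
    exact H12.mem_res (hRN hx) (o ▸ ((Nat.coprime_primes hr.out hq).2 hne.symm).pow_left k)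
  have h2 := ih _ ((H12.res_le N).lt_of_ne hlt) hM h1 fun x hx => h x (H12.res_le N hx)
  have h3 := H1.le_pCore_of_le_fitting R.isPGroup' (h1.trans (H1.le_fitting h2))
  have : (R : Subgroup G).Normal := by
    rw [← R.is_maximal' (H1.isPGroup_pCore r) h3]; infer_instance
  exact h.of_normal R hR hRN

end H21.TC
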