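/-
Characters of wreath products; solvable groups embed in M-groups.
-/
import Cfsg.Agent.H21.Gall
import Cfsg.Agent.H17.Deg
import Cfsg.Agent.H9.Ch1

set_option autoImplicit false
set_option linter.unusedSectionVars false
open H17 Cfsg H15 CF
open scoped ComplexConjugate commutatorElement

namespace H21

universe u
variable {D Q : Type u} [Group D] [Finite D] [Group Q] [Fintype Q] {H : Q → Subgroup D}
  {φ ψ : Q → D → ℂ}

/-- product subgroups of the base group -/
def wbase (H : Q → Subgroup D) : Subgroup (D ≀ᵣ Q) where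
  carrier := {w | w.right = 1 ∧ ∀ q, w.left q ∈ H q}
  mul_mem' := fun {a b} ha hb => ⟨by simp [ha.1, hb.1], fun q => by
    simpa [ha.1] using mul_mem (ha.2 q) (hb.2 q)⟩
  one_mem' := ⟨rfl, fun q => one_mem _⟩
  inv_mem' := fun {a} ha => ⟨by simp [ha.1], fun q => by simpa [ha.1] using ha.2 q⟩

/-- the wreath product of a subgroup -/
def wfull (Q : Type u) [Group Q] (K : Subgroup D) : Subgroup (D ≀ᵣ Q) where
  carrier := {w | ∀ q, w.left q ∈ K}
  mul_mem' := fun {a b} ha hb q => mul_mem (ha q) (hb _)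
  one_mem' := fun _ => one_mem _
  inv_mem' := fun {a} ha q => inv_mem (ha _)

theorem mem_wbase {w : D ≀ᵣ Q} : w ∈ wbase H ↔ w.right = 1 ∧ ∀ q, w.left q ∈ H q := Iff.rfl

theorem wbase_top : wbase (fun _ => (⊤ : Subgroup D)) =
    (RegularWreathProduct.rightHom : D ≀ᵣ Q →* Q).ker := by
  ext w; simp [mem_wbase]

instance : (wbase (fun _ : Q => (⊤ : Subgroup D))).Normal := wbase_top (D := D) (Q := Q) ▸ inferInstance

theorem wbase_le (H : Q → Subgroup D) : wbase H ≤ wbase fun _ => ⊤ := fun _ h =>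
  ⟨h.1, fun _ => trivial⟩

open Classical in
/-- the product of class functions, on the base group -/
noncomputable def pc (φ : Q → D → ℂ) : D ≀ᵣ Q → ℂ := fun w =>
  if w.right = 1 then ∏ q, φ q (w.left q) else 0

theorem pc_of {w : D ≀ᵣ Q} (h : w.right = 1) : pc φ w = ∏ q, φ q (w.left q) := if_pos h

theorem pc_of_ne {w : D ≀ᵣ Q} (h : w.right ≠ 1) : pc φ w = 0 := if_neg h

theorem pc_supp (h : ∀ q, φ q ∈ supp (H q : Set D)) : pc φ ∈ supp (wbase H : Set (D ≀ᵣ Q)) := by
  intro w hw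
  by_cases h1 : w.right = 1
  · obtain ⟨q, hq⟩ := not_forall.1 fun e => hw ⟨h1, e⟩
    rw [pc_of h1, Finset.prod_eq_zero (Finset.mem_univ q) (h q _ hq)]
  · exact pc_of_ne h1

theorem pc_char (h : ∀ q, IsChar (H q) (φ q)) : IsChar (wbase H) (pc φ) := by
  refine ⟨pc_supp fun q => (h q).1, ?_⟩
  let ev : ∀ q, wbase H →* H q := fun q => MonoidHom.mk' (fun w => ⟨w.1.left q, w.2.2 q⟩)
    fun a b => Subtype.ext (by simp [a.2.1])
  convert isCharacter_prod Finset.univ _ fun q _ => (h q).2.comp (ev q) using 1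
  funext w
  rw [res_apply, pc_of w.2.1, Finset.prod_apply]
  rfl

open Classical in
theorem sum_wbase {M : Type*} [AddCommMonoid M] (F : D ≀ᵣ Q → M) :
    ∑ x ∈ fs (wbase H : Set (D ≀ᵣ Q)), F x =
      ∑ f ∈ Fintype.piFinset fun q => fs (H q : Set D), F ⟨f, 1⟩ := by
  refine Finset.sum_nbij' (fun x => x.left) (fun f => ⟨f, 1⟩) (fun x hx => ?_) (fun f hf => ?_)
    (fun x hx => ?_) (fun _ _ => rfl) fun x hx => ?_
  · exact Fintype.mem_piFinset.2 fun q => mem_fs.2 ((mem_fs.1 hx).2 q)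
  · exact mem_fs.2 ⟨rfl, fun q => mem_fs.1 (Fintype.mem_piFinset.1 hf q)⟩
  · rw [← (mem_fs.1 hx).1]
  · rw [← (mem_fs.1 hx).1]

theorem card_wbase : (Nat.card (wbase H) : ℂ) = ∏ q, (Nat.card (H q) : ℂ) := by
  classical
  have := sum_wbase (H := H) fun _ => (1 : ℂ)
  rw [sum_sub_const, Finset.sum_const, Fintype.card_piFinset] at this
  simpa [card_fs_sub] using this

theorem dot_pc : dot (wbase H) (pc φ) (pc ψ) = ∏ q, dot (H q) (φ q) (ψ q) := by
  classical
  simp only [dot_def]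
  rw [sum_wbase, card_wbase, Finset.prod_mul_distrib, Finset.prod_univ_sum, Finset.prod_inv_distrib]
  congr 1
  exact Finset.sum_congr rfl fun f _ => by
    rw [pc_of rfl, pc_of rfl, map_prod, Finset.prod_mul_distrib]

theorem pc_irr (h : ∀ q, φ q ∈ Irr (H q)) : pc φ ∈ Irr (wbase H) :=
  (pc_char fun q => irr_char (h q)).mem_Irr (by
    rw [dot_pc]; exact Finset.prod_eq_one fun q _ => dot_irr_self (h q))

theorem Ind_pc (h : ∀ q, φ q ∈ supp (H q : Set D)) :
    Ind (wbase fun _ => ⊤) (wbase H) (pc φ) = pc fun q => Ind ⊤ (H q) (φ q) := by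
  classical
  funext w
  rw [Ind_apply_cf (pc_supp h), sum_wbase]
  by_cases h1 : w.right = 1
  · simp only [pc_of h1, Ind_apply_cf (h _)]
    rw [card_wbase, Finset.prod_mul_distrib, Finset.prod_univ_sum, Finset.prod_inv_distrib]
    congr 1
    refine Finset.sum_congr rfl fun f _ => ?_
    rw [pc_of (by simp [h1])]
    simp [h1]
  · rw [pc_of_ne h1, Finset.sum_eq_zero fun f _ => pc_of_ne (by simpa using h1), mul_zero]

theorem exists_pc {θ : D ≀ᵣ Q → ℂ} (hθ : θ ∈ Irr (wbase H)) :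
    ∃ φ : Q → D → ℂ, (∀ q, φ q ∈ Irr (H q)) ∧ θ = pc φ := by
  classical
  have h1 : reg (wbase H) = ∑ φ ∈ Fintype.piFinset fun q => Irr (H q), (∏ q, φ q 1) • pc φ := by
    funext w
    rw [Finset.sum_apply]
    by_cases h1 : w.right = 1
    · simp only [Pi.smul_apply, smul_eq_mul, pc_of h1, ← Finset.prod_mul_distrib]
      rw [← Finset.prod_univ_sum (fun q => Irr (H q)) fun q χ => χ 1 * χ (w.left q)]
      by_cases h2 : w = 1
      · subst h2
        rw [reg_one, card_wbase]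
        exact Finset.prod_congr rfl fun q _ => by
          rw [← CF.sum_irr_sq]; simp [sq]
      · obtain ⟨q, hq⟩ : ∃ q, w.left q ≠ 1 := not_forall.1 fun e =>
          h2 (RegularWreathProduct.ext (funext e) h1)
        rw [reg_of_ne _ h2, Finset.prod_eq_zero (Finset.mem_univ q) (sum_irr_one_mul _ hq)]
    · rw [reg_of_ne _ (by rintro rfl; exact h1 rfl)]
      simp [pc_of_ne h1]
  have h2 := irr_one_ne hθ
  rw [← dot_reg_right (wbase H) θ, h1, dot_sum_right] at h2
  obtain ⟨φ, h3, h4⟩ := Finset.exists_ne_zero_of_sum_ne_zero h2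
  have h5 := Fintype.mem_piFinset.1 h3
  rw [dot_smul_right] at h4
  exact ⟨φ, h5, irr_eq_of_dot_ne hθ (pc_irr h5) (right_ne_zero_of_mul h4)⟩

/-- M-groups -/
def MG (X : Type*) [Group X] [Finite X] : Prop :=
  ∀ χ ∈ Irr (⊤ : Subgroup X), ∃ (H : Subgroup X) (l : X → ℂ), IsLin H l ∧ χ = Ind ⊤ H l

theorem MG.wreath (h : MG D) (hQ : (Nat.card Q).Prime) : MG (D ≀ᵣ Q) := by
  classical
  intro χ hχ
  set N := wbase fun _ : Q => (⊤ : Subgroup D) with hN
  have hn : (⊤ : Subgroup (D ≀ᵣ Q)) ≤ 𝒩(N) := by rw [Subgroup.normalizer_eq_top]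
  obtain ⟨θ, hθ, h1⟩ := exists_under (H := N) le_top hχ
  obtain ⟨φ, hφ, rfl⟩ := exists_pc hθ
  choose! K l h2 h3 using h
  have h4 : pc φ = Ind N (wbase fun q => K (φ q)) (pc fun q => l (φ q)) := by
    rw [Ind_pc fun q => cf_le_supp _ (h2 _ (hφ q)).cf]
    exact congrArg pc (funext fun q => h3 _ (hφ q))
  have h5 : IsLin (wbase fun q => K (φ q)) (pc fun q => l (φ q)) :=
    ⟨pc_char fun q => (h2 _ (hφ q)).char, by
      rw [pc_of rfl]; exact Finset.prod_eq_one fun q _ => (h2 _ (hφ q)).one_apply⟩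
  haveI := Fact.mk hQ
  have hi : N.index = Nat.card Q := by
    rw [hN, wbase_top, Subgroup.index_ker, MonoidHom.range_eq_top.2
      fun q => ⟨_, RegularWreathProduct.fun_id q⟩, Subgroup.card_top]
  have hco := H9.isCoatom_of_index_eq_prime hi
  by_cases hs : stab (pc φ) = ⊤
  · have e : ∀ q, φ q = φ 1 := fun q => by
      have e1 : cfj (RegularWreathProduct.inl q)⁻¹ (pc φ) = pc fun x => φ (q * x) := by
        funext w
        rw [cfj_apply]
        by_cases h1 : w.right = 1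
        · rw [pc_of h1, pc_of (by simp [h1])]
          exact (Fintype.prod_equiv (Equiv.mulLeft q) _ _ fun x => by simp).symm
        · rw [pc_of_ne h1, pc_of_ne (by simpa [mul_inv_eq_iff_eq_mul] using h1)]
      have e2 := dot_irr_self hθ
      have e4 : (RegularWreathProduct.inl q)⁻¹ ∈ stab (pc φ) := hs ▸ Subgroup.mem_top _
      nth_rw 1 [← mem_stab.1 e4] at e2
      rw [e1, dot_pc] at e2
      have e3 := Finset.prod_ne_zero_iff.1 (e2 ▸ one_ne_zero) 1 (Finset.mem_univ _)
      rw [mul_one] at e3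
      exact irr_eq_of_dot_ne (hφ _) (hφ _) e3
    have hl := h2 _ (hφ 1)
    let μ : D ≀ᵣ Q → ℂ := fun w => ∏ q, l (φ 1) (w.left q)
    have hμ : IsLin (wfull Q (K (φ 1))) μ := isLin_of_mul (fun w hw => by
        obtain ⟨q, hq⟩ := not_forall.1 hw
        exact Finset.prod_eq_zero (Finset.mem_univ q) (cf_zero hl.cf hq))
      (Finset.prod_eq_one fun q _ => hl.one_apply) fun a ha b hb => by
        simp only [μ, RegularWreathProduct.mul_left, Pi.mul_apply, hl.map_mul (ha _) (hb _),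
          Finset.prod_mul_distrib]
        congr 1
        exact Fintype.prod_equiv (Equiv.mulLeft a.right⁻¹) _ _ fun x => rfl
    have h6 : Res (N : Set _) (Ind ⊤ (wfull Q (K (φ 1))) μ) = pc φ := by
      rw [Res_Ind_of_mul (N := N) (H := wfull Q (K (φ 1))) le_top le_top (fun w _ => ⟨⟨w.left, 1⟩, ⟨rfl, fun _ => trivial⟩,
        RegularWreathProduct.inl w.right, fun _ => one_mem _, by ext <;> simp⟩) hμ.cf, h4]
      simp only [e]
      rw [show N ⊓ wfull Q (K (φ 1)) = wbase fun _ => K (φ 1) from Subgroup.ext fun x =>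
        ⟨fun h => ⟨h.1.1, h.2⟩, fun h => ⟨⟨h.1, fun _ => trivial⟩, h.2⟩⟩]
      exact Ind_congr fun x hx => (pc_of (φ := fun _ => l (φ 1)) hx.1).symm
    obtain ⟨β, h7, rfl⟩ := (gall1_mem le_top hn (hμ.char.Ind le_top) (h6 ▸ hθ)).1
      (mem_over.2 ⟨hχ, h6 ▸ h1⟩)
    have h8 : IsLin ⊤ β := isLin_of_IrrQ (by
      haveI := isCyclic_of_prime_card (α := (D ≀ᵣ Q) ⧸ N) hi
      exact Subgroup.Normal.quotient_commutative_iff_commutator_le.1 inferInstance) h7
    exact ⟨_, _, hμ.mul (h8.Res le_top), by rw [Ind_mul_Res _ h8.cf, mul_comm]⟩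
  · have h6 : ⊤ ⊓ stab (pc φ) ≤ N := by
      rw [top_inf_eq]
      exact ((hco.le_iff.1 (le_stab (irr_cf hθ))).resolve_left hs).le
    refine ⟨_, _, h5, ?_⟩
    rw [← Ind_Ind (wbase_le _) le_top, ← h4]
    exact irr_eq_of_dot_ne hχ (Ind_mem_Irr_of_stab le_top hn hθ h6)
      (by rwa [dot_Ind_right le_top _ (irr_cf hχ)])

theorem exists_wreath_embed {G : Type u} [Group G] (N : Subgroup G) [N.Normal] {X : Type u}
    [Group X] (j : N →* X) (hj : Function.Injective j) :
    ∃ f : G →* X ≀ᵣ (G ⧸ N), Function.Injective f := by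
  have hm : ∀ (g : G) (q : G ⧸ N), q.out⁻¹ * g * ((g : G ⧸ N)⁻¹ * q).out ∈ N := fun g q => by
    rw [← QuotientGroup.eq_one_iff]; simp
  refine ⟨MonoidHom.mk' (fun g => ⟨fun q => j ⟨_, hm g q⟩, g⟩) fun a b => ?_,
    (injective_iff_map_eq_one _).2 fun g hg => ?_⟩
  · refine RegularWreathProduct.ext (funext fun q => ?_) rfl
    simp only [RegularWreathProduct.mul_left, Pi.mul_apply, ← map_mul]
    congr 1
    ext
    simp [mul_assoc]
  · have h1 : (g : G ⧸ N) = 1 := congrArg RegularWreathProduct.right hg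
    have h2 := congrArg Subtype.val ((injective_iff_map_eq_one _).1 hj _
      (congrFun (congrArg RegularWreathProduct.left hg) 1))
    simpa [h1, mul_assoc, inv_mul_eq_iff_eq_mul] using h2

theorem exists_MG (n : ℕ) : ∀ (G : Type u) [Group G] [Finite G], Nat.card G = n →
    Group.IsSolvable G → ∃ (M : Type u) (_ : Group M) (_ : Finite M), MG M ∧
      ∃ f : G →* M, Function.Injective f := by
  induction n using Nat.strong_induction_on with
  | _ n ih =>
  intro G _ _ hn hs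
  rcases subsingleton_or_nontrivial G with h | h
  · exact ⟨G, _, inferInstance, fun χ hχ => ⟨⊤, χ, isLin_of_comm inferInstance hχ,
      (Ind_self (irr_cf hχ)).symm⟩, MonoidHom.id G, Function.injective_id⟩
  obtain ⟨N, h1, h2⟩ := (eq_top_or_exists_le_coatom (commutator G)).resolve_left
    (Group.IsSolvable.commutator_lt_top_of_nontrivial G).ne
  haveI : N.Normal := H9.normal_of_commutator_le (Subgroup.commutator_mono le_top le_top) h2
  obtain ⟨M, _, _, h3, j, hj⟩ := ih _ (hn ▸ H1.card_lt_card_of_ne_top h1.1) N rfl inferInstance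
  have := Fintype.ofFinite (G ⧸ N)
  exact ⟨M ≀ᵣ (G ⧸ N), _, inferInstance, h3.wreath (H9.index_prime_of_coatom h1),
    exists_wreath_embed N j hj⟩

end H21
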